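import Cfsg.Agent.Helper66.PD2Main
import Cfsg.Agent.Helper12.SylowInvol
import Cfsg.Agent.S0676
import Cfsg.Agent.S1013
import Cfsg.Agent.S0727
import Cfsg.Agent.S0680
import Cfsg.Agent.Helper61.SL2Char2

/-!
# Permutation groups of prime degree whose Sylow normalizer has order `2p`
-/

set_option autoImplicit false
set_option linter.unusedSectionVars false
set_option linter.unusedVariables false
set_option linter.style.haveILetI false

namespace Cfsg.Agent.Helper66.PD2

open Cfsg MulAction

section basic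

variable {α : Type*} [Fintype α] [DecidableEq α] {p : ℕ} [Fact p.Prime]

/-- The Sylow subgroup has order `p`. -/
theorem card_sylow_eq (hp2 : 2 < p) (hα : Fintype.card α = p) (G : Subgroup (Equiv.Perm α))
    (P : Sylow p G)
    (hN : Nat.card (Subgroup.normalizer ((P : Subgroup G) : Set G)) = 2 * p) :
    Nat.card (P : Subgroup G) = p := by
  have hp : p.Prime := Fact.out
  have hpG : p ∣ Nat.card G := by
    have h1 : Nat.card (Subgroup.normalizer ((P : Subgroup G) : Set G)) ∣ Nat.card G :=
      Subgroup.card_subgroup_dvd_card _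
    rw [hN] at h1
    exact dvd_trans (dvd_mul_left p 2) h1
  have hsq := Helper12.SylowInvol.not_sq_dvd_card hα G
  obtain ⟨n, hn⟩ := IsPGroup.iff_card.mp P.isPGroup'
  have h1 : p ∣ Nat.card P := P.dvd_card_of_dvd_card hpG
  have h2 : Nat.card P ∣ Nat.card G := Subgroup.card_subgroup_dvd_card _
  rw [hn] at h1 h2
  have hn1 : n ≠ 0 := by
    rintro rfl
    rw [pow_zero] at h1
    exact hp.one_lt.ne' (Nat.dvd_one.mp h1)
  have hn2 : n < 2 := by
    by_contra hcon
    push_neg at hcon
    exact hsq (dvd_trans (pow_dvd_pow p hcon) h2)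
  have : n = 1 := by omega
  show Nat.card P = p
  rw [hn, this, pow_one]

/-- Transitivity, regularity of `P`, `C_G(P) = P` and `|N_G(P) : C_G(P)| = 2`. -/
theorem basic_data (hp2 : 2 < p) (hα : Fintype.card α = p) (G : Subgroup (Equiv.Perm α))
    (P : Sylow p G)
    (hN : Nat.card (Subgroup.normalizer ((P : Subgroup G) : Set G)) = 2 * p) :
    IsPretransitive G α ∧ (∀ y ∈ (P : Subgroup G), y ≠ 1 → ∀ a : α, y • a ≠ a) ∧
      Subgroup.centralizer ((P : Subgroup G) : Set G) = P ∧
      (Subgroup.centralizer ((P : Subgroup G) : Set G)).relIndex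
        (Subgroup.normalizer ((P : Subgroup G) : Set G)) = 2 := by
  classical
  have hp : p.Prime := Fact.out
  have hP := card_sylow_eq hp2 hα G P hN
  haveI : Nonempty α := by
    rw [← Fintype.card_pos_iff, hα]; exact hp.pos
  have htr : Helper61.TwoTrans.Trans α (P : Subgroup G) :=
    Helper61.SharpM.trans_of_card_prime (P : Subgroup G) hp hP
      (by rw [Nat.card_eq_fintype_card, hα])
  have hcomm := Helper61.PrimeDegree.comm_of_card_prime (P : Subgroup G) hP
  have hC : Subgroup.centralizer ((P : Subgroup G) : Set G) = P :=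
    Helper61.SharpM.centralizer_eq_of_trans _ htr hcomm
  have hpre : IsPretransitive G α := ⟨fun a b => by
    obtain ⟨t, _, ht⟩ := htr a b
    exact ⟨t, ht⟩⟩
  refine ⟨hpre, ?_, hC, ?_⟩
  · -- regularity
    intro y hy hy1 a hfix
    apply hy1
    -- `y` commutes with the transitive group `P` and fixes `a`
    have hall : ∀ b : α, y • b = b := by
      intro b
      obtain ⟨t, ht, htb⟩ := htr a b
      rw [← htb, ← mul_smul, hcomm y hy t ht, mul_smul, hfix]
    apply Subtype.ext
    apply Equiv.ext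
    intro b
    exact hall b
  · have h1 := Helper17.card_centralizer_mul_relIndex (P : Subgroup G)
    rw [hC, hP, hN] at h1
    have hpos : 0 < p := hp.pos
    have : p * (Subgroup.centralizer ((P : Subgroup G) : Set G)).relIndex
        (Subgroup.normalizer ((P : Subgroup G) : Set G)) = p * 2 := by
      rw [hC]; linarith
    exact Nat.eq_of_mul_eq_mul_left hpos this


/-- If `P` is not normal then `G` is not solvable. -/
theorem not_solvable_of_not_normal (hp2 : 2 < p) (hα : Fintype.card α = p)
    (G : Subgroup (Equiv.Perm α)) (P : Sylow p G)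
    (hN : Nat.card (Subgroup.normalizer ((P : Subgroup G) : Set G)) = 2 * p)
    (hnn : ¬ (P : Subgroup G).Normal) : ¬ Group.IsSolvable G := by
  classical
  intro hsol
  obtain ⟨hpre, hreg, hC, hrel⟩ := basic_data hp2 hα G P hN
  haveI := hpre
  have hn : 1 < Nat.card (Sylow p G) := by
    by_contra hcon
    have h1 : Nat.card (Sylow p G) ≤ 1 := by omega
    haveI : Subsingleton (Sylow p G) := (Finite.card_le_one_iff_subsingleton).mp h1
    exact hnn (Sylow.normal_of_subsingleton P)
  have ht : (((P : Subgroup G).subgroupOf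
      (Subgroup.normalizer ((P : Subgroup G) : Set G))).index).Prime := by
    have : ((P : Subgroup G).subgroupOf
      (Subgroup.normalizer ((P : Subgroup G) : Set G))).index = 2 := by
      rw [hC] at hrel
      exact hrel
    rw [this]
    exact Nat.prime_two
  haveI := Cfsg.Agent.S1013.result hα G P hn ht
  have hcomm := IsSimpleGroup.comm_iff_isSolvable.mpr hsol
  apply hnn
  exact ⟨fun n hn g => by rw [hcomm g n, mul_inv_cancel_right]; exact hn⟩

/-- If `P` is not normal then `5 ≤ p`. -/
theorem five_le_of_not_solvable (hα : Fintype.card α = p)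
    (G : Subgroup (Equiv.Perm α)) (hns : ¬ Group.IsSolvable G) : 5 ≤ p := by
  classical
  by_contra hlt
  push_neg at hlt
  apply hns
  haveI : Group.IsSolvable (Equiv.Perm α) :=
    Cfsg.Agent.S4337.perm_solvable_of_card_le (by omega)
  infer_instance


/-- Sharpness of the triply transitive action when `p = 5`, by counting. -/
theorem sharp_five (hp5 : p = 5) (hα : Fintype.card α = p)
    (G : Subgroup (Equiv.Perm α)) (P : Sylow p G)
    (hN : Nat.card (Subgroup.normalizer ((P : Subgroup G) : Set G)) = 2 * p)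
    (hnn : ¬ (P : Subgroup G).Normal) [h3t : IsMultiplyPretransitive G α 3] (x : Fin 3 ↪ α) :
    stabilizer G x = ⊥ := by
  classical
  subst hp5
  have hcard : Nat.card G = 60 := by
    have h1 := Helper17.card_normalizer_mul_card_sylow P
    rw [hN] at h1
    have h2 : Nat.card (Sylow 5 G) ≡ 1 [MOD 5] := card_sylow_modEq_one 5 G
    have h3 : Nat.card G ∣ Nat.card (Equiv.Perm α) := Subgroup.card_subgroup_dvd_card G
    rw [Nat.card_eq_fintype_card (α := Equiv.Perm α), Fintype.card_perm, hα] at h3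
    have hn1 : Nat.card (Sylow 5 G) ≠ 1 := by
      intro h
      haveI : Subsingleton (Sylow 5 G) := (Finite.card_le_one_iff_subsingleton).mp h.le
      exact hnn (Sylow.normal_of_subsingleton P)
    rw [← h1] at h3 ⊢
    generalize Nat.card (Sylow 5 G) = n at *
    have h4 : n ∣ 12 := by
      have h5 : 2 * 5 * n ∣ 2 * 5 * 12 := by
        have : Nat.factorial 5 = 2 * 5 * 12 := by decide
        rw [← this]; exact h3
      exact (Nat.mul_dvd_mul_iff_left (by norm_num : 0 < 2 * 5)).mp h5
    have hle : n ≤ 12 := Nat.le_of_dvd (by norm_num) h4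
    unfold Nat.ModEq at h2
    interval_cases n <;> omega
  have hidx := @MulAction.index_stabilizer_of_transitive G _ _ _ x h3t
  have hemb : Nat.card (Fin 3 ↪ α) = 60 := by
    rw [Nat.card_eq_fintype_card, Fintype.card_embedding_eq, Fintype.card_fin, hα]
    decide
  have h6 := Subgroup.card_mul_index (stabilizer G x)
  rw [hidx, hemb, hcard] at h6
  have h7 : Nat.card (stabilizer G x) = 1 := by omega
  exact Subgroup.eq_bot_of_card_eq _ h7

/-- Sharpness of the triply transitive action when `p ≥ 7`, by block theory. -/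
theorem sharp_of_seven_le (hp2 : 2 < p) (hp7 : 7 ≤ p) (hα : Fintype.card α = p)
    (G : Subgroup (Equiv.Perm α)) (P : Sylow p G)
    (hN : Nat.card (Subgroup.normalizer ((P : Subgroup G) : Set G)) = 2 * p)
    [IsMultiplyPretransitive G α 3] (x : Fin 3 ↪ α) :
    stabilizer G x = ⊥ := by
  classical
  obtain ⟨hpre, hreg, hC, hrel⟩ := basic_data hp2 hα G P hN
  have hP := card_sylow_eq hp2 hα G P hN
  rw [Subgroup.eq_bot_iff_forall]
  intro l hl
  rw [mem_stabilizer_iff] at hl
  have hfix : ∀ i, l • x i = x i := fun i => by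
    have := DFunLike.congr_fun hl i
    exact this
  have hreg' : ¬ p ∣ orderOf l := fun hdvd =>
    smul_ne_of_dvd_orderOf P hreg l hdvd (x 0) (hfix 0)
  letI : Fintype G := Fintype.ofFinite G
  have h3 : 3 ≤ fx α l := by
    unfold fx
    have hinj : Function.Injective (fun i : Fin 3 => (⟨x i, hfix i⟩ : fixedBy α l)) := by
      intro i j hij
      exact x.injective (congrArg Subtype.val hij)
    have := Nat.card_le_card_of_injective _ hinj
    rwa [Nat.card_eq_fintype_card, Fintype.card_fin] at this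
  have h4 := fx_eq_of_three_le hα hp7 P hP hreg hC hrel l hreg' h3
  have hall : ∀ a : α, l • a = a := by
    unfold fx at h4
    rw [← hα, ← Nat.card_eq_fintype_card, Nat.card_coe_set_eq] at h4
    have h5 := (Set.eq_univ_iff_ncard (fixedBy α l)).mpr h4
    intro a
    have : a ∈ fixedBy α l := by rw [h5]; exact Set.mem_univ a
    exact this
  apply Subtype.ext
  apply Equiv.ext
  intro a
  exact hall a

end basic

section sharp3

variable {α : Type*} [Fintype α] [DecidableEq α]

/-- The degree of a sharply triply transitive group of odd degree is `2 ^ f + 1`. -/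
theorem exists_pow_two_of_sharp3 (G : Subgroup (Equiv.Perm α)) (hodd : ¬ 2 ∣ Fintype.card α)
    (h3c : 3 ≤ Fintype.card α) (h3 : IsMultiplyPretransitive G α 3)
    (hsharp : ∀ x : Fin 3 ↪ α, stabilizer G x = ⊥) :
    ∃ f : ℕ, 1 ≤ f ∧ Fintype.card α = 2 ^ f + 1 := by
  classical
  have h3T : ∀ a1 a2 a3 b1 b2 b3 : α, a1 ≠ a2 → a1 ≠ a3 → a2 ≠ a3 → b1 ≠ b2 → b1 ≠ b3 → b2 ≠ b3 →
      ∃ g : G, g • a1 = b1 ∧ g • a2 = b2 ∧ g • a3 = b3 :=
    fun a1 a2 a3 b1 b2 b3 h12 h13 h23 k12 k13 k23 =>
      Cfsg.Agent.S0728.exists_map3 h3 h12 h13 h23 k12 k13 k23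
  have h3S : ∀ (g : G) (a1 a2 a3 : α), a1 ≠ a2 → a1 ≠ a3 → a2 ≠ a3 → g • a1 = a1 → g • a2 = a2 →
      g • a3 = a3 → g = 1 :=
    fun g a1 a2 a3 h12 h13 h23 g1 g2 g3 =>
      Cfsg.Agent.S0728.eq_one_of_fix3 hsharp h12 h13 h23 g1 g2 g3
  obtain ⟨o, x0, x1, ho0, ho1, h01⟩ := Fintype.two_lt_card_iff.1 (by omega : 2 < Fintype.card α)
  set H := stabilizer G o with hH
  letI := Cfsg.Agent.Helper21.stabAction (Γ := G) o
  haveI : Fintype H := Fintype.ofFinite H
  haveI : Fintype {x : α // x ≠ o} := Fintype.ofFinite _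
  have hT' : ∀ a b c d : {x : α // x ≠ o}, a ≠ b → c ≠ d → ∃ g : H, g • a = c ∧ g • b = d := by
    intro a b c d hab hcd
    obtain ⟨g, h1, h2, h3⟩ := h3T o a.1 b.1 o c.1 d.1 a.2.symm b.2.symm
      (fun h => hab (Subtype.ext h)) c.2.symm d.2.symm (fun h => hcd (Subtype.ext h))
    exact ⟨⟨g, mem_stabilizer_iff.2 h1⟩, Subtype.ext h2, Subtype.ext h3⟩
  have hF' : ∀ g : H, g ≠ 1 → ∀ a b : {x : α // x ≠ o}, g • a = a → g • b = b → a = b := by
    intro g hg a b ha hb
    by_contra hab
    apply hg
    have := h3S (g : G) o a.1 b.1 a.2.symm b.2.symm (fun h => hab (Subtype.ext h))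
      (mem_stabilizer_iff.1 g.2) (congrArg Subtype.val ha) (congrArg Subtype.val hb)
    exact Subtype.ext this
  have hcardΩ' : Fintype.card {x : α // x ≠ o} = Fintype.card α - 1 := by
    rw [← Nat.card_eq_fintype_card, Cfsg.Agent.Helper21.card_subtype_ne_one,
      Nat.card_eq_fintype_card]
  obtain ⟨q, j, hq, hj, hqj, -, -, -⟩ :=
    Cfsg.Agent.S0680.kernelSub_structure hT' hF' (by rw [hcardΩ']; omega)
  have heven : 2 ∣ Fintype.card α - 1 := by omega
  rw [hcardΩ'] at hqj
  have hq2 : q = 2 := by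
    rw [hqj] at heven
    exact ((Nat.prime_dvd_prime_iff_eq Nat.prime_two hq).1
      (Nat.prime_two.dvd_of_dvd_pow heven)).symm
  subst hq2
  exact ⟨j, hj, by omega⟩

end sharp3

section main

variable {α : Type*} [Fintype α] [DecidableEq α] {p : ℕ} [Fact p.Prime]

/-- **Main theorem**: a permutation group of prime degree `p > 2` whose Sylow `p`-normalizer
has order `2p` either has a normal Sylow `p`-subgroup or is `SL(2, 2^a)` with `p = 2^a + 1`. -/
theorem main (hp2 : 2 < p) (hα : Fintype.card α = p) (G : Subgroup (Equiv.Perm α))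
    (P : Sylow p G)
    (hN : Nat.card (Subgroup.normalizer ((P : Subgroup G) : Set G)) = 2 * p) :
    (P : Subgroup G).Normal ∨ ∃ (a : ℕ) (F : Type) (_ : Field F) (_ : Fintype F),
      p = 2 ^ a + 1 ∧ Fintype.card F = 2 ^ a ∧
        Nonempty (G ≃* Matrix.SpecialLinearGroup (Fin 2) F) := by
  classical
  have hp : p.Prime := Fact.out
  by_cases hnn : (P : Subgroup G).Normal
  · exact Or.inl hnn
  right
  have hns := not_solvable_of_not_normal hp2 hα G P hN hnn
  have hp5 := five_le_of_not_solvable hα G hns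
  obtain ⟨hpre, -, -, -⟩ := basic_data hp2 hα G P hN
  haveI := hpre
  have h3 : IsMultiplyPretransitive G α 3 :=
    Cfsg.Agent.S0676.result hα G hns P (by rw [hN]; exact even_two_mul p)
  haveI := h3
  have hsharp : ∀ x : Fin 3 ↪ α, stabilizer G x = ⊥ := by
    intro x
    rcases (by omega : p = 5 ∨ p = 6 ∨ 7 ≤ p) with h | h | h
    · exact sharp_five h hα G P hN hnn x
    · exfalso
      rw [h] at hp
      norm_num at hp
    · exact sharp_of_seven_le hp2 h hα G P hN x
  have hodd : ¬ 2 ∣ Fintype.card α := by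
    rw [hα]
    intro h
    rcases (Nat.dvd_prime hp).1 h with h | h <;> omega
  obtain ⟨f, hf, hcard⟩ := exists_pow_two_of_sharp3 G hodd (by omega) h3 hsharp
  obtain ⟨F, iF, iFin, hF, ⟨e⟩⟩ := Cfsg.Agent.S0727.result hf hcard G h3 hsharp
  refine ⟨f, F, iF, iFin, by omega, hF, ?_⟩
  have heven : Even (Fintype.card F) := by
    rw [hF]; exact (Nat.even_pow.2 ⟨even_two, by omega⟩)
  obtain ⟨e'⟩ := Cfsg.Agent.S0727.nonempty_psl_equiv_pgl heven
  have h2 : (2 : F) = 0 := Cfsg.Agent.Helper5.two_eq_zero_of_even_card heven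
  haveI : CharP F 2 := CharTwo.of_one_ne_zero_of_two_eq_zero one_ne_zero h2
  have hZ : Subgroup.center (Matrix.SpecialLinearGroup (Fin 2) F) = ⊥ :=
    Cfsg.Agent.Helper61.center_SL2_eq_bot F
  let e'' : Matrix.ProjectiveSpecialLinearGroup (Fin 2) F ≃* Matrix.SpecialLinearGroup (Fin 2) F :=
    (QuotientGroup.quotientMulEquivOfEq hZ).trans QuotientGroup.quotientBot
  exact ⟨e.trans (e'.symm.trans e'')⟩

end main

end Cfsg.Agent.Helper66.PD2
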