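import Mathlib

/-!
# Braid pairs of elements of order three (helper66)

If `a³ = b³ = 1` and `a b a = b a b`, then `⟨a, b⟩` is a quotient of `SL₂(3)`; in particular `a`
normalises the `2`-subgroups `⟨(aba)²⟩` and `⟨a b⁻¹, a b a⟩`.  Hence an element of order three
normalising no nontrivial `2`-subgroup satisfies the braid relation only with itself.
-/

set_option autoImplicit false

namespace Cfsg.Agent.Helper66.DZ

variable {G : Type*} [Group G]

theorem conj_sq_inv_eq {a b : G} (ha : a * a * a = 1) :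
    a * (a * b⁻¹) * a⁻¹ = (a * b * a)⁻¹ := by
  have ha' : a * a = a⁻¹ := eq_inv_of_mul_eq_one_left ha
  calc a * (a * b⁻¹) * a⁻¹ = (a * a) * b⁻¹ * a⁻¹ := by group
    _ = a⁻¹ * b⁻¹ * a⁻¹ := by rw [ha']
    _ = (a * b * a)⁻¹ := by group

theorem delta_mul_left {a b : G} (h : a * b * a = b * a * b) :
    (a * b * a) * a = b * (a * b * a) := by
  calc (a * b * a) * a = (b * a * b) * a := by rw [h]
    _ = b * (a * b * a) := by group

theorem delta_mul_right {a b : G} (h : a * b * a = b * a * b) :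
    (a * b * a) * b = a * (a * b * a) := by
  calc (a * b * a) * b = a * (b * a * b) := by group
    _ = a * (a * b * a) := by rw [h]

theorem delta_sq_comm_left {a b : G} (h : a * b * a = b * a * b) :
    Commute ((a * b * a) * (a * b * a)) a := by
  show (a * b * a) * (a * b * a) * a = a * ((a * b * a) * (a * b * a))
  calc (a * b * a) * (a * b * a) * a = (a * b * a) * ((a * b * a) * a) := by group
    _ = (a * b * a) * (b * (a * b * a)) := by rw [delta_mul_left h]
    _ = ((a * b * a) * b) * (a * b * a) := by group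
    _ = (a * (a * b * a)) * (a * b * a) := by rw [delta_mul_right h]
    _ = a * ((a * b * a) * (a * b * a)) := by group

theorem delta_sq_comm_right {a b : G} (h : a * b * a = b * a * b) :
    Commute ((a * b * a) * (a * b * a)) b := by
  show (a * b * a) * (a * b * a) * b = b * ((a * b * a) * (a * b * a))
  calc (a * b * a) * (a * b * a) * b = (a * b * a) * ((a * b * a) * b) := by group
    _ = (a * b * a) * (a * (a * b * a)) := by rw [delta_mul_right h]
    _ = ((a * b * a) * a) * (a * b * a) := by group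
    _ = (b * (a * b * a)) * (a * b * a) := by rw [delta_mul_left h]
    _ = b * ((a * b * a) * (a * b * a)) := by group

/-- `(aba)⁴ = 1`. -/
theorem delta_sq_sq {a b : G} (ha : a * a * a = 1) (hb : b * b * b = 1)
    (h : a * b * a = b * a * b) :
    ((a * b * a) * (a * b * a)) * ((a * b * a) * (a * b * a)) = 1 := by
  set Δ := a * b * a with hΔ
  set z := Δ * Δ with hz
  set u := a * b⁻¹ with hu
  have hza : Commute z a := delta_sq_comm_left h
  have hzb : Commute z b := delta_sq_comm_right h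
  -- `a u a⁻¹ = Δ⁻¹`
  have h1 : a * u * a⁻¹ = Δ⁻¹ := conj_sq_inv_eq ha
  -- `b u⁻¹ b⁻¹ = Δ⁻¹`
  have h2 : b * u⁻¹ * b⁻¹ = Δ⁻¹ := by
    have := conj_sq_inv_eq (a := b) (b := a) hb
    rw [← h] at this
    rw [← this, hu]
    group
  -- `u² = z⁻¹`
  have h3 : u * u = z⁻¹ := by
    have : a * (u * u) * a⁻¹ = z⁻¹ := by
      calc a * (u * u) * a⁻¹ = (a * u * a⁻¹) * (a * u * a⁻¹) := by group
        _ = Δ⁻¹ * Δ⁻¹ := by rw [h1]
        _ = z⁻¹ := by rw [hz]; group
    calc u * u = a⁻¹ * (a * (u * u) * a⁻¹) * a := by group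
      _ = a⁻¹ * z⁻¹ * a := by rw [this]
      _ = z⁻¹ := by
        rw [mul_assoc, (hza.inv_left).eq, ← mul_assoc, inv_mul_cancel, one_mul]
  have h4 : u⁻¹ * u⁻¹ = z⁻¹ := by
    have : b * (u⁻¹ * u⁻¹) * b⁻¹ = z⁻¹ := by
      calc b * (u⁻¹ * u⁻¹) * b⁻¹ = (b * u⁻¹ * b⁻¹) * (b * u⁻¹ * b⁻¹) := by group
        _ = Δ⁻¹ * Δ⁻¹ := by rw [h2]
        _ = z⁻¹ := by rw [hz]; group
    calc u⁻¹ * u⁻¹ = b⁻¹ * (b * (u⁻¹ * u⁻¹) * b⁻¹) * b := by group
      _ = b⁻¹ * z⁻¹ * b := by rw [this]
      _ = z⁻¹ := by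
        rw [mul_assoc, (hzb.inv_left).eq, ← mul_assoc, inv_mul_cancel, one_mul]
  have h5 : z⁻¹ * z⁻¹ = 1 := by
    calc z⁻¹ * z⁻¹ = (u * u) * (u⁻¹ * u⁻¹) := by rw [h3, h4]
      _ = 1 := by group
  calc z * z = (z⁻¹ * z⁻¹)⁻¹ := by rw [mul_inv_rev, inv_inv]
    _ = 1 := by rw [h5, inv_one]


theorem isPGroup_two_zpowers {y : G} (hy : y * y = 1) : IsPGroup 2 ↥(Subgroup.zpowers y) := by
  intro g
  refine ⟨1, Subtype.ext ?_⟩
  obtain ⟨n, hn⟩ := Subgroup.mem_zpowers_iff.1 g.2
  show ((g : G)) ^ (2 ^ 1) = 1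
  rw [← hn, pow_one, ← zpow_natCast, ← zpow_mul, mul_comm, zpow_mul]
  have : y ^ ((2 : ℕ) : ℤ) = 1 := by rw [zpow_natCast, pow_two, hy]
  rw [this, one_zpow]

theorem mem_normalizer_zpowers_of_commute {g y : G} (h : Commute g y) :
    g ∈ Subgroup.normalizer ((Subgroup.zpowers y : Subgroup G) : Set G) := by
  rw [Subgroup.mem_set_normalizer_iff]
  intro n
  have key : ∀ k : ℤ, g * y ^ k * g⁻¹ = y ^ k := by
    intro k
    rw [(h.zpow_right k).eq, mul_inv_cancel_right]
  constructor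
  · intro hn
    obtain ⟨k, rfl⟩ := Subgroup.mem_zpowers_iff.1 hn
    rw [key k]
    exact Subgroup.zpow_mem_zpowers y k
  · intro hn
    obtain ⟨k, hk⟩ := Subgroup.mem_zpowers_iff.1 hn
    have : n = y ^ k := by
      have h2 : n = g⁻¹ * (g * n * g⁻¹) * g := by group
      rw [h2, ← hk]
      have h3 := key k
      calc g⁻¹ * y ^ k * g = g⁻¹ * (g * y ^ k * g⁻¹) * g := by rw [h3]
        _ = y ^ k := by group
    rw [SetLike.mem_coe, this]
    exact Subgroup.zpow_mem_zpowers y k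

/-- **Braid pairs.**  An element `a` of order three which normalises no nontrivial `2`-subgroup
satisfies the braid relation `a b a = b a b` with an element `b`, `b³ = 1`, only if `a = b`. -/
theorem eq_of_braid {a b : G} (ha : a * a * a = 1) (hb : b * b * b = 1)
    (h : a * b * a = b * a * b)
    (hno : ∀ Q : Subgroup G, IsPGroup 2 ↥Q → a ∈ Subgroup.normalizer (Q : Set G) → Q = ⊥) :
    a = b := by
  have hzz := delta_sq_sq ha hb h
  have hza : Commute ((a * b * a) * (a * b * a)) a := delta_sq_comm_left h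
  -- step 1: `(aba)² = 1`
  have hz1 : (a * b * a) * (a * b * a) = 1 := by
    have hQ := hno (Subgroup.zpowers ((a * b * a) * (a * b * a))) (isPGroup_two_zpowers hzz)
      (mem_normalizer_zpowers_of_commute hza.symm)
    have : (a * b * a) * (a * b * a) ∈ (⊥ : Subgroup G) := by
      rw [← hQ]; exact Subgroup.mem_zpowers _
    exact Subgroup.mem_bot.1 this
  set Δ := a * b * a with hΔ
  set u := a * b⁻¹ with hu
  have hΔinv : Δ⁻¹ = Δ := inv_eq_of_mul_eq_one_left hz1
  have h1 : a * u * a⁻¹ = Δ := by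
    have := conj_sq_inv_eq (a := a) (b := b) ha
    rw [← hu, ← hΔ, hΔinv] at this
    exact this
  have huu : u * u = 1 := by
    calc u * u = a⁻¹ * ((a * u * a⁻¹) * (a * u * a⁻¹)) * a := by group
      _ = a⁻¹ * (Δ * Δ) * a := by rw [h1]
      _ = 1 := by rw [hz1]; group
  have ha' : a * a = a⁻¹ := eq_inv_of_mul_eq_one_left ha
  have h2 : a * Δ * a⁻¹ = u * Δ := by
    have e1 : a * Δ * a⁻¹ = a * a * b := by
      calc a * Δ * a⁻¹ = (Δ * b) * a⁻¹ := by rw [delta_mul_right h]
        _ = a * (b * a * b) * a⁻¹ := by rw [hΔ]; group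
        _ = a * (a * b * a) * a⁻¹ := by rw [← h]
        _ = a * a * b := by group
    have e2 : u * Δ = a * a * b := by
      calc u * Δ = a * b⁻¹ * (b * a * b) := by rw [hu, ← h]
        _ = a * a * b := by group
    rw [e1, e2]
  have hww : (u * Δ) * (u * Δ) = 1 := by
    rw [← h2]
    calc a * Δ * a⁻¹ * (a * Δ * a⁻¹) = a * (Δ * Δ) * a⁻¹ := by group
      _ = 1 := by rw [hz1]; group
  have huinv : u⁻¹ = u := inv_eq_of_mul_eq_one_left huu
  have hcomm : Commute u Δ := by
    show u * Δ = Δ * u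
    calc u * Δ = (u * Δ)⁻¹ := (inv_eq_of_mul_eq_one_left hww).symm
      _ = Δ⁻¹ * u⁻¹ := by group
      _ = Δ * u := by rw [hΔinv, huinv]
  -- step 2: the four-group
  set Q : Subgroup G := Subgroup.zpowers u ⊔ Subgroup.zpowers Δ with hQdef
  have hQp : IsPGroup 2 ↥Q :=
    (isPGroup_two_zpowers huu).to_sup_of_normal_right' (isPGroup_two_zpowers hz1)
      (Subgroup.zpowers_le.2 (mem_normalizer_zpowers_of_commute hcomm))
  have huQ : u ∈ Q := (le_sup_left : Subgroup.zpowers u ≤ Q) (Subgroup.mem_zpowers u)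
  have hΔQ : Δ ∈ Q := (le_sup_right : Subgroup.zpowers Δ ≤ Q) (Subgroup.mem_zpowers Δ)
  have hmap : Q.map (MulAut.conj a).toMonoidHom ≤ Q := by
    rw [hQdef, Subgroup.map_sup, MonoidHom.map_zpowers, MonoidHom.map_zpowers]
    refine sup_le (Subgroup.zpowers_le.2 ?_) (Subgroup.zpowers_le.2 ?_)
    · show (MulAut.conj a) u ∈ Q
      rw [MulAut.conj_apply, h1]
      exact hΔQ
    · show (MulAut.conj a) Δ ∈ Q
      rw [MulAut.conj_apply, h2]
      exact Q.mul_mem huQ hΔQ
  have hF : ∀ n ∈ Q, a * n * a⁻¹ ∈ Q := by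
    intro n hn
    have : (MulAut.conj a).toMonoidHom n ∈ Q.map (MulAut.conj a).toMonoidHom :=
      Subgroup.mem_map_of_mem _ hn
    exact hmap this
  have hnorm : a ∈ Subgroup.normalizer (Q : Set G) := by
    rw [Subgroup.mem_set_normalizer_iff]
    intro n
    refine ⟨fun hn => hF n hn, fun hn => ?_⟩
    have h3 := hF _ (hF _ hn)
    have : a * (a * (a * n * a⁻¹) * a⁻¹) * a⁻¹ = n := by
      calc a * (a * (a * n * a⁻¹) * a⁻¹) * a⁻¹ = (a * a * a) * n * (a * a * a)⁻¹ := by group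
        _ = n := by rw [ha]; group
    rw [this] at h3
    exact h3
  have hQbot := hno Q hQp hnorm
  have : u ∈ (⊥ : Subgroup G) := hQbot ▸ huQ
  have hu1 : a * b⁻¹ = 1 := Subgroup.mem_bot.1 this
  exact mul_inv_eq_one.1 hu1

end Cfsg.Agent.Helper66.DZ
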