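import Mathlib
import Cfsg.Agent.Helper66.DZBraid

/-!
# Parity of the class-square structure constants (helper66)

For a conjugacy class `K` of elements of order three which satisfy the braid relation only with
themselves (see `DZBraid`), and `c` with `c³ = 1`, the number of `(u, v) ∈ K × K` with `u v = c`
is odd exactly when `c⁻¹ ∈ K`.  The proof uses the involution
`(u, v) ↦ ((cu) v (cu)⁻¹, c u c⁻¹)` (the cube of the Hurwitz move), whose fixed points are the
braid pairs.
-/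

set_option autoImplicit false

namespace Cfsg.Agent.Helper66.DZ

variable {G : Type*} [Group G]

/-- The cube of the Hurwitz move on pairs with product `c`. -/
def tau (c : G) (p : G × G) : G × G := (c * p.1 * p.2 * p.1⁻¹ * c⁻¹, c * p.1 * c⁻¹)

theorem cube_of_isConj {x u : G} (hx : x * x * x = 1) (hu : IsConj x u) : u * u * u = 1 := by
  obtain ⟨g, hg⟩ := isConj_iff.1 hu
  rw [← hg]
  calc g * x * g⁻¹ * (g * x * g⁻¹) * (g * x * g⁻¹) = g * (x * x * x) * g⁻¹ := by group
    _ = 1 := by rw [hx]; group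

theorem tau_fst_mul_snd {c : G} {p : G × G} (hp : p.1 * p.2 = c) :
    (tau c p).1 * (tau c p).2 = c := by
  show c * p.1 * p.2 * p.1⁻¹ * c⁻¹ * (c * p.1 * c⁻¹) = c
  calc c * p.1 * p.2 * p.1⁻¹ * c⁻¹ * (c * p.1 * c⁻¹) = c * (p.1 * p.2) * c⁻¹ := by group
    _ = c := by rw [hp]; group

theorem tau_tau {c : G} (hc : c * c * c = 1) {p : G × G} (hp : p.1 * p.2 = c) :
    tau c (tau c p) = p := by
  have hc2 : c * c = c⁻¹ := eq_inv_of_mul_eq_one_left hc
  have h12 : (tau c p).1 * (tau c p).2 = c := tau_fst_mul_snd hp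
  obtain ⟨u, v⟩ := p
  simp only at hp
  have hv : v = u⁻¹ * c := by rw [← hp]; group
  apply Prod.ext
  · show c * (tau c (u, v)).1 * (tau c (u, v)).2 * (tau c (u, v)).1⁻¹ * c⁻¹ = u
    rw [mul_assoc c, h12]
    show c * c * (c * u * v * u⁻¹ * c⁻¹)⁻¹ * c⁻¹ = u
    rw [hv]
    calc c * c * (c * u * (u⁻¹ * c) * u⁻¹ * c⁻¹)⁻¹ * c⁻¹ = (c * c * c) * u * c⁻¹ * c⁻¹ * c⁻¹ := by
          group
      _ = 1 * u * c⁻¹ * c⁻¹ * c⁻¹ := by rw [hc]
      _ = u * (c * c * c)⁻¹ := by group
      _ = u := by rw [hc, inv_one, mul_one]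
  · show c * (c * u * v * u⁻¹ * c⁻¹) * c⁻¹ = v
    rw [hv]
    calc c * (c * u * (u⁻¹ * c) * u⁻¹ * c⁻¹) * c⁻¹ = (c * c * c) * u⁻¹ * c⁻¹ * c⁻¹ := by group
      _ = 1 * u⁻¹ * c⁻¹ * c⁻¹ := by rw [hc]
      _ = u⁻¹ * (c * c)⁻¹ := by group
      _ = u⁻¹ * c := by rw [hc2, inv_inv]

theorem braid_of_tau_eq {c : G} {p : G × G} (hp : p.1 * p.2 = c) (hfix : tau c p = p) :
    p.1 * p.2 * p.1 = p.2 * p.1 * p.2 := by
  obtain ⟨u, v⟩ := p
  simp only at hp
  have h2 : c * u * c⁻¹ = v := congrArg Prod.snd hfix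
  rw [← hp] at h2
  show u * v * u = v * u * v
  calc u * v * u = (u * v * u * (u * v)⁻¹) * (u * v) := by group
    _ = v * (u * v) := by rw [h2]
    _ = v * u * v := by group

section count

variable [Fintype G]

open Classical in
/-- Pairs of conjugates of `x` with product `c`. -/
noncomputable def Sol (x c : G) : Finset (G × G) :=
  Finset.univ.filter (fun p : G × G => IsConj x p.1 ∧ IsConj x p.2 ∧ p.1 * p.2 = c)

theorem mem_Sol {x c : G} {p : G × G} :
    p ∈ Sol x c ↔ IsConj x p.1 ∧ IsConj x p.2 ∧ p.1 * p.2 = c := by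
  classical
  simp [Sol]

theorem tau_mem_Sol {x c : G} {p : G × G} (hp : p ∈ Sol x c) : tau c p ∈ Sol x c := by
  rw [mem_Sol] at hp ⊢
  obtain ⟨h1, h2, h3⟩ := hp
  refine ⟨?_, ?_, tau_fst_mul_snd h3⟩
  · refine h2.trans (isConj_iff.2 ⟨c * p.1, ?_⟩)
    show c * p.1 * p.2 * (c * p.1)⁻¹ = c * p.1 * p.2 * p.1⁻¹ * c⁻¹
    group
  · exact h1.trans (isConj_iff.2 ⟨c, rfl⟩)

open Classical in
/-- **Parity of the class-square constants.** -/
theorem card_Sol_parity (x c : G) (hx : x * x * x = 1) (hc : c * c * c = 1)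
    (hbraid : ∀ u v : G, IsConj x u → IsConj x v → u * v * u = v * u * v → u = v) :
    ((Sol x c).card : ZMod 2) = if IsConj x c⁻¹ then 1 else 0 := by
  set q : G × G := (c⁻¹, c⁻¹) with hq
  have hc2 : c * c = c⁻¹ := eq_inv_of_mul_eq_one_left hc
  have hqq : q.1 * q.2 = c := by
    show c⁻¹ * c⁻¹ = c
    rw [← hc2]
    calc c * c * (c * c) = (c * c * c) * c := by group
      _ = c := by rw [hc, one_mul]
  have hqfix : tau c q = q := by
    apply Prod.ext
    · show c * c⁻¹ * c⁻¹ * c⁻¹⁻¹ * c⁻¹ = c⁻¹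
      group
    · show c * c⁻¹ * c⁻¹ = c⁻¹
      group
  have hfixed : ∀ p ∈ Sol x c, tau c p = p → p = q := by
    intro p hp hfix
    rw [mem_Sol] at hp
    obtain ⟨h1, h2, h3⟩ := hp
    have hbr := braid_of_tau_eq h3 hfix
    have huv : p.1 = p.2 := hbraid p.1 p.2 h1 h2 hbr
    have hu3 := cube_of_isConj hx h1
    have hu : p.1 = c⁻¹ := by
      have : p.1 * p.1 = c := by rw [← h3, ← huv]
      have h4 : p.1 * p.1 = p.1⁻¹ := eq_inv_of_mul_eq_one_left hu3
      rw [h4] at this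
      rw [← this, inv_inv]
    apply Prod.ext
    · exact hu
    · rw [← huv]; exact hu
  have hsplit : ((Sol x c).card : ZMod 2) =
      ∑ p ∈ (Sol x c).filter (fun p => p ≠ q), (1 : ZMod 2) +
        ∑ p ∈ (Sol x c).filter (fun p => ¬ p ≠ q), (1 : ZMod 2) := by
    rw [Finset.sum_filter_add_sum_filter_not]
    simp
  have hfirst : ∑ p ∈ (Sol x c).filter (fun p => p ≠ q), (1 : ZMod 2) = 0 := by
    refine Finset.sum_involution (fun p _ => tau c p) ?_ ?_ ?_ ?_
    · intro p _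
      decide
    · intro p hp _ hfix
      rw [Finset.mem_filter] at hp
      exact hp.2 (hfixed p hp.1 hfix)
    · intro p hp
      rw [Finset.mem_filter] at hp ⊢
      refine ⟨tau_mem_Sol hp.1, fun h => hp.2 ?_⟩
      have h3 := (mem_Sol.1 hp.1).2.2
      rw [← tau_tau hc h3, h, hqfix]
    · intro p hp
      rw [Finset.mem_filter] at hp
      exact tau_tau hc (mem_Sol.1 hp.1).2.2
  have hsecond : ∑ p ∈ (Sol x c).filter (fun p => ¬ p ≠ q), (1 : ZMod 2) =
      if IsConj x c⁻¹ then 1 else 0 := by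
    have hset : (Sol x c).filter (fun p => ¬ p ≠ q) = if IsConj x c⁻¹ then {q} else ∅ := by
      ext p
      rw [Finset.mem_filter, not_not]
      split_ifs with hcc
      · rw [Finset.mem_singleton]
        constructor
        · exact fun h => h.2
        · rintro rfl
          exact ⟨mem_Sol.2 ⟨hcc, hcc, hqq⟩, rfl⟩
      · simp only [Finset.notMem_empty, iff_false, not_and]
        rintro hp rfl
        exact hcc (mem_Sol.1 hp).1
    rw [hset]
    split_ifs <;> simp
  rw [hsplit, hfirst, hsecond, zero_add]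

end count

end Cfsg.Agent.Helper66.DZ
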