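import Mathlib
import Cfsg.Agent.Helper66.DZCount

/-!
# From pairs of conjugators to pairs of conjugates (helper66)

`∑_g F (g x g⁻¹) = |C(x)| • ∑_{u ∼ x} F u`, and the parity of the number of pairs of conjugators
`(g, h)` with `(g x g⁻¹)(h x h⁻¹) = c` when `|C(x)|` is odd.
-/

set_option autoImplicit false

namespace Cfsg.Agent.Helper66.DZ

variable {G : Type*} [Group G] [Fintype G]

open Classical in
theorem card_conjugators_eq (x : G) {u : G} (hu : IsConj x u) :
    (Finset.univ.filter (fun g : G => g * x * g⁻¹ = u)).card =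
      Nat.card (Subgroup.centralizer ({x} : Set G)) := by
  obtain ⟨g₀, hg₀⟩ := isConj_iff.1 hu
  rw [Nat.card_eq_fintype_card, Fintype.card_subtype]
  refine Finset.card_bij (fun g _ => g₀⁻¹ * g) ?_ ?_ ?_
  · intro g hg
    rw [Finset.mem_filter] at hg ⊢
    refine ⟨Finset.mem_univ _, ?_⟩
    rw [Subgroup.mem_centralizer_singleton_iff]
    have h1 : g * x * g⁻¹ = g₀ * x * g₀⁻¹ := by rw [hg.2, hg₀]
    calc g₀⁻¹ * g * x = g₀⁻¹ * (g * x * g⁻¹) * g := by group
      _ = g₀⁻¹ * (g₀ * x * g₀⁻¹) * g := by rw [h1]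
      _ = x * (g₀⁻¹ * g) := by group
  · intro a _ b _ h
    exact mul_left_cancel h
  · intro k hk
    rw [Finset.mem_filter, Subgroup.mem_centralizer_singleton_iff] at hk
    refine ⟨g₀ * k, ?_, by group⟩
    rw [Finset.mem_filter]
    refine ⟨Finset.mem_univ _, ?_⟩
    rw [← hg₀]
    calc g₀ * k * x * (g₀ * k)⁻¹ = g₀ * (k * x) * k⁻¹ * g₀⁻¹ := by group
      _ = g₀ * (x * k) * k⁻¹ * g₀⁻¹ := by rw [hk.2]
      _ = g₀ * x * g₀⁻¹ := by group

open Classical in
/-- Summation over conjugators versus summation over the class. -/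
theorem sum_conj_eq {α : Type*} [AddCommMonoid α] (x : G) (F : G → α) :
    ∑ g : G, F (g * x * g⁻¹) =
      ∑ u ∈ Finset.univ.filter (fun u : G => IsConj x u),
        Nat.card (Subgroup.centralizer ({x} : Set G)) • F u := by
  rw [Finset.sum_comp F (fun g : G => g * x * g⁻¹)]
  have himg : (Finset.univ : Finset G).image (fun g : G => g * x * g⁻¹) =
      Finset.univ.filter (fun u : G => IsConj x u) := by
    ext u
    simp only [Finset.mem_image, Finset.mem_univ, true_and, Finset.mem_filter, isConj_iff]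
  rw [himg]
  refine Finset.sum_congr rfl (fun u hu => ?_)
  rw [Finset.mem_filter] at hu
  rw [card_conjugators_eq x hu.2]

open Classical in
/-- With `|C(x)|` odd, sums in `ZMod 2` over conjugators are sums over the class. -/
theorem sum_conj_zmod_two (x : G) (hodd : ¬ 2 ∣ Nat.card (Subgroup.centralizer ({x} : Set G)))
    (F : G → ZMod 2) :
    ∑ g : G, F (g * x * g⁻¹) = ∑ u ∈ Finset.univ.filter (fun u : G => IsConj x u), F u := by
  rw [sum_conj_eq]
  refine Finset.sum_congr rfl (fun u _ => ?_)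
  rw [nsmul_eq_mul]
  have : ((Nat.card (Subgroup.centralizer ({x} : Set G)) : ℕ) : ZMod 2) = 1 := by
    have h := Nat.odd_iff.1 (Nat.not_even_iff_odd.1 (fun he => hodd he.two_dvd))
    rw [← ZMod.natCast_mod, h]
    rfl
  rw [this, one_mul]

open Classical in
/-- The number of pairs of conjugators has the parity of the number of pairs of conjugates. -/
theorem card_conjugator_pairs_parity (x c : G)
    (hodd : ¬ 2 ∣ Nat.card (Subgroup.centralizer ({x} : Set G))) :
    (((Finset.univ.filter
      (fun ab : G × G => ab.1 * x * ab.1⁻¹ * (ab.2 * x * ab.2⁻¹) = c)).card : ℕ) : ZMod 2) =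
      ((Sol x c).card : ZMod 2) := by
  unfold Sol
  rw [Finset.card_filter, Finset.card_filter]
  push_cast
  rw [Fintype.sum_prod_type, Fintype.sum_prod_type]
  have h1 : ∀ g : G, ∑ h : G, (if g * x * g⁻¹ * (h * x * h⁻¹) = c then (1 : ZMod 2) else 0) =
      ∑ v ∈ Finset.univ.filter (fun v : G => IsConj x v),
        (if g * x * g⁻¹ * v = c then (1 : ZMod 2) else 0) := fun g =>
    sum_conj_zmod_two x hodd (fun v => if g * x * g⁻¹ * v = c then (1 : ZMod 2) else 0)
  simp only [h1]
  rw [sum_conj_zmod_two x hodd (fun u => ∑ v ∈ Finset.univ.filter (fun v : G => IsConj x v),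
    (if u * v = c then (1 : ZMod 2) else 0))]
  rw [Finset.sum_filter]
  refine Finset.sum_congr rfl (fun u _ => ?_)
  rw [Finset.sum_filter]
  split_ifs with hu
  · refine Finset.sum_congr rfl (fun v _ => ?_)
    by_cases hv : IsConj x v
    · rw [if_pos hv]
      by_cases hc' : u * v = c
      · rw [if_pos hc', if_pos ⟨hu, hv, hc'⟩]
      · rw [if_neg hc', if_neg (fun h => hc' h.2.2)]
    · rw [if_neg hv, if_neg (fun h => hv h.2.1)]
  · symm
    apply Finset.sum_eq_zero
    intro v _
    rw [if_neg (fun h => hu h.1)]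

end Cfsg.Agent.Helper66.DZ
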