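import Mathlib

set_option autoImplicit false

namespace Cfsg.Agent.Helper66.SL2Normal

open Matrix Matrix.SpecialLinearGroup MulAction
open scoped LinearAlgebra.Projectivization MatrixGroups

variable {F : Type*} [Field F]

/-- The Iwasawa structure on `SL(2, F)` acting on the projective line. -/
noncomputable def iwasawaSL2 :
    IwasawaStructure (SpecialLinearGroup (Fin 2) F) (ℙ F (Fin 2 → F)) where
  T p := lineStab (F := F) (ι := Fin 2) p.submodule
  is_comm p := by
    rw [← Projectivization.mk_rep p, Projectivization.submodule_mk]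
    exact lineStab_isMulCommutative_of_span p.rep p.rep_nonzero
  is_conj g p := by
    rw [PSL.smul_submodule, Matrix.SpecialLinearGroup.lineStab_smul]
  is_generator := PSL.iSup_lineStab_eq_top

/-- A normal subgroup of `SL(2, F)` not containing the commutator subgroup is central
(any field `F`). -/
theorem normal_le_center_SL2_field (N : Subgroup (SpecialLinearGroup (Fin 2) F)) [N.Normal]
    (hN : ¬ commutator (SpecialLinearGroup (Fin 2) F) ≤ N) :
    N ≤ Subgroup.center (SpecialLinearGroup (Fin 2) F) := by
  have hfix : MulAction.fixedPoints N (ℙ F (Fin 2 → F)) = Set.univ := by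
    by_contra h
    exact hN ((iwasawaSL2 (F := F)).commutator_le N h)
  intro n hn
  rw [← Projectivization.SL_mulAction_ker, MonoidHom.mem_ker]
  ext x
  have hx : x ∈ MulAction.fixedPoints N (ℙ F (Fin 2 → F)) := by rw [hfix]; trivial
  exact hx ⟨n, hn⟩

/-- A normal subgroup of `SL(2, p)` not containing the commutator subgroup is central. -/
theorem normal_le_center_SL2 (p : ℕ) [Fact p.Prime]
    (N : Subgroup (SpecialLinearGroup (Fin 2) (ZMod p))) [N.Normal]
    (hN : ¬ commutator (SpecialLinearGroup (Fin 2) (ZMod p)) ≤ N) :
    N ≤ Subgroup.center (SpecialLinearGroup (Fin 2) (ZMod p)) :=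
  normal_le_center_SL2_field N hN

end Cfsg.Agent.Helper66.SL2Normal
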