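import Mathlib
import Cfsg.Agent.Helper5.OmBN.Defs

/-!
# S2549 piece (CN) for helper5 (#11691): `s B s ≠ B` for the distinguished reflections
-/

set_option autoImplicit false

namespace Cfsg.Agent.Helper66.OmBN

open Matrix Cfsg.Agent.Helper5.OmBN

variable {F : Type*} [Field F] {m : ℕ} {α β : F}

theorem cn_mul_pMat_apply (A : Matrix (Fin (2 * m + 2)) (Fin (2 * m + 2)) F)
    (π : Equiv.Perm (Fin (2 * m + 2))) (r c : Fin (2 * m + 2)) :
    (A * (pMat π : Matrix _ _ F)) r c = A r (π c) := by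
  rw [Matrix.mul_apply, Finset.sum_eq_single (π c)]
  · rw [pMat_apply, if_pos rfl, mul_one]
  · intro t _ ht
    rw [pMat_apply, if_neg ht, mul_zero]
  · intro h; exact absurd (Finset.mem_univ _) h

theorem cn_pMat_mul_apply (A : Matrix (Fin (2 * m + 2)) (Fin (2 * m + 2)) F)
    (π : Equiv.Perm (Fin (2 * m + 2))) (t c : Fin (2 * m + 2)) :
    ((pMat π : Matrix _ _ F) * A) (π t) c = A t c := by
  rw [Matrix.mul_apply, Finset.sum_eq_single t]
  · rw [pMat_apply, if_pos rfl, one_mul]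
  · intro u _ hu
    rw [pMat_apply, if_neg (fun h => hu (π.injective h).symm), zero_mul]
  · intro h; exact absurd (Finset.mem_univ _) h

/-- an isometry whose matrix is the identity plus entries strictly above the block diagonal is in `Usub` -/
theorem cn_mem_Usub_of (g : OG m α β)
    (h : ∀ r s : Fin (2 * m + 2), ¬ pos r < pos s → mat g r s = if r = s then 1 else 0) :
    g ∈ Usub m α β := by
  rw [mem_Usub_iff]
  constructor
  · intro r s hrs
    rw [h r s (by omega), if_neg]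
    rintro rfl
    exact lt_irrefl _ hrs
  · intro r s hrs
    exact h r s (by omega)

theorem cn_kindI (hXI : HasXI m α β) (k : Fin m) (hk : k.val + 1 < m) (s : OG m α β)
    (hs : mat s = sMat α k) :
    ∃ x ∈ Bsub m α β, s * x * s ∉ Bsub m α β := by
  have hkm := k.2
  have h1 : ib k ≠ (c1 : Fin (2 * m + 2)) := by
    rw [Ne, eq_iff_val_eq, val_ib, val_c1]; omega
  have h2 : ib k ≠ (c2 : Fin (2 * m + 2)) := by
    rw [Ne, eq_iff_val_eq, val_ib, val_c2]; omega
  have h3 : lo k ≠ ib k := by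
    rw [Ne, eq_iff_val_eq, val_ib, val_lo]; omega
  have h4 : lo k ≠ Fin.rev (ib k) := by
    rw [Ne, eq_iff_val_eq, val_rev, val_ib, val_lo]; omega
  obtain ⟨x, hx⟩ := hXI (lo k) (ib k) (lo_ne_c1 k) (lo_ne_c2 k) h1 h2 h3 h4 1
  have hxU : x ∈ Usub m α β := by
    apply cn_mem_Usub_of
    intro r c hrc
    have e1 : ¬ (lo k = r ∧ ib k = c) := by
      rintro ⟨rfl, rfl⟩
      apply hrc
      unfold pos
      rw [val_ib, val_lo]
      split_ifs <;> omega
    have e2 : ¬ (Fin.rev (ib k) = r ∧ Fin.rev (lo k) = c) := by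
      rintro ⟨rfl, rfl⟩
      apply hrc
      unfold pos
      rw [val_rev, val_rev, val_ib, val_lo]
      split_ifs <;> omega
    rw [hx, xMat_apply, if_neg e1, if_neg e2, add_zero, sub_zero]
  refine ⟨x, Usub_le_Bsub hxU, fun hmem => ?_⟩
  have h0 := ((mem_Bsub_iff _).1 hmem).1 (ib k) (lo k) (by
    unfold pos
    rw [val_ib, val_lo]
    split_ifs <;> omega)
  have hσ : sPerm k (lo k) = ib k := by
    apply Fin.ext
    rw [val_sPerm k hk, val_lo, val_ib, if_pos rfl]
  have e3 : ¬ (Fin.rev (ib k) = lo k ∧ Fin.rev (lo k) = ib k) := by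
    rintro ⟨h5, -⟩
    exact h4 h5.symm
  have hent : (mat (s * x * s)) (ib k) (lo k) = 1 := by
    rw [mat_mul, mat_mul, hs, hx, sMat_of_lt α k hk, cn_mul_pMat_apply, hσ]
    conv_lhs => rw [← hσ]
    rw [cn_pMat_mul_apply, hσ, xMat_apply, if_neg h3, if_pos ⟨rfl, rfl⟩, if_neg e3]
    ring
  rw [hent] at h0
  exact one_ne_zero h0

theorem cn_kindV (hSG : HasSG m α β) (k : Fin m) (hk : k.val + 1 = m) (s : OG m α β)
    (hs : mat s = sMat α k) :
    ∃ x ∈ Bsub m α β, s * x * s ∉ Bsub m α β := by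
  have hkm := k.2
  obtain ⟨x, hx⟩ := hSG (lo k) (lo_ne_c1 k) (lo_ne_c2 k) 1 0
  have hxU : x ∈ Usub m α β := by
    apply cn_mem_Usub_of
    intro r c hrc
    have e1 : ¬ (lo k = r ∧ c1 = c) := by
      rintro ⟨rfl, rfl⟩
      apply hrc
      rw [pos_lo, pos_c1]; omega
    have e2 : ¬ (lo k = r ∧ c2 = c) := by
      rintro ⟨rfl, rfl⟩
      apply hrc
      rw [pos_lo, pos_c2]; omega
    have e3 : ¬ (c1 = r ∧ hi k = c) := by
      rintro ⟨rfl, rfl⟩
      apply hrc
      rw [pos_c1, pos_hi]; omega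
    have e4 : ¬ (c2 = r ∧ hi k = c) := by
      rintro ⟨rfl, rfl⟩
      apply hrc
      rw [pos_c2, pos_hi]; omega
    have e5 : ¬ (lo k = r ∧ hi k = c) := by
      rintro ⟨rfl, rfl⟩
      apply hrc
      rw [pos_lo, pos_hi]; omega
    rw [hx, sgMat_apply, rev_lo, if_neg e1, if_neg e2, if_neg e3, if_neg e4, if_neg e5, add_zero,
      add_zero, sub_zero, sub_zero, sub_zero]
  refine ⟨x, Usub_le_Bsub hxU, fun hmem => ?_⟩
  have h0 := ((mem_Bsub_iff _).1 hmem).1 (hi k) (lo k) (by rw [pos_lo, pos_hi]; omega)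
  -- the entry `(hi k, lo k)` of `s x s` is `x (lo k) (hi k) = -1`
  have hcol : ∀ A : Matrix (Fin (2 * m + 2)) (Fin (2 * m + 2)) F, ∀ r : Fin (2 * m + 2),
      (A * sVMat α k) r (lo k) = A r (hi k) := by
    intro A r
    rw [Matrix.mul_apply, Finset.sum_eq_single (hi k)]
    · rw [sVMat_apply, if_neg (lo_ne_c2 k), Equiv.swap_apply_left, if_pos rfl, mul_one]
    · intro t _ ht
      rw [sVMat_apply, if_neg (lo_ne_c2 k), Equiv.swap_apply_left, if_neg ht, mul_zero]
    · intro h; exact absurd (Finset.mem_univ _) h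
  have hrow : ∀ A : Matrix (Fin (2 * m + 2)) (Fin (2 * m + 2)) F, ∀ c : Fin (2 * m + 2),
      (sVMat α k * A) (hi k) c = A (lo k) c := by
    intro A c
    rw [Matrix.mul_apply, Finset.sum_eq_single (lo k)]
    · rw [sVMat_apply, if_neg (lo_ne_c2 k), Equiv.swap_apply_left, if_pos rfl, one_mul]
    · intro t _ ht
      rw [sVMat_apply]
      by_cases ht2 : t = c2
      · rw [if_pos ht2, if_neg (hi_ne_c1 k), if_neg (hi_ne_c2 k), zero_mul]
      · rw [if_neg ht2, if_neg, zero_mul]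
        intro h
        apply ht
        have := congrArg (Equiv.swap (lo k) (hi k)) h
        rw [Equiv.swap_apply_right, Equiv.swap_apply_self] at this
        exact this.symm
    · intro h; exact absurd (Finset.mem_univ _) h
  have e1 : ¬ (lo k = lo k ∧ (c1 : Fin (2 * m + 2)) = hi k) := by
    rintro ⟨-, h5⟩
    exact hi_ne_c1 k h5.symm
  have e2 : ¬ (lo k = lo k ∧ (c2 : Fin (2 * m + 2)) = hi k) := by
    rintro ⟨-, h5⟩
    exact hi_ne_c2 k h5.symm
  have e3 : ¬ ((c1 : Fin (2 * m + 2)) = lo k ∧ hi k = hi k) := by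
    rintro ⟨h5, -⟩
    exact lo_ne_c1 k h5.symm
  have e4 : ¬ ((c2 : Fin (2 * m + 2)) = lo k ∧ hi k = hi k) := by
    rintro ⟨h5, -⟩
    exact lo_ne_c2 k h5.symm
  have hent : (mat (s * x * s)) (hi k) (lo k) = -1 := by
    rw [mat_mul, mat_mul, hs, hx, sMat_of_eq α k hk, hcol, hrow, sgMat_apply, rev_lo,
      if_neg (lo_ne_hi k k), if_neg e1, if_neg e2, if_neg e3, if_neg e4, if_pos ⟨rfl, rfl⟩]
    unfold Nf
    ring
  rw [hent] at h0
  exact one_ne_zero (neg_eq_zero.1 h0)

/-- (CN) -/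
theorem conj_ne (hXI : HasXI m α β) (hSG : HasSG m α β) (s : OG m α β) (hs : s ∈ Sset m α β) :
    (fun b : OG m α β => s * b * s) '' (Bsub m α β : Set (OG m α β)) ≠
      (Bsub m α β : Set (OG m α β)) := by
  obtain ⟨k, hk⟩ := hs
  intro heq
  have hex : ∃ x ∈ Bsub m α β, s * x * s ∉ Bsub m α β := by
    rcases Nat.lt_or_ge (k.val + 1) m with h | h
    · exact cn_kindI hXI k h s hk
    · exact cn_kindV hSG k (by have := k.2; omega) s hk
  obtain ⟨x, hx, hnot⟩ := hex
  apply hnot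
  have : s * x * s ∈ (fun b : OG m α β => s * b * s) '' (Bsub m α β : Set (OG m α β)) :=
    ⟨x, hx, rfl⟩
  rw [heq] at this
  exact this

end Cfsg.Agent.Helper66.OmBN
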