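import Mathlib
import Cfsg.Agent.Helper5.OmBN.Defs

/-!
# S2549 (helper5): the embedding of `4 × 4` matrices on the positions `lo k, c1, c2, hi k`
(auxiliary file for the piece (R3-V), by helper66)
-/

set_option autoImplicit false

namespace Cfsg.Agent.Helper66.OmBN

open Matrix Cfsg.Agent.Helper5.OmBN

variable {F : Type*} [Field F] {m : ℕ} {α β : F}

/-- the four positions `e = lo k`, `c1`, `c2`, `f = hi k` -/
def p4 (k : Fin m) : Fin 4 → Fin (2 * m + 2) := ![lo k, c1, c2, hi k]

theorem p4_zero (k : Fin m) : p4 k 0 = lo k := rfl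
theorem p4_one (k : Fin m) : p4 k 1 = c1 := rfl
theorem p4_two (k : Fin m) : p4 k 2 = c2 := rfl
theorem p4_three (k : Fin m) : p4 k 3 = hi k := rfl

theorem p4_injective (k : Fin m) : Function.Injective (p4 k) := by
  intro a b h
  fin_cases a <;> fin_cases b <;>
    first
    | rfl
    | exact absurd h (lo_ne_c1 k)
    | exact absurd h (lo_ne_c2 k)
    | exact absurd h (lo_ne_hi k k)
    | exact absurd h.symm (lo_ne_c1 k)
    | exact absurd h.symm (lo_ne_c2 k)
    | exact absurd h.symm (lo_ne_hi k k)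
    | exact absurd h c1_ne_c2
    | exact absurd h.symm c1_ne_c2
    | exact absurd h (hi_ne_c1 k)
    | exact absurd h (hi_ne_c2 k)
    | exact absurd h.symm (hi_ne_c1 k)
    | exact absurd h.symm (hi_ne_c2 k)

/-- the `0/1` matrix of the inclusion of the four positions -/
def J4 (F : Type*) [Field F] (k : Fin m) : Matrix (Fin (2 * m + 2)) (Fin 4) F :=
  Matrix.of fun r a => if p4 k a = r then 1 else 0

theorem J4_apply (k : Fin m) (r : Fin (2 * m + 2)) (a : Fin 4) :
    J4 F k r a = if p4 k a = r then 1 else 0 := rfl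

theorem J4t_mul_J4 (k : Fin m) : (J4 F k)ᵀ * J4 F k = 1 := by
  ext a b
  rw [Matrix.mul_apply, Matrix.one_apply]
  simp only [Matrix.transpose_apply, J4_apply]
  rw [Finset.sum_eq_single (p4 k a)]
  · rw [if_pos rfl, one_mul]
    by_cases hab : a = b
    · rw [if_pos hab, hab, if_pos rfl]
    · rw [if_neg hab, if_neg (fun h => hab (p4_injective k h).symm)]
  · intro r _ hr
    rw [if_neg (fun h => hr h.symm), zero_mul]
  · intro h; exact absurd (Finset.mem_univ _) h

/-- the embedding: `P` on the four positions, the identity elsewhere -/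
def emb4 (k : Fin m) (P : Matrix (Fin 4) (Fin 4) F) : Matrix (Fin (2 * m + 2)) (Fin (2 * m + 2)) F :=
  1 - J4 F k * (J4 F k)ᵀ + J4 F k * P * (J4 F k)ᵀ

theorem emb4_one (k : Fin m) : emb4 k (1 : Matrix (Fin 4) (Fin 4) F) = 1 := by
  unfold emb4
  rw [Matrix.mul_one, sub_add_cancel]

theorem emb4_mul (k : Fin m) (P Q : Matrix (Fin 4) (Fin 4) F) :
    emb4 k P * emb4 k Q = emb4 k (P * Q) := by
  unfold emb4
  have hJ := J4t_mul_J4 (F := F) k
  set J : Matrix (Fin (2 * m + 2)) (Fin 4) F := J4 F k with hJdef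
  have e1 : J * Jᵀ * (J * Jᵀ) = J * Jᵀ := by
    rw [Matrix.mul_assoc, ← Matrix.mul_assoc Jᵀ, hJ, Matrix.one_mul]
  have e2 : J * Jᵀ * (J * Q * Jᵀ) = J * Q * Jᵀ := by
    rw [Matrix.mul_assoc J Q, Matrix.mul_assoc J Jᵀ, ← Matrix.mul_assoc Jᵀ J, hJ, Matrix.one_mul]
  have e3 : J * P * Jᵀ * (J * Jᵀ) = J * P * Jᵀ := by
    rw [Matrix.mul_assoc (J * P) Jᵀ, ← Matrix.mul_assoc Jᵀ J, hJ, Matrix.one_mul]
  have e4 : J * P * Jᵀ * (J * Q * Jᵀ) = J * (P * Q) * Jᵀ := by
    rw [Matrix.mul_assoc (J * P) Jᵀ, ← Matrix.mul_assoc Jᵀ (J * Q), ← Matrix.mul_assoc Jᵀ J, hJ,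
      Matrix.one_mul, ← Matrix.mul_assoc, Matrix.mul_assoc J P Q]
  simp only [Matrix.add_mul, Matrix.sub_mul, Matrix.mul_add, Matrix.mul_sub, Matrix.one_mul,
    Matrix.mul_one, e1, e2, e3, e4]
  abel

/-- the entries of the embedded matrix -/
theorem emb4_apply (k : Fin m) (P : Matrix (Fin 4) (Fin 4) F) (r s : Fin (2 * m + 2)) :
    emb4 k P r s = (if r = s then 1 else 0) +
      ∑ a : Fin 4, ∑ b : Fin 4, (if p4 k a = r ∧ p4 k b = s then (P - 1) a b else 0) := by
  have h : emb4 k P = 1 + J4 F k * (P - 1) * (J4 F k)ᵀ := by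
    unfold emb4
    rw [Matrix.mul_sub, Matrix.sub_mul, Matrix.mul_one]
    abel
  rw [h, Matrix.add_apply, Matrix.one_apply, Matrix.mul_apply]
  congr 1
  rw [Finset.sum_comm]
  apply Finset.sum_congr rfl
  intro b _
  rw [Matrix.mul_apply, Finset.sum_mul]
  apply Finset.sum_congr rfl
  intro a _
  rw [Matrix.transpose_apply, J4_apply, J4_apply]
  by_cases h1 : p4 k a = r
  · by_cases h2 : p4 k b = s
    · rw [if_pos h1, if_pos h2, if_pos ⟨h1, h2⟩, one_mul, mul_one]
    · have h3 : ¬ (p4 k a = r ∧ p4 k b = s) := fun h => h2 h.2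
      rw [if_neg h2, if_neg h3, mul_zero]
  · have h3 : ¬ (p4 k a = r ∧ p4 k b = s) := fun h => h1 h.1
    rw [if_neg h1, if_neg h3, zero_mul, zero_mul]

/-- the entries on the four positions -/
theorem emb4_apply_p4 (k : Fin m) (P : Matrix (Fin 4) (Fin 4) F) (a b : Fin 4) :
    emb4 k P (p4 k a) (p4 k b) = P a b := by
  have hsum : ∑ a' : Fin 4, ∑ b' : Fin 4,
      (if p4 k a' = p4 k a ∧ p4 k b' = p4 k b then (P - 1) a' b' else 0) = (P - 1) a b := by
    rw [Finset.sum_eq_single a, Finset.sum_eq_single b]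
    · exact if_pos ⟨rfl, rfl⟩
    · intro b' _ hb'
      exact if_neg (fun h => hb' (p4_injective k h.2))
    · intro h; exact absurd (Finset.mem_univ _) h
    · intro a' _ ha'
      apply Finset.sum_eq_zero
      intro b' _
      exact if_neg (fun h => ha' (p4_injective k h.1))
    · intro h; exact absurd (Finset.mem_univ _) h
  rw [emb4_apply, hsum, Matrix.sub_apply, Matrix.one_apply]
  by_cases hab : a = b
  · rw [if_pos hab, if_pos (by rw [hab])]
    ring
  · rw [if_neg hab, if_neg (fun h => hab (p4_injective k h))]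
    ring

theorem pos_p4 (k : Fin m) (a : Fin 4) :
    pos (p4 k a) = if a = 0 then k.val else if a = 3 then 2 * m - k.val else m := by
  fin_cases a
  · exact pos_lo k
  · exact pos_c1
  · exact pos_c2
  · exact pos_hi k

/-- block upper triangular matrices embed to block upper triangular matrices -/
theorem emb4_apply_lower (k : Fin m) (P : Matrix (Fin 4) (Fin 4) F) (h10 : P 1 0 = 0)
    (h20 : P 2 0 = 0) (h30 : P 3 0 = 0) (h31 : P 3 1 = 0) (h32 : P 3 2 = 0)
    (r s : Fin (2 * m + 2)) (hrs : pos s < pos r) : emb4 k P r s = 0 := by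
  have hk := k.2
  rw [emb4_apply, if_neg (fun h => by rw [h] at hrs; exact lt_irrefl _ hrs), zero_add]
  apply Finset.sum_eq_zero
  intro a _
  apply Finset.sum_eq_zero
  intro b _
  by_cases h : p4 k a = r ∧ p4 k b = s
  · rw [if_pos h]
    obtain ⟨rfl, rfl⟩ := h
    rw [pos_p4, pos_p4] at hrs
    have hab : a ≠ b := by
      rintro rfl
      exact lt_irrefl _ hrs
    rw [Matrix.sub_apply, Matrix.one_apply_ne hab, sub_zero]
    fin_cases a <;> fin_cases b <;> simp at hrs <;> first | omega | assumption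
  · rw [if_neg h]

end Cfsg.Agent.Helper66.OmBN
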