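import Mathlib
import Cfsg.Agent.Helper5.OmBN.Defs
import Cfsg.Agent.Helper66.OmBNEmb4

/-!
# S2549 piece (R3-V) for helper5 (#11691): the rank one relation, kind V

`s x s⁻¹ = b₁ s x₂` with `x = E_{e,w}`, `x₂ = E_{e,w'}`, `w' = -c₀(w)/Nf(w)`: everything lives on the four
positions `e = lo k`, `c1`, `c2`, `f = hi k`, so it is a `4 × 4` computation (`OmBNEmb4`).
-/

set_option autoImplicit false

namespace Cfsg.Agent.Helper66.OmBN

open Matrix Cfsg.Agent.Helper5.OmBN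

variable {F : Type*} [Field F] {m : ℕ} {α β : F}

/-- the Siegel element on the four positions -/
def E4 (α β w1 w2 : F) : Matrix (Fin 4) (Fin 4) F :=
  !![1, 2 * w1 + α * w2, α * w1 + 2 * β * w2, -Nf α β w1 w2;
     0, 1, 0, -w1;
     0, 0, 1, -w2;
     0, 0, 0, 1]

/-- the reflection on the four positions -/
def S4 (α : F) : Matrix (Fin 4) (Fin 4) F :=
  !![0, 0, 0, 1;
     0, 1, α, 0;
     0, 0, -1, 0;
     1, 0, 0, 0]

theorem S4_mul_S4 (α : F) : S4 α * S4 α = 1 := by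
  ext i j
  fin_cases i <;> fin_cases j <;> simp [S4, Matrix.mul_apply, Fin.sum_univ_four]

theorem E4_zero (α β : F) : E4 α β 0 0 = 1 := by
  ext i j
  fin_cases i <;> fin_cases j <;> simp [E4, Nf]

theorem E4_neg_mul (α β v1 v2 : F) : E4 α β (-v1) (-v2) * E4 α β v1 v2 = 1 := by
  ext i j
  fin_cases i <;> fin_cases j <;> simp [E4, Nf, Matrix.mul_apply, Fin.sum_univ_four] <;> ring

theorem P4_entries (α β w1 w2 : F) (hN : Nf α β w1 w2 ≠ 0) :
    let P := S4 α * E4 α β w1 w2 * S4 α *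
      E4 α β ((w1 + α * w2) / Nf α β w1 w2) (-w2 / Nf α β w1 w2) * S4 α
    P 1 0 = 0 ∧ P 2 0 = 0 ∧ P 3 0 = 0 ∧ P 3 1 = 0 ∧ P 3 2 = 0 ∧
      P 1 2 = -β * P 2 1 ∧ P 2 2 = P 1 1 + α * P 2 1 := by
  intro P
  have hN' : w1 ^ 2 + α * w1 * w2 + β * w2 ^ 2 ≠ 0 := hN
  refine ⟨?_, ?_, ?_, ?_, ?_, ?_, ?_⟩ <;>
    simp only [P, E4, S4, Nf, Matrix.mul_apply, Fin.sum_univ_four] <;>
    simp <;>
    generalize hn : w1 ^ 2 + α * w1 * w2 + β * w2 ^ 2 = n at hN' ⊢ <;>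
    field_simp <;>
    subst hn <;>
    ring

/-- the Siegel element `E_{lo k, w}` is the embedded `4 × 4` Siegel element -/
theorem sgMat_eq_emb4 (k : Fin m) (w1 w2 : F) :
    sgMat α β (lo k) w1 w2 = emb4 k (E4 α β w1 w2) := by
  ext r s
  rw [sgMat_apply, emb4_apply, rev_lo]
  simp only [Fin.sum_univ_four, p4_zero, p4_one, p4_two, p4_three]
  have e : ∀ (c : Prop) [Decidable c] (a : F), (if c then -a else 0) = -(if c then a else 0) := by
    intro c _ a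
    split_ifs <;> simp
  simp [E4]
  simp only [e]
  ring

/-- the reflection `sVMat α k` is the embedded `4 × 4` reflection -/
theorem sVMat_eq_emb4 (k : Fin m) : sVMat α k = emb4 k (S4 α) := by
  ext r s
  rw [sVMat_apply, emb4_apply]
  simp only [Fin.sum_univ_four, p4_zero, p4_one, p4_two, p4_three]
  have h1 := lo_ne_c1 k
  have h2 := lo_ne_c2 k
  have h3 := hi_ne_c1 k
  have h4 := hi_ne_c2 k
  have h5 := lo_ne_hi k k
  have h6 := (c1_ne_c2 : (c1 : Fin (2 * m + 2)) ≠ c2)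
  by_cases hs2 : s = c2
  · subst hs2
    by_cases hr1 : r = c1
    · subst hr1
      simp [S4, h1, h2, h3, h4, h5, h6, h1.symm, h2.symm, h3.symm, h4.symm, h5.symm, h6.symm]
    · by_cases hr2 : r = c2
      · subst hr2
        simp [S4, h1, h2, h3, h4, h5, h6, h1.symm, h2.symm, h3.symm, h4.symm, h5.symm, h6.symm]
      · simp [S4, h1, h2, h3, h4, h5, h6, h1.symm, h2.symm, h3.symm, h4.symm, h5.symm, h6.symm,
          hr1, hr2, Ne.symm hr1, Ne.symm hr2]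
  · rw [if_neg hs2]
    by_cases hse : s = lo k
    · subst hse
      rw [Equiv.swap_apply_left]
      by_cases hr : r = hi k
      · subst hr
        simp [S4, h1, h2, h3, h4, h5, h6, h1.symm, h2.symm, h3.symm, h4.symm, h5.symm, h6.symm]
      · by_cases hr' : r = lo k
        · subst hr'
          simp [S4, h1, h2, h3, h4, h5, h6, h1.symm, h2.symm, h3.symm, h4.symm, h5.symm, h6.symm]
        · simp [S4, h1, h2, h3, h4, h5, h6, h1.symm, h2.symm, h3.symm, h4.symm, h5.symm, h6.symm,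
            hr, hr', Ne.symm hr, Ne.symm hr']
    · by_cases hsf : s = hi k
      · subst hsf
        rw [Equiv.swap_apply_right]
        by_cases hr : r = hi k
        · subst hr
          simp [S4, h1, h2, h3, h4, h5, h6, h1.symm, h2.symm, h3.symm, h4.symm, h5.symm, h6.symm]
        · by_cases hr' : r = lo k
          · subst hr'
            simp [S4, h1, h2, h3, h4, h5, h6, h1.symm, h2.symm, h3.symm, h4.symm, h5.symm, h6.symm]
          · simp [S4, h1, h2, h3, h4, h5, h6, h1.symm, h2.symm, h3.symm, h4.symm, h5.symm, h6.symm,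
              hr, hr', Ne.symm hr, Ne.symm hr']
      · rw [Equiv.swap_apply_of_ne_of_ne hse hsf]
        simp [S4, hs2, hse, hsf, Ne.symm hs2, Ne.symm hse, Ne.symm hsf]

theorem mat_inv_eq_of_mul_eq_one (g : OG m α β) (A : Matrix (Fin (2 * m + 2)) (Fin (2 * m + 2)) F)
    (h : A * mat g = 1) : mat g⁻¹ = A := by
  calc mat g⁻¹ = (A * mat g) * mat g⁻¹ := by rw [h, Matrix.one_mul]
    _ = A * (mat g * mat g⁻¹) := by rw [Matrix.mul_assoc]
    _ = A := by rw [mul_inv_mat, Matrix.mul_one]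

/-- (R3-V) kind V: `x = E_{e,w}`, `x₂ = E_{e,w'}`, `w' = -c₀(w)/Nf(w)`, `c₀(w) = (w₁ + α w₂, -w₂)` -/
theorem rank_one_V (hSG : HasSG m α β)
    (hab : ∀ z₁ z₂ : F, Nf α β z₁ z₂ = 0 → z₁ = 0 ∧ z₂ = 0) (k : Fin m) (hk : k.val + 1 = m)
    (s : OG m α β) (hs : mat s = sMat α k) (x : OG m α β) (hx : x ∈ Xset α β k) (hx1 : x ≠ 1) :
    ∃ b₁ ∈ Bsub m α β, ∃ x₂ ∈ Xset α β k, s * x * s⁻¹ = b₁ * s * x₂ := by
  rcases hx with ⟨hlt, -⟩ | ⟨-, w1, w2, hxw⟩
  · omega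
  have hN : Nf α β w1 w2 ≠ 0 := by
    intro h0
    obtain ⟨rfl, rfl⟩ := hab w1 w2 h0
    apply hx1
    apply mat_injective
    rw [hxw, sgMat_eq_emb4, E4_zero, emb4_one, mat_one]
  obtain ⟨x₂, hx₂⟩ := hSG (lo k) (lo_ne_c1 k) (lo_ne_c2 k)
    (-((w1 + α * w2) / Nf α β w1 w2)) (-(-w2 / Nf α β w1 w2))
  have hs' : mat s = emb4 k (S4 α) := by rw [hs, sMat_of_eq α k hk, sVMat_eq_emb4]
  have hsinv : mat s⁻¹ = emb4 k (S4 α) := by
    apply mat_inv_eq_of_mul_eq_one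
    rw [hs', emb4_mul, S4_mul_S4, emb4_one]
  have hx₂inv : mat x₂⁻¹ =
      emb4 k (E4 α β ((w1 + α * w2) / Nf α β w1 w2) (-w2 / Nf α β w1 w2)) := by
    apply mat_inv_eq_of_mul_eq_one
    rw [hx₂, sgMat_eq_emb4, emb4_mul]
    have := E4_neg_mul α β (-((w1 + α * w2) / Nf α β w1 w2)) (-(-w2 / Nf α β w1 w2))
    rw [neg_neg, neg_neg] at this
    rw [this, emb4_one]
  refine ⟨s * x * s⁻¹ * x₂⁻¹ * s⁻¹, ?_, x₂, Or.inr ⟨hk, _, _, hx₂⟩, by group⟩
  have hmat : mat (s * x * s⁻¹ * x₂⁻¹ * s⁻¹) = emb4 k (S4 α * E4 α β w1 w2 * S4 α *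
      E4 α β ((w1 + α * w2) / Nf α β w1 w2) (-w2 / Nf α β w1 w2) * S4 α) := by
    rw [mat_mul, mat_mul, mat_mul, mat_mul, hs', hsinv, hx₂inv, hxw, sgMat_eq_emb4, emb4_mul,
      emb4_mul, emb4_mul, emb4_mul]
  obtain ⟨h10, h20, h30, h31, h32, hr1, hr2⟩ := P4_entries α β w1 w2 hN
  rw [mem_Bsub_iff]
  refine ⟨fun r c hrc => ?_, ?_, ?_⟩
  · rw [hmat]
    exact emb4_apply_lower k _ h10 h20 h30 h31 h32 r c hrc
  · rw [hmat, ← p4_one k, ← p4_two k, emb4_apply_p4, emb4_apply_p4]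
    exact hr1
  · rw [hmat, ← p4_one k, ← p4_two k, emb4_apply_p4, emb4_apply_p4, emb4_apply_p4]
    exact hr2

end Cfsg.Agent.Helper66.OmBN
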