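import Cfsg.Agent.Helper54.BT.Defs
import Cfsg.Agent.Helper63.BTBS
import Cfsg.Agent.Helper70.BTFC
import Cfsg.Agent.Helper89.BTDP
import Cfsg.Agent.Helper65.BTNO
import Cfsg.Agent.Helper57.BH.Pieces
import Cfsg.Agent.S4731
import Cfsg.Agent.S4503
import Cfsg.Agent.Helper78.Kernel
import Cfsg.Agent.Helper74.CharCenter

/-!
# (C10) for helper16 (S0997): a nonprincipal irreducible character of a simple group is faithful
-/

set_option autoImplicit false

namespace Cfsg.Agent.Helper66.BT97

open Cfsg Cfsg.Agent.Helper16 Cfsg.Agent.Helper16.DefOne Cfsg.Agent.Helper82.DefOne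
  Cfsg.Agent.Helper77.DefOne Cfsg.Agent.Helper16.Brauer43 Cfsg.Agent.Helper54.BT
open scoped ComplexConjugate

universe u

variable {G : Type u} [Group G] [Fintype G] {p : ℕ} [Fact p.Prime]
  (P : Sylow p G) [Fintype (P : Subgroup G)] (D : L0Data P)

/-- (C10) a nonprincipal irreducible character of a simple group is faithful -/
theorem faithful_of_simple [IsSimpleGroup G] (ψ : IrrCharacter G)
    (hne : ψ ≠ Helper79.principalIrr G) (g : G) (hg : (ψ : G → ℂ) g = (ψ : G → ℂ) 1) :
    g = 1 := by
  by_contra hg1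
  set ρ := Helper74.irrRep ψ with hρ
  have hirr : ρ.IsIrreducible := Helper74.irrRep_isIrreducible ψ
  have hchar : ρ.character = (ψ : G → ℂ) := Helper74.irrRep_character ψ
  have hgk : ρ g = 1 := by
    apply Helper78.rep_eq_one_of_character_eq ρ g
    rw [hchar]
    exact hg
  have hker : (MonoidHom.ker ρ) = ⊤ := by
    rcases (MonoidHom.normal_ker ρ).eq_bot_or_eq_top with h | h
    · exfalso
      apply hg1
      have : g ∈ MonoidHom.ker ρ := (MonoidHom.mem_ker).2 hgk
      rw [h] at this
      exact Subgroup.mem_bot.1 this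
    · exact h
  have hall : ∀ x : G, ρ x = 1 := by
    intro x
    have : x ∈ MonoidHom.ker ρ := by rw [hker]; exact Subgroup.mem_top x
    exact MonoidHom.mem_ker.1 this
  have hfr : Module.finrank ℂ (Fin (Helper74.irrDim ψ) → ℂ) = 1 :=
    Helper78.finrank_eq_one_of_forall_eq_one ρ hall
  apply hne
  apply Subtype.ext
  funext x
  have hx : (ψ : G → ℂ) x = ρ.character x := by rw [hchar]
  rw [hx]
  unfold Representation.character
  rw [hall x, LinearMap.trace_one, hfr]
  simp [Helper79.principalIrr]

end Cfsg.Agent.Helper66.BT97
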