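import Cfsg.Agent.Helper54.BT.Defs
import Cfsg.Agent.Helper63.BTBS
import Cfsg.Agent.Helper70.BTFC
import Cfsg.Agent.Helper89.BTDP
import Cfsg.Agent.Helper65.BTNO
import Cfsg.Agent.Helper57.BH.Pieces
import Cfsg.Agent.S4731
import Cfsg.Agent.S4503
import Cfsg.Agent.Helper78.BlockBasic

/-!
# (C7) for helper16 (S0997): a block meeting the principal block contains the principal character
-/

set_option autoImplicit false

namespace Cfsg.Agent.Helper66.BT97

open Cfsg Cfsg.Agent.Helper16 Cfsg.Agent.Helper16.DefOne Cfsg.Agent.Helper82.DefOne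
  Cfsg.Agent.Helper77.DefOne Cfsg.Agent.Helper16.Brauer43 Cfsg.Agent.Helper54.BT
open scoped ComplexConjugate

universe u

variable {G : Type u} [Group G] [Fintype G] {p : ℕ} [Fact p.Prime]
  (P : Sylow p G) [Fintype (P : Subgroup G)] (D : L0Data P)

/-- (C7) a block that meets the principal block contains the principal character -/
theorem principal_mem_blockOf (M : Ideal AlgInt) (hM : M.IsPrime) (χ ψ : IrrCharacter G)
    (h1 : ψ ∈ principalBlock M G) (h2 : ψ ∈ blockOf M (χ : G → ℂ)) :
    Helper79.principalIrr G ∈ blockOf M (χ : G → ℂ) := by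
  have h1' : SameBlock M (fun _ : G => (1 : ℂ)) (ψ : G → ℂ) := h1
  have h2' : SameBlock M (χ : G → ℂ) (ψ : G → ℂ) := h2
  have h3 : SameBlock M (χ : G → ℂ) (fun _ : G => (1 : ℂ)) :=
    Helper78.sameBlock_trans hM h2' (Helper78.sameBlock_symm h1')
  exact h3

end Cfsg.Agent.Helper66.BT97
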