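import Cfsg.Agent.Helper54.BT.Defs
import Cfsg.Agent.Helper63.BTBS
import Cfsg.Agent.Helper70.BTFC
import Cfsg.Agent.Helper89.BTDP
import Cfsg.Agent.Helper65.BTNO
import Cfsg.Agent.Helper57.BH.Pieces
import Cfsg.Agent.S4731
import Cfsg.Agent.S4503

/-!
# (C8) for helper16 (S0997): no element of order `p q` when `C_G(P) = P` has order `p`
-/

set_option autoImplicit false

namespace Cfsg.Agent.Helper66.BT97

open Cfsg Cfsg.Agent.Helper16 Cfsg.Agent.Helper16.DefOne Cfsg.Agent.Helper82.DefOne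
  Cfsg.Agent.Helper77.DefOne Cfsg.Agent.Helper16.Brauer43 Cfsg.Agent.Helper54.BT
open scoped ComplexConjugate

universe u

variable {G : Type u} [Group G] [Fintype G] {p : ℕ} [Fact p.Prime]
  (P : Sylow p G) [Fintype (P : Subgroup G)] (D : L0Data P)

/-- the centralizer of any Sylow `p`-subgroup lies in it, when `C_G(P) = P` -/
theorem centralizer_sylow_le (hC : cen P = (P : Subgroup G)) (Q : Sylow p G) :
    Subgroup.centralizer ((Q : Subgroup G) : Set G) ≤ (Q : Subgroup G) := by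
  obtain ⟨x, rfl⟩ := MulAction.exists_smul_eq G P Q
  intro z hz
  have h1 : x⁻¹ * z * x ∈ cen P := by
    rw [Subgroup.mem_centralizer_iff]
    intro h hh
    have hx : x * h * x⁻¹ ∈ ((x • P : Sylow p G) : Subgroup G) := by
      rw [Sylow.coe_subgroup_smul]
      exact ⟨h, hh, by simp [MulAut.smul_def, MulAut.conj_apply]⟩
    have h2 := (Subgroup.mem_centralizer_iff.1 hz) (x * h * x⁻¹) hx
    -- h2 : x * h * x⁻¹ * z = z * (x * h * x⁻¹)
    have h3 : h * (x⁻¹ * z * x) = x⁻¹ * (x * h * x⁻¹ * z) * x := by group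
    have h4 : x⁻¹ * z * x * h = x⁻¹ * (z * (x * h * x⁻¹)) * x := by group
    rw [h3, h4, h2]
  rw [hC] at h1
  rw [Sylow.coe_subgroup_smul]
  exact ⟨x⁻¹ * z * x, h1, by simp [MulAut.smul_def, MulAut.conj_apply, mul_assoc]⟩

/-- (C8) no element of order `p q` -/
theorem no_order_mul' (hP : Nat.card P = p) (hC : cen P = (P : Subgroup G)) (q : ℕ)
    (hq : q.Prime) (g : G) : orderOf g ≠ p * q := by
  intro hord
  have hp := (Fact.out : p.Prime)
  have hh : orderOf (g ^ q) = p := by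
    rw [orderOf_pow' g hq.ne_zero, hord, Nat.gcd_mul_left_left]
    exact Nat.mul_div_cancel _ hq.pos
  have hpg : IsPGroup p (Subgroup.zpowers (g ^ q)) := by
    apply IsPGroup.of_card (n := 1)
    rw [Nat.card_zpowers, hh, pow_one]
  obtain ⟨Q, hQ⟩ := hpg.exists_le_sylow
  have hcQ : Nat.card Q = p := by
    rw [Q.card_eq_multiplicity, ← P.card_eq_multiplicity, hP]
  have heq : Subgroup.zpowers (g ^ q) = (Q : Subgroup G) := by
    apply Subgroup.eq_of_le_of_card_ge hQ
    rw [Nat.card_zpowers, hh]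
    exact hcQ.le
  have hgc : g ∈ Subgroup.centralizer ((Q : Subgroup G) : Set G) := by
    rw [← heq, Subgroup.mem_centralizer_iff]
    intro h hh'
    obtain ⟨k, rfl⟩ := Subgroup.mem_zpowers_iff.1 hh'
    exact ((Commute.pow_self g q).zpow_left k).eq
  have hgQ : g ∈ (Q : Subgroup G) := centralizer_sylow_le P hC Q hgc
  have hdvd : orderOf g ∣ Nat.card (Q : Subgroup G) := Subgroup.orderOf_dvd_natCard _ hgQ
  rw [hord, hcQ] at hdvd
  have h1 : q ∣ 1 := Nat.dvd_of_mul_dvd_mul_left hp.pos (by rwa [mul_one])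
  exact hq.one_lt.ne' (Nat.dvd_one.1 h1)

end Cfsg.Agent.Helper66.BT97
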