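import Cfsg.Agent.Helper66.BLSetup

/-!
# Consequences of the Brauer–Leonard data
-/

set_option autoImplicit false
set_option linter.unusedSectionVars false
set_option linter.unusedVariables false

namespace Cfsg.Agent.Helper66.BL

open Cfsg
open scoped ComplexConjugate

section

variable {G : Type*} [Group G] [Finite G] {p : ℕ} [Fact p.Prime] {M : Ideal AlgInt}
  {P : Sylow p G} {m : ℕ} {X Y : Set (IrrCharacter G)} {a : IrrCharacter G → ℤ} {d δ : ℤ}
  {ζ : ((P : Subgroup G) →* ℂˣ) → IrrCharacter G}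

theorem BLData.cardY_eq (D : BLData M P m X Y a d δ ζ) (hm0 : 0 < m) :
    Nat.card Y = (Nat.card P - 1) / m :=
  (Nat.div_eq_of_eq_mul_left hm0 D.cardY.symm).symm

theorem BLData.two_le_cardY (D : BLData M P m X Y a d δ ζ) (hm2 : m + 1 < Nat.card P) :
    2 ≤ Nat.card Y := by
  have h := D.cardY
  by_contra hlt
  push_neg at hlt
  have : Nat.card Y * m ≤ 1 * m := Nat.mul_le_mul_right m (by omega)
  omega

theorem BLData.sum_sq_ge (D : BLData M P m X Y a d δ ζ) :
    (Nat.card X : ℤ) ≤ ∑ᶠ χ ∈ X, a χ ^ 2 := by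
  haveI : Finite (IrrCharacter G) := Helper79.irr_finite'
  have hX : X.Finite := Set.toFinite X
  rw [finsum_mem_eq_finite_toFinset_sum _ hX, Nat.card_coe_set_eq, Set.ncard_eq_toFinset_card X hX]
  have : ∀ χ ∈ hX.toFinset, (1 : ℤ) ≤ a χ ^ 2 := by
    intro χ hχ
    rw [Set.Finite.mem_toFinset] at hχ
    have := D.a_ne χ hχ
    have h2 : 0 < a χ ^ 2 := by positivity
    omega
  calc (hX.toFinset.card : ℤ) = ∑ _χ ∈ hX.toFinset, (1 : ℤ) := by simp
    _ ≤ ∑ χ ∈ hX.toFinset, a χ ^ 2 := Finset.sum_le_sum this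

theorem BLData.card_X_le (D : BLData M P m X Y a d δ ζ) (hm2 : m + 1 < Nat.card P) :
    Nat.card X ≤ m := by
  have h1 := D.sum_sq_ge
  have h2 := D.norm
  have h3 := D.two_le_cardY hm2
  have h4 : (1 : ℤ) ≤ (d - δ) ^ 2 + ((Nat.card Y : ℤ) - 1) * d ^ 2 := by
    have hr : (1 : ℤ) ≤ (Nat.card Y : ℤ) - 1 := by
      have : (2 : ℤ) ≤ (Nat.card Y : ℤ) := by exact_mod_cast h3
      linarith
    by_cases hd0 : d = 0
    · rw [hd0]
      rcases D.sign with h | h <;> rw [h] <;> norm_num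
    · have hd2 : 1 ≤ d ^ 2 := by
        have : 0 < d ^ 2 := by positivity
        omega
      nlinarith [sq_nonneg (d - δ)]
  have : (Nat.card X : ℤ) ≤ (m : ℤ) := by linarith
  exact_mod_cast this

end

end Cfsg.Agent.Helper66.BL
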