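import Mathlib
import Cfsg.Agent.Lib.Cores
import Cfsg.Prelude.Def_Local
import Cfsg.Prelude.Def_Blocks

/-!
# Group-theoretic preliminaries for the Brauer–Leonard theorem

Abelian Sylow `p`-subgroup `P` with `C_G(y) ∩ N_G(P) = C_G(P)` for `y ∈ P ∖ {1}`:
`C_G(y)` has a normal `p`-complement (Burnside), fusion in `P` is controlled by `N_G(P)`.
-/

set_option autoImplicit false
set_option linter.unusedSectionVars false
set_option linter.style.haveILetI false

namespace Cfsg.Agent.Helper66.BL

open Cfsg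

/-- Burnside's normal `p`-complement theorem in `O_{p'}`-index form. -/
theorem pPrimeCore_index_of_normalizer_le_centralizer {H : Type*} [Group H] [Finite H] {p : ℕ}
    [Fact p.Prime] (Q : Sylow p H)
    (hQ : Subgroup.normalizer ((Q : Subgroup H) : Set H) ≤
      Subgroup.centralizer ((Q : Subgroup H) : Set H)) :
    ∃ k : ℕ, (pPrimeCore p H).index = p ^ k := by
  have hp : p.Prime := Fact.out
  have hc := MonoidHom.ker_transferSylow_isComplement' Q hQ
  have hKn : (MonoidHom.transferSylow Q hQ).ker.Normal := MonoidHom.normal_ker _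
  have hnd := MonoidHom.not_dvd_card_ker_transferSylow Q hQ
  have hcop : (Nat.card (MonoidHom.transferSylow Q hQ).ker).Coprime p :=
    ((Nat.Prime.coprime_iff_not_dvd hp).mpr hnd).symm
  have hle : (MonoidHom.transferSylow Q hQ).ker ≤ pPrimeCore p H :=
    Cfsg.Agent.Lib.le_pPrimeCore hKn hcop
  have hidx : (MonoidHom.transferSylow Q hQ).ker.index = Nat.card Q := hc.symm.index_eq_card
  obtain ⟨n, hn⟩ := IsPGroup.iff_card.mp Q.2
  have hdvd : (pPrimeCore p H).index ∣ p ^ n := by
    rw [← hn, ← hidx]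
    exact Subgroup.index_dvd_of_le hle
  obtain ⟨j, _, hj⟩ := (Nat.dvd_prime_pow hp).1 hdvd
  exact ⟨j, hj⟩

/-- A `p`-regular element of a group whose `O_{p'}` has `p`-power index lies in `O_{p'}`. -/
theorem mem_pPrimeCore_of_pRegular {H : Type*} [Group H] [Finite H] {p : ℕ} [Fact p.Prime]
    (hidx : ∃ k : ℕ, (Cfsg.pPrimeCore p H).index = p ^ k) (y : H) (hy : ¬ p ∣ orderOf y) :
    y ∈ Cfsg.pPrimeCore p H := by
  have hp : p.Prime := Fact.out
  haveI : (Cfsg.pPrimeCore p H).Characteristic := Cfsg.Agent.Lib.pPrimeCore_characteristic p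
  haveI hKn : (Cfsg.pPrimeCore p H).Normal := Subgroup.normal_of_characteristic _
  obtain ⟨k, hk⟩ := hidx
  rw [← QuotientGroup.eq_one_iff]
  have h1 : (QuotientGroup.mk y : H ⧸ Cfsg.pPrimeCore p H) ^ orderOf y = 1 := by
    rw [← QuotientGroup.mk_pow, pow_orderOf_eq_one, QuotientGroup.mk_one]
  have h2 : (QuotientGroup.mk y : H ⧸ Cfsg.pPrimeCore p H) ^ p ^ k = 1 := by
    have : Nat.card (H ⧸ Cfsg.pPrimeCore p H) = p ^ k := by rw [← hk]; rfl
    rw [← this]
    exact pow_card_eq_one'
  have h3 : orderOf (QuotientGroup.mk y : H ⧸ Cfsg.pPrimeCore p H) ∣ Nat.gcd (orderOf y) (p ^ k) :=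
    Nat.dvd_gcd (orderOf_dvd_of_pow_eq_one h1) (orderOf_dvd_of_pow_eq_one h2)
  have h4 : Nat.gcd (orderOf y) (p ^ k) = 1 := by
    apply Nat.Coprime.pow_right
    exact ((Nat.Prime.coprime_iff_not_dvd hp).2 hy).symm
  rw [h4, Nat.dvd_one, orderOf_eq_one_iff] at h3
  exact h3

section sylow

variable {G : Type*} [Group G] [Finite G] {p : ℕ} [Fact p.Prime] (P : Sylow p G)

/-- An abelian Sylow subgroup lies in the centralizer of each of its elements. -/
theorem le_centralizer_singleton (hab : IsMulCommutative P) {y : G} (hy : y ∈ (P : Subgroup G)) :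
    (P : Subgroup G) ≤ Subgroup.centralizer ({y} : Set G) := by
  intro x hx
  rw [Subgroup.mem_centralizer_iff]
  intro z hz
  rw [Set.mem_singleton_iff] at hz
  subst hz
  have := mul_comm' (⟨z, hy⟩ : P) ⟨x, hx⟩
  exact congrArg Subtype.val this

/-- Under the Frobenius-type hypothesis, `C_G(y)` has a normal `p`-complement. -/
theorem pPrimeCore_centralizer_index (hab : IsMulCommutative P) {y : G}
    (hy : y ∈ (P : Subgroup G))
    (hfrob : Subgroup.centralizer ({y} : Set G) ⊓ Subgroup.normalizer ((P : Subgroup G) : Set G) =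
      Subgroup.centralizer ((P : Subgroup G) : Set G)) :
    ∃ k : ℕ, (pPrimeCore p (Subgroup.centralizer ({y} : Set G))).index = p ^ k := by
  have hPH := le_centralizer_singleton P hab hy
  apply pPrimeCore_index_of_normalizer_le_centralizer (P.subtype hPH)
  intro h hh
  rw [Subgroup.mem_normalizer_iff] at hh
  -- `h` normalizes `P` in `G`
  have hN : (h : G) ∈ Subgroup.normalizer ((P : Subgroup G) : Set G) := by
    rw [Subgroup.mem_normalizer_iff]
    intro g
    constructor
    · intro hg
      have h1 := (hh ⟨g, hPH hg⟩).mp (by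
        show (⟨g, hPH hg⟩ : Subgroup.centralizer ({y} : Set G)) ∈ (P.subtype hPH : Subgroup _)
        rw [Sylow.coe_subtype, Subgroup.mem_subgroupOf]; exact hg)
      have h2 : ((h * ⟨g, hPH hg⟩ * h⁻¹ : Subgroup.centralizer ({y} : Set G)) : G) ∈
          (P : Subgroup G) := by
        have := h1
        rw [Sylow.coe_subtype, Subgroup.mem_subgroupOf] at this
        exact this
      simpa using h2
    · intro hg
      have hgH : g ∈ Subgroup.centralizer ({y} : Set G) := by
        have h1 : (h : G) * g * (h : G)⁻¹ ∈ Subgroup.centralizer ({y} : Set G) := hPH hg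
        have h2 := Subgroup.mul_mem _ (Subgroup.mul_mem _ (Subgroup.inv_mem _ h.2) h1) h.2
        have e : (h : G)⁻¹ * ((h : G) * g * (h : G)⁻¹) * (h : G) = g := by group
        rwa [e] at h2
      have h1 : h * ⟨g, hgH⟩ * h⁻¹ ∈ (P.subtype hPH : Subgroup _) := by
        rw [Sylow.coe_subtype, Subgroup.mem_subgroupOf]
        simpa using hg
      have h2 := (hh ⟨g, hgH⟩).mpr h1
      rw [Sylow.coe_subtype, Subgroup.mem_subgroupOf] at h2
      exact h2
  have hC : (h : G) ∈ Subgroup.centralizer ((P : Subgroup G) : Set G) := by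
    rw [← hfrob]
    exact ⟨h.2, hN⟩
  rw [Subgroup.mem_centralizer_iff]
  intro x hx
  have hx' : (x : G) ∈ (P : Subgroup G) := by
    have : x ∈ (P.subtype hPH : Subgroup _) := hx
    rw [Sylow.coe_subtype, Subgroup.mem_subgroupOf] at this
    exact this
  rw [Subgroup.mem_centralizer_iff] at hC
  exact Subtype.ext (hC (x : G) hx')

/-- Elements whose `p`-part is `y ∈ P ∖ {1}` lie in `y · O_{p'}(C_G(y))`. -/
theorem exists_mem_centralizerPPrimeCore (hab : IsMulCommutative P) {y : G}
    (hy : y ∈ (P : Subgroup G))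
    (hfrob : Subgroup.centralizer ({y} : Set G) ⊓ Subgroup.normalizer ((P : Subgroup G) : Set G) =
      Subgroup.centralizer ((P : Subgroup G) : Set G))
    {z : G} (hz : IsPPart p z y) :
    ∃ v ∈ centralizerPPrimeCore p y, y * v = z := by
  obtain ⟨v, hv, hcomm, -, hreg⟩ := hz
  refine ⟨v, ?_, hv⟩
  have hvH : v ∈ Subgroup.centralizer ({y} : Set G) := by
    rw [Subgroup.mem_centralizer_iff]
    intro x hx
    rw [Set.mem_singleton_iff] at hx
    subst hx
    exact hcomm.eq
  have hidx := pPrimeCore_centralizer_index P hab hy hfrob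
  have hreg' : ¬ p ∣ orderOf (⟨v, hvH⟩ : Subgroup.centralizer ({y} : Set G)) := by
    rw [← Subgroup.orderOf_coe]
    exact hreg
  have := mem_pPrimeCore_of_pRegular hidx ⟨v, hvH⟩ hreg'
  unfold centralizerPPrimeCore
  exact Subgroup.mem_map.mpr ⟨⟨v, hvH⟩, this, rfl⟩

/-- Burnside's fusion lemma for an abelian Sylow subgroup. -/
theorem exists_normalizer_conj (hab : IsMulCommutative P) {y y' : G}
    (hy : y ∈ (P : Subgroup G)) (hy' : y' ∈ (P : Subgroup G)) (hc : IsConj y y') :
    ∃ n ∈ Subgroup.normalizer ((P : Subgroup G) : Set G), n * y * n⁻¹ = y' := by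
  obtain ⟨c, hc⟩ := isConj_iff.mp hc
  have h1 : c⁻¹⁻¹ * y * c⁻¹ ∈ (P : Subgroup G) := by rw [inv_inv, hc]; exact hy'
  obtain ⟨n, hn, hn'⟩ := P.conj_eq_normalizer_conj_of_mem y c⁻¹ hy h1
  refine ⟨n⁻¹, Subgroup.inv_mem _ hn, ?_⟩
  rw [inv_inv, ← hn', inv_inv, hc]

/-- The `p`-part of `|C_G(y)|` is `|P|` for `y` in the abelian Sylow subgroup `P`. -/
theorem pow_factorization_card_centralizer (hab : IsMulCommutative P) {y : G}
    (hy : y ∈ (P : Subgroup G)) :
    p ^ (Nat.card (Subgroup.centralizer ({y} : Set G))).factorization p = Nat.card P := by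
  have hp : p.Prime := Fact.out
  have hPH := le_centralizer_singleton P hab hy
  have h1 : Nat.card P = p ^ (Nat.card G).factorization p := P.card_eq_multiplicity
  have h2 : Nat.card P ∣ Nat.card (Subgroup.centralizer ({y} : Set G)) :=
    Subgroup.card_dvd_of_le hPH
  have h3 : Nat.card (Subgroup.centralizer ({y} : Set G)) ∣ Nat.card G :=
    Subgroup.card_subgroup_dvd_card _
  have hpos : Nat.card (Subgroup.centralizer ({y} : Set G)) ≠ 0 := Nat.card_pos.ne'
  have hposG : Nat.card G ≠ 0 := Nat.card_pos.ne'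
  have h4 : (Nat.card G).factorization p ≤
      (Nat.card (Subgroup.centralizer ({y} : Set G))).factorization p := by
    rw [h1] at h2
    exact (hp.pow_dvd_iff_le_factorization hpos).mp h2
  have h5 : (Nat.card (Subgroup.centralizer ({y} : Set G))).factorization p ≤
      (Nat.card G).factorization p :=
    (Nat.factorization_le_iff_dvd hpos hposG).mpr h3 p
  rw [h1, le_antisymm h5 h4]

end sylow

end Cfsg.Agent.Helper66.BL
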