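import Cfsg.Agent.Helper18.E8Odd.Defs
import Cfsg.Agent.Helper89.G2InvR1
import Cfsg.Agent.Helper72.G2InvR2
import Cfsg.Agent.Helper72.G2InvFF1
import Cfsg.Agent.Helper89.G2InvFF2
import Cfsg.Agent.S1025

/-!
S4281 (helper18's E8INV-1 farm), piece (NS) (helper66): the sum of two negated adjacent fundamental roots is negated.
-/

set_option autoImplicit false
set_option maxRecDepth 100000

namespace Cfsg.Agent.Helper66.E8Inv

open Cfsg Cfsg.Lie Cfsg.Agent.Helper18 Cfsg.Agent.Helper18.E8Odd Cfsg.Agent.Helper36.E8Odd Cfsg.Agent.Helper40.SL2Hom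

/-- (NS) the sum of two negated adjacent fundamental roots is negated (`aW [i] (sr j)` is the root `α_i + α_j`). -/
theorem neg_sum (s : List ℕ) (hs : ∀ i ∈ s, i < 8) (i j : ℕ) (hadj : Adj i j) (h1 : aW s (sr i) = 239 - sr i)
    (h2 : aW s (sr j) = 239 - sr j) : aW s (aW [i] (sr j)) = 239 - aW [i] (sr j) := by
  obtain ⟨hi, hj, hc⟩ := hadj
  obtain ⟨hsi, -, hcfi⟩ := cf_simple ⟨i, hi⟩
  obtain ⟨hsj, -, hcfj⟩ := cf_simple ⟨j, hj⟩
  have hsi' : sr i < 240 := hsi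
  have hsj' : sr j < 240 := hsj
  have hcfi' : cf (sr i) = e ⟨i, hi⟩ := hcfi
  have hcfj' : cf (sr j) = e ⟨j, hj⟩ := hcfj
  have hwi : ∀ k ∈ [i], k < 8 := by
    intro k hk
    rw [List.mem_singleton] at hk
    omega
  have hy : aW [i] (sr j) < 240 := (cf_aW [i] hwi (sr j) hsj').1
  have hcy0 : cf (aW [i] (sr j)) = Lw [i] (cf (sr j)) := (cf_aW [i] hwi (sr j) hsj').2
  -- the root `α_i + α_j`
  have hB : B (e ⟨i, hi⟩) (e ⟨j, hj⟩) = -1 := by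
    rw [← hcfj', ← cartan_eq_B ⟨i, hi⟩ (sr j) hsj']
    exact hc
  have hcy : cf (aW [i] (sr j)) = e ⟨j, hj⟩ + e ⟨i, hi⟩ := by
    rw [hcy0, hcfj', Lw_cons, Lw_nil]
    unfold reflN
    rw [dif_pos hi, reflL_apply, hB, neg_one_smul, sub_neg_eq_add]
  have h3 : aW s (aW [i] (sr j)) < 240 := (cf_aW s hs (aW [i] (sr j)) hy).1
  have hc3 : cf (aW s (aW [i] (sr j))) = Lw s (cf (aW [i] (sr j))) := (cf_aW s hs (aW [i] (sr j)) hy).2
  have hc4 : cf (aW s (sr i)) = Lw s (cf (sr i)) := (cf_aW s hs (sr i) hsi').2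
  have hc5 : cf (aW s (sr j)) = Lw s (cf (sr j)) := (cf_aW s hs (sr j) hsj').2
  have e4 : Lw s (e ⟨i, hi⟩) = - e ⟨i, hi⟩ := by
    rw [← hcfi', ← hc4, h1, cf_neg _ hsi']
  have e5 : Lw s (e ⟨j, hj⟩) = - e ⟨j, hj⟩ := by
    rw [← hcfj', ← hc5, h2, cf_neg _ hsj']
  have hlt : 239 - aW [i] (sr j) < 240 := by omega
  apply cf_inj _ h3 _ hlt
  rw [hc3, hcy, map_add, e4, e5, cf_neg _ hy, hcy, neg_add]

end Cfsg.Agent.Helper66.E8Inv
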