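import Cfsg.Agent.Helper19.E8C.Facts

/-!
# S5751 piece (LOW) for helper19 (#13279): `UL_le_lower`, `PJ_le_lower`
-/

set_option autoImplicit false
set_option maxRecDepth 100000

namespace Cfsg.Agent.Helper66.E8C

open Cfsg Cfsg.Lie Cfsg.Agent.Helper18 Cfsg.Agent.Helper19.Poinc Cfsg.Agent.Helper19.E8C

variable {F : Type*} [Field F]

/-- a root element of level `≥ m ≥ 0` is block lower triangular for the level grading -/
theorem LOW_xGL_supp_zero (r : ℕ) (hr : r < chevE8.nroots) (h0 : 0 ≤ lev r) (t : F) :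
    Supp bL 0 ((xGL chevE8 F r t : GL chevE8.Idx F) : Matrix chevE8.Idx chevE8.Idx F) := by
  have htri := triOK_of_mem chevE8 hE8
  rw [xGL_val chevE8 _ htri]
  unfold ChevalleyDatum.x
  rw [dif_pos hr]
  intro i j hij
  rw [bL_lt_iff] at hij
  rw [Nat.cast_zero, add_zero] at hij
  apply xMat_eq_zero_of chevE8 lev ⟨r, hr⟩ (lev_additive r hr) t i j
  · rintro rfl
    exact lt_irrefl _ hij
  · intro k hk e
    have h1 : (1 : ℤ) ≤ (k : ℤ) := by exact_mod_cast hk
    have : 0 ≤ (k : ℤ) * lev r := mul_nonneg (by linarith) h0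
    simp only at e
    linarith

theorem LOW_xGL_mem_lower (m : ℕ) (hm : 1 ≤ m) (r : ℕ) (hr : r < chevE8.nroots)
    (hlev : (m : ℤ) ≤ lev r) (t : F) : xGL chevE8 F r t ∈ lowerGL bL F m := by
  have htri := triOK_of_mem chevE8 hE8
  have hm' : (1 : ℤ) ≤ (m : ℤ) := by exact_mod_cast hm
  rw [mem_lowerGL]
  refine ⟨LOW_xGL_supp_zero r hr (by linarith) t, ?_⟩
  rw [xGL_val chevE8 _ htri]
  unfold ChevalleyDatum.x
  rw [dif_pos hr]
  intro i j hij
  rw [bL_lt_iff] at hij
  rw [Matrix.sub_apply]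
  by_cases e : i = j
  · subst e
    rw [xMat_diag_eq_one chevE8 lev ⟨r, hr⟩ (lev_additive r hr) (by simp only; linarith) t i,
      Matrix.one_apply_eq, sub_self]
  · rw [Matrix.one_apply_ne e, sub_zero]
    apply xMat_eq_zero_of chevE8 lev ⟨r, hr⟩ (lev_additive r hr) t i j e
    intro k hk e'
    have h1 : (1 : ℤ) ≤ (k : ℤ) := by exact_mod_cast hk
    have h2 : lev r ≤ (k : ℤ) * lev r := le_mul_of_one_le_left (by linarith) h1
    simp only at e'
    linarith

/-- (LOW) -/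
theorem UL_le_lower (m : ℕ) (hm : 1 ≤ m) : UL F m ≤ lowerGL bL F m := by
  unfold UL
  rw [Subgroup.closure_le]
  rintro g ⟨r, t, hr, hlev, rfl⟩
  exact LOW_xGL_mem_lower m hm r hr hlev t

theorem PJ_le_lower : PJ F ≤ lowerGL bL F 0 := by
  rw [PJ_eq]
  apply sup_le
  · intro g hg
    rw [mem_lowerGL_zero]
    intro i j hij
    apply offdiag_of_mem_diagonalSubgroup chevE8 hE8 g hg i j
    rintro rfl
    omega
  · rw [Subgroup.closure_le]
    rintro g ⟨r, t, hr, hlev, rfl⟩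
    rw [SetLike.mem_coe, mem_lowerGL_zero]
    exact LOW_xGL_supp_zero r hr hlev t

end Cfsg.Agent.Helper66.E8C
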