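import Cfsg.Agent.Helper2.SC3R.Defs

/-!
# S3331 BLOCK R (helper2's farm #15653), leaf (ORD6) (helper66)

If `⟨x⟩` is normal (`x` self-centralizing of order 3) then `|G| ∈ {3, 6}`.
Also a local copy of the (NX) fact.
-/

set_option autoImplicit false

namespace Cfsg.Agent.Helper66.SC3R

open Cfsg.Agent.Helper62.SC3 Cfsg.Agent.Helper2.SC3R

universe u v

variable {G : Type u} [Group G]

theorem mul_eq_of_conj {g a b : G} (h : g * a * g⁻¹ = b) : g * a = b * g := by
  rw [← h]; group

theorem conj_inv_of_conj {g a b : G} (h : g * a * g⁻¹ = b) : g * a⁻¹ * g⁻¹ = b⁻¹ := by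
  rw [← h]; group

/-- the elements of `⟨x⟩` for `x` of order 3 -/
theorem mem_zpowers_three {x y : G} (h3 : orderOf x = 3) (hy : y ∈ Subgroup.zpowers x) :
    y = 1 ∨ y = x ∨ y = x⁻¹ := by
  obtain ⟨k, hk⟩ := Subgroup.mem_zpowers_iff.mp hy
  have hx3 : x ^ 3 = 1 := by rw [← h3]; exact pow_orderOf_eq_one x
  have hx2 : x ^ (2 : ℤ) = x⁻¹ := by
    apply eq_inv_of_mul_eq_one_left
    have : x ^ (2 : ℤ) * x = x ^ 3 := by
      rw [zpow_ofNat]; exact (pow_succ x 2).symm
    rw [this, hx3]
  rw [← hk, ← zpow_mod_orderOf, h3]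
  have hk : k % ((3 : ℕ) : ℤ) = 0 ∨ k % ((3 : ℕ) : ℤ) = 1 ∨ k % ((3 : ℕ) : ℤ) = 2 := by omega
  rcases hk with hk | hk | hk <;> rw [hk]
  · left; exact zpow_zero x
  · right; left; exact zpow_one x
  · right; right; exact hx2

/-- the elements of `⟨t⟩` for `t` of order 2 -/
theorem mem_zpowers_two {t y : G} (h2 : orderOf t = 2) (hy : y ∈ Subgroup.zpowers t) :
    y = 1 ∨ y = t := by
  obtain ⟨k, hk⟩ := Subgroup.mem_zpowers_iff.mp hy
  rw [← hk, ← zpow_mod_orderOf, h2]
  have hk : k % ((2 : ℕ) : ℤ) = 0 ∨ k % ((2 : ℕ) : ℤ) = 1 := by omega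
  rcases hk with hk | hk <;> rw [hk]
  · left; exact zpow_zero t
  · right; exact zpow_one t

theorem mem_zpowers_of_commute {x g : G} (hx : SC G x) (h : g * x = x * g) :
    g ∈ Subgroup.zpowers x := by
  rw [← hx.2, Subgroup.mem_centralizer_iff]
  intro y hy
  rw [Set.mem_singleton_iff] at hy
  rw [hy, h]

/-- local copy of (NX) -/
theorem conj_mem_cases' {x g : G} (hx : SC G x) (hg : g * x * g⁻¹ ∈ Subgroup.zpowers x) :
    g ∈ Subgroup.zpowers x ∨ (g * x * g⁻¹ = x⁻¹ ∧ orderOf g = 2) := by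
  have hx1 : x ≠ 1 := fun h => by
    have := hx.1
    rw [h, orderOf_one] at this
    norm_num at this
  by_cases hgx : g ∈ Subgroup.zpowers x
  · exact Or.inl hgx
  right
  rcases mem_zpowers_three hx.1 hg with h | h | h
  · exact absurd (conj_eq_one_iff.mp h) hx1
  · exact absurd (mem_zpowers_of_commute hx (mul_eq_of_conj h)) hgx
  · refine ⟨h, ?_⟩
    have hg1 : g ≠ 1 := fun h1 => hgx (h1 ▸ Subgroup.one_mem _)
    have e1 : g * x = x⁻¹ * g := mul_eq_of_conj h
    have e2 : g * x⁻¹ = x * g := by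
      have := mul_eq_of_conj (conj_inv_of_conj h)
      rwa [inv_inv] at this
    have hgg : (g * g) * x = x * (g * g) := by
      calc g * g * x = g * (g * x) := by group
        _ = g * (x⁻¹ * g) := by rw [e1]
        _ = (g * x⁻¹) * g := by group
        _ = x * g * g := by rw [e2]
        _ = x * (g * g) := by group
    have hsq := mem_zpowers_of_commute hx hgg
    have hcomm : ∀ y : G, g * g = y → (y = x ∨ y = x⁻¹) → False := by
      intro y hy hyx
      apply hgx
      apply mem_zpowers_of_commute hx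
      rcases hyx with rfl | rfl
      · rw [← hy]; group
      · have : g * x⁻¹ = x⁻¹ * g := by rw [← hy]; group
        calc g * x = x * (x⁻¹ * g) * x := by group
          _ = x * (g * x⁻¹) * x := by rw [this]
          _ = x * g := by group
    apply orderOf_eq_prime _ hg1
    rw [pow_two]
    rcases mem_zpowers_three hx.1 hsq with h1 | h1 | h1
    · exact h1
    · exact absurd (hcomm _ h1 (Or.inl rfl)) id
    · exact absurd (hcomm _ h1 (Or.inr rfl)) id

/-- (ORD6) `⟨x⟩` normal ⇒ `|G| ∈ {3, 6}`. -/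
theorem card_of_normal [Finite G] {x : G} (hx : SC G x)
    (hn : ∀ g : G, g * x * g⁻¹ ∈ Subgroup.zpowers x) : Nat.card G = 3 ∨ Nat.card G = 6 := by
  have hc : Nat.card (Subgroup.zpowers x) = 3 := by rw [Nat.card_zpowers, hx.1]
  have hmul := Subgroup.card_mul_index (Subgroup.zpowers x)
  by_cases htop : Subgroup.zpowers x = ⊤
  · left
    rw [htop, Subgroup.index_top, mul_one] at hmul
    rw [← hmul, ← hc, htop]
  · right
    obtain ⟨t, -, ht⟩ := (SetLike.exists_of_lt (lt_top_iff_ne_top.mpr htop))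
    have hinv : ∀ g : G, g ∉ Subgroup.zpowers x → g * x * g⁻¹ = x⁻¹ := fun g hg =>
      ((conj_mem_cases' hx (hn g)).resolve_left hg).1
    have key : ∀ g h : G, g ∉ Subgroup.zpowers x → h ∉ Subgroup.zpowers x →
        h * g ∈ Subgroup.zpowers x := by
      intro g h hg hh
      apply mem_zpowers_of_commute hx
      have e1 : g * x = x⁻¹ * g := mul_eq_of_conj (hinv g hg)
      have e2 : h * x⁻¹ = x * h := by
        have := mul_eq_of_conj (conj_inv_of_conj (hinv h hh))
        rwa [inv_inv] at this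
      calc h * g * x = h * (g * x) := by group
        _ = h * (x⁻¹ * g) := by rw [e1]
        _ = (h * x⁻¹) * g := by group
        _ = x * h * g := by rw [e2]
        _ = x * (h * g) := by group
    have hidx : (Subgroup.zpowers x).index = 2 := by
      rw [Subgroup.index_eq_two_iff]
      refine ⟨t, fun b => ?_⟩
      by_cases hb : b ∈ Subgroup.zpowers x
      · refine Or.inr ⟨hb, fun hbt => ht ?_⟩
        have := (Subgroup.zpowers x).mul_mem ((Subgroup.zpowers x).inv_mem hb) hbt
        rwa [inv_mul_cancel_left] at this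
      · exact Or.inl ⟨key t b ht hb, hb⟩
    rw [hc, hidx] at hmul
    omega

end Cfsg.Agent.Helper66.SC3R
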