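import Cfsg.Agent.Helper2.SC3R.Defs
import Cfsg.Agent.Helper66.SC3R_ORD6

/-!
# S3331 BLOCK R (helper2's farm #15653), leaf (S3) (helper66)

A group of order 6 with a self-centralizing element of order 3 is `≃* S₃`
(faithful action on the three cosets of an involution).
-/

set_option autoImplicit false

namespace Cfsg.Agent.Helper66.SC3R

open Cfsg.Agent.Helper62.SC3 Cfsg.Agent.Helper2.SC3R

universe u v

variable {G : Type u} [Group G]

/-- (S3) order 6 ⇒ `≃* S₃`. -/
theorem equiv_perm_of_card_six [Finite G] {x : G} (hx : SC G x) (h6 : Nat.card G = 6) :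
    Nonempty (G ≃* Equiv.Perm (Fin 3)) := by
  have hc : Nat.card (Subgroup.zpowers x) = 3 := by rw [Nat.card_zpowers, hx.1]
  have hmul := Subgroup.card_mul_index (Subgroup.zpowers x)
  have hidx : (Subgroup.zpowers x).index = 2 := by
    rw [hc, h6] at hmul; omega
  have : (Subgroup.zpowers x).Normal := Subgroup.normal_of_index_eq_two hidx
  have hn : ∀ g : G, g * x * g⁻¹ ∈ Subgroup.zpowers x := fun g =>
    Subgroup.Normal.conj_mem inferInstance x (Subgroup.mem_zpowers x) g
  have htop : Subgroup.zpowers x ≠ ⊤ := fun h => by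
    rw [h, Subgroup.index_top] at hidx; norm_num at hidx
  obtain ⟨t, -, ht⟩ := (SetLike.exists_of_lt (lt_top_iff_ne_top.mpr htop))
  obtain ⟨htx, ht2⟩ := (conj_mem_cases' hx (hn t)).resolve_left ht
  have ht1 : t ≠ 1 := fun h1 => ht (h1 ▸ Subgroup.one_mem _)
  -- the action on the cosets of `⟨t⟩`
  set K := Subgroup.zpowers t with hK
  have hcK : Nat.card K = 2 := by rw [hK, Nat.card_zpowers, ht2]
  have hmulK := Subgroup.card_mul_index K
  have hidxK : K.index = 3 := by
    rw [hcK, h6] at hmulK; omega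
  have hcore : K.normalCore = ⊥ := by
    rw [eq_bot_iff]
    intro g hg
    rw [Subgroup.mem_bot]
    by_contra hg1
    have hgK : g ∈ K := Subgroup.normalCore_le K hg
    have hgt : g = t := (mem_zpowers_two ht2 hgK).resolve_left hg1
    rw [hgt] at hg
    have h1 : x * t * x⁻¹ ∈ K :=
      Subgroup.normalCore_le K ((Subgroup.normalCore_normal K).conj_mem t hg x)
    rcases mem_zpowers_two ht2 h1 with h2 | h2
    · exact ht1 (conj_eq_one_iff.mp h2)
    · apply ht
      apply mem_zpowers_of_commute hx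
      exact (mul_eq_of_conj h2).symm
  have hinj : Function.Injective (MulAction.toPermHom G (G ⧸ K)) := by
    rw [← MonoidHom.ker_eq_bot_iff, ← Subgroup.normalCore_eq_ker, hcore]
  have hcq : Nat.card (G ⧸ K) = 3 := hidxK
  have hcp : Nat.card (Equiv.Perm (G ⧸ K)) = 6 := by
    rw [Nat.card_perm, hcq]; rfl
  have hbij : Function.Bijective (MulAction.toPermHom G (G ⧸ K)) :=
    hinj.bijective_of_nat_card_le (by rw [hcp, h6])
  exact ⟨(MulEquiv.ofBijective _ hbij).trans (Finite.equivFinOfCardEq hcq).permCongrHom⟩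

end Cfsg.Agent.Helper66.SC3R
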