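import Mathlib
import Cfsg.Agent.Helper46.RSp.Defs

/-!
# S2281 (n ≥ 3) piece (STEP) for helper46: the chain step in the Heisenberg group `Q_w`
-/

set_option autoImplicit false
set_option linter.unusedSectionVars false
set_option linter.unusedVariables false

namespace Cfsg.Agent.Helper66.RSp

open Matrix Cfsg.Agent.Helper13 Cfsg.Agent.Helper46.RSp

variable {K : Type*} [Field K] {j : ℕ}

local notation "Vec" => (Fin (j + 3) ⊕ Fin (j + 3) → K)
local notation "Mat" => Matrix (Fin (j + 3) ⊕ Fin (j + 3)) (Fin (j + 3) ⊕ Fin (j + 3)) K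
local notation "Mk" => Matrix (Fin (j + 3)) (Fin (j + 3)) K
local notation "SpG" => Matrix.symplecticGroup (Fin (j + 3)) K
local notation "B" => Cfsg.sympForm (j + 3) K

theorem hasM_step {H : Subgroup SpG} {M : Mat} (hM : HasM H M) {w y : Vec} {z : K} (hMw : M *ᵥ w = w)
    (hyw : B y w = 0) (hE : HasM H (eichS w y z)) :
    HasM H (eichS w (M *ᵥ y - y) (-(B y (M *ᵥ y)))) := by
  have hMS : M ∈ SpG := hM.mem
  have hpres := (mem_symplecticGroup_iff_preserves M).mp hMS
  have hMyw : B (M *ᵥ y) w = 0 := by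
    have := hpres y w
    rw [hMw] at this
    rw [this, hyw]
  have hnyw : B (-y) w = 0 := by rw [sympForm_neg_left, hyw, neg_zero]
  have h1 : HasM H (eichS w (M *ᵥ y) z) := by
    have := hasM_conj_eichS hM hE
    rwa [hMw] at this
  have h2 : HasM H (eichS w (-y) (-z)) := HasM.eichS_inv hyw hE
  refine (h1.mul h2).of_eq ?_
  rw [eichS_mul z (-z) hMyw hnyw, sympForm_neg_left]
  congr 1
  · rw [sub_eq_add_neg]
  · ring

end Cfsg.Agent.Helper66.RSp
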