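import Cfsg.Agent.Helper6.SPweil1

/-!
# Weil representation (helper6 #8107, S2347): piece (W6c) `finrank_oddPart`, `finrank_evenPart`
-/

set_option autoImplicit false

namespace Cfsg.Agent.Helper66.SPweil

open Matrix Module
open Cfsg.Agent.Helper6.SPweil

variable {F : Type*} [Field F] [Fintype F] {n : ℕ}

theorem two_ne_zero_of_odd_card' (hodd : Odd (Fintype.card F)) : (2 : F) ≠ 0 := by
  intro h2
  have hchar : ringChar F = 2 := CharP.ringChar_of_prime_eq_zero Nat.prime_two h2
  have := FiniteField.even_card_of_char_two hchar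
  rcases hodd with ⟨k, hk⟩
  omega

/-- the trace of the parity operator is the number of fixed points of `z ↦ -z`, i.e. `1`. -/
theorem trace_par (h2 : (2 : F) ≠ 0) :
    LinearMap.trace ℂ ((Fin n → F) → ℂ) (par (F := F) (n := n)) = 1 := by
  classical
  rw [LinearMap.trace_eq_matrix_trace ℂ (Pi.basisFun ℂ (Fin n → F)), Matrix.trace]
  have hentry : ∀ z : Fin n → F,
      Matrix.diag (LinearMap.toMatrix (Pi.basisFun ℂ (Fin n → F)) (Pi.basisFun ℂ (Fin n → F))
        (par (F := F) (n := n))) z = if z = 0 then 1 else 0 := by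
    intro z
    rw [Matrix.diag_apply, LinearMap.toMatrix_apply, Pi.basisFun_apply, Pi.basisFun_repr, par_apply]
    by_cases hz : z = 0
    · rw [if_pos hz, hz, neg_zero, Pi.single_eq_same]
    · rw [if_neg hz]
      apply Pi.single_eq_of_ne
      intro h
      apply hz
      funext i
      have hi := congrFun h i
      simp only [Pi.neg_apply, Pi.zero_apply] at hi ⊢
      have : (2 : F) * z i = 0 := by
        have : z i + z i = 0 := by nth_rewrite 1 [← hi]; ring
        rw [two_mul]; exact this
      rcases mul_eq_zero.mp this with h' | h'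
      · exact absurd h' h2
      · exact h'
  rw [Finset.sum_congr rfl (fun z _ => hentry z), Finset.sum_ite_eq' Finset.univ (0 : Fin n → F)]
  simp

theorem trace_one_fun :
    LinearMap.trace ℂ ((Fin n → F) → ℂ) 1 = (Fintype.card F ^ n : ℕ) := by
  rw [LinearMap.trace_one, Module.finrank_pi]
  simp

/-- the projection onto the odd functions -/
noncomputable def projOdd : Module.End ℂ ((Fin n → F) → ℂ) :=
  (2⁻¹ : ℂ) • (1 - par (F := F) (n := n))

/-- the projection onto the even functions -/
noncomputable def projEven : Module.End ℂ ((Fin n → F) → ℂ) :=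
  (2⁻¹ : ℂ) • (1 + par (F := F) (n := n))

theorem projOdd_apply (f : (Fin n → F) → ℂ) (z : Fin n → F) :
    projOdd f z = 2⁻¹ * (f z - f (-z)) := rfl

theorem projEven_apply (f : (Fin n → F) → ℂ) (z : Fin n → F) :
    projEven f z = 2⁻¹ * (f z + f (-z)) := rfl

theorem isProj_projOdd : LinearMap.IsProj (oddPart F n) (projOdd (F := F) (n := n)) := by
  refine ⟨fun f => ?_, fun f hf => ?_⟩
  · rw [mem_oddPart]
    intro z
    rw [projOdd_apply, projOdd_apply, neg_neg]
    ring
  · funext z
    rw [projOdd_apply, (mem_oddPart f).mp hf z]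
    ring

theorem isProj_projEven : LinearMap.IsProj (evenPart F n) (projEven (F := F) (n := n)) := by
  refine ⟨fun f => ?_, fun f hf => ?_⟩
  · rw [mem_evenPart]
    intro z
    rw [projEven_apply, projEven_apply, neg_neg]
    ring
  · funext z
    rw [projEven_apply, (mem_evenPart f).mp hf z]
    ring

theorem odd_card_pow (hodd : Odd (Fintype.card F)) : Odd (Fintype.card F ^ n) := hodd.pow

/-- (W6c) -/
theorem finrank_oddPart (hodd : Odd (Fintype.card F)) :
    finrank ℂ (oddPart F n) = (Fintype.card F ^ n - 1) / 2 := by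
  have h2 := two_ne_zero_of_odd_card' hodd
  have htr := (isProj_projOdd (F := F) (n := n)).trace
  have hcalc : LinearMap.trace ℂ ((Fin n → F) → ℂ) (projOdd (F := F) (n := n)) =
      2⁻¹ * (((Fintype.card F ^ n : ℕ) : ℂ) - 1) := by
    unfold projOdd
    rw [map_smul, map_sub, trace_one_fun, trace_par h2, smul_eq_mul]
  rw [hcalc] at htr
  have hN : Odd (Fintype.card F ^ n) := odd_card_pow hodd
  obtain ⟨k, hk⟩ := hN
  have hfin : (finrank ℂ (oddPart F n) : ℂ) = (k : ℂ) := by
    rw [← htr, hk]
    push_cast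
    ring
  have hfin' : finrank ℂ (oddPart F n) = k := by exact_mod_cast hfin
  rw [hfin', hk]
  omega

/-- (W6c') -/
theorem finrank_evenPart (hodd : Odd (Fintype.card F)) :
    finrank ℂ (evenPart F n) = (Fintype.card F ^ n + 1) / 2 := by
  have h2 := two_ne_zero_of_odd_card' hodd
  have htr := (isProj_projEven (F := F) (n := n)).trace
  have hcalc : LinearMap.trace ℂ ((Fin n → F) → ℂ) (projEven (F := F) (n := n)) =
      2⁻¹ * (((Fintype.card F ^ n : ℕ) : ℂ) + 1) := by
    unfold projEven
    rw [map_smul, map_add, trace_one_fun, trace_par h2, smul_eq_mul]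
  rw [hcalc] at htr
  have hN : Odd (Fintype.card F ^ n) := odd_card_pow hodd
  obtain ⟨k, hk⟩ := hN
  have hfin : (finrank ℂ (evenPart F n) : ℂ) = ((k + 1 : ℕ) : ℂ) := by
    rw [← htr, hk]
    push_cast
    ring
  have hfin' : finrank ℂ (evenPart F n) = k + 1 := by exact_mod_cast hfin
  rw [hfin', hk]
  omega

end Cfsg.Agent.Helper66.SPweil
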