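import Cfsg.Agent.Helper6.SPweil1

/-!
# Weil representation (helper6 #8107, S2347): piece (W2) `trace_heis`
-/

set_option autoImplicit false

namespace Cfsg.Agent.Helper66.SPweil

open Matrix Module
open Cfsg.Agent.Helper6.SPweil

variable {F : Type*} [Field F] [Fintype F] {n : ℕ}

/-- a nontrivial additive character of `F`, composed with `z ↦ x ⬝ᵥ z` (`x ≠ 0`), sums to zero. -/
theorem sum_addChar_dotProduct (ψ : AddChar F ℂ) (hψ : ψ ≠ 0) (x : Fin n → F) (hx : x ≠ 0) :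
    ∑ z : Fin n → F, ψ (x ⬝ᵥ z) = 0 := by
  classical
  obtain ⟨a, ha⟩ : ∃ a, ψ a ≠ 1 := by
    by_contra h
    push_neg at h
    apply hψ
    ext a
    rw [h a]
    rfl
  obtain ⟨i, hi⟩ : ∃ i, x i ≠ 0 := by
    by_contra h
    push_neg at h
    exact hx (funext h)
  set z0 : Fin n → F := Pi.single i (a / x i) with hz0
  have hxz0 : x ⬝ᵥ z0 = a := by
    rw [hz0, dotProduct_single, mul_div_cancel₀ _ hi]
  have hshift : ∑ z : Fin n → F, ψ (x ⬝ᵥ z) = ψ a * ∑ z : Fin n → F, ψ (x ⬝ᵥ z) := by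
    rw [Finset.mul_sum, ← Equiv.sum_comp (Equiv.addRight z0)]
    refine Finset.sum_congr rfl (fun z _ => ?_)
    rw [Equiv.coe_addRight, dotProduct_add, hxz0, AddChar.map_add_eq_mul, mul_comm]
  have : (1 - ψ a) * ∑ z : Fin n → F, ψ (x ⬝ᵥ z) = 0 := by
    rw [sub_mul, one_mul, ← hshift, sub_self]
  rcases mul_eq_zero.mp this with h | h
  · exact absurd (sub_eq_zero.mp h).symm ha
  · exact h

/-- (W2) -/
theorem trace_heis (ψ : AddChar F ℂ) (hψ : ψ ≠ 0) (v : Fin n ⊕ Fin n → F) (hv : v ≠ 0) :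
    LinearMap.trace ℂ ((Fin n → F) → ℂ) (heis ψ v) = 0 := by
  classical
  rw [LinearMap.trace_eq_matrix_trace ℂ (Pi.basisFun ℂ (Fin n → F)), Matrix.trace]
  have hentry : ∀ z : Fin n → F,
      Matrix.diag (LinearMap.toMatrix (Pi.basisFun ℂ (Fin n → F)) (Pi.basisFun ℂ (Fin n → F))
        (heis ψ v)) z =
      ψ (vx v ⬝ᵥ z + 2⁻¹ * (vx v ⬝ᵥ vy v)) * (Pi.single z (1 : ℂ) : (Fin n → F) → ℂ) (z + vy v) := by
    intro z
    rw [Matrix.diag_apply, LinearMap.toMatrix_apply, Pi.basisFun_apply, Pi.basisFun_repr, heis_apply]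
  rw [Finset.sum_congr rfl (fun z _ => hentry z)]
  by_cases hy : vy v = 0
  · have hx : vx v ≠ 0 := by
      intro hx
      apply hv
      funext i
      cases i with
      | inl i => exact congrFun hx i
      | inr i => exact congrFun hy i
    rw [← sum_addChar_dotProduct ψ hψ (vx v) hx]
    refine Finset.sum_congr rfl (fun z _ => ?_)
    rw [hy, dotProduct_zero, mul_zero, add_zero, add_zero, Pi.single_eq_same, mul_one]
  · refine Finset.sum_eq_zero (fun z _ => ?_)
    have hne : z + vy v ≠ z := by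
      intro h
      exact hy (add_eq_left.mp h)
    rw [Pi.single_eq_of_ne hne, mul_zero]

end Cfsg.Agent.Helper66.SPweil
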