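import Mathlib
import Cfsg.Agent.Helper43.EB.Defs

/-!
# (L1) for helper43 (S5877): an eigenspace of a non-scalar element of a group of symplectic type has
dimension at most `dim V / r`
-/

set_option autoImplicit false

namespace Cfsg.Agent.Helper66.EBL1

open Cfsg.Agent.Helper43.EB Module

variable {F : Type*} [Field F] {V : Type*} [AddCommGroup V] [Module F V]

/-- the dimension of a finite sum of independent subspaces is the sum of the dimensions -/
theorem sum_finrank_eq_of_iSupIndep [FiniteDimensional F V] {ι : Type*} [DecidableEq ι]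
    (p : ι → Submodule F V) (hp : iSupIndep p) (s : Finset ι) :
    ∑ i ∈ s, finrank F (p i) = finrank F ↥(⨆ i ∈ s, p i) := by
  induction s using Finset.induction_on with
  | empty =>
    have h0 : (⨆ i ∈ (∅ : Finset ι), p i) = ⊥ := by simp
    rw [Finset.sum_empty, h0, finrank_bot]
  | insert a s ha ih =>
    rw [Finset.sum_insert ha, Finset.iSup_insert, ih]
    have hle : (⨆ i ∈ s, p i) ≤ ⨆ j, ⨆ (_ : j ≠ a), p j :=
      iSup₂_le fun i hi => le_iSup₂_of_le i (ne_of_mem_of_not_mem hi ha) le_rfl
    have hdisj : p a ⊓ (⨆ i ∈ s, p i) = ⊥ := ((hp a).mono_right hle).eq_bot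
    have h := Submodule.finrank_sup_add_finrank_inf_eq (p a) (⨆ i ∈ s, p i)
    rw [hdisj, finrank_bot, add_zero] at h
    exact h.symm

theorem unit_injective (u : (Module.End F V)ˣ) : Function.Injective (u : Module.End F V) := by
  intro x y hxy
  have h : ∀ z : V, ((u⁻¹ : (Module.End F V)ˣ) : Module.End F V) ((u : Module.End F V) z) = z := by
    intro z
    have h1 : (((u⁻¹ : (Module.End F V)ˣ) : Module.End F V) * (u : Module.End F V)) z = z := by
      rw [← Units.val_mul, inv_mul_cancel]; rfl
    exact h1
  rw [← h x, ← h y, hxy]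

/-- `A B = λ B A` implies `A B^i = λ^i B^i A` -/
theorem mul_pow_comm {R : Type*} [Ring R] [Algebra F R] {A B : R} {lam : F}
    (h : A * B = lam • (B * A)) (i : ℕ) : A * B ^ i = lam ^ i • (B ^ i * A) := by
  induction i with
  | zero => simp
  | succ i ih =>
    rw [pow_succ, ← mul_assoc, ih, smul_mul_assoc, mul_assoc, h, mul_smul_comm, smul_smul,
      ← mul_assoc, ← pow_succ]

/-- `A B = λ B A` implies `A^i B = λ^i B A^i` -/
theorem pow_mul_comm' {R : Type*} [Ring R] [Algebra F R] {A B : R} {lam : F}
    (h : A * B = lam • (B * A)) (i : ℕ) : A ^ i * B = lam ^ i • (B * A ^ i) := by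
  induction i with
  | zero => simp
  | succ i ih =>
    rw [pow_succ', mul_assoc, ih, mul_smul_comm, ← mul_assoc, h, smul_mul_assoc, smul_smul,
      mul_assoc, ← pow_succ', mul_comm (lam ^ i) lam, ← pow_succ']

/-- the common counting lemma: if `A B = λ B A` with `B` invertible and `λ` a primitive `r`-th root
of unity, every eigenspace of `A` for a non-zero eigenvalue has dimension at most `dim V / r` -/
theorem mul_finrank_eigenspace_le [FiniteDimensional F V] {r : ℕ} {lam : F}
    (hlam : IsPrimitiveRoot lam r) (A : Module.End F V) (B : (Module.End F V)ˣ)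
    (hAB : A * (B : Module.End F V) = lam • ((B : Module.End F V) * A)) (μ : F) (hμ : μ ≠ 0) :
    r * finrank F (Module.End.eigenspace A μ) ≤ finrank F V := by
  classical
  have hinj : Set.InjOn (fun i : ℕ => lam ^ i * μ) (Finset.range r : Set ℕ) := by
    intro i hi j hj hij
    have h1 : lam ^ i = lam ^ j := mul_right_cancel₀ hμ hij
    exact hlam.pow_inj (Finset.mem_range.1 hi) (Finset.mem_range.1 hj) h1
  have hle : ∀ i : ℕ, finrank F (Module.End.eigenspace A μ) ≤
      finrank F (Module.End.eigenspace A (lam ^ i * μ)) := by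
    intro i
    have hBi : Function.Injective ((B ^ i : (Module.End F V)ˣ) : Module.End F V) :=
      unit_injective (B ^ i)
    have hmap : (Module.End.eigenspace A μ).map ((B ^ i : (Module.End F V)ˣ) : Module.End F V) ≤
        Module.End.eigenspace A (lam ^ i * μ) := by
      rintro _ ⟨v, hv, rfl⟩
      rw [SetLike.mem_coe, Module.End.mem_eigenspace_iff] at hv
      rw [Module.End.mem_eigenspace_iff, Units.val_pow_eq_pow_val]
      have h2 := LinearMap.congr_fun (mul_pow_comm hAB i) v
      rw [Module.End.mul_apply, LinearMap.smul_apply, Module.End.mul_apply, hv, map_smul,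
        smul_smul] at h2
      exact h2
    calc finrank F (Module.End.eigenspace A μ)
        = finrank F ((Module.End.eigenspace A μ).map
            ((B ^ i : (Module.End F V)ˣ) : Module.End F V)) :=
          LinearEquiv.finrank_eq (Submodule.equivMapOfInjective _ hBi _)
      _ ≤ _ := Submodule.finrank_mono hmap
  have hsum : ∑ i ∈ Finset.range r, finrank F (Module.End.eigenspace A (lam ^ i * μ)) ≤
      finrank F V := by
    have h1 := Finset.sum_image (s := Finset.range r) (g := fun i : ℕ => lam ^ i * μ)
      (f := fun x : F => finrank F (Module.End.eigenspace A x)) hinj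
    rw [← h1, sum_finrank_eq_of_iSupIndep _ (Module.End.eigenspaces_iSupIndep A)]
    exact Submodule.finrank_le _
  calc r * finrank F (Module.End.eigenspace A μ)
      = ∑ _i ∈ Finset.range r, finrank F (Module.End.eigenspace A μ) := by simp
    _ ≤ ∑ i ∈ Finset.range r, finrank F (Module.End.eigenspace A (lam ^ i * μ)) :=
        Finset.sum_le_sum (fun i _ => hle i)
    _ ≤ finrank F V := hsum

theorem eigenspace_zero_unit (u : (Module.End F V)ˣ) :
    Module.End.eigenspace (u : Module.End F V) 0 = ⊥ := by
  rw [Module.End.eigenspace_zero]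
  exact LinearMap.ker_eq_bot.2 (unit_injective u)

/-- (L1) an eigenspace of a non-scalar element of `Γ` has dimension at most `dim V / r` -/
theorem eig_le_of_nonscalar [FiniteDimensional F V] {r : ℕ} (hr : r.Prime) {ω : F}
    (hω : IsPrimitiveRoot ω r) {Γ : Subgroup (Module.End F V)ˣ} (hΓ : SympType r ω Γ)
    {a : (Module.End F V)ˣ} (ha : a ∈ Γ) (hns : ¬ IsScalar (a : Module.End F V)) (μ : F) :
    r * finrank F (Module.End.eigenspace (a : Module.End F V) μ) ≤ finrank F V := by
  by_cases hμ : μ = 0
  · subst hμ
    rw [eigenspace_zero_unit, finrank_bot, mul_zero]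
    exact Nat.zero_le _
  · have hex : ∃ b ∈ Γ, (a : Module.End F V) * (b : Module.End F V) ≠
        (b : Module.End F V) * (a : Module.End F V) := by
      by_contra hcon
      push_neg at hcon
      exact hns (hΓ.schur a (fun b hb => hcon b hb))
    obtain ⟨b, hb, hab⟩ := hex
    obtain ⟨k, hk⟩ := hΓ.comm a ha b hb
    have hne1 : ω ^ k ≠ 1 := by
      intro h
      rw [h, one_smul] at hk
      exact hab hk
    have hprim : IsPrimitiveRoot (ω ^ k) r := by
      apply hω.pow_of_coprime
      rw [Nat.coprime_comm, hr.coprime_iff_not_dvd]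
      intro hdvd
      exact hne1 ((hω.pow_eq_one_iff_dvd k).2 hdvd)
    exact mul_finrank_eigenspace_le (F := F) (V := V) (r := r) (lam := ω ^ k) hprim
      (a : Module.End F V) b hk μ hμ

end Cfsg.Agent.Helper66.EBL1
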