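import Mathlib
import Cfsg.Prelude.Def_KGroupFacts

set_option autoImplicit false

namespace Cfsg.Agent.Helper66

open scoped commutatorElement

universe u v w

section Abstract

variable {H : Type*} {E : Type*} {Q : Type*} [Group H] [Group E] [Group Q]

/-- Commutators are unchanged when the entries are multiplied by central elements. -/
theorem commutatorElement_mul_central (a b z w : E) (hz : z ∈ Subgroup.center E)
    (hw : w ∈ Subgroup.center E) : ⁅a * z, b * w⁆ = ⁅a, b⁆ := by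
  have hz' := Subgroup.mem_center_iff.mp hz
  have hw' := Subgroup.mem_center_iff.mp hw
  rw [commutatorElement_def, commutatorElement_def]
  have e1 : (a * z)⁻¹ = a⁻¹ * z⁻¹ := by
    rw [mul_inv_rev]
    have := hz' a⁻¹
    calc z⁻¹ * a⁻¹ = z⁻¹ * (a⁻¹ * z) * z⁻¹ := by group
      _ = z⁻¹ * (z * a⁻¹) * z⁻¹ := by rw [this]
      _ = a⁻¹ * z⁻¹ := by group
  have e2 : (b * w)⁻¹ = b⁻¹ * w⁻¹ := by
    rw [mul_inv_rev]
    have := hw' b⁻¹
    calc w⁻¹ * b⁻¹ = w⁻¹ * (b⁻¹ * w) * w⁻¹ := by group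
      _ = w⁻¹ * (w * b⁻¹) * w⁻¹ := by rw [this]
      _ = b⁻¹ * w⁻¹ := by group
  rw [e1, e2]
  calc a * z * (b * w) * (a⁻¹ * z⁻¹) * (b⁻¹ * w⁻¹)
      = a * (z * b) * (w * a⁻¹) * (z⁻¹ * b⁻¹) * w⁻¹ := by group
    _ = a * (b * z) * (a⁻¹ * w) * (b⁻¹ * z⁻¹) * w⁻¹ := by
        rw [hz' b, hw' a⁻¹]
        have : z⁻¹ * b⁻¹ = b⁻¹ * z⁻¹ := by
          calc z⁻¹ * b⁻¹ = z⁻¹ * (b⁻¹ * z) * z⁻¹ := by group
            _ = z⁻¹ * (z * b⁻¹) * z⁻¹ := by rw [hz' b⁻¹]
            _ = b⁻¹ * z⁻¹ := by group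
        rw [this]
    _ = a * b * (z * a⁻¹) * (w * b⁻¹) * z⁻¹ * w⁻¹ := by group
    _ = a * b * (a⁻¹ * z) * (b⁻¹ * w) * z⁻¹ * w⁻¹ := by rw [hz' a⁻¹, hw' b⁻¹]
    _ = a * b * a⁻¹ * (z * b⁻¹) * (w * z⁻¹) * w⁻¹ := by group
    _ = a * b * a⁻¹ * (b⁻¹ * z) * (z⁻¹ * w) * w⁻¹ := by
        rw [hz' b⁻¹]
        have : w * z⁻¹ = z⁻¹ * w := (hw' z⁻¹).symm
        rw [this]
    _ = a * b * a⁻¹ * b⁻¹ := by group

/-- If `ψ` covers a surjection `ρ` through a central extension `π`, every element of `E` is the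
product of a value of `ψ` and an element of the kernel. -/
theorem exists_eq_map_mul_ker (ρ : H →* Q) (hρ : Function.Surjective ρ) (π : E →* Q)
    (ψ : H →* E) (hψ : π.comp ψ = ρ) (e : E) : ∃ h : H, ∃ z ∈ π.ker, e = ψ h * z := by
  obtain ⟨h, hh⟩ := hρ (π e)
  refine ⟨h, (ψ h)⁻¹ * e, ?_, by group⟩
  rw [MonoidHom.mem_ker, map_mul, map_inv]
  have : π (ψ h) = ρ h := by rw [← hψ]; rfl
  rw [this, hh]
  group

theorem commutator_le_map_of_central (ρ : H →* Q) (hρ : Function.Surjective ρ) (π : E →* Q)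
    (hπ : π.ker ≤ Subgroup.center E) (ψ : H →* E) (hψ : π.comp ψ = ρ) :
    commutator E ≤ (commutator H).map ψ := by
  rw [commutator_eq_closure E, Subgroup.closure_le]
  rintro _ ⟨e₁, e₂, rfl⟩
  obtain ⟨h₁, z₁, hz₁, rfl⟩ := exists_eq_map_mul_ker ρ hρ π ψ hψ e₁
  obtain ⟨h₂, z₂, hz₂, rfl⟩ := exists_eq_map_mul_ker ρ hρ π ψ hψ e₂
  rw [commutatorElement_mul_central _ _ _ _ (hπ hz₁) (hπ hz₂), ← map_commutatorElement]
  refine ⟨⁅h₁, h₂⁆, ?_, rfl⟩
  rw [SetLike.mem_coe, commutator_eq_closure]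
  exact Subgroup.subset_closure (commutator_mem_commutatorSet h₁ h₂)

/-- The key property of coverings: the intersection of the kernel with the commutator subgroup is
mapped onto the corresponding intersection. -/
theorem map_ker_inf_commutator (ρ : H →* Q) (hρ : Function.Surjective ρ) (π : E →* Q)
    (hπ : π.ker ≤ Subgroup.center E) (ψ : H →* E) (hψ : π.comp ψ = ρ) :
    (ρ.ker ⊓ commutator H).map ψ = π.ker ⊓ commutator E := by
  have hcomp : ∀ h, π (ψ h) = ρ h := fun h => by rw [← hψ]; rfl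
  apply le_antisymm
  · rintro _ ⟨h, ⟨hk, hc⟩, rfl⟩
    refine ⟨?_, ?_⟩
    · show ψ h ∈ π.ker
      rw [MonoidHom.mem_ker, hcomp]; exact hk
    · have : (commutator H).map ψ ≤ commutator E := by
        rw [commutator_def, Subgroup.map_commutator, commutator_def]
        exact Subgroup.commutator_mono le_top le_top
      exact this ⟨h, hc, rfl⟩
  · rintro e ⟨hk, hc⟩
    obtain ⟨h, hh, rfl⟩ := commutator_le_map_of_central ρ hρ π hπ ψ hψ hc
    refine ⟨h, ⟨?_, hh⟩, rfl⟩
    show h ∈ ρ.ker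
    rw [MonoidHom.mem_ker, ← hcomp]; exact hk

/-- For a stem extension `π`, a covering map `ψ` is surjective. -/
theorem surjective_of_stem (ρ : H →* Q) (hρ : Function.Surjective ρ) (π : E →* Q)
    (hπ : π.ker ≤ Subgroup.center E) (hπ' : π.ker ≤ commutator E) (ψ : H →* E)
    (hψ : π.comp ψ = ρ) : Function.Surjective ψ := by
  intro e
  obtain ⟨h, z, hz, rfl⟩ := exists_eq_map_mul_ker ρ hρ π ψ hψ e
  obtain ⟨h', _, rfl⟩ := commutator_le_map_of_central ρ hρ π hπ ψ hψ (hπ' hz)
  exact ⟨h * h', map_mul _ _ _⟩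

end Abstract

section Free

variable {X : Type u} {Q : Type v} [Group Q]

/-- The subgroup `[F, R]` for `R` the kernel of `φ : F →* Q`. -/
def relComm (φ : FreeGroup X →* Q) : Subgroup (FreeGroup X) := ⁅(⊤ : Subgroup (FreeGroup X)), φ.ker⁆

instance relComm_normal (φ : FreeGroup X →* Q) : (relComm φ).Normal := by
  unfold relComm; infer_instance

theorem relComm_le_ker (φ : FreeGroup X →* Q) : relComm φ ≤ φ.ker := Subgroup.commutator_le_right _ _

/-- The group `F / [F, R]`. -/
abbrev CoverH (φ : FreeGroup X →* Q) : Type u := FreeGroup X ⧸ relComm φ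

/-- The induced map `F / [F, R] →* Q`. -/
def rho (φ : FreeGroup X →* Q) : CoverH φ →* Q := QuotientGroup.lift (relComm φ) φ (relComm_le_ker φ)

@[simp] theorem rho_mk (φ : FreeGroup X →* Q) (f : FreeGroup X) : rho φ (f : CoverH φ) = φ f := rfl

theorem rho_surjective (φ : FreeGroup X →* Q) (hφ : Function.Surjective φ) :
    Function.Surjective (rho φ) := by
  intro q
  obtain ⟨f, rfl⟩ := hφ q
  exact ⟨(f : CoverH φ), rfl⟩

theorem ker_rho_le_center (φ : FreeGroup X →* Q) : (rho φ).ker ≤ Subgroup.center (CoverH φ) := by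
  intro h hh
  obtain ⟨r, rfl⟩ := QuotientGroup.mk_surjective h
  rw [MonoidHom.mem_ker, rho_mk] at hh
  rw [Subgroup.mem_center_iff]
  intro g
  obtain ⟨f, rfl⟩ := QuotientGroup.mk_surjective g
  rw [← QuotientGroup.mk_mul, ← QuotientGroup.mk_mul, QuotientGroup.eq]
  have hr' : r⁻¹ ∈ φ.ker := φ.ker.inv_mem hh
  have h1 : ⁅f⁻¹, r⁻¹⁆ ∈ relComm φ := Subgroup.commutator_mem_commutator (Subgroup.mem_top _) hr'
  have h2 : (f * r)⁻¹ * (r * f) = ⁅f⁻¹, r⁻¹⁆⁻¹ := by
    rw [commutatorElement_def]; group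
  rw [h2]
  exact (relComm φ).inv_mem h1

/-- The lifting property: `rho φ` factors through every central extension of `Q`. -/
theorem exists_lift (φ : FreeGroup X →* Q) {E : Type w} [Group E] (π : E →* Q)
    (hπs : Function.Surjective π) (hπc : π.ker ≤ Subgroup.center E) :
    ∃ ψ : CoverH φ →* E, π.comp ψ = rho φ := by
  choose s hs using fun x : X => hπs (φ (FreeGroup.of x))
  let ψ₀ : FreeGroup X →* E := FreeGroup.lift s
  have hcomp : π.comp ψ₀ = φ := by
    ext x
    simp [ψ₀, hs]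
  have hker : relComm φ ≤ ψ₀.ker := by
    unfold relComm
    rw [Subgroup.commutator_le]
    intro f _ r hr
    rw [MonoidHom.mem_ker, map_commutatorElement, commutatorElement_eq_one_iff_mul_comm]
    have : ψ₀ r ∈ π.ker := by
      rw [MonoidHom.mem_ker]
      have : π (ψ₀ r) = φ r := by rw [← hcomp]; rfl
      rw [this]; exact hr
    exact (Subgroup.mem_center_iff.mp (hπc this) (ψ₀ f))
  refine ⟨QuotientGroup.lift (relComm φ) ψ₀ hker, ?_⟩
  refine MonoidHom.ext fun h => ?_
  obtain ⟨f, rfl⟩ := QuotientGroup.mk_surjective h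
  show π (ψ₀ f) = φ f
  rw [← hcomp]; rfl

end Free

section Finiteness

/-- A group whose centre has finite index has finitely many commutators. -/
theorem finite_commutatorSet_of_finiteIndex_center (H : Type*) [Group H]
    [hZ : (Subgroup.center H).FiniteIndex] : Finite (commutatorSet H) := by
  haveI : Finite (H ⧸ Subgroup.center H) := Subgroup.finite_quotient_of_finiteIndex
  let f : (H ⧸ Subgroup.center H) × (H ⧸ Subgroup.center H) → H := fun p => ⁅p.1.out, p.2.out⁆
  have hsub : commutatorSet H ⊆ Set.range f := by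
    rintro _ ⟨g, h, rfl⟩
    refine ⟨((g : H ⧸ Subgroup.center H), (h : H ⧸ Subgroup.center H)), ?_⟩
    obtain ⟨z, hgz⟩ := QuotientGroup.mk_out_eq_mul (Subgroup.center H) g
    obtain ⟨w, hhw⟩ := QuotientGroup.mk_out_eq_mul (Subgroup.center H) h
    show ⁅(g : H ⧸ Subgroup.center H).out, (h : H ⧸ Subgroup.center H).out⁆ = ⁅g, h⁆
    rw [hgz, hhw]
    exact commutatorElement_mul_central g h z w z.2 w.2
  exact Set.Finite.subset (Set.finite_range f) hsub

/-- **Schur's theorem**: a group whose centre has finite index has a finite commutator subgroup. -/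
theorem finite_commutator_of_finiteIndex_center (H : Type*) [Group H]
    [hZ : (Subgroup.center H).FiniteIndex] : Finite (commutator H) := by
  haveI := finite_commutatorSet_of_finiteIndex_center H
  infer_instance

variable {X : Type u} {Q : Type v} [Group Q]

theorem finiteIndex_ker_rho [Finite Q] (φ : FreeGroup X →* Q) (hφ : Function.Surjective φ) :
    (rho φ).ker.FiniteIndex := by
  constructor
  rw [Subgroup.index_ker, MonoidHom.range_eq_top.mpr (rho_surjective φ hφ)]
  rw [Nat.card_congr (Subgroup.topEquiv.toEquiv)]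
  exact Nat.card_pos.ne'

theorem finiteIndex_center_coverH [Finite Q] (φ : FreeGroup X →* Q) (hφ : Function.Surjective φ) :
    (Subgroup.center (CoverH φ)).FiniteIndex := by
  haveI := finiteIndex_ker_rho φ hφ
  exact Subgroup.finiteIndex_of_le (ker_rho_le_center φ)

theorem finite_commutator_coverH [Finite Q] (φ : FreeGroup X →* Q) (hφ : Function.Surjective φ) :
    Finite (commutator (CoverH φ)) := by
  haveI := finiteIndex_center_coverH φ hφ
  exact finite_commutator_of_finiteIndex_center _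

end Finiteness

end Cfsg.Agent.Helper66
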