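import Cfsg.Agent.Helper15.IndChar
import Cfsg.Agent.Helper79.CharComplete

/-!
# Degree counting for constituents of a character
-/

set_option autoImplicit false
set_option linter.unusedSectionVars false
set_option linter.style.haveILetI false

namespace Cfsg.Agent.Helper66.PD2

open Cfsg
open scoped ComplexConjugate

section decomp

variable {G : Type*} [Group G] [Fintype G]

/-- If the irreducible characters in `S` occur in the character `B` with multiplicities `m`,
then the degrees add up to at most `B 1`; in case of equality `B` is the sum. -/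
theorem degree_bound {B : G → ℂ} (hB : IsCharacter G B)
    (S : Finset (IrrCharacter G)) (m : IrrCharacter G → ℕ)
    (hm : ∀ ψ ∈ S, classInner B (ψ : G → ℂ) = m ψ) :
    ∑ ψ ∈ S, m ψ * charDegree (ψ : G → ℂ) ≤ charDegree B ∧
      (charDegree B ≤ ∑ ψ ∈ S, m ψ * charDegree (ψ : G → ℂ) →
        B = ∑ ψ ∈ S, (m ψ : ℂ) • (ψ : G → ℂ)) := by
  classical
  letI : Fintype (IrrCharacter G) := Helper74.irrFintype G
  choose n hn using fun ψ : IrrCharacter G => Helper74.isCharacter_inner_irr_nat hB ψ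
  have hdec : B = ∑ ψ : IrrCharacter G, (n ψ : ℂ) • (ψ : G → ℂ) := by
    conv_lhs => rw [Helper74.isCharacter_eq_sum_irr hB]
    exact Finset.sum_congr rfl fun ψ _ => by rw [hn ψ]
  have hnm : ∀ ψ ∈ S, n ψ = m ψ := by
    intro ψ hψ
    have := hm ψ hψ
    rw [hn ψ] at this
    exact_mod_cast this
  have hdeg : charDegree B = ∑ ψ : IrrCharacter G, n ψ * charDegree (ψ : G → ℂ) := by
    have h1 : (charDegree B : ℂ) = B 1 := Helper74.charDegree_cast hB
    have h2 : B 1 = ∑ ψ : IrrCharacter G, (n ψ : ℂ) * (charDegree (ψ : G → ℂ) : ℂ) := by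
      conv_lhs => rw [hdec]
      rw [Finset.sum_apply]
      refine Finset.sum_congr rfl fun ψ _ => ?_
      rw [Pi.smul_apply, smul_eq_mul, Helper74.charDegree_cast (Helper74.irr_isCharacter ψ)]
    have h3 : (charDegree B : ℂ) =
        ((∑ ψ : IrrCharacter G, n ψ * charDegree (ψ : G → ℂ) : ℕ) : ℂ) := by
      rw [h1, h2]; push_cast; rfl
    exact_mod_cast h3
  have hsplit : ∑ ψ : IrrCharacter G, n ψ * charDegree (ψ : G → ℂ) =
      ∑ ψ ∈ S, m ψ * charDegree (ψ : G → ℂ) +
        ∑ ψ ∈ Finset.univ \ S, n ψ * charDegree (ψ : G → ℂ) := by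
    rw [← Finset.sum_sdiff (Finset.subset_univ S), add_comm]
    congr 1
    exact Finset.sum_congr rfl fun ψ hψ => by rw [hnm ψ hψ]
  refine ⟨by rw [hdeg, hsplit]; exact Nat.le_add_right _ _, fun hle => ?_⟩
  have hzero : ∑ ψ ∈ Finset.univ \ S, n ψ * charDegree (ψ : G → ℂ) = 0 := by
    rw [hdeg, hsplit] at hle
    omega
  have hn0 : ∀ ψ ∈ Finset.univ \ S, n ψ = 0 := by
    intro ψ hψ
    have := (Finset.sum_eq_zero_iff.mp hzero) ψ hψ
    rcases Nat.mul_eq_zero.mp this with h | h
    · exact h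
    · exact absurd h (Helper79.irr_charDegree_pos ψ).ne'
  rw [hdec, ← Finset.sum_sdiff (Finset.subset_univ S)]
  rw [Finset.sum_eq_zero (fun ψ hψ => by rw [hn0 ψ hψ]; simp), zero_add]
  exact Finset.sum_congr rfl fun ψ hψ => by rw [hnm ψ hψ]

end decomp

end Cfsg.Agent.Helper66.PD2
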