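import Cfsg.Agent.Helper15.IndChar
import Cfsg.Agent.Helper80.Linear

/-!
# Induction through a subgroup of index two

For `K ≤ K'` of relative index two, `(1_K)^G = (1_{K'})^G + (sgn)^G`, where `sgn` is the linear
character of `K'` with kernel `K`; the second summand is bounded above by half of `(1_K)^G`.
-/

set_option autoImplicit false
set_option linter.unusedSectionVars false
set_option linter.style.haveILetI false

namespace Cfsg.Agent.Helper66.PD2

open Cfsg Cfsg.Agent.Helper15
open scoped ComplexConjugate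

section idx2

variable {G : Type*} [Group G] (K K' : Subgroup G)

open Classical in
/-- The sign character of `K'` with kernel `K`. -/
noncomputable def sgnHom (hidx : K.relIndex K' = 2) : K' →* ℂˣ where
  toFun k := if (k : G) ∈ K then 1 else -1
  map_one' := by simp [K.one_mem]
  map_mul' := by
    intro a b
    have h := Subgroup.mul_mem_iff_of_index_two (H := K.subgroupOf K') hidx (a := a) (b := b)
    simp only [Subgroup.mem_subgroupOf, Subgroup.coe_mul] at h
    by_cases ha : (a : G) ∈ K <;> by_cases hb : (b : G) ∈ K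
    · have : (a : G) * (b : G) ∈ K := h.mpr (iff_of_true ha hb)
      simp [ha, hb, this]
    · have : ¬ (a : G) * (b : G) ∈ K := fun hc => hb ((h.mp hc).mp ha)
      simp [ha, hb, this]
    · have : ¬ (a : G) * (b : G) ∈ K := fun hc => ha ((h.mp hc).mpr hb)
      simp [ha, hb, this]
    · have : (a : G) * (b : G) ∈ K := h.mpr (iff_of_false ha hb)
      simp [ha, hb, this]

/-- The sign character as a complex function. -/
noncomputable def sgnFun (hidx : K.relIndex K' = 2) : K' → ℂ :=
  fun k => ((sgnHom K K' hidx k : ℂˣ) : ℂ)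

theorem sgnFun_isCharacter (hidx : K.relIndex K' = 2) : IsCharacter K' (sgnFun K K' hidx) :=
  Helper74.isCharacter_of_isIrr (Helper80.isIrrCharacter_of_monoidHom (sgnHom K K' hidx))

open Classical in
theorem sgnFun_apply (hidx : K.relIndex K' = 2) (k : K') :
    sgnFun K K' hidx k = if (k : G) ∈ K then 1 else -1 := by
  unfold sgnFun sgnHom
  simp only [MonoidHom.coe_mk, OneHom.coe_mk]
  split_ifs <;> simp

open Classical in
theorem extendByZero_const_one (H : Subgroup G) (w : G) :
    extendByZero H (fun _ => (1 : ℂ)) w = if w ∈ H then 1 else 0 := by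
  split_ifs with h
  · rw [extendByZero_of_mem _ _ h]
  · rw [extendByZero_of_not_mem _ _ h]

open Classical in
theorem extendByZero_sgn (hidx : K.relIndex K' = 2) (w : G) :
    extendByZero K' (sgnFun K K' hidx) w =
      if w ∈ K' then (if w ∈ K then 1 else -1) else 0 := by
  split_ifs with h h2
  · rw [extendByZero_of_mem _ _ h, sgnFun_apply, if_pos h2]
  · rw [extendByZero_of_mem _ _ h, sgnFun_apply, if_neg h2]
  · rw [extendByZero_of_not_mem _ _ h]

variable [Fintype G]

theorem card_eq_two_mul (hle : K ≤ K') (hidx : K.relIndex K' = 2) :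
    Nat.card K' = 2 * Nat.card K := by
  have h := Subgroup.card_mul_index (K.subgroupOf K')
  rw [← Subgroup.relIndex, hidx, Nat.card_congr (Subgroup.subgroupOfEquivOfLe hle).toEquiv] at h
  omega

/-- `(1_K)^G = (1_{K'})^G + (sgn)^G`. -/
theorem indFun_one_eq_add (hle : K ≤ K') (hidx : K.relIndex K' = 2) (g : G) :
    indFun K (fun _ => (1 : ℂ)) g =
      indFun K' (fun _ => (1 : ℂ)) g + indFun K' (sgnFun K K' hidx) g := by
  classical
  unfold indFun
  rw [← mul_add, ← Finset.sum_add_distrib, card_eq_two_mul K K' hle hidx]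
  have e : ∀ x : G, extendByZero K' (fun _ => (1 : ℂ)) (x⁻¹ * g * x) +
      extendByZero K' (sgnFun K K' hidx) (x⁻¹ * g * x) =
      2 * extendByZero K (fun _ => (1 : ℂ)) (x⁻¹ * g * x) := by
    intro x
    rw [extendByZero_const_one, extendByZero_const_one, extendByZero_sgn]
    by_cases h1 : x⁻¹ * g * x ∈ K
    · rw [if_pos (hle h1), if_pos (hle h1), if_pos h1, if_pos h1]; norm_num
    · by_cases h2 : x⁻¹ * g * x ∈ K'
      · rw [if_pos h2, if_pos h2, if_neg h1, if_neg h1]; norm_num
      · rw [if_neg h2, if_neg h2, if_neg h1]; norm_num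
  rw [Finset.sum_congr rfl (fun x _ => e x), ← Finset.mul_sum]
  have hK : (Nat.card K : ℂ) ≠ 0 := by exact_mod_cast (Nat.card_pos (α := K)).ne'
  push_cast
  field_simp

/-- `(sgn)^G ≤ (1_K)^G / 2` pointwise. -/
theorem indFun_sgn_le (hle : K ≤ K') (hidx : K.relIndex K' = 2) (g : G) :
    ∃ r : ℝ, 0 ≤ r ∧ indFun K (fun _ => (1 : ℂ)) g =
      2 * indFun K' (sgnFun K K' hidx) g + (r : ℂ) := by
  classical
  refine ⟨2 * ((Finset.univ.filter fun x : G => x⁻¹ * g * x ∈ K' ∧ x⁻¹ * g * x ∉ K).card : ℝ) /
    (Nat.card K' : ℝ), by positivity, ?_⟩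
  unfold indFun
  rw [card_eq_two_mul K K' hle hidx]
  have hK : (Nat.card K : ℂ) ≠ 0 := by exact_mod_cast (Nat.card_pos (α := K)).ne'
  have e : ∀ x : G, extendByZero K (fun _ => (1 : ℂ)) (x⁻¹ * g * x) =
      extendByZero K' (sgnFun K K' hidx) (x⁻¹ * g * x) +
        (if x⁻¹ * g * x ∈ K' ∧ x⁻¹ * g * x ∉ K then 1 else 0) := by
    intro x
    rw [extendByZero_const_one, extendByZero_sgn]
    by_cases h1 : x⁻¹ * g * x ∈ K
    · rw [if_pos (hle h1), if_pos h1, if_pos h1, if_neg (fun h => h.2 h1)]; norm_num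
    · by_cases h2 : x⁻¹ * g * x ∈ K'
      · rw [if_pos h2, if_neg h1, if_neg h1, if_pos ⟨h2, h1⟩]; norm_num
      · rw [if_neg h2, if_neg h1, if_neg (fun h => h2 h.1)]; norm_num
  rw [Finset.sum_congr rfl (fun x _ => e x), Finset.sum_add_distrib, Finset.sum_boole]
  push_cast
  field_simp

/-- The two constituents have the same degree. -/
theorem indFun_sgn_one (hidx : K.relIndex K' = 2) :
    indFun K' (sgnFun K K' hidx) 1 = indFun K' (fun _ => (1 : ℂ)) 1 := by
  classical
  unfold indFun
  congr 1
  refine Finset.sum_congr rfl fun x _ => ?_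
  have h1 : x⁻¹ * 1 * x = 1 := by group
  rw [h1, extendByZero_const_one, extendByZero_sgn, if_pos K'.one_mem, if_pos K.one_mem,
    if_pos K'.one_mem]

/-- An induced function vanishes at elements with no conjugate in the subgroup. -/
theorem indFun_eq_zero_of_forall_not_mem (H : Subgroup G) (φ : H → ℂ) (g : G)
    (h : ∀ x : G, x⁻¹ * g * x ∉ H) : indFun H φ g = 0 := by
  unfold indFun
  rw [Finset.sum_eq_zero, mul_zero]
  intro x _
  exact extendByZero_of_not_mem _ _ (h x)

end idx2

end Cfsg.Agent.Helper66.PD2
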