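import Cfsg.Agent.Helper66.PD2Moments
import Cfsg.Agent.Helper15.IndChar
import Cfsg.Agent.Helper79.Linear
import Cfsg.Agent.S0190

/-!
# The permutation character of a triply transitive action
-/

set_option autoImplicit false
set_option linter.unusedSectionVars false
set_option linter.style.haveILetI false

namespace Cfsg.Agent.Helper66.PD2

open Cfsg MulAction Cfsg.Agent.Helper15
open scoped ComplexConjugate

section perm

variable {G : Type*} [Group G] [Fintype G] (α : Type*) [Fintype α] [DecidableEq α] [MulAction G α]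

/-- The number of fixed points. -/
noncomputable def fx (g : G) : ℕ := Nat.card (fixedBy α g)

/-- The permutation character. -/
noncomputable def piFun : G → ℂ := fun g => (fx α g : ℂ)

/-- The permutation character minus the principal character. -/
noncomputable def thetaFun : G → ℂ := fun g => (fx α g : ℂ) - 1

/-- The permutation character on ordered pairs of distinct points. -/
noncomputable def aFun : G → ℂ := fun g => ((fx α g).descFactorial 2 : ℂ)

theorem fx_le (g : G) : fx α g ≤ Fintype.card α := by
  unfold fx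
  rw [Nat.card_eq_fintype_card]
  exact Fintype.card_subtype_le _

theorem fx_one : fx α (1 : G) = Fintype.card α := by
  unfold fx
  rw [MulAction.fixedBy_one_eq_univ, Nat.card_congr (Equiv.Set.univ α), Nat.card_eq_fintype_card]

theorem piFun_eq_indFun [IsPretransitive G α] (x : α) :
    piFun α = indFun (stabilizer G x) (fun _ => (1 : ℂ)) :=
  Cfsg.Agent.S0190.result α x

theorem isCharacter_piFun [IsPretransitive G α] [Nonempty α] : IsCharacter G (piFun (G := G) α) := by
  obtain ⟨x⟩ := ‹Nonempty α›
  rw [piFun_eq_indFun α x]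
  exact isCharacter_indFun _ Helper74.isCharacter_one

theorem aFun_eq_indFun [IsMultiplyPretransitive G α 2] (x : Fin 2 ↪ α) :
    aFun α = indFun (stabilizer G x) (fun _ => (1 : ℂ)) := by
  rw [← Cfsg.Agent.S0190.result (Fin 2 ↪ α) x]
  funext g
  unfold aFun fx
  rw [card_fixedBy_emb 2 g]

variable [IsMultiplyPretransitive G α 3] (h3 : 3 ≤ Fintype.card α)
include h3

theorem inst2 : IsMultiplyPretransitive G α 2 :=
  isMultiplyPretransitive_of_le (n := 3) (by norm_num) (by rw [Nat.card_eq_fintype_card]; exact h3)

theorem inst1 : IsMultiplyPretransitive G α 1 :=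
  isMultiplyPretransitive_of_le (n := 3) (by norm_num) (by rw [Nat.card_eq_fintype_card]; exact h3)

theorem sum_fx : ∑ g : G, (fx α g : ℂ) = Fintype.card G := by
  haveI := inst1 (G := G) α h3
  have h := sum_descFactorial (G := G) (α := α) 1 (by omega)
  simp only [Nat.descFactorial_one] at h
  have : ((∑ g : G, fx α g : ℕ) : ℂ) = (Fintype.card G : ℂ) := by
    unfold fx; rw [h]
  rw [← this]; push_cast; rfl

theorem sum_desc2 : ∑ g : G, ((fx α g).descFactorial 2 : ℂ) = Fintype.card G := by
  haveI := inst2 (G := G) α h3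
  have h := sum_descFactorial (G := G) (α := α) 2 (by omega)
  have : ((∑ g : G, (fx α g).descFactorial 2 : ℕ) : ℂ) = (Fintype.card G : ℂ) := by
    unfold fx; rw [h]
  rw [← this]; push_cast; rfl

theorem sum_desc3 : ∑ g : G, ((fx α g).descFactorial 3 : ℂ) = Fintype.card G := by
  have h := sum_descFactorial (G := G) (α := α) 3 h3
  have : ((∑ g : G, (fx α g).descFactorial 3 : ℕ) : ℂ) = (Fintype.card G : ℂ) := by
    unfold fx; rw [h]
  rw [← this]; push_cast; rfl

omit h3 in
theorem sq_eq_desc (n : ℕ) : (n : ℂ) * n = (n.descFactorial 2 : ℂ) + n := by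
  have : n * n = n.descFactorial 2 + n := by
    rw [Nat.descFactorial_succ, Nat.descFactorial_one]
    rcases n with _ | n
    · simp
    · simp only [Nat.add_sub_cancel]
      ring
  exact_mod_cast this

omit h3 in
theorem desc2_mul (n : ℕ) :
    (n.descFactorial 2 : ℂ) * n = (n.descFactorial 3 : ℂ) + 2 * (n.descFactorial 2 : ℂ) := by
  have : n.descFactorial 2 * n = n.descFactorial 3 + 2 * n.descFactorial 2 := by
    rw [Nat.descFactorial_succ (k := 2)]
    rcases Nat.lt_or_ge n 2 with h | h
    · rw [(Nat.descFactorial_eq_zero_iff_lt).mpr h]; simp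
    · obtain ⟨k, rfl⟩ := Nat.exists_eq_add_of_le h
      simp only [Nat.add_sub_cancel_left]
      ring
  exact_mod_cast this

theorem sum_sq : ∑ g : G, (fx α g : ℂ) * (fx α g : ℂ) = 2 * Fintype.card G := by
  simp only [sq_eq_desc]
  rw [Finset.sum_add_distrib, sum_desc2 α h3, sum_fx α h3]
  ring

theorem sum_desc2_mul : ∑ g : G, ((fx α g).descFactorial 2 : ℂ) * (fx α g : ℂ) =
    3 * Fintype.card G := by
  simp only [desc2_mul]
  rw [Finset.sum_add_distrib, ← Finset.mul_sum, sum_desc3 α h3, sum_desc2 α h3]
  ring

omit h3 in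
theorem cardG_ne : (Nat.card G : ℂ) ≠ 0 := by
  exact_mod_cast (Nat.card_pos (α := G)).ne'

theorem inner_pi_one : classInner (piFun (G := G) α) (fun _ => (1 : ℂ)) = 1 := by
  unfold classInner piFun
  simp only [map_one, mul_one]
  rw [sum_fx α h3, ← Nat.card_eq_fintype_card]
  exact inv_mul_cancel₀ cardG_ne

theorem inner_theta_theta : classInner (thetaFun (G := G) α) (thetaFun α) = 1 := by
  unfold classInner thetaFun
  have e : ∀ g : G, ((fx α g : ℂ) - 1) * conj ((fx α g : ℂ) - 1) =
      (fx α g : ℂ) * (fx α g : ℂ) - 2 * (fx α g : ℂ) + 1 := by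
    intro g
    rw [map_sub, map_one, Complex.conj_natCast]
    ring
  rw [Finset.sum_congr rfl (fun g _ => e g), Finset.sum_add_distrib, Finset.sum_sub_distrib,
    ← Finset.mul_sum, sum_sq α h3, sum_fx α h3]
  simp only [Finset.sum_const, Finset.card_univ, nsmul_eq_mul, mul_one]
  rw [← Nat.card_eq_fintype_card]
  field_simp [cardG_ne (G := G)]
  ring

theorem inner_a_one : classInner (aFun (G := G) α) (fun _ => (1 : ℂ)) = 1 := by
  unfold classInner aFun
  simp only [map_one, mul_one]
  rw [sum_desc2 α h3, ← Nat.card_eq_fintype_card]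
  exact inv_mul_cancel₀ cardG_ne

theorem inner_a_theta : classInner (aFun (G := G) α) (thetaFun α) = 2 := by
  unfold classInner aFun thetaFun
  have e : ∀ g : G, ((fx α g).descFactorial 2 : ℂ) * conj ((fx α g : ℂ) - 1) =
      ((fx α g).descFactorial 2 : ℂ) * (fx α g : ℂ) - ((fx α g).descFactorial 2 : ℂ) := by
    intro g
    rw [map_sub, map_one, Complex.conj_natCast]
    ring
  rw [Finset.sum_congr rfl (fun g _ => e g), Finset.sum_sub_distrib, sum_desc2_mul α h3,
    sum_desc2 α h3, ← Nat.card_eq_fintype_card]
  field_simp [cardG_ne (G := G)]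
  ring

/-- `π - 1` is an irreducible character. -/
theorem isIrrCharacter_thetaFun : IsIrrCharacter G (thetaFun (G := G) α) := by
  classical
  haveI := inst1 (G := G) α h3
  haveI : IsPretransitive G α := by
    rw [← is_one_pretransitive_iff]; infer_instance
  haveI : Nonempty α := by
    rw [← Fintype.card_pos_iff]; omega
  have hπ := isCharacter_piFun (G := G) α
  have hθdef : thetaFun (G := G) α = piFun α - fun _ => (1 : ℂ) := rfl
  have hcf : IsClassFunction G (thetaFun (G := G) α) := by
    rw [hθdef]
    exact Helper74.isClassFunction_sub (Helper74.isClassFunction_of_isCharacter hπ) (fun _ _ => rfl)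
  have hchar : IsCharacter G (thetaFun (G := G) α) := by
    apply isCharacter_of_classFunction_of_inner_nat hcf
    intro ψ
    rw [hθdef, Helper74.classInner_sub_left]
    obtain ⟨n, hn⟩ := Helper74.isCharacter_inner_irr_nat hπ ψ
    have h1 := Helper74.irr_orthonormal (Helper79.principalIrr G) ψ
    have h1' : classInner (fun _ : G => (1 : ℂ)) (ψ : G → ℂ) =
        if Helper79.principalIrr G = ψ then 1 else 0 := h1
    rw [h1']
    by_cases hψ : Helper79.principalIrr G = ψ
    · rw [if_pos hψ]
      refine ⟨0, ?_⟩
      rw [← hψ]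
      have : classInner (piFun (G := G) α) ((Helper79.principalIrr G : IrrCharacter G) : G → ℂ) = 1 :=
        inner_pi_one α h3
      rw [this]; simp
    · rw [if_neg hψ, hn]
      exact ⟨n, by simp⟩
  exact isIrrCharacter_of_inner_self_eq_one hchar (inner_theta_theta α h3)

end perm

end Cfsg.Agent.Helper66.PD2
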