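import Mathlib

/-!
# Stabilizers of ordered and unordered pairs; `p`-singular elements in prime degree
-/

set_option autoImplicit false
set_option linter.unusedSectionVars false
set_option linter.style.haveILetI false

namespace Cfsg.Agent.Helper66.PD2

open MulAction

section pairs

variable {G : Type*} [Group G] {α : Type*} [MulAction G α]

/-- The setwise stabilizer of the pair `{a, b}`. -/
def pairStab (a b : α) : Subgroup G where
  carrier := {g | (g • a = a ∧ g • b = b) ∨ (g • a = b ∧ g • b = a)}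
  one_mem' := Or.inl ⟨one_smul _ _, one_smul _ _⟩
  mul_mem' := by
    rintro g h (⟨h1, h2⟩ | ⟨h1, h2⟩) (⟨k1, k2⟩ | ⟨k1, k2⟩)
    · left; rw [mul_smul, mul_smul, k1, k2]; exact ⟨h1, h2⟩
    · right; rw [mul_smul, mul_smul, k1, k2]; exact ⟨h2, h1⟩
    · right; rw [mul_smul, mul_smul, k1, k2]; exact ⟨h1, h2⟩
    · left; rw [mul_smul, mul_smul, k1, k2]; exact ⟨h2, h1⟩
  inv_mem' := by
    rintro g (⟨h1, h2⟩ | ⟨h1, h2⟩)
    · left; exact ⟨inv_smul_eq_iff.mpr h1.symm, inv_smul_eq_iff.mpr h2.symm⟩
    · right; exact ⟨inv_smul_eq_iff.mpr h2.symm, inv_smul_eq_iff.mpr h1.symm⟩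

theorem mem_pairStab {a b : α} {g : G} :
    g ∈ pairStab (G := G) a b ↔ (g • a = a ∧ g • b = b) ∨ (g • a = b ∧ g • b = a) := Iff.rfl

theorem mem_stabilizer_emb (x : Fin 2 ↪ α) (g : G) :
    g ∈ stabilizer G x ↔ g • x 0 = x 0 ∧ g • x 1 = x 1 := by
  rw [mem_stabilizer_iff]
  constructor
  · intro h
    constructor
    · have := congrArg (fun e : Fin 2 ↪ α => e 0) h
      simpa using this
    · have := congrArg (fun e : Fin 2 ↪ α => e 1) h
      simpa using this
  · rintro ⟨h0, h1⟩
    ext i
    rw [Function.Embedding.smul_apply]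
    fin_cases i
    · exact h0
    · exact h1

theorem stabilizer_emb_le (x : Fin 2 ↪ α) : stabilizer G x ≤ pairStab (x 0) (x 1) := by
  intro g hg
  exact Or.inl ((mem_stabilizer_emb x g).mp hg)

/-- The square of an element of the pair stabilizer fixes the first point. -/
theorem sq_smul_of_mem_pairStab {a b : α} {g : G} (hg : g ∈ pairStab (G := G) a b) :
    (g * g) • a = a := by
  rcases hg with ⟨h1, _⟩ | ⟨h1, h2⟩
  · rw [mul_smul, h1, h1]
  · rw [mul_smul, h1, h2]

/-- For a doubly transitive action the point-wise stabilizer of a pair has index two in the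
setwise stabilizer. -/
theorem relIndex_stabilizer_emb [IsMultiplyPretransitive G α 2] (x : Fin 2 ↪ α) :
    (stabilizer G x).relIndex (pairStab (x 0) (x 1)) = 2 := by
  have hne : x 0 ≠ x 1 := fun h => by
    have := x.injective h
    exact absurd this (by decide)
  -- the swapped embedding
  let x' : Fin 2 ↪ α := (Equiv.swap (0 : Fin 2) 1).toEmbedding.trans x
  have hx'0 : x' 0 = x 1 := by simp [x']
  have hx'1 : x' 1 = x 0 := by simp [x']
  obtain ⟨w, hw⟩ := MulAction.exists_smul_eq G x x'
  have hw0 : w • x 0 = x 1 := by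
    have := congrArg (fun e : Fin 2 ↪ α => e 0) hw
    simp only [Function.Embedding.smul_apply] at this
    rw [this, hx'0]
  have hw1 : w • x 1 = x 0 := by
    have := congrArg (fun e : Fin 2 ↪ α => e 1) hw
    simp only [Function.Embedding.smul_apply] at this
    rw [this, hx'1]
  rw [Subgroup.relIndex_eq_two_iff]
  refine ⟨w, Or.inr ⟨hw0, hw1⟩, ?_⟩
  rintro g (⟨h1, h2⟩ | ⟨h1, h2⟩)
  · right
    refine ⟨(mem_stabilizer_emb x g).mpr ⟨h1, h2⟩, fun h => ?_⟩
    have := ((mem_stabilizer_emb x (g * w)).mp h).1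
    rw [mul_smul, hw0, h2] at this
    exact hne this.symm
  · left
    refine ⟨(mem_stabilizer_emb x (g * w)).mpr ⟨?_, ?_⟩, fun h => ?_⟩
    · rw [mul_smul, hw0, h2]
    · rw [mul_smul, hw1, h1]
    · have := ((mem_stabilizer_emb x g).mp h).1
      rw [h1] at this
      exact hne this.symm

end pairs

section singular

variable {G : Type*} [Group G] [Finite G] {α : Type*} [MulAction G α] {p : ℕ} [Fact p.Prime]

/-- If the nonidentity elements of a Sylow `p`-subgroup have no fixed points, then no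
`p`-singular element has a fixed point. -/
theorem smul_ne_of_dvd_orderOf (P : Sylow p G)
    (hreg : ∀ y ∈ (P : Subgroup G), y ≠ 1 → ∀ a : α, y • a ≠ a)
    (g : G) (hg : p ∣ orderOf g) (a : α) : g • a ≠ a := by
  have hp : p.Prime := Fact.out
  intro hfix
  have hord0 : orderOf g ≠ 0 := (orderOf_pos g).ne'
  set z := g ^ (orderOf g / p) with hz
  have hzord : orderOf z = p := orderOf_pow_orderOf_div hord0 hg
  have hz1 : z ≠ 1 := by
    intro h
    rw [h, orderOf_one] at hzord
    exact hp.one_lt.ne hzord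
  have hzfix : z • a = a := by
    have : g ∈ stabilizer G a := hfix
    exact (stabilizer G a).pow_mem this _
  have hpg : IsPGroup p (Subgroup.zpowers z) := by
    apply IsPGroup.of_card (n := 1)
    rw [Nat.card_zpowers, hzord, pow_one]
  obtain ⟨Q, hQ⟩ := hpg.exists_le_sylow
  obtain ⟨c, hc⟩ := MulAction.exists_smul_eq G Q P
  have hzQ : z ∈ (Q : Subgroup G) := hQ (Subgroup.mem_zpowers z)
  have hyP : c * z * c⁻¹ ∈ (P : Subgroup G) := by
    rw [← hc, Sylow.coe_subgroup_smul]
    have := Subgroup.smul_mem_pointwise_smul z (MulAut.conj c) (Q : Subgroup G) hzQ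
    simpa [MulAut.smul_def] using this
  have hy1 : c * z * c⁻¹ ≠ 1 := by
    intro h
    apply hz1
    have : z = c⁻¹ * (c * z * c⁻¹) * c := by group
    rw [this, h]
    group
  apply hreg _ hyP hy1 (c • a)
  rw [mul_smul, mul_smul, inv_smul_smul, hzfix]

/-- For odd `p`, squaring preserves `p`-singularity. -/
theorem dvd_orderOf_sq (hp2 : p ≠ 2) (g : G) (hg : p ∣ orderOf g) : p ∣ orderOf (g * g) := by
  have hp : p.Prime := Fact.out
  rw [← pow_two, orderOf_pow]
  have hcop : Nat.Coprime p (Nat.gcd (orderOf g) 2) := by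
    apply Nat.Coprime.coprime_dvd_right (Nat.gcd_dvd_right _ _)
    exact (Nat.coprime_primes hp Nat.prime_two).mpr hp2
  have hdvd : Nat.gcd (orderOf g) 2 ∣ orderOf g := Nat.gcd_dvd_left _ _
  obtain ⟨k, hk⟩ := hdvd
  have hpos : 0 < Nat.gcd (orderOf g) 2 := Nat.gcd_pos_of_pos_right _ (by norm_num)
  rw [Nat.div_eq_of_eq_mul_right hpos hk]
  have : p ∣ Nat.gcd (orderOf g) 2 * k := by rw [← hk]; exact hg
  exact hcop.dvd_of_dvd_mul_left this

end singular

end Cfsg.Agent.Helper66.PD2
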