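import Cfsg.Agent.Helper66.PD2BL
import Cfsg.Agent.Helper66.PD2Ind
import Cfsg.Agent.Helper66.PD2Decomp
import Cfsg.Agent.Helper66.PD2Perm
import Cfsg.Agent.Helper66.PD2Stab
import Cfsg.Agent.Helper81.PermChar
import Cfsg.Agent.Helper74.DefectZero
import Cfsg.Agent.Helper61.PrimeDegree

/-!
# Triply transitive groups of prime degree with `|N_G(P)| = 2p`

Character-theoretic core: an element of `p'`-order fixing at least three points is trivial.
-/

set_option autoImplicit false
set_option linter.unusedSectionVars false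
set_option linter.unusedVariables false
set_option linter.style.haveILetI false

namespace Cfsg.Agent.Helper66.PD2

open Cfsg MulAction Cfsg.Agent.Helper15 Cfsg.Agent.Helper66.BL
open scoped ComplexConjugate

section vanish

variable {G : Type*} [Group G] [Finite G] {p : ℕ} [Fact p.Prime] {M : Ideal AlgInt}

/-- If `|C_G(y)| = |P|`, characters outside the principal block vanish at `y ∈ P ∖ {1}`. -/
theorem apply_eq_zero_of_not_mem_principalBlock (hM : IsPModular p M) (P : Sylow p G)
    (hab : IsMulCommutative P)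
    (hfrob : ∀ y : G, y ∈ (P : Subgroup G) → y ≠ 1 →
      Subgroup.centralizer ({y} : Set G) ⊓ Subgroup.normalizer ((P : Subgroup G) : Set G) =
        Subgroup.centralizer ((P : Subgroup G) : Set G))
    {y : G} (hy : y ∈ (P : Subgroup G)) (hy1 : y ≠ 1)
    (hcard : Nat.card (Subgroup.centralizer ({y} : Set G)) = Nat.card P)
    (χ : IrrCharacter G) (hχ : χ ∉ principalBlock M G) : (χ : G → ℂ) y = 0 := by
  classical
  haveI : Fintype G := Fintype.ofFinite G
  letI : Fintype (IrrCharacter G) := Helper74.irrFintype G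
  have h2 := Helper74.second_orthogonality y y
  rw [if_pos (IsConj.refl y), hcard] at h2
  have e1 : ∀ ψ : IrrCharacter G, (ψ : G → ℂ) y * conj ((ψ : G → ℂ) y) =
      ((‖(ψ : G → ℂ) y‖ ^ 2 : ℝ) : ℂ) := by
    intro ψ
    rw [Complex.mul_conj, Complex.normSq_eq_norm_sq]
  rw [Finset.sum_congr rfl (fun ψ _ => e1 ψ), ← Complex.ofReal_sum] at h2
  have h2' : ∑ ψ : IrrCharacter G, ‖(ψ : G → ℂ) y‖ ^ 2 = (Nat.card P : ℝ) := by
    exact_mod_cast h2
  have h3 := principal_norm_sum hM P hab hfrob hy hy1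
  have hB : (principalBlock M G).Finite := Set.toFinite _
  rw [finsum_mem_eq_finite_toFinset_sum _ hB] at h3
  have hsplit := Finset.sum_sdiff (Finset.subset_univ hB.toFinset)
    (f := fun ψ : IrrCharacter G => ‖(ψ : G → ℂ) y‖ ^ 2)
  rw [h2', h3] at hsplit
  have hzero : ∑ ψ ∈ Finset.univ \ hB.toFinset, ‖(ψ : G → ℂ) y‖ ^ 2 = 0 := by linarith
  have hmem : χ ∈ Finset.univ \ hB.toFinset := by
    rw [Finset.mem_sdiff]
    exact ⟨Finset.mem_univ _, fun h => hχ ((Set.Finite.mem_toFinset hB).mp h)⟩
  have := (Finset.sum_eq_zero_iff_of_nonneg (fun ψ _ => sq_nonneg _)).mp hzero χ hmem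
  have h4 : ‖(χ : G → ℂ) y‖ = 0 := by
    exact pow_eq_zero_iff (two_ne_zero) |>.mp this
  exact norm_eq_zero.mp h4

end vanish

section main

variable {G : Type*} [Group G] [Fintype G]

theorem inner_eq_sub_of_vanish {p : ℕ} (B η θ : G → ℂ)
    (hB : ∀ g, p ∣ orderOf g → B g = 0)
    (hη : ∀ g, ¬ p ∣ orderOf g → η g = θ g - 1) :
    classInner B η = classInner B θ - classInner B (fun _ => (1 : ℂ)) := by
  unfold classInner
  rw [← mul_sub, ← Finset.sum_sub_distrib]
  congr 1
  refine Finset.sum_congr rfl fun g _ => ?_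
  by_cases hg : p ∣ orderOf g
  · rw [hB g hg]; ring
  · rw [hη g hg, map_sub, map_one]; ring

variable {α : Type*} [Fintype α] [DecidableEq α] [MulAction G α] {p : ℕ} [Fact p.Prime]

set_option maxHeartbeats 1600000 in
/-- **Core theorem.** In a triply transitive group of prime degree `p ≥ 7` with a regular
self-centralizing Sylow `p`-subgroup whose normalizer has order `2p`, a `p`-regular element with
at least three fixed points fixes everything. -/
theorem fx_eq_of_three_le (hα : Fintype.card α = p) (hp7 : 7 ≤ p)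
    [IsMultiplyPretransitive G α 3]
    (P : Sylow p G) (hPcard : Nat.card (P : Subgroup G) = p)
    (hreg : ∀ y ∈ (P : Subgroup G), y ≠ 1 → ∀ a : α, y • a ≠ a)
    (hC : Subgroup.centralizer ((P : Subgroup G) : Set G) = P)
    (hN : (Subgroup.centralizer ((P : Subgroup G) : Set G)).relIndex
        (Subgroup.normalizer ((P : Subgroup G) : Set G)) = 2)
    (l : G) (hl : ¬ p ∣ orderOf l) (hf : 3 ≤ fx α l) : fx α l = p := by
  classical
  have hp : p.Prime := Fact.out
  have hp2 : p ≠ 2 := by omega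
  have h3 : 3 ≤ Fintype.card α := by omega
  haveI := inst2 (G := G) α h3
  haveI : Finite (IrrCharacter G) := Helper79.irr_finite'
  -- the irreducible character `θ = π - 1`
  set θ : IrrCharacter G := ⟨thetaFun α, isIrrCharacter_thetaFun α h3⟩ with hθdef
  have hθapp : ∀ g : G, (θ : G → ℂ) g = (fx α g : ℂ) - 1 := fun g => rfl
  -- `p`-singular elements have no fixed points
  have hsing : ∀ g : G, p ∣ orderOf g → fx α g = 0 := by
    intro g hg
    unfold fx
    rw [Nat.card_eq_zero]
    left
    exact ⟨fun x => smul_ne_of_dvd_orderOf P hreg g hg x.1 x.2⟩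
  have hordP : ∀ y ∈ (P : Subgroup G), y ≠ 1 → p ∣ orderOf y := by
    intro y hy hy1
    obtain ⟨k, hk⟩ := exists_orderOf_eq_of_mem P hy
    rcases k with _ | k
    · rw [pow_zero, orderOf_eq_one_iff] at hk
      exact absurd hk hy1
    · rw [hk]; exact dvd_pow_self p (Nat.succ_ne_zero k)
  have hθval : ∀ y ∈ (P : Subgroup G), y ≠ 1 → (θ : G → ℂ) y = -1 := by
    intro y hy hy1
    rw [hθapp, hsing y (hordP y hy hy1)]
    norm_num
  -- modular system
  obtain ⟨M, hM⟩ := Helper74.exists_isPModular p hp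
  have hcomm := Helper61.PrimeDegree.comm_of_card_prime (P : Subgroup G) hPcard
  have hab : IsMulCommutative P :=
    ⟨⟨fun x y => Subtype.ext (hcomm x.1 x.2 y.1 y.2)⟩⟩
  have hcent : ∀ y : G, y ∈ (P : Subgroup G) → y ≠ 1 →
      Subgroup.centralizer ({y} : Set G) = Subgroup.centralizer ((P : Subgroup G) : Set G) := by
    intro y hy hy1
    apply le_antisymm
    · intro g hg
      rw [Subgroup.mem_centralizer_singleton_iff] at hg
      rw [Subgroup.mem_centralizer_iff]
      intro z hz
      have hy1' : (⟨y, hy⟩ : (P : Subgroup G)) ≠ 1 := fun h => hy1 (congrArg Subtype.val h)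
      have htop := zpowers_eq_top_of_prime_card (G := (P : Subgroup G)) hPcard hy1'
      have hzmem : (⟨z, hz⟩ : (P : Subgroup G)) ∈ Subgroup.zpowers (⟨y, hy⟩ : (P : Subgroup G)) := by
        rw [htop]; exact Subgroup.mem_top _
      obtain ⟨k, hk⟩ := Subgroup.mem_zpowers_iff.mp hzmem
      have hk' : y ^ k = z := by
        have := congrArg Subtype.val hk
        simpa using this
      rw [← hk']
      have hc : Commute g y := hg
      exact ((hc.zpow_right k).eq).symm
    · exact Subgroup.centralizer_le (Set.singleton_subset_iff.mpr hy)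
  have hfrob : ∀ y : G, y ∈ (P : Subgroup G) → y ≠ 1 →
      Subgroup.centralizer ({y} : Set G) ⊓ Subgroup.normalizer ((P : Subgroup G) : Set G) =
        Subgroup.centralizer ((P : Subgroup G) : Set G) := by
    intro y hy hy1
    rw [hcent y hy hy1]
    exact inf_eq_left.mpr (Subgroup.centralizer_le_normalizer _)
  obtain ⟨X, Y, a, d, δ, ζ, D⟩ :=
    exists_BLData hM P hab (by rw [show Nat.card P = p from hPcard]; omega) 2
      (by rw [show Nat.card P = p from hPcard]; omega) hN hfrob
  -- `θ` lies in the principal block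
  have hnt : Nontrivial (P : Subgroup G) := by
    rw [← Finite.one_lt_card_iff_nontrivial, hPcard]; omega
  obtain ⟨w, hw⟩ := exists_ne (1 : (P : Subgroup G))
  have hw1 : (w : G) ≠ 1 := fun h => hw (Subtype.ext h)
  have hθB : θ ∈ principalBlock M G := by
    by_contra hnot
    have hcard : Nat.card (Subgroup.centralizer ({(w : G)} : Set G)) = Nat.card P := by
      rw [hcent (w : G) w.2 hw1, hC]
    have h0 := apply_eq_zero_of_not_mem_principalBlock hM P hab hfrob w.2 hw1 hcard θ hnot
    rw [hθval (w : G) w.2 hw1] at h0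
    norm_num at h0
  have hθdeg : (θ : G → ℂ) 1 = ((p - 1 : ℕ) : ℂ) := by
    rw [hθapp, fx_one, hα, Nat.cast_sub hp.one_le]
    norm_num
  have hθ1 : θ ≠ Helper79.principalIrr G := by
    intro h
    have h1 : (θ : G → ℂ) 1 = 1 := by rw [h]; rfl
    rw [hθdeg] at h1
    have : (p - 1 : ℕ) = 1 := by exact_mod_cast h1
    omega
  obtain ⟨hθY, h1Y, hcardY, hregY⟩ :=
    two_structure_of_BLData D hab (by rw [show Nat.card P = p from hPcard]; omega) θ hθB hθ1
      hθval (p - 1) (by omega) hθdeg
  -- `Y` as a finset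
  have hYfin : Y.Finite := Set.toFinite Y
  set Yf : Finset (IrrCharacter G) := hYfin.toFinset with hYfdef
  have hmemYf : ∀ η, η ∈ Yf ↔ η ∈ Y := fun η => Set.Finite.mem_toFinset hYfin
  obtain ⟨q, hq⟩ : ∃ q : ℕ, p = q + 2 := ⟨p - 2, by omega⟩
  have hq5 : 5 ≤ q := by omega
  have hYcard : Yf.card * 2 = q + 1 := by
    have h1 : Yf.card = Nat.card Y := by
      rw [Nat.card_coe_set_eq, Set.ncard_eq_toFinset_card Y hYfin]
    rw [h1, hcardY, show Nat.card P = p from hPcard]
    omega
  have hθYf : θ ∉ Yf := fun h => hθY ((hmemYf θ).mp h)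
  have h1Yf : Helper79.principalIrr G ∉ Yf := fun h => h1Y ((hmemYf _).mp h)
  have h1reg : ¬ p ∣ orderOf (1 : G) := by
    rw [orderOf_one]; exact hp.not_dvd_one
  -- degrees
  have hdegθ : charDegree (θ : G → ℂ) = q + 1 := by
    have h := Helper74.charDegree_cast (Helper74.irr_isCharacter θ)
    rw [hθdeg] at h
    have : charDegree (θ : G → ℂ) = p - 1 := by exact_mod_cast h
    omega
  have hdeg1 : charDegree ((Helper79.principalIrr G : IrrCharacter G) : G → ℂ) = 1 := by
    have h := Helper74.charDegree_cast (Helper74.irr_isCharacter (Helper79.principalIrr G))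
    have h1 : ((Helper79.principalIrr G : IrrCharacter G) : G → ℂ) 1 = 1 := rfl
    rw [h1] at h
    exact_mod_cast h
  have hdegη : ∀ η ∈ Yf, charDegree (η : G → ℂ) = q := by
    intro η hη
    have h := Helper74.charDegree_cast (Helper74.irr_isCharacter η)
    rw [hregY η ((hmemYf η).mp hη) 1 h1reg, hθdeg] at h
    have h2 : ((p - 1 : ℕ) : ℂ) - 1 = ((q : ℕ) : ℂ) := by
      rw [show p - 1 = q + 1 by omega]; push_cast; ring
    rw [h2] at h
    exact_mod_cast h
  -- the two-point stabilizer and the stabilizer of the pair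
  have hemb : Nonempty (Fin 2 ↪ α) := by
    rw [Function.Embedding.nonempty_iff_card_le, Fintype.card_fin]; omega
  obtain ⟨x₀⟩ := hemb
  set K : Subgroup G := stabilizer G x₀ with hKdef
  set K' : Subgroup G := pairStab (x₀ 0) (x₀ 1) with hK'def
  have hle : K ≤ K' := stabilizer_emb_le x₀
  have hidx : K.relIndex K' = 2 := relIndex_stabilizer_emb x₀
  set Bp : G → ℂ := indFun K' (fun _ => (1 : ℂ)) with hBpdef
  set Bm : G → ℂ := indFun K' (sgnFun K K' hidx) with hBmdef
  have hA : aFun (G := G) α = indFun K (fun _ => (1 : ℂ)) := aFun_eq_indFun α x₀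
  have hsum : ∀ g, aFun (G := G) α g = Bp g + Bm g := by
    intro g
    rw [hA]
    exact indFun_one_eq_add K K' hle hidx g
  have hBp : IsCharacter G Bp := isCharacter_indFun _ Helper74.isCharacter_one
  have hBm : IsCharacter G Bm := isCharacter_indFun _ (sgnFun_isCharacter K K' hidx)
  -- vanishing on `p`-singular elements
  have hnoconj : ∀ g : G, p ∣ orderOf g → ∀ x : G, x⁻¹ * g * x ∉ K' := by
    intro g hg x hx
    have h1 := sq_smul_of_mem_pairStab hx
    have e : (x⁻¹ * g * x) * (x⁻¹ * g * x) = x⁻¹ * (g * g) * x := by group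
    rw [e] at h1
    have h2 : (g * g) • (x • x₀ 0) = x • x₀ 0 := by
      calc (g * g) • (x • x₀ 0) = x • ((x⁻¹ * (g * g) * x) • x₀ 0) := by
            simp only [mul_smul, smul_inv_smul]
        _ = x • x₀ 0 := by rw [h1]
    exact smul_ne_of_dvd_orderOf P hreg (g * g) (dvd_orderOf_sq hp2 g hg) _ h2
  have hBp0 : ∀ g : G, p ∣ orderOf g → Bp g = 0 := fun g hg =>
    indFun_eq_zero_of_forall_not_mem K' _ g (hnoconj g hg)
  have hBm0 : ∀ g : G, p ∣ orderOf g → Bm g = 0 := fun g hg =>
    indFun_eq_zero_of_forall_not_mem K' _ g (hnoconj g hg)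
  -- inner products
  have iA1 : classInner (aFun (G := G) α) (fun _ => (1 : ℂ)) = 1 := inner_a_one α h3
  have iAθ : classInner (aFun (G := G) α) (θ : G → ℂ) = 2 := inner_a_theta α h3
  haveI : Fintype K' := Fintype.ofFinite _
  have iBp1 : classInner Bp (fun _ => (1 : ℂ)) = 1 := Helper81.inner_indFun_one_one K'
  have hAeq : aFun (G := G) α = Bp + Bm := funext hsum
  have iBm1 : classInner Bm (fun _ => (1 : ℂ)) = 0 := by
    have h := iA1
    rw [hAeq, Helper74.classInner_add_left, iBp1] at h
    linear_combination h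
  obtain ⟨u, hu⟩ := Helper74.isCharacter_inner_irr_nat hBp θ
  obtain ⟨v, hv⟩ := Helper74.isCharacter_inner_irr_nat hBm θ
  have huv : u + v = 2 := by
    have h := iAθ
    rw [hAeq, Helper74.classInner_add_left, hu, hv] at h
    exact_mod_cast h
  have iBpη : ∀ η ∈ Yf, classInner Bp (η : G → ℂ) = (u : ℂ) - 1 := by
    intro η hη
    rw [inner_eq_sub_of_vanish (p := p) Bp (η : G → ℂ) (θ : G → ℂ) hBp0
      (hregY η ((hmemYf η).mp hη)), hu, iBp1]
  have iBmη : ∀ η ∈ Yf, classInner Bm (η : G → ℂ) = (v : ℂ) := by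
    intro η hη
    rw [inner_eq_sub_of_vanish (p := p) Bm (η : G → ℂ) (θ : G → ℂ) hBm0
      (hregY η ((hmemYf η).mp hη)), hv, iBm1, sub_zero]
  have hYne : Yf.Nonempty := by
    rw [← Finset.card_pos]; omega
  have hu1 : 1 ≤ u := by
    obtain ⟨η, hη⟩ := hYne
    obtain ⟨n, hn⟩ := Helper74.isCharacter_inner_irr_nat hBp η
    rw [iBpη η hη] at hn
    have : (u : ℂ) = ((n + 1 : ℕ) : ℂ) := by push_cast; linear_combination hn
    have : u = n + 1 := by exact_mod_cast this
    omega
  -- degrees of the two constituents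
  have hdegsum : (charDegree Bp : ℂ) + charDegree Bm = ((q + 2) * (q + 1) : ℕ) := by
    rw [Helper74.charDegree_cast hBp, Helper74.charDegree_cast hBm, ← hsum 1]
    unfold aFun
    rw [fx_one, hα, hq]
    have : (q + 2).descFactorial 2 = (q + 2) * (q + 1) := by
      rw [Nat.descFactorial_succ, Nat.descFactorial_one]
      have : q + 2 - 1 = q + 1 := by omega
      rw [this]
      ring
    rw [this]
  have hdegeq : charDegree Bp = charDegree Bm := by
    have : (charDegree Bp : ℂ) = charDegree Bm := by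
      rw [Helper74.charDegree_cast hBp, Helper74.charDegree_cast hBm]
      exact (indFun_sgn_one K K' hidx).symm
    exact_mod_cast this
  have hdegBm : 2 * charDegree Bm = (q + 2) * (q + 1) := by
    have : ((charDegree Bp + charDegree Bm : ℕ) : ℂ) = ((q + 2) * (q + 1) : ℕ) := by
      rw [← hdegsum]; push_cast; ring
    have h2 : charDegree Bp + charDegree Bm = (q + 2) * (q + 1) := by exact_mod_cast this
    omega
  -- `v = 1`
  have hv1 : v = 1 := by
    by_contra hv1
    have hv0 : v = 0 := by omega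
    have hu2 : u = 2 := by omega
    set S : Finset (IrrCharacter G) := insert (Helper79.principalIrr G) (insert θ Yf) with hSdef
    set m : IrrCharacter G → ℕ :=
      fun ψ => if ψ = Helper79.principalIrr G then 1 else if ψ = θ then 2 else 1 with hmdef
    have hm : ∀ ψ ∈ S, classInner Bp (ψ : G → ℂ) = m ψ := by
      intro ψ hψ
      rw [hSdef, Finset.mem_insert, Finset.mem_insert] at hψ
      rcases hψ with rfl | rfl | hψ
      · simp only [hmdef, if_pos rfl]
        rw [Nat.cast_one]
        exact iBp1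
      · simp only [hmdef, if_neg hθ1, if_true]
        rw [hu, hu2]
      · have h1 : ψ ≠ Helper79.principalIrr G := fun h => h1Yf (h ▸ hψ)
        have h2 : ψ ≠ θ := fun h => hθYf (h ▸ hψ)
        simp only [hmdef, if_neg h1, if_neg h2]
        rw [iBpη ψ hψ, hu2]
        norm_num
    have hb := (degree_bound hBp S m hm).1
    have hnot1 : Helper79.principalIrr G ∉ insert θ Yf := by
      rw [Finset.mem_insert]
      push_neg
      exact ⟨Ne.symm hθ1, h1Yf⟩
    rw [hSdef, Finset.sum_insert hnot1, Finset.sum_insert hθYf] at hb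
    have hsumY : ∑ ψ ∈ Yf, m ψ * charDegree (ψ : G → ℂ) = Yf.card * q := by
      rw [Finset.sum_congr rfl (g := fun _ => q)]
      · rw [Finset.sum_const, smul_eq_mul]
      · intro ψ hψ
        have h1 : ψ ≠ Helper79.principalIrr G := fun h => h1Yf (h ▸ hψ)
        have h2 : ψ ≠ θ := fun h => hθYf (h ▸ hψ)
        simp only [hmdef, if_neg h1, if_neg h2, one_mul]
        exact hdegη ψ hψ
    rw [hsumY] at hb
    simp only [hmdef, if_pos rfl, if_neg hθ1, if_true] at hb
    rw [hdeg1, hdegθ, hdegeq] at hb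
    have hprod : 2 * (Yf.card * q) = (q + 1) * q := by rw [← hYcard]; ring
    nlinarith
  -- the decomposition of `Bm`
  have hBmdec : Bm = ∑ ψ ∈ insert θ Yf, ((1 : ℕ) : ℂ) • (ψ : G → ℂ) := by
    have hm : ∀ ψ ∈ insert θ Yf, classInner Bm (ψ : G → ℂ) = ((fun _ => 1 : IrrCharacter G → ℕ) ψ : ℂ) := by
      intro ψ hψ
      rw [Finset.mem_insert] at hψ
      rcases hψ with rfl | hψ
      · rw [hv, hv1]
      · rw [iBmη ψ hψ, hv1]
    refine (degree_bound hBm (insert θ Yf) (fun _ => 1) hm).2 ?_
    rw [Finset.sum_insert hθYf]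
    have hsumY : ∑ ψ ∈ Yf, 1 * charDegree (ψ : G → ℂ) = Yf.card * q := by
      rw [Finset.sum_congr rfl (g := fun _ => q)]
      · rw [Finset.sum_const, smul_eq_mul]
      · intro ψ hψ
        rw [one_mul]
        exact hdegη ψ hψ
    rw [hsumY, hdegθ]
    have hprod : 2 * (Yf.card * q) = (q + 1) * q := by rw [← hYcard]; ring
    nlinarith
  -- the value at `l`
  have hBml : Bm l = ((fx α l : ℂ) - 1) + (Yf.card : ℂ) * ((fx α l : ℂ) - 1 - 1) := by
    rw [hBmdec, Finset.sum_apply, Finset.sum_insert hθYf]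
    simp only [Pi.smul_apply, Nat.cast_one, one_smul]
    rw [hθapp]
    congr 1
    rw [Finset.sum_congr rfl (g := fun _ => (fx α l : ℂ) - 1 - 1)]
    · rw [Finset.sum_const, nsmul_eq_mul]
    · intro η hη
      rw [hregY η ((hmemYf η).mp hη) l hl, hθapp]
  obtain ⟨r, hr0, hr⟩ := indFun_sgn_le K K' hle hidx l
  rw [← hA] at hr
  change aFun (G := G) α l = 2 * Bm l + (r : ℂ) at hr
  rw [hBml] at hr
  unfold aFun at hr
  have hfle : fx α l ≤ p := by
    rw [← hα]; exact fx_le α l
  obtain ⟨e, he⟩ : ∃ e : ℕ, fx α l = e + 3 := ⟨fx α l - 3, by omega⟩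
  rw [he] at hr
  have hdesc : (e + 3).descFactorial 2 = (e + 3) * (e + 2) := by
    rw [Nat.descFactorial_succ, Nat.descFactorial_one]
    have : e + 3 - 1 = e + 2 := by omega
    rw [this]
    ring
  rw [hdesc] at hr
  have hT : (Yf.card : ℝ) * 2 = (q : ℝ) + 1 := by exact_mod_cast hYcard
  have hreal : ((e + 3 : ℝ)) * (e + 2) =
      2 * (((e : ℝ) + 3 - 1) + (Yf.card : ℝ) * ((e : ℝ) + 3 - 1 - 1)) + r := by
    have := congrArg Complex.re hr
    simpa using this
  have hineq : (q : ℝ) + 2 ≤ (e : ℝ) + 3 := by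
    have he0 : (0 : ℝ) ≤ e := Nat.cast_nonneg e
    have hq0 : (0 : ℝ) ≤ q := Nat.cast_nonneg q
    nlinarith
  have : q + 2 ≤ e + 3 := by exact_mod_cast hineq
  omega

end main

end Cfsg.Agent.Helper66.PD2
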