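import Cfsg.Agent.Helper36.E8Odd.Defs2
import Cfsg.Agent.Helper18.E8Odd.RefSub
import Cfsg.Agent.Helper18.TriAll

/-!
S4281 (helper36's E8INV-2 farm), piece (ELL) (helper66): `ellW psi w` counts the same roots as the filtered `negL w`.
-/

set_option autoImplicit false
set_option linter.unusedVariables false
set_option maxRecDepth 100000

namespace Cfsg.Agent.Helper66.E8Inv2

open Cfsg Cfsg.Lie Cfsg.Agent.Helper18 Cfsg.Agent.Helper18.E8Odd Cfsg.Agent.Helper19.Cox Cfsg.Agent.Helper19.Poinc
  Cfsg.Agent.Helper36.E8Odd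

/-- the positive roots of `chevE8` are the indices `120 ≤ r < 240` -/
theorem ELL_isPosRoot_iff (r : ℕ) (hr : r < 240) : chevE8.IsPosRoot r ↔ 120 ≤ r := by
  rw [isPosRoot_iff chevE8 _ posOK_E8 r]
  constructor
  · intro h
    exact h.1
  · intro h
    exact ⟨h, hr⟩

/-- (ELL) the exponent of the cell of `w`: `ellW psi w` counts the same roots as the filtered `negL w`. -/
theorem ell_eq_length (b psi : ℕ) (hpsi : ∀ s < 240, psi.testBit s = !par b s) (w : List ℕ) (hw : ∀ i ∈ w, i < 8) :
    ((negL w).filter fun r => !par b r).length = ellW psi w := by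
  unfold negL ellW ChevalleyDatum.posRoots
  have hn : chevE8.nroots = 240 := rfl
  rw [hn, List.filter_filter, List.filter_filter]
  congr 1
  apply List.filter_congr
  intro r hr
  rw [List.mem_range] at hr
  rw [hpsi r hr]
  have h1 : decide (chevE8.IsPosRoot r) = decide (120 ≤ r) := by
    rw [decide_eq_decide]
    exact ELL_isPosRoot_iff r hr
  rw [h1]
  have h2 : aW w r = actW reflTabsE8 8 240 w r := rfl
  rw [h2]
  cases decide (120 ≤ r) <;> cases (par b r) <;> cases decide (actW reflTabsE8 8 240 w r < 120) <;> rfl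

end Cfsg.Agent.Helper66.E8Inv2
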