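import Mathlib

/-!
S4281 (helper36's E8INV-2 farm), piece (NE) (helper66): the two centralizer orders are different
(compare the exact power of `q`: `q ^ 56` against `q ^ 64`, all the other factors are prime to `q`).
-/

set_option autoImplicit false

namespace Cfsg.Agent.Helper66.E8Inv2

/-- `q` is prime to `q ^ k - 1` for `k ≥ 1` -/
theorem NE_coprime (q k : ℕ) (hk : 1 ≤ k) (hq : 1 ≤ q) : Nat.Coprime q (q ^ k - 1) := by
  have h1 : 1 ≤ q ^ k := Nat.one_le_pow _ _ hq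
  have h2 : Nat.Coprime (q ^ k) (q ^ k - 1) := by
    have h3 : Nat.Coprime (q ^ k - 1 + 1) (q ^ k - 1) := by
      rw [Nat.coprime_self_add_left]
      exact Nat.coprime_one_left _
    rwa [Nat.sub_add_cancel h1] at h3
  exact Nat.Coprime.coprime_dvd_left (dvd_pow_self q (by omega)) h2

/-- (NE) the two orders are different -/
theorem arith_ne (q : ℕ) (hq : 2 ≤ q) :
    q ^ 56 * (q ^ 8 - 1) * ∏ i ∈ Finset.Icc 1 7, (q ^ (2 * i) - 1) ≠
      q ^ 64 * (q ^ 2 - 1) ^ 2 * (q ^ 6 - 1) * (q ^ 8 - 1) * (q ^ 10 - 1) * (q ^ 12 - 1) * (q ^ 14 - 1) *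
        (q ^ 18 - 1) := by
  intro h
  have hq1 : 1 ≤ q := by omega
  have hcop : Nat.Coprime q ((q ^ 8 - 1) * ∏ i ∈ Finset.Icc 1 7, (q ^ (2 * i) - 1)) := by
    apply Nat.Coprime.mul_right (NE_coprime q 8 (by norm_num) hq1)
    apply Nat.Coprime.prod_right
    intro i hi
    rw [Finset.mem_Icc] at hi
    exact NE_coprime q (2 * i) (by omega) hq1
  have h56 : 0 < q ^ 56 := pow_pos (by omega) _
  have h2 : q ^ 56 * ((q ^ 8 - 1) * ∏ i ∈ Finset.Icc 1 7, (q ^ (2 * i) - 1)) =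
      q ^ 56 * (q * (q ^ 7 * ((q ^ 2 - 1) ^ 2 * (q ^ 6 - 1) * (q ^ 8 - 1) * (q ^ 10 - 1) * (q ^ 12 - 1) *
        (q ^ 14 - 1) * (q ^ 18 - 1)))) := by
    rw [← mul_assoc, h]
    ring
  have h3 := Nat.eq_of_mul_eq_mul_left h56 h2
  have hdvd : q ∣ (q ^ 8 - 1) * ∏ i ∈ Finset.Icc 1 7, (q ^ (2 * i) - 1) := ⟨_, h3⟩
  have := Nat.Coprime.eq_one_of_dvd hcop hdvd
  omega

end Cfsg.Agent.Helper66.E8Inv2
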