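import Cfsg.Agent.Helper66.F4OddTCommon

/-!
# S4280 piece (T1) for helper36 (#12203): the table `Tb 1` (384 words)

`Tb 1 = tb1Lit` by kernel evaluation; distinctness through the `Nodup` of the codes `wcode`; closedness of every
`negList w` by `closedOK`; the Poincaré polynomial through the list of the `ell 1 w`.
-/

set_option autoImplicit false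
set_option maxRecDepth 100000

namespace Cfsg.Agent.Helper66.F4Odd

open Cfsg Cfsg.Lie Cfsg.Agent.Helper18 Cfsg.Agent.Helper36.F4Odd Cfsg.Agent.Helper19.Twist
  Cfsg.Agent.Helper36.FieldFix

/-- the table `Tb 1` as a literal -/
def tb1Lit : List (List ℕ) :=
  [[], [2], [1, 2, 1], [1, 2, 1, 2], [0], [0, 2], [0, 1, 2, 1], [0, 1, 2, 1, 2], [3], [3, 2], [3, 1, 2, 1],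
    [3, 1, 2, 1, 2], [3, 0], [3, 0, 2], [3, 0, 1, 2, 1], [3, 0, 1, 2, 1, 2], [2, 3], [2, 3, 2],
    [2, 3, 1, 2, 1], [2, 3, 1, 2, 1, 2], [2, 3, 0], [2, 3, 0, 2], [2, 3, 0, 1, 2, 1], [2, 3, 0, 1, 2, 1, 2],
    [1, 2, 3, 1], [1, 2, 3, 1, 2], [1, 2, 3, 2, 1], [1, 2, 3, 2, 1, 2], [1, 2, 1, 0], [1, 2, 1, 0, 2],
    [1, 2, 1, 0, 1, 2, 1], [1, 2, 1, 0, 1, 2, 1, 2], [0, 1, 2, 3, 1], [0, 1, 2, 3, 1, 2], [0, 1, 2, 3, 2, 1],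
    [0, 1, 2, 3, 2, 1, 2], [2, 1, 2, 3, 1], [2, 1, 2, 3, 1, 2], [2, 1, 2, 3, 2, 1], [2, 1, 2, 3, 2, 1, 2],
    [0, 1, 2, 1, 0], [0, 1, 2, 1, 0, 2], [0, 1, 2, 1, 0, 1, 2, 1], [0, 1, 2, 1, 0, 1, 2, 1, 2],
    [3, 1, 2, 1, 0], [3, 1, 2, 1, 0, 2], [3, 1, 2, 1, 0, 1, 2, 1], [3, 1, 2, 1, 0, 1, 2, 1, 2],
    [1, 2, 3, 1, 0], [1, 2, 3, 1, 0, 2], [1, 2, 3, 1, 0, 1, 2, 1], [1, 2, 3, 1, 0, 1, 2, 1, 2],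
    [2, 0, 1, 2, 3, 1], [2, 0, 1, 2, 3, 1, 2], [2, 0, 1, 2, 3, 2, 1], [2, 0, 1, 2, 3, 2, 1, 2],
    [3, 2, 1, 2, 3, 1], [3, 2, 1, 2, 3, 1, 2], [3, 2, 1, 2, 3, 2, 1], [3, 2, 1, 2, 3, 2, 1, 2],
    [3, 0, 1, 2, 1, 0], [3, 0, 1, 2, 1, 0, 2], [3, 0, 1, 2, 1, 0, 1, 2, 1], [3, 0, 1, 2, 1, 0, 1, 2, 1, 2],
    [2, 3, 1, 2, 1, 0], [2, 3, 1, 2, 1, 0, 2], [2, 3, 1, 2, 1, 0, 1, 2, 1], [2, 3, 1, 2, 1, 0, 1, 2, 1, 2],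
    [1, 2, 3, 2, 1, 0], [1, 2, 3, 2, 1, 0, 2], [1, 2, 3, 2, 1, 0, 1, 2, 1], [1, 2, 3, 2, 1, 0, 1, 2, 1, 2],
    [0, 1, 2, 3, 1, 0], [0, 1, 2, 3, 1, 0, 2], [0, 1, 2, 3, 1, 0, 1, 2, 1], [0, 1, 2, 3, 1, 0, 1, 2, 1, 2],
    [2, 1, 2, 3, 1, 0], [2, 1, 2, 3, 1, 0, 2], [2, 1, 2, 3, 1, 0, 1, 2, 1], [2, 1, 2, 3, 1, 0, 1, 2, 1, 2],
    [3, 2, 0, 1, 2, 3, 1], [3, 2, 0, 1, 2, 3, 1, 2], [3, 2, 0, 1, 2, 3, 2, 1], [3, 2, 0, 1, 2, 3, 2, 1, 2],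
    [2, 3, 0, 1, 2, 1, 0], [2, 3, 0, 1, 2, 1, 0, 2], [2, 3, 0, 1, 2, 1, 0, 1, 2, 1],
    [2, 3, 0, 1, 2, 1, 0, 1, 2, 1, 2], [0, 1, 2, 3, 2, 1, 0], [0, 1, 2, 3, 2, 1, 0, 2],
    [0, 1, 2, 3, 2, 1, 0, 1, 2, 1], [0, 1, 2, 3, 2, 1, 0, 1, 2, 1, 2], [2, 1, 2, 3, 2, 1, 0],
    [2, 1, 2, 3, 2, 1, 0, 2], [2, 1, 2, 3, 2, 1, 0, 1, 2, 1], [2, 1, 2, 3, 2, 1, 0, 1, 2, 1, 2],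
    [2, 0, 1, 2, 3, 1, 0], [2, 0, 1, 2, 3, 1, 0, 2], [2, 0, 1, 2, 3, 1, 0, 1, 2, 1],
    [2, 0, 1, 2, 3, 1, 0, 1, 2, 1, 2], [3, 2, 1, 2, 3, 1, 0], [3, 2, 1, 2, 3, 1, 0, 2],
    [3, 2, 1, 2, 3, 1, 0, 1, 2, 1], [3, 2, 1, 2, 3, 1, 0, 1, 2, 1, 2], [1, 2, 0, 1, 2, 3, 0, 1],
    [1, 2, 0, 1, 2, 3, 0, 1, 2], [1, 2, 0, 1, 2, 3, 0, 2, 1], [1, 2, 0, 1, 2, 3, 0, 2, 1, 2],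
    [1, 2, 3, 0, 1, 2, 1, 0, 1], [1, 2, 3, 0, 1, 2, 1, 0, 1, 2], [1, 2, 3, 0, 1, 2, 1, 0, 2, 1],
    [1, 2, 3, 0, 1, 2, 1, 0, 2, 1, 2], [2, 0, 1, 2, 3, 2, 1, 0], [2, 0, 1, 2, 3, 2, 1, 0, 2],
    [2, 0, 1, 2, 3, 2, 1, 0, 1, 2, 1], [2, 0, 1, 2, 3, 2, 1, 0, 1, 2, 1, 2], [3, 2, 1, 2, 3, 2, 1, 0],
    [3, 2, 1, 2, 3, 2, 1, 0, 2], [3, 2, 1, 2, 3, 2, 1, 0, 1, 2, 1], [3, 2, 1, 2, 3, 2, 1, 0, 1, 2, 1, 2],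
    [1, 2, 0, 1, 2, 3, 1, 0, 1], [1, 2, 0, 1, 2, 3, 1, 0, 1, 2], [1, 2, 0, 1, 2, 3, 1, 0, 2, 1],
    [1, 2, 0, 1, 2, 3, 1, 0, 2, 1, 2], [3, 2, 0, 1, 2, 3, 1, 0], [3, 2, 0, 1, 2, 3, 1, 0, 2],
    [3, 2, 0, 1, 2, 3, 1, 0, 1, 2, 1], [3, 2, 0, 1, 2, 3, 1, 0, 1, 2, 1, 2], [2, 1, 2, 0, 1, 2, 3, 0, 1],
    [2, 1, 2, 0, 1, 2, 3, 0, 1, 2], [2, 1, 2, 0, 1, 2, 3, 0, 2, 1], [2, 1, 2, 0, 1, 2, 3, 0, 2, 1, 2],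
    [3, 1, 2, 0, 1, 2, 3, 0, 1], [3, 1, 2, 0, 1, 2, 3, 0, 1, 2], [3, 1, 2, 0, 1, 2, 3, 0, 2, 1],
    [3, 1, 2, 0, 1, 2, 3, 0, 2, 1, 2], [0, 1, 2, 3, 0, 1, 2, 1, 0, 1], [0, 1, 2, 3, 0, 1, 2, 1, 0, 1, 2],
    [0, 1, 2, 3, 0, 1, 2, 1, 0, 2, 1], [0, 1, 2, 3, 0, 1, 2, 1, 0, 2, 1, 2], [2, 1, 2, 3, 0, 1, 2, 1, 0, 1],
    [2, 1, 2, 3, 0, 1, 2, 1, 0, 1, 2], [2, 1, 2, 3, 0, 1, 2, 1, 0, 2, 1], [2, 1, 2, 3, 0, 1, 2, 1, 0, 2, 1, 2],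
    [1, 2, 0, 1, 2, 3, 2, 1, 0, 1], [1, 2, 0, 1, 2, 3, 2, 1, 0, 1, 2], [1, 2, 0, 1, 2, 3, 2, 1, 0, 2, 1],
    [1, 2, 0, 1, 2, 3, 2, 1, 0, 2, 1, 2], [3, 2, 0, 1, 2, 3, 2, 1, 0], [3, 2, 0, 1, 2, 3, 2, 1, 0, 2],
    [3, 2, 0, 1, 2, 3, 2, 1, 0, 1, 2, 1], [3, 2, 0, 1, 2, 3, 2, 1, 0, 1, 2, 1, 2],
    [2, 1, 2, 0, 1, 2, 3, 1, 0, 1], [2, 1, 2, 0, 1, 2, 3, 1, 0, 1, 2], [2, 1, 2, 0, 1, 2, 3, 1, 0, 2, 1],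
    [2, 1, 2, 0, 1, 2, 3, 1, 0, 2, 1, 2], [3, 1, 2, 0, 1, 2, 3, 1, 0, 1], [3, 1, 2, 0, 1, 2, 3, 1, 0, 1, 2],
    [3, 1, 2, 0, 1, 2, 3, 1, 0, 2, 1], [3, 1, 2, 0, 1, 2, 3, 1, 0, 2, 1, 2], [3, 2, 1, 2, 0, 1, 2, 3, 0, 1],
    [3, 2, 1, 2, 0, 1, 2, 3, 0, 1, 2], [3, 2, 1, 2, 0, 1, 2, 3, 0, 2, 1], [3, 2, 1, 2, 0, 1, 2, 3, 0, 2, 1, 2],
    [2, 3, 1, 2, 0, 1, 2, 3, 0, 1], [2, 3, 1, 2, 0, 1, 2, 3, 0, 1, 2], [2, 3, 1, 2, 0, 1, 2, 3, 0, 2, 1],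
    [2, 3, 1, 2, 0, 1, 2, 3, 0, 2, 1, 2], [1, 2, 3, 1, 2, 0, 1, 2, 3, 1], [1, 2, 3, 1, 2, 0, 1, 2, 3, 1, 2],
    [1, 2, 3, 1, 2, 0, 1, 2, 3, 2, 1], [1, 2, 3, 1, 2, 0, 1, 2, 3, 2, 1, 2], [2, 0, 1, 2, 3, 0, 1, 2, 1, 0, 1],
    [2, 0, 1, 2, 3, 0, 1, 2, 1, 0, 1, 2], [2, 0, 1, 2, 3, 0, 1, 2, 1, 0, 2, 1],
    [2, 0, 1, 2, 3, 0, 1, 2, 1, 0, 2, 1, 2], [3, 2, 1, 2, 3, 0, 1, 2, 1, 0, 1],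
    [3, 2, 1, 2, 3, 0, 1, 2, 1, 0, 1, 2], [3, 2, 1, 2, 3, 0, 1, 2, 1, 0, 2, 1],
    [3, 2, 1, 2, 3, 0, 1, 2, 1, 0, 2, 1, 2], [1, 2, 0, 1, 2, 3, 1, 2, 1, 0, 1],
    [1, 2, 0, 1, 2, 3, 1, 2, 1, 0, 1, 2], [1, 2, 0, 1, 2, 3, 1, 2, 1, 0, 2, 1],
    [1, 2, 0, 1, 2, 3, 1, 2, 1, 0, 2, 1, 2], [2, 1, 2, 0, 1, 2, 3, 2, 1, 0, 1],
    [2, 1, 2, 0, 1, 2, 3, 2, 1, 0, 1, 2], [2, 1, 2, 0, 1, 2, 3, 2, 1, 0, 2, 1],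
    [2, 1, 2, 0, 1, 2, 3, 2, 1, 0, 2, 1, 2], [3, 1, 2, 0, 1, 2, 3, 2, 1, 0, 1],
    [3, 1, 2, 0, 1, 2, 3, 2, 1, 0, 1, 2], [3, 1, 2, 0, 1, 2, 3, 2, 1, 0, 2, 1],
    [3, 1, 2, 0, 1, 2, 3, 2, 1, 0, 2, 1, 2], [3, 2, 1, 2, 0, 1, 2, 3, 1, 0, 1],
    [3, 2, 1, 2, 0, 1, 2, 3, 1, 0, 1, 2], [3, 2, 1, 2, 0, 1, 2, 3, 1, 0, 2, 1],
    [3, 2, 1, 2, 0, 1, 2, 3, 1, 0, 2, 1, 2], [2, 3, 1, 2, 0, 1, 2, 3, 1, 0, 1],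
    [2, 3, 1, 2, 0, 1, 2, 3, 1, 0, 1, 2], [2, 3, 1, 2, 0, 1, 2, 3, 1, 0, 2, 1],
    [2, 3, 1, 2, 0, 1, 2, 3, 1, 0, 2, 1, 2], [2, 3, 2, 1, 2, 0, 1, 2, 3, 0, 1],
    [2, 3, 2, 1, 2, 0, 1, 2, 3, 0, 1, 2], [2, 3, 2, 1, 2, 0, 1, 2, 3, 0, 2, 1],
    [2, 3, 2, 1, 2, 0, 1, 2, 3, 0, 2, 1, 2], [1, 2, 3, 2, 1, 2, 0, 1, 2, 3, 1],
    [1, 2, 3, 2, 1, 2, 0, 1, 2, 3, 1, 2], [1, 2, 3, 2, 1, 2, 0, 1, 2, 3, 2, 1],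
    [1, 2, 3, 2, 1, 2, 0, 1, 2, 3, 2, 1, 2], [0, 1, 2, 3, 1, 2, 0, 1, 2, 3, 1],
    [0, 1, 2, 3, 1, 2, 0, 1, 2, 3, 1, 2], [0, 1, 2, 3, 1, 2, 0, 1, 2, 3, 2, 1],
    [0, 1, 2, 3, 1, 2, 0, 1, 2, 3, 2, 1, 2], [3, 2, 0, 1, 2, 3, 0, 1, 2, 1, 0, 1],
    [3, 2, 0, 1, 2, 3, 0, 1, 2, 1, 0, 1, 2], [3, 2, 0, 1, 2, 3, 0, 1, 2, 1, 0, 2, 1],
    [3, 2, 0, 1, 2, 3, 0, 1, 2, 1, 0, 2, 1, 2], [2, 1, 2, 0, 1, 2, 3, 1, 2, 1, 0, 1],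
    [2, 1, 2, 0, 1, 2, 3, 1, 2, 1, 0, 1, 2], [2, 1, 2, 0, 1, 2, 3, 1, 2, 1, 0, 2, 1],
    [2, 1, 2, 0, 1, 2, 3, 1, 2, 1, 0, 2, 1, 2], [3, 1, 2, 0, 1, 2, 3, 1, 2, 1, 0, 1],
    [3, 1, 2, 0, 1, 2, 3, 1, 2, 1, 0, 1, 2], [3, 1, 2, 0, 1, 2, 3, 1, 2, 1, 0, 2, 1],
    [3, 1, 2, 0, 1, 2, 3, 1, 2, 1, 0, 2, 1, 2], [3, 2, 1, 2, 0, 1, 2, 3, 2, 1, 0, 1],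
    [3, 2, 1, 2, 0, 1, 2, 3, 2, 1, 0, 1, 2], [3, 2, 1, 2, 0, 1, 2, 3, 2, 1, 0, 2, 1],
    [3, 2, 1, 2, 0, 1, 2, 3, 2, 1, 0, 2, 1, 2], [2, 3, 1, 2, 0, 1, 2, 3, 2, 1, 0, 1],
    [2, 3, 1, 2, 0, 1, 2, 3, 2, 1, 0, 1, 2], [2, 3, 1, 2, 0, 1, 2, 3, 2, 1, 0, 2, 1],
    [2, 3, 1, 2, 0, 1, 2, 3, 2, 1, 0, 2, 1, 2], [2, 3, 2, 1, 2, 0, 1, 2, 3, 1, 0, 1],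
    [2, 3, 2, 1, 2, 0, 1, 2, 3, 1, 0, 1, 2], [2, 3, 2, 1, 2, 0, 1, 2, 3, 1, 0, 2, 1],
    [2, 3, 2, 1, 2, 0, 1, 2, 3, 1, 0, 2, 1, 2], [1, 2, 3, 1, 2, 0, 1, 2, 3, 1, 0],
    [1, 2, 3, 1, 2, 0, 1, 2, 3, 1, 0, 2], [1, 2, 3, 1, 2, 0, 1, 2, 3, 1, 0, 1, 2, 1],
    [1, 2, 3, 1, 2, 0, 1, 2, 3, 1, 0, 1, 2, 1, 2], [0, 1, 2, 3, 2, 1, 2, 0, 1, 2, 3, 1],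
    [0, 1, 2, 3, 2, 1, 2, 0, 1, 2, 3, 1, 2], [0, 1, 2, 3, 2, 1, 2, 0, 1, 2, 3, 2, 1],
    [0, 1, 2, 3, 2, 1, 2, 0, 1, 2, 3, 2, 1, 2], [2, 1, 2, 3, 2, 1, 2, 0, 1, 2, 3, 1],
    [2, 1, 2, 3, 2, 1, 2, 0, 1, 2, 3, 1, 2], [2, 1, 2, 3, 2, 1, 2, 0, 1, 2, 3, 2, 1],
    [2, 1, 2, 3, 2, 1, 2, 0, 1, 2, 3, 2, 1, 2], [3, 2, 1, 2, 0, 1, 2, 3, 1, 2, 1, 0, 1],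
    [3, 2, 1, 2, 0, 1, 2, 3, 1, 2, 1, 0, 1, 2], [3, 2, 1, 2, 0, 1, 2, 3, 1, 2, 1, 0, 2, 1],
    [3, 2, 1, 2, 0, 1, 2, 3, 1, 2, 1, 0, 2, 1, 2], [2, 3, 1, 2, 0, 1, 2, 3, 1, 2, 1, 0, 1],
    [2, 3, 1, 2, 0, 1, 2, 3, 1, 2, 1, 0, 1, 2], [2, 3, 1, 2, 0, 1, 2, 3, 1, 2, 1, 0, 2, 1],
    [2, 3, 1, 2, 0, 1, 2, 3, 1, 2, 1, 0, 2, 1, 2], [2, 3, 2, 1, 2, 0, 1, 2, 3, 2, 1, 0, 1],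
    [2, 3, 2, 1, 2, 0, 1, 2, 3, 2, 1, 0, 1, 2], [2, 3, 2, 1, 2, 0, 1, 2, 3, 2, 1, 0, 2, 1],
    [2, 3, 2, 1, 2, 0, 1, 2, 3, 2, 1, 0, 2, 1, 2], [1, 2, 3, 1, 2, 0, 1, 2, 3, 2, 1, 0],
    [1, 2, 3, 1, 2, 0, 1, 2, 3, 2, 1, 0, 2], [1, 2, 3, 1, 2, 0, 1, 2, 3, 2, 1, 0, 1, 2, 1],
    [1, 2, 3, 1, 2, 0, 1, 2, 3, 2, 1, 0, 1, 2, 1, 2], [1, 2, 3, 2, 1, 2, 0, 1, 2, 3, 1, 0],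
    [1, 2, 3, 2, 1, 2, 0, 1, 2, 3, 1, 0, 2], [1, 2, 3, 2, 1, 2, 0, 1, 2, 3, 1, 0, 1, 2, 1],
    [1, 2, 3, 2, 1, 2, 0, 1, 2, 3, 1, 0, 1, 2, 1, 2], [0, 1, 2, 3, 1, 2, 0, 1, 2, 3, 1, 0],
    [0, 1, 2, 3, 1, 2, 0, 1, 2, 3, 1, 0, 2], [0, 1, 2, 3, 1, 2, 0, 1, 2, 3, 1, 0, 1, 2, 1],
    [0, 1, 2, 3, 1, 2, 0, 1, 2, 3, 1, 0, 1, 2, 1, 2], [2, 0, 1, 2, 3, 2, 1, 2, 0, 1, 2, 3, 1],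
    [2, 0, 1, 2, 3, 2, 1, 2, 0, 1, 2, 3, 1, 2], [2, 0, 1, 2, 3, 2, 1, 2, 0, 1, 2, 3, 2, 1],
    [2, 0, 1, 2, 3, 2, 1, 2, 0, 1, 2, 3, 2, 1, 2], [2, 3, 2, 1, 2, 0, 1, 2, 3, 1, 2, 1, 0, 1],
    [2, 3, 2, 1, 2, 0, 1, 2, 3, 1, 2, 1, 0, 1, 2], [2, 3, 2, 1, 2, 0, 1, 2, 3, 1, 2, 1, 0, 2, 1],
    [2, 3, 2, 1, 2, 0, 1, 2, 3, 1, 2, 1, 0, 2, 1, 2], [1, 2, 3, 2, 1, 2, 0, 1, 2, 3, 2, 1, 0],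
    [1, 2, 3, 2, 1, 2, 0, 1, 2, 3, 2, 1, 0, 2], [1, 2, 3, 2, 1, 2, 0, 1, 2, 3, 2, 1, 0, 1, 2, 1],
    [1, 2, 3, 2, 1, 2, 0, 1, 2, 3, 2, 1, 0, 1, 2, 1, 2], [0, 1, 2, 3, 1, 2, 0, 1, 2, 3, 2, 1, 0],
    [0, 1, 2, 3, 1, 2, 0, 1, 2, 3, 2, 1, 0, 2], [0, 1, 2, 3, 1, 2, 0, 1, 2, 3, 2, 1, 0, 1, 2, 1],
    [0, 1, 2, 3, 1, 2, 0, 1, 2, 3, 2, 1, 0, 1, 2, 1, 2], [0, 1, 2, 3, 2, 1, 2, 0, 1, 2, 3, 1, 0],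
    [0, 1, 2, 3, 2, 1, 2, 0, 1, 2, 3, 1, 0, 2], [0, 1, 2, 3, 2, 1, 2, 0, 1, 2, 3, 1, 0, 1, 2, 1],
    [0, 1, 2, 3, 2, 1, 2, 0, 1, 2, 3, 1, 0, 1, 2, 1, 2], [2, 1, 2, 3, 2, 1, 2, 0, 1, 2, 3, 1, 0],
    [2, 1, 2, 3, 2, 1, 2, 0, 1, 2, 3, 1, 0, 2], [2, 1, 2, 3, 2, 1, 2, 0, 1, 2, 3, 1, 0, 1, 2, 1],
    [2, 1, 2, 3, 2, 1, 2, 0, 1, 2, 3, 1, 0, 1, 2, 1, 2], [1, 2, 0, 1, 2, 3, 2, 1, 2, 0, 1, 2, 3],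
    [1, 2, 0, 1, 2, 3, 2, 1, 2, 0, 1, 2, 3, 2], [1, 2, 0, 1, 2, 3, 2, 1, 2, 0, 1, 2, 3, 1, 2, 1],
    [1, 2, 0, 1, 2, 3, 2, 1, 2, 0, 1, 2, 3, 1, 2, 1, 2], [1, 2, 3, 1, 2, 0, 1, 2, 3, 0, 1, 2, 1, 0, 1],
    [1, 2, 3, 1, 2, 0, 1, 2, 3, 0, 1, 2, 1, 0, 1, 2], [1, 2, 3, 1, 2, 0, 1, 2, 3, 0, 1, 2, 1, 0, 2, 1],
    [1, 2, 3, 1, 2, 0, 1, 2, 3, 0, 1, 2, 1, 0, 2, 1, 2], [0, 1, 2, 3, 2, 1, 2, 0, 1, 2, 3, 2, 1, 0],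
    [0, 1, 2, 3, 2, 1, 2, 0, 1, 2, 3, 2, 1, 0, 2], [0, 1, 2, 3, 2, 1, 2, 0, 1, 2, 3, 2, 1, 0, 1, 2, 1],
    [0, 1, 2, 3, 2, 1, 2, 0, 1, 2, 3, 2, 1, 0, 1, 2, 1, 2], [2, 1, 2, 3, 2, 1, 2, 0, 1, 2, 3, 2, 1, 0],
    [2, 1, 2, 3, 2, 1, 2, 0, 1, 2, 3, 2, 1, 0, 2], [2, 1, 2, 3, 2, 1, 2, 0, 1, 2, 3, 2, 1, 0, 1, 2, 1],
    [2, 1, 2, 3, 2, 1, 2, 0, 1, 2, 3, 2, 1, 0, 1, 2, 1, 2], [2, 0, 1, 2, 3, 2, 1, 2, 0, 1, 2, 3, 1, 0],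
    [2, 0, 1, 2, 3, 2, 1, 2, 0, 1, 2, 3, 1, 0, 2], [2, 0, 1, 2, 3, 2, 1, 2, 0, 1, 2, 3, 1, 0, 1, 2, 1],
    [2, 0, 1, 2, 3, 2, 1, 2, 0, 1, 2, 3, 1, 0, 1, 2, 1, 2], [1, 2, 0, 1, 2, 3, 2, 1, 2, 0, 1, 2, 3, 0],
    [1, 2, 0, 1, 2, 3, 2, 1, 2, 0, 1, 2, 3, 0, 2], [1, 2, 0, 1, 2, 3, 2, 1, 2, 0, 1, 2, 3, 0, 1, 2, 1],
    [1, 2, 0, 1, 2, 3, 2, 1, 2, 0, 1, 2, 3, 0, 1, 2, 1, 2], [2, 1, 2, 0, 1, 2, 3, 2, 1, 2, 0, 1, 2, 3],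
    [2, 1, 2, 0, 1, 2, 3, 2, 1, 2, 0, 1, 2, 3, 2], [2, 1, 2, 0, 1, 2, 3, 2, 1, 2, 0, 1, 2, 3, 1, 2, 1],
    [2, 1, 2, 0, 1, 2, 3, 2, 1, 2, 0, 1, 2, 3, 1, 2, 1, 2], [1, 2, 3, 2, 1, 2, 0, 1, 2, 3, 0, 1, 2, 1, 0, 1],
    [1, 2, 3, 2, 1, 2, 0, 1, 2, 3, 0, 1, 2, 1, 0, 1, 2], [1, 2, 3, 2, 1, 2, 0, 1, 2, 3, 0, 1, 2, 1, 0, 2, 1],
    [1, 2, 3, 2, 1, 2, 0, 1, 2, 3, 0, 1, 2, 1, 0, 2, 1, 2], [0, 1, 2, 3, 1, 2, 0, 1, 2, 3, 0, 1, 2, 1, 0, 1],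
    [0, 1, 2, 3, 1, 2, 0, 1, 2, 3, 0, 1, 2, 1, 0, 1, 2], [0, 1, 2, 3, 1, 2, 0, 1, 2, 3, 0, 1, 2, 1, 0, 2, 1],
    [0, 1, 2, 3, 1, 2, 0, 1, 2, 3, 0, 1, 2, 1, 0, 2, 1, 2], [2, 0, 1, 2, 3, 2, 1, 2, 0, 1, 2, 3, 2, 1, 0],
    [2, 0, 1, 2, 3, 2, 1, 2, 0, 1, 2, 3, 2, 1, 0, 2], [2, 0, 1, 2, 3, 2, 1, 2, 0, 1, 2, 3, 2, 1, 0, 1, 2, 1],
    [2, 0, 1, 2, 3, 2, 1, 2, 0, 1, 2, 3, 2, 1, 0, 1, 2, 1, 2], [2, 1, 2, 0, 1, 2, 3, 2, 1, 2, 0, 1, 2, 3, 0],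
    [2, 1, 2, 0, 1, 2, 3, 2, 1, 2, 0, 1, 2, 3, 0, 2], [2, 1, 2, 0, 1, 2, 3, 2, 1, 2, 0, 1, 2, 3, 0, 1, 2, 1],
    [2, 1, 2, 0, 1, 2, 3, 2, 1, 2, 0, 1, 2, 3, 0, 1, 2, 1, 2], [3, 2, 1, 2, 0, 1, 2, 3, 2, 1, 2, 0, 1, 2, 3],
    [3, 2, 1, 2, 0, 1, 2, 3, 2, 1, 2, 0, 1, 2, 3, 2], [3, 2, 1, 2, 0, 1, 2, 3, 2, 1, 2, 0, 1, 2, 3, 1, 2, 1],
    [3, 2, 1, 2, 0, 1, 2, 3, 2, 1, 2, 0, 1, 2, 3, 1, 2, 1, 2],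
    [0, 1, 2, 3, 2, 1, 2, 0, 1, 2, 3, 0, 1, 2, 1, 0, 1],
    [0, 1, 2, 3, 2, 1, 2, 0, 1, 2, 3, 0, 1, 2, 1, 0, 1, 2],
    [0, 1, 2, 3, 2, 1, 2, 0, 1, 2, 3, 0, 1, 2, 1, 0, 2, 1],
    [0, 1, 2, 3, 2, 1, 2, 0, 1, 2, 3, 0, 1, 2, 1, 0, 2, 1, 2],
    [2, 1, 2, 3, 2, 1, 2, 0, 1, 2, 3, 0, 1, 2, 1, 0, 1],
    [2, 1, 2, 3, 2, 1, 2, 0, 1, 2, 3, 0, 1, 2, 1, 0, 1, 2],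
    [2, 1, 2, 3, 2, 1, 2, 0, 1, 2, 3, 0, 1, 2, 1, 0, 2, 1],
    [2, 1, 2, 3, 2, 1, 2, 0, 1, 2, 3, 0, 1, 2, 1, 0, 2, 1, 2],
    [3, 2, 1, 2, 0, 1, 2, 3, 2, 1, 2, 0, 1, 2, 3, 0], [3, 2, 1, 2, 0, 1, 2, 3, 2, 1, 2, 0, 1, 2, 3, 0, 2],
    [3, 2, 1, 2, 0, 1, 2, 3, 2, 1, 2, 0, 1, 2, 3, 0, 1, 2, 1],
    [3, 2, 1, 2, 0, 1, 2, 3, 2, 1, 2, 0, 1, 2, 3, 0, 1, 2, 1, 2],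
    [2, 0, 1, 2, 3, 2, 1, 2, 0, 1, 2, 3, 0, 1, 2, 1, 0, 1],
    [2, 0, 1, 2, 3, 2, 1, 2, 0, 1, 2, 3, 0, 1, 2, 1, 0, 1, 2],
    [2, 0, 1, 2, 3, 2, 1, 2, 0, 1, 2, 3, 0, 1, 2, 1, 0, 2, 1],
    [2, 0, 1, 2, 3, 2, 1, 2, 0, 1, 2, 3, 0, 1, 2, 1, 0, 2, 1, 2],
    [1, 2, 0, 1, 2, 3, 2, 1, 2, 0, 1, 2, 3, 1, 2, 1, 0],
    [1, 2, 0, 1, 2, 3, 2, 1, 2, 0, 1, 2, 3, 1, 2, 1, 0, 2],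
    [1, 2, 0, 1, 2, 3, 2, 1, 2, 0, 1, 2, 3, 1, 2, 1, 0, 1, 2, 1],
    [1, 2, 0, 1, 2, 3, 2, 1, 2, 0, 1, 2, 3, 1, 2, 1, 0, 1, 2, 1, 2],
    [1, 2, 0, 1, 2, 3, 2, 1, 2, 0, 1, 2, 3, 0, 1, 2, 1, 0],
    [1, 2, 0, 1, 2, 3, 2, 1, 2, 0, 1, 2, 3, 0, 1, 2, 1, 0, 2],
    [1, 2, 0, 1, 2, 3, 2, 1, 2, 0, 1, 2, 3, 0, 1, 2, 1, 0, 1, 2, 1],
    [1, 2, 0, 1, 2, 3, 2, 1, 2, 0, 1, 2, 3, 0, 1, 2, 1, 0, 1, 2, 1, 2],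
    [2, 1, 2, 0, 1, 2, 3, 2, 1, 2, 0, 1, 2, 3, 1, 2, 1, 0],
    [2, 1, 2, 0, 1, 2, 3, 2, 1, 2, 0, 1, 2, 3, 1, 2, 1, 0, 2],
    [2, 1, 2, 0, 1, 2, 3, 2, 1, 2, 0, 1, 2, 3, 1, 2, 1, 0, 1, 2, 1],
    [2, 1, 2, 0, 1, 2, 3, 2, 1, 2, 0, 1, 2, 3, 1, 2, 1, 0, 1, 2, 1, 2],
    [2, 1, 2, 0, 1, 2, 3, 2, 1, 2, 0, 1, 2, 3, 0, 1, 2, 1, 0],
    [2, 1, 2, 0, 1, 2, 3, 2, 1, 2, 0, 1, 2, 3, 0, 1, 2, 1, 0, 2],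
    [2, 1, 2, 0, 1, 2, 3, 2, 1, 2, 0, 1, 2, 3, 0, 1, 2, 1, 0, 1, 2, 1],
    [2, 1, 2, 0, 1, 2, 3, 2, 1, 2, 0, 1, 2, 3, 0, 1, 2, 1, 0, 1, 2, 1, 2],
    [3, 2, 1, 2, 0, 1, 2, 3, 2, 1, 2, 0, 1, 2, 3, 1, 2, 1, 0],
    [3, 2, 1, 2, 0, 1, 2, 3, 2, 1, 2, 0, 1, 2, 3, 1, 2, 1, 0, 2],
    [3, 2, 1, 2, 0, 1, 2, 3, 2, 1, 2, 0, 1, 2, 3, 1, 2, 1, 0, 1, 2, 1],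
    [3, 2, 1, 2, 0, 1, 2, 3, 2, 1, 2, 0, 1, 2, 3, 1, 2, 1, 0, 1, 2, 1, 2],
    [3, 2, 1, 2, 0, 1, 2, 3, 2, 1, 2, 0, 1, 2, 3, 0, 1, 2, 1, 0],
    [3, 2, 1, 2, 0, 1, 2, 3, 2, 1, 2, 0, 1, 2, 3, 0, 1, 2, 1, 0, 2],
    [3, 2, 1, 2, 0, 1, 2, 3, 2, 1, 2, 0, 1, 2, 3, 0, 1, 2, 1, 0, 1, 2, 1],
    [3, 2, 1, 2, 0, 1, 2, 3, 2, 1, 2, 0, 1, 2, 3, 0, 1, 2, 1, 0, 1, 2, 1, 2]]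

/-- the values `ell 1 w` along the table -/
def ell1Lit : List ℕ :=
  [0, 1, 1, 2, 1, 2, 2, 3, 1, 2, 2, 3, 2, 3, 3, 4, 2, 3, 3, 4, 3, 4, 4, 5, 2, 3, 3, 4, 2, 3, 3, 4, 3, 4, 4, 5,
    3, 4, 4, 5, 3, 4, 4, 5, 3, 4, 4, 5, 3, 4, 4, 5, 4, 5, 5, 6, 4, 5, 5, 6, 4, 5, 5, 6, 4, 5, 5, 6, 4, 5, 5, 6,
    4, 5, 5, 6, 4, 5, 5, 6, 5, 6, 6, 7, 5, 6, 6, 7, 5, 6, 6, 7, 5, 6, 6, 7, 5, 6, 6, 7, 5, 6, 6, 7, 4, 5, 5, 6,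
    5, 6, 6, 7, 6, 7, 7, 8, 6, 7, 7, 8, 5, 6, 6, 7, 6, 7, 7, 8, 5, 6, 6, 7, 5, 6, 6, 7, 6, 7, 7, 8, 6, 7, 7, 8,
    6, 7, 7, 8, 7, 8, 8, 9, 6, 7, 7, 8, 6, 7, 7, 8, 6, 7, 7, 8, 6, 7, 7, 8, 6, 7, 7, 8, 7, 8, 8, 9, 7, 8, 8, 9,
    7, 8, 8, 9, 7, 8, 8, 9, 7, 8, 8, 9, 7, 8, 8, 9, 7, 8, 8, 9, 7, 8, 8, 9, 7, 8, 8, 9, 7, 8, 8, 9, 8, 9, 9,
    10, 8, 9, 9, 10, 8, 9, 9, 10, 8, 9, 9, 10, 8, 9, 9, 10, 8, 9, 9, 10, 7, 8, 8, 9, 8, 9, 9, 10, 8, 9, 9, 10,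
    9, 10, 10, 11, 9, 10, 10, 11, 9, 10, 10, 11, 8, 9, 9, 10, 8, 9, 9, 10, 8, 9, 9, 10, 9, 10, 10, 11, 10, 11,
    11, 12, 9, 10, 10, 11, 9, 10, 10, 11, 9, 10, 10, 11, 9, 10, 10, 11, 9, 10, 10, 11, 9, 10, 10, 11, 10, 11,
    11, 12, 10, 11, 11, 12, 10, 11, 11, 12, 10, 11, 11, 12, 10, 11, 11, 12, 10, 11, 11, 12, 10, 11, 11, 12, 11,
    12, 12, 13, 11, 12, 12, 13, 11, 12, 12, 13, 11, 12, 12, 13, 11, 12, 12, 13, 12, 13, 13, 14, 12, 13, 13, 14,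
    11, 12, 12, 13, 12, 13, 13, 14, 12, 13, 13, 14, 13, 14, 14, 15, 13, 14, 14, 15, 14, 15, 15, 16]

theorem Tb1_eq : Tb 1 = tb1Lit := by decide +kernel

theorem tb1_nodup : (tb1Lit.map wcode).Nodup := by decide +kernel

theorem tb1_closedOK : tb1Lit.all (fun w => closedOK chevF4 phiO (negList w)) = true := by
  decide +kernel

theorem tb1_ell : tb1Lit.map (ell 1) = ell1Lit := by decide +kernel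

theorem ell1Lit_lt : ∀ k ∈ ell1Lit, k < 17 := by decide +kernel

/-- (T1) -/
theorem Tb1_distinct : ∀ i < (Tb 1).length, ∀ j < (Tb 1).length,
    (∀ x < 48, aW ((Tb 1).getD i []) x = aW ((Tb 1).getD j []) x) → i = j := by
  rw [Tb1_eq]
  exact distinct_of_nodup tb1Lit tb1_nodup

theorem Tb1_closed : ∀ w ∈ Tb 1, ClosedList chevF4 phiO (negList w) := by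
  intro w hw
  rw [Tb1_eq] at hw
  exact closedOK_spec (List.all_eq_true.mp tb1_closedOK w hw)

theorem Tb1_sum (q : ℕ) : ((Tb 1).map fun w => q ^ ell 1 w).sum =
    1 + 4 * q + 9 * q ^ 2 + 16 * q ^ 3 + 24 * q ^ 4 + 32 * q ^ 5 + 39 * q ^ 6 + 44 * q ^ 7 + 46 * q ^ 8 + 44 * q ^ 9 +
      39 * q ^ 10 + 32 * q ^ 11 + 24 * q ^ 12 + 16 * q ^ 13 + 9 * q ^ 14 + 4 * q ^ 15 + q ^ 16 := by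
  have h1 : ((Tb 1).map fun w => q ^ ell 1 w) = (((Tb 1).map (ell 1)).map fun k => q ^ k) := by
    rw [List.map_map]
    rfl
  rw [h1, Tb1_eq, tb1_ell, sum_pow_eq ell1Lit 17 ell1Lit_lt q]
  have c0 : ell1Lit.count 0 = 1 := by decide +kernel
  have c1 : ell1Lit.count 1 = 4 := by decide +kernel
  have c2 : ell1Lit.count 2 = 9 := by decide +kernel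
  have c3 : ell1Lit.count 3 = 16 := by decide +kernel
  have c4 : ell1Lit.count 4 = 24 := by decide +kernel
  have c5 : ell1Lit.count 5 = 32 := by decide +kernel
  have c6 : ell1Lit.count 6 = 39 := by decide +kernel
  have c7 : ell1Lit.count 7 = 44 := by decide +kernel
  have c8 : ell1Lit.count 8 = 46 := by decide +kernel
  have c9 : ell1Lit.count 9 = 44 := by decide +kernel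
  have c10 : ell1Lit.count 10 = 39 := by decide +kernel
  have c11 : ell1Lit.count 11 = 32 := by decide +kernel
  have c12 : ell1Lit.count 12 = 24 := by decide +kernel
  have c13 : ell1Lit.count 13 = 16 := by decide +kernel
  have c14 : ell1Lit.count 14 = 9 := by decide +kernel
  have c15 : ell1Lit.count 15 = 4 := by decide +kernel
  have c16 : ell1Lit.count 16 = 1 := by decide +kernel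
  simp only [Finset.sum_range_succ, Finset.sum_range_zero, c0, c1, c2, c3, c4, c5, c6, c7, c8, c9, c10, c11, c12, c13, c14, c15, c16]
  ring

end Cfsg.Agent.Helper66.F4Odd
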