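import Cfsg.Agent.Helper66.F4OddTCommon

/-!
# S4280 piece (T8) for helper36 (#12203): the table `Tb 8` (96 words)

`Tb 8 = tb8Lit` by kernel evaluation; distinctness through the `Nodup` of the codes `wcode`; closedness of every
`negList w` by `closedOK`; the Poincaré polynomial through the list of the `ell 8 w`.
-/

set_option autoImplicit false
set_option maxRecDepth 100000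

namespace Cfsg.Agent.Helper66.F4Odd

open Cfsg Cfsg.Lie Cfsg.Agent.Helper18 Cfsg.Agent.Helper36.F4Odd Cfsg.Agent.Helper19.Twist
  Cfsg.Agent.Helper36.FieldFix

/-- the table `Tb 8` as a literal -/
def tb8Lit : List (List ℕ) :=
  [[], [1], [0], [0, 1], [3], [3, 1], [1, 0], [1, 0, 1], [3, 0], [3, 0, 1], [3, 1, 0], [3, 1, 0, 1],
    [2, 1, 2, 3, 2, 1, 2], [2, 1, 2, 3, 1, 2, 1, 2], [2, 0, 1, 2, 3, 2, 1, 2], [2, 0, 1, 2, 3, 1, 2, 1, 2],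
    [3, 2, 1, 2, 3, 2, 1, 2], [3, 2, 1, 2, 3, 1, 2, 1, 2], [1, 2, 0, 1, 2, 3, 2, 1, 2],
    [1, 2, 0, 1, 2, 3, 1, 2, 1, 2], [3, 2, 0, 1, 2, 3, 2, 1, 2], [3, 2, 0, 1, 2, 3, 1, 2, 1, 2],
    [2, 1, 2, 3, 2, 1, 0, 2], [2, 1, 2, 3, 2, 1, 0, 2, 1], [3, 1, 2, 0, 1, 2, 3, 2, 1, 2],
    [3, 1, 2, 0, 1, 2, 3, 1, 2, 1, 2], [2, 1, 2, 3, 1, 2, 1, 0, 2], [2, 1, 2, 3, 1, 2, 1, 0, 2, 1],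
    [2, 0, 1, 2, 3, 2, 1, 0, 2], [2, 0, 1, 2, 3, 2, 1, 0, 2, 1], [3, 2, 1, 2, 3, 2, 1, 0, 2],
    [3, 2, 1, 2, 3, 2, 1, 0, 2, 1], [2, 0, 1, 2, 3, 1, 2, 1, 0, 2], [2, 0, 1, 2, 3, 1, 2, 1, 0, 2, 1],
    [3, 2, 1, 2, 3, 1, 2, 1, 0, 2], [3, 2, 1, 2, 3, 1, 2, 1, 0, 2, 1], [1, 2, 0, 1, 2, 3, 2, 1, 0, 2],
    [1, 2, 0, 1, 2, 3, 2, 1, 0, 2, 1], [3, 2, 0, 1, 2, 3, 2, 1, 0, 2], [3, 2, 0, 1, 2, 3, 2, 1, 0, 2, 1],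
    [2, 3, 1, 2, 0, 1, 2, 3, 0, 1, 2], [2, 3, 1, 2, 0, 1, 2, 3, 0, 1, 2, 1], [1, 2, 0, 1, 2, 3, 1, 2, 1, 0, 2],
    [1, 2, 0, 1, 2, 3, 1, 2, 1, 0, 2, 1], [3, 2, 0, 1, 2, 3, 1, 2, 1, 0, 2],
    [3, 2, 0, 1, 2, 3, 1, 2, 1, 0, 2, 1], [3, 1, 2, 0, 1, 2, 3, 2, 1, 0, 2],
    [3, 1, 2, 0, 1, 2, 3, 2, 1, 0, 2, 1], [2, 3, 1, 2, 0, 1, 2, 3, 1, 0, 1, 2],
    [2, 3, 1, 2, 0, 1, 2, 3, 1, 0, 1, 2, 1], [2, 3, 2, 1, 2, 0, 1, 2, 3, 0, 1, 2],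
    [2, 3, 2, 1, 2, 0, 1, 2, 3, 0, 1, 2, 1], [1, 2, 3, 1, 2, 0, 1, 2, 3, 0, 1, 2],
    [1, 2, 3, 1, 2, 0, 1, 2, 3, 0, 1, 2, 1], [3, 1, 2, 0, 1, 2, 3, 1, 2, 1, 0, 2],
    [3, 1, 2, 0, 1, 2, 3, 1, 2, 1, 0, 2, 1], [2, 3, 2, 1, 2, 0, 1, 2, 3, 1, 0, 1, 2],
    [2, 3, 2, 1, 2, 0, 1, 2, 3, 1, 0, 1, 2, 1], [1, 2, 3, 1, 2, 0, 1, 2, 3, 1, 0, 1, 2],
    [1, 2, 3, 1, 2, 0, 1, 2, 3, 1, 0, 1, 2, 1], [1, 2, 3, 2, 1, 2, 0, 1, 2, 3, 0, 1, 2],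
    [1, 2, 3, 2, 1, 2, 0, 1, 2, 3, 0, 1, 2, 1], [0, 1, 2, 3, 1, 2, 0, 1, 2, 3, 0, 1, 2],
    [0, 1, 2, 3, 1, 2, 0, 1, 2, 3, 0, 1, 2, 1], [1, 2, 3, 2, 1, 2, 0, 1, 2, 3, 1, 0, 1, 2],
    [1, 2, 3, 2, 1, 2, 0, 1, 2, 3, 1, 0, 1, 2, 1], [0, 1, 2, 3, 1, 2, 0, 1, 2, 3, 1, 0, 1, 2],
    [0, 1, 2, 3, 1, 2, 0, 1, 2, 3, 1, 0, 1, 2, 1], [0, 1, 2, 3, 2, 1, 2, 0, 1, 2, 3, 0, 1, 2],
    [0, 1, 2, 3, 2, 1, 2, 0, 1, 2, 3, 0, 1, 2, 1], [2, 3, 1, 2, 0, 1, 2, 3, 0, 1, 2, 1, 0],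
    [2, 3, 1, 2, 0, 1, 2, 3, 0, 1, 2, 1, 0, 1], [0, 1, 2, 3, 2, 1, 2, 0, 1, 2, 3, 1, 0, 1, 2],
    [0, 1, 2, 3, 2, 1, 2, 0, 1, 2, 3, 1, 0, 1, 2, 1], [2, 3, 2, 1, 2, 0, 1, 2, 3, 0, 1, 2, 1, 0],
    [2, 3, 2, 1, 2, 0, 1, 2, 3, 0, 1, 2, 1, 0, 1], [1, 2, 3, 1, 2, 0, 1, 2, 3, 0, 1, 2, 1, 0],
    [1, 2, 3, 1, 2, 0, 1, 2, 3, 0, 1, 2, 1, 0, 1], [1, 2, 3, 2, 1, 2, 0, 1, 2, 3, 0, 1, 2, 1, 0],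
    [1, 2, 3, 2, 1, 2, 0, 1, 2, 3, 0, 1, 2, 1, 0, 1], [0, 1, 2, 3, 1, 2, 0, 1, 2, 3, 0, 1, 2, 1, 0],
    [0, 1, 2, 3, 1, 2, 0, 1, 2, 3, 0, 1, 2, 1, 0, 1], [0, 1, 2, 3, 2, 1, 2, 0, 1, 2, 3, 0, 1, 2, 1, 0],
    [0, 1, 2, 3, 2, 1, 2, 0, 1, 2, 3, 0, 1, 2, 1, 0, 1],
    [2, 1, 2, 0, 1, 2, 3, 2, 1, 2, 0, 1, 2, 3, 2, 1, 0, 2, 1, 2],
    [2, 1, 2, 0, 1, 2, 3, 2, 1, 2, 0, 1, 2, 3, 2, 1, 0, 1, 2, 1, 2],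
    [2, 1, 2, 0, 1, 2, 3, 2, 1, 2, 0, 1, 2, 3, 1, 2, 1, 0, 2, 1, 2],
    [2, 1, 2, 0, 1, 2, 3, 2, 1, 2, 0, 1, 2, 3, 1, 2, 1, 0, 1, 2, 1, 2],
    [3, 2, 1, 2, 0, 1, 2, 3, 2, 1, 2, 0, 1, 2, 3, 2, 1, 0, 2, 1, 2],
    [3, 2, 1, 2, 0, 1, 2, 3, 2, 1, 2, 0, 1, 2, 3, 2, 1, 0, 1, 2, 1, 2],
    [2, 1, 2, 0, 1, 2, 3, 2, 1, 2, 0, 1, 2, 3, 0, 1, 2, 1, 0, 2, 1, 2],
    [2, 1, 2, 0, 1, 2, 3, 2, 1, 2, 0, 1, 2, 3, 0, 1, 2, 1, 0, 1, 2, 1, 2],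
    [3, 2, 1, 2, 0, 1, 2, 3, 2, 1, 2, 0, 1, 2, 3, 1, 2, 1, 0, 2, 1, 2],
    [3, 2, 1, 2, 0, 1, 2, 3, 2, 1, 2, 0, 1, 2, 3, 1, 2, 1, 0, 1, 2, 1, 2],
    [3, 2, 1, 2, 0, 1, 2, 3, 2, 1, 2, 0, 1, 2, 3, 0, 1, 2, 1, 0, 2, 1, 2],
    [3, 2, 1, 2, 0, 1, 2, 3, 2, 1, 2, 0, 1, 2, 3, 0, 1, 2, 1, 0, 1, 2, 1, 2]]

/-- the values `ell 8 w` along the table -/
def ell8Lit : List ℕ :=
  [0, 1, 1, 2, 1, 2, 2, 3, 2, 3, 3, 4, 1, 2, 2, 3, 2, 3, 3, 4, 3, 4, 2, 3, 4, 5, 3, 4, 3, 4, 3, 4, 4, 5, 4, 5,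
    4, 5, 4, 5, 3, 4, 5, 6, 5, 6, 5, 6, 4, 5, 4, 5, 4, 5, 6, 7, 5, 6, 5, 6, 5, 6, 5, 6, 6, 7, 6, 7, 6, 7, 5, 6,
    7, 8, 6, 7, 6, 7, 7, 8, 7, 8, 8, 9, 6, 7, 7, 8, 7, 8, 8, 9, 8, 9, 9, 10]

theorem Tb8_eq : Tb 8 = tb8Lit := by decide +kernel

theorem tb8_nodup : (tb8Lit.map wcode).Nodup := by decide +kernel

theorem tb8_closedOK : tb8Lit.all (fun w => closedOK chevF4 phiO (negList w)) = true := by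
  decide +kernel

theorem tb8_ell : tb8Lit.map (ell 8) = ell8Lit := by decide +kernel

theorem ell8Lit_lt : ∀ k ∈ ell8Lit, k < 11 := by decide +kernel

/-- (T8) -/
theorem Tb8_distinct : ∀ i < (Tb 8).length, ∀ j < (Tb 8).length,
    (∀ x < 48, aW ((Tb 8).getD i []) x = aW ((Tb 8).getD j []) x) → i = j := by
  rw [Tb8_eq]
  exact distinct_of_nodup tb8Lit tb8_nodup

theorem Tb8_closed : ∀ w ∈ Tb 8, ClosedList chevF4 phiO (negList w) := by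
  intro w hw
  rw [Tb8_eq] at hw
  exact closedOK_spec (List.all_eq_true.mp tb8_closedOK w hw)

theorem Tb8_sum (q : ℕ) : ((Tb 8).map fun w => q ^ ell 8 w).sum =
    1 + 4 * q + 8 * q ^ 2 + 12 * q ^ 3 + 15 * q ^ 4 + 16 * q ^ 5 + 15 * q ^ 6 + 12 * q ^ 7 + 8 * q ^ 8 + 4 * q ^ 9 +
      q ^ 10 := by
  have h1 : ((Tb 8).map fun w => q ^ ell 8 w) = (((Tb 8).map (ell 8)).map fun k => q ^ k) := by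
    rw [List.map_map]
    rfl
  rw [h1, Tb8_eq, tb8_ell, sum_pow_eq ell8Lit 11 ell8Lit_lt q]
  have c0 : ell8Lit.count 0 = 1 := by decide +kernel
  have c1 : ell8Lit.count 1 = 4 := by decide +kernel
  have c2 : ell8Lit.count 2 = 8 := by decide +kernel
  have c3 : ell8Lit.count 3 = 12 := by decide +kernel
  have c4 : ell8Lit.count 4 = 15 := by decide +kernel
  have c5 : ell8Lit.count 5 = 16 := by decide +kernel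
  have c6 : ell8Lit.count 6 = 15 := by decide +kernel
  have c7 : ell8Lit.count 7 = 12 := by decide +kernel
  have c8 : ell8Lit.count 8 = 8 := by decide +kernel
  have c9 : ell8Lit.count 9 = 4 := by decide +kernel
  have c10 : ell8Lit.count 10 = 1 := by decide +kernel
  simp only [Finset.sum_range_succ, Finset.sum_range_zero, c0, c1, c2, c3, c4, c5, c6, c7, c8, c9, c10]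
  ring

end Cfsg.Agent.Helper66.F4Odd
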