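import Mathlib

set_option autoImplicit false

namespace Cfsg.Agent.Helper66

variable {G : Type*} [Group G]

/-- The number of conjugates of `g` is the index of its centralizer. -/
theorem card_range_conj_eq_index (g : G) :
    Nat.card (Set.range (fun a : G => a * g * a⁻¹)) = (Subgroup.centralizer ({g} : Set G)).index := by
  rw [Subgroup.index_eq_card]
  apply Nat.card_congr
  symm
  have hwd : ∀ a b : G, (QuotientGroup.leftRel (Subgroup.centralizer ({g} : Set G))) a b →
      (⟨a * g * a⁻¹, a, rfl⟩ : Set.range (fun a : G => a * g * a⁻¹)) = ⟨b * g * b⁻¹, b, rfl⟩ := by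
    intro a b hab
    rw [QuotientGroup.leftRel_apply, Subgroup.mem_centralizer_singleton_iff] at hab
    apply Subtype.ext
    show a * g * a⁻¹ = b * g * b⁻¹
    have : g * a⁻¹ = a⁻¹ * b * g * b⁻¹ := by
      calc g * a⁻¹ = (g * (a⁻¹ * b)) * b⁻¹ := by group
        _ = (a⁻¹ * b * g) * b⁻¹ := by rw [hab]
        _ = a⁻¹ * b * g * b⁻¹ := by group
    calc a * g * a⁻¹ = a * (g * a⁻¹) := by group
      _ = a * (a⁻¹ * b * g * b⁻¹) := by rw [this]
      _ = b * g * b⁻¹ := by group
  refine Equiv.ofBijective (fun q => Quotient.liftOn' q (fun a => ⟨a * g * a⁻¹, a, rfl⟩) hwd) ⟨?_, ?_⟩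
  · intro q₁ q₂
    refine Quotient.inductionOn₂' q₁ q₂ ?_
    intro a b h
    simp only [Quotient.liftOn'_mk''] at h
    have h' : a * g * a⁻¹ = b * g * b⁻¹ := congrArg Subtype.val h
    apply Quotient.sound'
    rw [QuotientGroup.leftRel_apply, Subgroup.mem_centralizer_singleton_iff]
    calc a⁻¹ * b * g = a⁻¹ * (b * g * b⁻¹) * b := by group
      _ = a⁻¹ * (a * g * a⁻¹) * b := by rw [h']
      _ = g * (a⁻¹ * b) := by group
  · rintro ⟨_, a, rfl⟩
    exact ⟨Quotient.mk'' a, rfl⟩

/-- Conjugate elements have centralizers of the same index. -/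
theorem index_centralizer_conj (g a : G) :
    (Subgroup.centralizer ({a * g * a⁻¹} : Set G)).index = (Subgroup.centralizer ({g} : Set G)).index := by
  rw [← card_range_conj_eq_index, ← card_range_conj_eq_index]
  congr 2
  ext z
  constructor
  · rintro ⟨b, rfl⟩
    exact ⟨b * a, by simp only []; group⟩
  · rintro ⟨b, rfl⟩
    exact ⟨b * a⁻¹, by simp only []; group⟩

/-- The centralizer of a pair in a product. -/
theorem index_centralizer_prod {M N : Type*} [Group M] [Group N] (a : M) (b : N) :
    (Subgroup.centralizer ({(a, b)} : Set (M × N))).index =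
      (Subgroup.centralizer ({a} : Set M)).index * (Subgroup.centralizer ({b} : Set N)).index := by
  have : Subgroup.centralizer ({(a, b)} : Set (M × N)) =
      (Subgroup.centralizer ({a} : Set M)).prod (Subgroup.centralizer ({b} : Set N)) := by
    ext ⟨m, n⟩
    simp only [Subgroup.mem_centralizer_singleton_iff, Subgroup.mem_prod, Prod.mk_mul_mk, Prod.mk.injEq]
  rw [this, Subgroup.index_prod]

/-- A group isomorphism preserves the index of centralizers. -/
theorem index_centralizer_mulEquiv {M : Type*} [Group M] (e : M ≃* G) (m : M) :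
    (Subgroup.centralizer ({e m} : Set G)).index = (Subgroup.centralizer ({m} : Set M)).index := by
  have : Subgroup.centralizer ({m} : Set M) = (Subgroup.centralizer ({e m} : Set G)).comap e.toMonoidHom := by
    ext x
    simp only [Subgroup.mem_centralizer_singleton_iff, Subgroup.mem_comap, MulEquiv.coe_toMonoidHom]
    rw [← map_mul, ← map_mul, e.injective.eq_iff]
  rw [this, Subgroup.index_comap_of_surjective _ e.surjective]

end Cfsg.Agent.Helper66
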