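import Mathlib
import Cfsg.Agent.Helper75.Frobenius

/-!
# Counting elements of each order (towards S3995)
-/

set_option autoImplicit false
set_option linter.style.haveILetI false

namespace Cfsg.Agent.Helper66

universe u

section
variable (G : Type u) [Group G]

/-- The number of elements of order `m`. -/
noncomputable def cnt (m : ℕ) : ℕ := Nat.card {g : G // orderOf g = m}

variable {G}

theorem cnt_one : cnt G 1 = 1 := by
  unfold cnt
  have : Unique {g : G // orderOf g = 1} :=
    { default := ⟨1, orderOf_one⟩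
      uniq := fun x => Subtype.ext (orderOf_eq_one_iff.mp x.2) }
  exact Nat.card_unique

variable [Finite G]

/-- Elements with `g ^ m = 1`, counted by their orders. -/
theorem card_pow_eq_one_eq_sum (m : ℕ) (D : Finset ℕ)
    (hD : ∀ g : G, g ^ m = 1 → orderOf g ∈ D) (hD' : ∀ d ∈ D, d ∣ m) :
    Nat.card {g : G // g ^ m = 1} = ∑ d ∈ D, cnt G d := by
  classical
  haveI : Fintype G := Fintype.ofFinite G
  have h1 : Nat.card {g : G // g ^ m = 1} = (Finset.univ.filter (fun g : G => g ^ m = 1)).card := by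
    rw [Nat.card_eq_fintype_card, Fintype.card_subtype]
  have h2 : ∀ d, cnt G d = (Finset.univ.filter (fun g : G => orderOf g = d)).card := by
    intro d
    unfold cnt
    rw [Nat.card_eq_fintype_card, Fintype.card_subtype]
  rw [h1, Finset.card_eq_sum_card_fiberwise (f := fun g : G => orderOf g) (t := D)
    (fun g hg => hD g (Finset.mem_filter.mp hg).2)]
  refine Finset.sum_congr rfl (fun d hd => ?_)
  rw [h2 d]
  congr 1
  ext g
  simp only [Finset.mem_filter, Finset.mem_univ, true_and]
  constructor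
  · exact fun h => h.2
  · intro h
    refine ⟨?_, h⟩
    rw [← orderOf_dvd_iff_pow_eq_one, h]
    exact hD' d hd

theorem cnt_pos_of_orderOf (g : G) : 0 < cnt G (orderOf g) := by
  unfold cnt
  haveI : Nonempty {x : G // orderOf x = orderOf g} := ⟨⟨g, rfl⟩⟩
  exact Nat.card_pos

theorem cnt_eq_zero_of_forall_ne {m : ℕ} (h : ∀ g : G, orderOf g ≠ m) : cnt G m = 0 := by
  unfold cnt
  haveI : IsEmpty {g : G // orderOf g = m} := ⟨fun x => h x.1 x.2⟩
  exact Nat.card_of_isEmpty

/-- If there is exactly one element of order `m`, then `m ≤ 2`. -/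
theorem le_two_of_cnt_eq_one {g : G} (h : cnt G (orderOf g) = 1) : orderOf g = 1 ∨ orderOf g = 2 := by
  unfold cnt at h
  rw [Nat.card_eq_one_iff_unique] at h
  obtain ⟨hs, -⟩ := h
  have : (⟨g⁻¹, orderOf_inv g⟩ : {x : G // orderOf x = orderOf g}) = ⟨g, rfl⟩ := Subsingleton.elim _ _
  have hinv : g⁻¹ = g := congrArg Subtype.val this
  have h2 : g ^ 2 = 1 := by
    rw [pow_two]
    nth_rewrite 1 [← hinv]
    exact inv_mul_cancel g
  have hd : orderOf g ∣ 2 := orderOf_dvd_of_pow_eq_one h2
  rcases (Nat.dvd_prime Nat.prime_two).mp hd with h | h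
  · exact Or.inl h
  · exact Or.inr h

end

end Cfsg.Agent.Helper66

namespace Cfsg.Agent.Helper66

universe u

section lemmaA
variable {G : Type u} [Group G] [Finite G] {n : ℕ}

/-- All nonidentity element orders occur equally often (`n` times). -/
def SameCount (G : Type u) [Group G] (n : ℕ) : Prop := ∀ g : G, g ≠ 1 → cnt G (orderOf g) = n

theorem exists_pow_orderOf_eq' (g : G) {k : ℕ} (hk : k ∣ orderOf g) :
    ∃ j : ℕ, orderOf (g ^ j) = k := by
  have hpos : 0 < orderOf g := orderOf_pos g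
  have hk0 : k ≠ 0 := fun h => by rw [h, zero_dvd_iff] at hk; omega
  refine ⟨orderOf g / k, ?_⟩
  have hd : orderOf g / k ∣ orderOf g := Nat.div_dvd_of_dvd hk
  have hne : orderOf g / k ≠ 0 := by
    have := Nat.div_pos (Nat.le_of_dvd hpos hk) (Nat.pos_of_ne_zero hk0)
    omega
  rw [orderOf_pow_of_dvd hne hd, Nat.div_div_self hk hpos.ne']

theorem SameCount.cnt_eq (h : SameCount G n) {g : G} {d : ℕ} (hg : orderOf g = d) (hd : d ≠ 1) :
    cnt G d = n := by
  have hg1 : g ≠ 1 := by
    intro h1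
    rw [h1, orderOf_one] at hg
    exact hd hg.symm
  rw [← hg]; exact h g hg1

theorem SameCount.prime_dvd (h : SameCount G n) {p : ℕ} (hp : p.Prime) (hpG : p ∣ Nat.card G) :
    p ∣ 1 + n := by
  haveI := Fact.mk hp
  obtain ⟨x, hx⟩ := exists_prime_orderOf_dvd_card' (G := G) p hpG
  have hc : cnt G p = n := h.cnt_eq hx hp.ne_one
  have hS : Nat.card {g : G // g ^ p = 1} = 1 + n := by
    rw [card_pow_eq_one_eq_sum p {1, p}, Finset.sum_pair hp.ne_one.symm, cnt_one, hc]
    · intro g hg
      have := orderOf_dvd_of_pow_eq_one hg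
      rcases (Nat.dvd_prime hp).mp this with h1 | h1 <;> simp [h1]
    · intro d hd
      simp only [Finset.mem_insert, Finset.mem_singleton] at hd
      rcases hd with rfl | rfl <;> simp
  rw [← hS]
  exact Helper75.frobenius_dvd p hpG

theorem SameCount.not_dvd (h : SameCount G n) {p : ℕ} (hp : p.Prime) (hpG : p ∣ Nat.card G) :
    ¬ p ∣ n := by
  intro hn
  have h1 := h.prime_dvd hp hpG
  have : p ∣ 1 := (Nat.dvd_add_left hn).mp h1
  exact hp.one_lt.ne' (Nat.dvd_one.mp this)

theorem SameCount.orderOf_ne_sq (h : SameCount G n) {p : ℕ} (hp : p.Prime) (g : G) :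
    orderOf g ≠ p ^ 2 := by
  intro hg
  have hpG2 : p ^ 2 ∣ Nat.card G := hg ▸ orderOf_dvd_natCard g
  have hpG : p ∣ Nat.card G := (dvd_pow_self p two_ne_zero).trans hpG2
  have hc2 : cnt G (p ^ 2) = n := h.cnt_eq hg (by
    have := hp.one_lt; nlinarith)
  obtain ⟨j, hj⟩ := exists_pow_orderOf_eq' g (k := p) (by rw [hg]; exact dvd_pow_self p two_ne_zero)
  have hc1 : cnt G p = n := h.cnt_eq hj hp.ne_one
  have hp1 : (1 : ℕ) ≠ p := hp.ne_one.symm
  have hp2 : p ≠ p ^ 2 := by
    have := hp.one_lt; nlinarith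
  have hp3 : (1 : ℕ) ≠ p ^ 2 := by
    have := hp.one_lt; nlinarith
  have hS : Nat.card {g : G // g ^ (p ^ 2) = 1} = 1 + n + n := by
    rw [card_pow_eq_one_eq_sum (p ^ 2) {1, p, p ^ 2},
      Finset.sum_insert (by simp [hp1, hp3]), Finset.sum_pair hp2, cnt_one, hc1, hc2, add_assoc]
    · intro x hx
      have := orderOf_dvd_of_pow_eq_one hx
      obtain ⟨m, hm, hm'⟩ := (Nat.dvd_prime_pow hp).mp this
      interval_cases m <;> simp [hm']
    · intro d hd
      simp only [Finset.mem_insert, Finset.mem_singleton] at hd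
      rcases hd with rfl | rfl | rfl
      · simp
      · exact dvd_pow_self _ two_ne_zero
      · exact dvd_rfl
  have h1 : p ∣ 1 + n + n := by
    rw [← hS]
    exact (dvd_pow_self p two_ne_zero).trans (Helper75.frobenius_dvd (p ^ 2) hpG2)
  have h2 := h.prime_dvd hp hpG
  exact h.not_dvd hp hpG ((Nat.dvd_add_right h2).mp h1)

theorem dvd_mul_primes {p q d : ℕ} (hp : p.Prime) (hq : q.Prime) (hd : d ∣ p * q) :
    d = 1 ∨ d = p ∨ d = q ∨ d = p * q := by
  obtain ⟨a, b, ha, hb, rfl⟩ := (Nat.dvd_mul).mp hd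
  rcases (Nat.dvd_prime hp).mp ha with rfl | rfl <;> rcases (Nat.dvd_prime hq).mp hb with rfl | rfl <;>
    simp

theorem SameCount.orderOf_ne_mul (h : SameCount G n) {p q : ℕ} (hp : p.Prime) (hq : q.Prime)
    (hpq : p ≠ q) (g : G) : orderOf g ≠ p * q := by
  intro hg
  have hpqG : p * q ∣ Nat.card G := hg ▸ orderOf_dvd_natCard g
  have hpG : p ∣ Nat.card G := (dvd_mul_right p q).trans hpqG
  have hqG : q ∣ Nat.card G := (dvd_mul_left q p).trans hpqG
  have hpq1 : p * q ≠ 1 := by
    have := hp.one_lt; have := hq.one_lt; nlinarith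
  have hc3 : cnt G (p * q) = n := h.cnt_eq hg hpq1
  obtain ⟨j, hj⟩ := exists_pow_orderOf_eq' g (k := p) (by rw [hg]; exact dvd_mul_right p q)
  obtain ⟨j', hj'⟩ := exists_pow_orderOf_eq' g (k := q) (by rw [hg]; exact dvd_mul_left q p)
  have hc1 : cnt G p = n := h.cnt_eq hj hp.ne_one
  have hc2 : cnt G q = n := h.cnt_eq hj' hq.ne_one
  have e1 : (1 : ℕ) ≠ p := hp.ne_one.symm
  have e2 : (1 : ℕ) ≠ q := hq.ne_one.symm
  have e3 : (1 : ℕ) ≠ p * q := hpq1.symm
  have e4 : p ≠ p * q := by
    have := hp.pos; have := hq.one_lt; nlinarith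
  have e5 : q ≠ p * q := by
    have := hq.pos; have := hp.one_lt; nlinarith
  have hS : Nat.card {g : G // g ^ (p * q) = 1} = 1 + (n + (n + n)) := by
    rw [card_pow_eq_one_eq_sum (p * q) {1, p, q, p * q},
      Finset.sum_insert (by simp [e1, e2, e3]), Finset.sum_insert (by simp [hpq, e4]),
      Finset.sum_pair e5, cnt_one, hc1, hc2, hc3]
    · intro x hx
      have := orderOf_dvd_of_pow_eq_one hx
      rcases dvd_mul_primes hp hq this with h1 | h1 | h1 | h1 <;> simp [h1]
    · intro d hd
      simp only [Finset.mem_insert, Finset.mem_singleton] at hd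
      rcases hd with rfl | rfl | rfl | rfl
      · simp
      · exact dvd_mul_right _ _
      · exact dvd_mul_left _ _
      · exact dvd_rfl
  have hfrob := Helper75.frobenius_dvd (G := G) (p * q) hpqG
  rw [hS] at hfrob
  -- p ∣ 2
  have key : ∀ r : ℕ, r.Prime → r ∣ Nat.card G → r ∣ 1 + (n + (n + n)) → r = 2 := by
    intro r hr hrG hr3
    have h2 := h.prime_dvd hr hrG
    have h3 : 1 + (n + (n + n)) = (1 + n) + 2 * n := by ring
    rw [h3] at hr3
    have h4 : r ∣ 2 * n := (Nat.dvd_add_right h2).mp hr3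
    rcases (Nat.Prime.dvd_mul hr).mp h4 with h5 | h5
    · exact (Nat.prime_dvd_prime_iff_eq hr Nat.prime_two).mp h5
    · exact absurd h5 (h.not_dvd hr hrG)
  have hp2 := key p hp hpG ((dvd_mul_right p q).trans hfrob)
  have hq2 := key q hq hqG ((dvd_mul_left q p).trans hfrob)
  exact hpq (hp2.trans hq2.symm)

theorem SameCount.prime_orderOf (h : SameCount G n) {g : G} (hg : g ≠ 1) : (orderOf g).Prime := by
  set m := orderOf g with hm
  have hm1 : m ≠ 1 := by
    intro h1
    exact hg (orderOf_eq_one_iff.mp h1)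
  have hp := Nat.minFac_prime hm1
  obtain ⟨m', hm'⟩ := Nat.minFac_dvd m
  by_cases h1 : m' = 1
  · rw [h1, mul_one] at hm'
    rw [hm']; exact hp
  · exfalso
    have hq := Nat.minFac_prime h1
    obtain ⟨m'', hm''⟩ := Nat.minFac_dvd m'
    have hdvd : m.minFac * m'.minFac ∣ orderOf g := by
      rw [← hm]
      refine ⟨m'', ?_⟩
      rw [mul_assoc, ← hm'', ← hm']
    obtain ⟨j, hj⟩ := exists_pow_orderOf_eq' g hdvd
    by_cases hpq : m.minFac = m'.minFac
    · rw [← hpq, ← pow_two] at hj
      exact h.orderOf_ne_sq hp _ hj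
    · exact h.orderOf_ne_mul hp hq hpq _ hj

theorem SameCount.prime_unique (h : SameCount G n) {p q : ℕ} (hp : p.Prime) (hq : q.Prime)
    (hpG : p ∣ Nat.card G) (hqG : q ∣ Nat.card G) : p = q := by
  by_contra hpq
  have hpqG : p * q ∣ Nat.card G :=
    Nat.Coprime.mul_dvd_of_dvd_of_dvd ((Nat.coprime_primes hp hq).mpr hpq) hpG hqG
  haveI := Fact.mk hp
  haveI := Fact.mk hq
  obtain ⟨x, hx⟩ := exists_prime_orderOf_dvd_card' (G := G) p hpG
  obtain ⟨y, hy⟩ := exists_prime_orderOf_dvd_card' (G := G) q hqG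
  have hc1 : cnt G p = n := h.cnt_eq hx hp.ne_one
  have hc2 : cnt G q = n := h.cnt_eq hy hq.ne_one
  have e1 : (1 : ℕ) ≠ p := hp.ne_one.symm
  have e2 : (1 : ℕ) ≠ q := hq.ne_one.symm
  have hS : Nat.card {g : G // g ^ (p * q) = 1} = 1 + (n + n) := by
    rw [card_pow_eq_one_eq_sum (p * q) {1, p, q},
      Finset.sum_insert (by simp [e1, e2]), Finset.sum_pair hpq, cnt_one, hc1, hc2]
    · intro g hg
      have := orderOf_dvd_of_pow_eq_one hg
      rcases dvd_mul_primes hp hq this with h1 | h1 | h1 | h1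
      · simp [h1]
      · simp [h1]
      · simp [h1]
      · exact absurd h1 (h.orderOf_ne_mul hp hq hpq g)
    · intro d hd
      simp only [Finset.mem_insert, Finset.mem_singleton] at hd
      rcases hd with rfl | rfl | rfl
      · simp
      · exact dvd_mul_right _ _
      · exact dvd_mul_left _ _
  have hfrob := Helper75.frobenius_dvd (G := G) (p * q) hpqG
  rw [hS] at hfrob
  have h1 : p ∣ (1 + n) + n := by
    have := (dvd_mul_right p q).trans hfrob
    rwa [← add_assoc] at this
  exact h.not_dvd hp hpG ((Nat.dvd_add_right (h.prime_dvd hp hpG)).mp h1)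

/-- **Lemma A**: if all nonidentity element orders of a nontrivial finite group occur equally often,
the group is a `p`-group of exponent `p`. -/
theorem SameCount.isPGroup [Nontrivial G] (h : SameCount G n) :
    ∃ p : ℕ, p.Prime ∧ IsPGroup p G ∧ Monoid.exponent G = p ∧ Nat.card G = 1 + n := by
  have hcard : Nat.card G ≠ 1 := by
    intro h1
    have := (Nat.card_eq_one_iff_unique.mp h1).1
    exact not_subsingleton G this
  have hp := Nat.minFac_prime hcard
  have hpG := Nat.minFac_dvd (Nat.card G)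
  set p := (Nat.card G).minFac with hpdef
  have hord : ∀ g : G, g ≠ 1 → orderOf g = p := by
    intro g hg
    have hq := h.prime_orderOf hg
    exact h.prime_unique hq hp (orderOf_dvd_natCard g) hpG
  refine ⟨p, hp, ?_, (Monoid.exponent_eq_prime_iff hp).mpr hord, ?_⟩
  · intro g
    refine ⟨1, ?_⟩
    by_cases hg : g = 1
    · simp [hg]
    · rw [pow_one, ← hord g hg]; exact pow_orderOf_eq_one g
  · haveI := Fact.mk hp
    obtain ⟨x, hx⟩ := exists_prime_orderOf_dvd_card' (G := G) p hpG
    have hc : cnt G p = n := h.cnt_eq hx hp.ne_one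
    have hall : ∀ g : G, g ^ p = 1 := by
      intro g
      by_cases hg : g = 1
      · simp [hg]
      · rw [← hord g hg]; exact pow_orderOf_eq_one g
    have h1 : Nat.card {g : G // g ^ p = 1} = Nat.card G :=
      Nat.card_congr (Equiv.subtypeUnivEquiv hall)
    rw [← h1, card_pow_eq_one_eq_sum p {1, p}, Finset.sum_pair hp.ne_one.symm, cnt_one, hc]
    · intro g hg
      have := orderOf_dvd_of_pow_eq_one hg
      rcases (Nat.dvd_prime hp).mp this with h1 | h1 <;> simp [h1]
    · intro d hd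
      simp only [Finset.mem_insert, Finset.mem_singleton] at hd
      rcases hd with rfl | rfl <;> simp

end lemmaA

end Cfsg.Agent.Helper66
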