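import Cfsg.Agent.Helper39.X648.Defs

/-!
# S3366 piece (A15b) for helper39 (#11031): move the commuting pair to `r1`
-/

set_option autoImplicit false

namespace Cfsg.Agent.Helper66.X648

open Cfsg.Agent.Helper39.X648

variable {X : Type*} [Group X] [Finite X] {R Z : Subgroup X} {u : X}
variable {t : X}
variable {Q : Subgroup X}
variable {i r1 : X}

/-- (A15b) move it to `r1` -/
theorem QSetup.exists_e' (h : QSetup R Z u t Q) (hr1 : r1 ∈ Inv R t) (hr11 : r1 ≠ 1)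
    (he : ∃ e a : X, e ∉ R ∧ e ^ 3 = 1 ∧ a ∈ R ∧ a ∉ Z ∧ e * a = a * e) :
    ∃ e : X, e ∉ R ∧ e ^ 3 = 1 ∧ e * r1 = r1 * e := by
  obtain ⟨e, a, heR, he3, haR, haZ, hea⟩ := he
  obtain ⟨z, hzZ, hazInv⟩ := h.setup.rep1 a haR
  have haz1 : a * z ≠ 1 := by
    intro h1
    apply haZ
    have : a = z⁻¹ := eq_inv_of_mul_eq_one_left h1
    rw [this]
    exact Z.inv_mem hzZ
  have hez : e * z = z * e := h.setup.Zcen z hzZ e
  have heaz : e * (a * z) = (a * z) * e := by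
    rw [← mul_assoc, hea, mul_assoc, hez, ← mul_assoc]
  obtain ⟨q, _, hq, _⟩ := h.reg (a * z) hazInv haz1 r1 hr1 hr11
  have hnorm : R.Normal := h.setup.base.normR
  refine ⟨q * e * q⁻¹, ?_, ?_, ?_⟩
  · intro hmem
    apply heR
    have := hnorm.conj_mem _ hmem q⁻¹
    simpa [mul_assoc] using this
  · rw [conj_pow, he3, mul_one, mul_inv_cancel]
  · rw [← hq]
    calc q * e * q⁻¹ * (q * (a * z) * q⁻¹)
        = q * (e * (a * z)) * q⁻¹ := by group
      _ = q * ((a * z) * e) * q⁻¹ := by rw [heaz]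
      _ = q * (a * z) * q⁻¹ * (q * e * q⁻¹) := by group

end Cfsg.Agent.Helper66.X648
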