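import Mathlib

/-!
# S3366 piece (K6) for helper39: a Sylow 3-subgroup with `c` in its centre
-/

set_option autoImplicit false

namespace Cfsg.Agent.Helper66.X648

theorem factorization_pow_mul_aux (p k m : ℕ) (hp : p.Prime) (hm : ¬ p ∣ m) :
    (p ^ k * m).factorization p = k := by
  have hm0 : m ≠ 0 := by
    rintro rfl
    exact hm (dvd_zero _)
  rw [Nat.factorization_mul (pow_ne_zero _ hp.ne_zero) hm0, Finsupp.add_apply,
    hp.factorization_pow, Finsupp.single_eq_same, Nat.factorization_eq_zero_of_not_dvd hm,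
    add_zero]

/-- (K6) a Sylow 3-subgroup with `c` in its centre -/
theorem exists_sylow {G : Type*} [Group G] [Finite G] (c : G) (hc : orderOf c = 3)
    (hC : Nat.card ↥(Subgroup.centralizer ({c} : Set G)) = 648) (hG : Nat.card G = 25920) :
    ∃ S : Sylow 3 G, c ∈ (S : Subgroup G) ∧
      c ∈ Subgroup.centralizer ((S : Subgroup G) : Set G) := by
  classical
  have : Fact (Nat.Prime 3) := ⟨Nat.prime_three⟩
  set C : Subgroup G := Subgroup.centralizer ({c} : Set G) with hCdef
  have hcC : c ∈ C := by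
    rw [hCdef, Subgroup.mem_centralizer_iff]
    intro h hh
    rw [Set.mem_singleton_iff] at hh
    rw [hh]
  set c' : C := ⟨c, hcC⟩ with hc'
  have hoc' : orderOf c' = 3 := by
    rw [← hc, ← Subgroup.orderOf_coe c']
  have hpz : IsPGroup 3 ↥(Subgroup.zpowers c') := by
    apply IsPGroup.of_card (n := 1)
    rw [Nat.card_zpowers, hoc', pow_one]
  obtain ⟨P0, hP0⟩ := hpz.exists_le_sylow
  have hc'P0 : c' ∈ (P0 : Subgroup C) := hP0 (Subgroup.mem_zpowers c')
  have hcardP0 : Nat.card ↥(P0 : Subgroup C) = 81 := by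
    rw [P0.card_eq_multiplicity, hC, show (648 : ℕ) = 3 ^ 4 * 8 by norm_num,
      factorization_pow_mul_aux 3 4 8 Nat.prime_three (by decide)]
    norm_num
  set S0 : Subgroup G := (P0 : Subgroup C).map C.subtype with hS0
  have hcardS0 : Nat.card ↥S0 = 81 := by
    rw [hS0, Subgroup.card_map_of_injective C.subtype_injective, hcardP0]
  have hS0card : Nat.card ↥S0 = 3 ^ (Nat.card G).factorization 3 := by
    rw [hcardS0, hG, show (25920 : ℕ) = 3 ^ 4 * 320 by norm_num,
      factorization_pow_mul_aux 3 4 320 Nat.prime_three (by decide)]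
    norm_num
  refine ⟨Sylow.ofCard S0 hS0card, ?_, ?_⟩
  · show c ∈ S0
    rw [hS0, Subgroup.mem_map]
    exact ⟨c', hc'P0, rfl⟩
  · show c ∈ Subgroup.centralizer ((S0 : Subgroup G) : Set G)
    rw [Subgroup.mem_centralizer_iff]
    intro h hh
    rw [SetLike.mem_coe, hS0, Subgroup.mem_map] at hh
    obtain ⟨x, _, rfl⟩ := hh
    have hx : (x : G) ∈ Subgroup.centralizer ({c} : Set G) := x.2
    rw [Subgroup.mem_centralizer_iff] at hx
    exact (hx c (Set.mem_singleton c)).symm

end Cfsg.Agent.Helper66.X648
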