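import Mathlib

/-!
# S3366 piece (K7) for helper39: transport along an isomorphism
-/

set_option autoImplicit false

namespace Cfsg.Agent.Helper66.X648

/-- (K7) transport along an isomorphism -/
theorem transport {G G' : Type*} [Group G] [Group G'] [Finite G] (ψ : G ≃* G') (c : G)
    (S : Sylow 3 G) (hc : orderOf c = 3) (hS : c ∈ (S : Subgroup G))
    (hcS : c ∈ Subgroup.centralizer ((S : Subgroup G) : Set G))
    {X : Type*} [Group X] (eX : X ≃* ↥(Subgroup.centralizer ({c} : Set G))) :
    ∃ (c' : G') (S' : Sylow 3 G'), orderOf c' = 3 ∧ c' ∈ (S' : Subgroup G') ∧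
      c' ∈ Subgroup.centralizer ((S' : Subgroup G') : Set G') ∧
      Nonempty (X ≃* ↥(Subgroup.centralizer ({c'} : Set G'))) := by
  classical
  have hinj : Function.Injective (ψ.symm.toMonoidHom : G' →* G) := ψ.symm.injective
  have hrange : (S : Subgroup G) ≤ (ψ.symm.toMonoidHom).range := by
    intro x _
    exact ⟨ψ x, ψ.symm_apply_apply x⟩
  set S' : Sylow 3 G' :=
    S.comapOfInjective ψ.symm.toMonoidHom hinj hrange with hS'
  have hmemS' : ∀ y : G', y ∈ (S' : Subgroup G') ↔ ψ.symm y ∈ (S : Subgroup G) := by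
    intro y
    rw [hS', Sylow.coe_comapOfInjective, Subgroup.mem_comap]
    rfl
  have hcent : (Subgroup.centralizer ({c} : Set G)).map ψ.toMonoidHom =
      Subgroup.centralizer ({ψ c} : Set G') := by
    ext y
    rw [Subgroup.mem_map, Subgroup.mem_centralizer_iff]
    constructor
    · rintro ⟨x, hx, rfl⟩ h hh
      rw [Set.mem_singleton_iff] at hh
      rw [Subgroup.mem_centralizer_iff] at hx
      have := hx c (Set.mem_singleton c)
      rw [hh]
      show ψ c * ψ x = ψ x * ψ c
      rw [← map_mul, ← map_mul, this]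
    · intro hy
      refine ⟨ψ.symm y, ?_, ψ.apply_symm_apply y⟩
      rw [Subgroup.mem_centralizer_iff]
      intro h hh
      rw [Set.mem_singleton_iff] at hh
      rw [hh]
      have := hy (ψ c) (Set.mem_singleton _)
      apply ψ.injective
      rw [map_mul, map_mul, ψ.apply_symm_apply]
      exact this
  refine ⟨ψ c, S', ?_, ?_, ?_, ?_⟩
  · rw [← hc]
    exact MulEquiv.orderOf_eq ψ c
  · rw [hmemS', ψ.symm_apply_apply]
    exact hS
  · rw [Subgroup.mem_centralizer_iff]
    intro h hh
    rw [SetLike.mem_coe, hmemS'] at hh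
    rw [Subgroup.mem_centralizer_iff] at hcS
    have := hcS (ψ.symm h) hh
    apply ψ.symm.injective
    rw [map_mul, map_mul, ψ.symm_apply_apply]
    exact this
  · exact ⟨eX.trans ((ψ.subgroupMap (Subgroup.centralizer ({c} : Set G))).trans
      (MulEquiv.subgroupCongr hcent))⟩

end Cfsg.Agent.Helper66.X648
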