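import Cfsg.Agent.Helper39.X648.Defs

/-!
# S3366 piece (S2) for helper39 (#11028): the central involution `-1` of `SL_2(3)`
-/

set_option autoImplicit false

namespace Cfsg.Agent.Helper66.X648

open Cfsg.Agent.Helper39.X648

/-- (S2) -/
theorem sl_w : wSL ≠ 1 ∧ wSL * wSL = 1 ∧ (∀ g : SL23, g * wSL = wSL * g) ∧
    (∀ g : SL23, g * g = 1 → g = 1 ∨ g = wSL) ∧ (∀ g : SL23, g ^ 8 = 1 → g ^ 4 = 1) := by
  refine ⟨?_, ?_, ?_, ?_, ?_⟩
  · decide +kernel
  · decide +kernel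
  · decide +kernel
  · decide +kernel
  · decide +kernel

end Cfsg.Agent.Helper66.X648
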