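import Mathlib
import Cfsg.Agent.Helper43.EB.Defs
import Cfsg.Agent.Helper66.EBL1

/-!
# (L3) for helper43 (S5877): if `g` is not scalar but all commutators `[x, g]`, `x ∈ Γ`, are scalar,
every eigenspace of `g` has dimension at most `dim V / r`
-/

set_option autoImplicit false

namespace Cfsg.Agent.Helper66.EBL3

open Cfsg.Agent.Helper43.EB Module Cfsg.Agent.Helper66.EBL1

variable {F : Type*} [Field F] {V : Type*} [AddCommGroup V] [Module F V]

/-- the `r`-th power of an element of `Γ` is scalar -/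
theorem pow_isScalar {r : ℕ} {ω : F} (hω : IsPrimitiveRoot ω r)
    {Γ : Subgroup (Module.End F V)ˣ} (hΓ : SympType r ω Γ) {x : (Module.End F V)ˣ} (hx : x ∈ Γ) :
    IsScalar ((x : Module.End F V) ^ r) := by
  apply hΓ.schur
  intro b hb
  obtain ⟨k, hk⟩ := hΓ.comm x hx b hb
  have h1 := pow_mul_comm' hk r
  rw [← pow_mul, mul_comm k r, pow_mul, hω.pow_eq_one, one_pow, one_smul] at h1
  exact h1

/-- (L3) -/
theorem caseA [FiniteDimensional F V] {r : ℕ} (hr : r.Prime) {ω : F}
    (hω : IsPrimitiveRoot ω r) {Γ : Subgroup (Module.End F V)ˣ} (hΓ : SympType r ω Γ)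
    {g : (Module.End F V)ˣ} (hns : ¬ IsScalar (g : Module.End F V))
    (hall : ∀ x ∈ Γ, IsScalar ((x * g * x⁻¹ * g⁻¹ : (Module.End F V)ˣ) : Module.End F V)) (c : F) :
    r * finrank F (Module.End.eigenspace (g : Module.End F V) c) ≤ finrank F V := by
  by_cases hc : c = 0
  · subst hc
    rw [eigenspace_zero_unit, finrank_bot, mul_zero]
    exact Nat.zero_le _
  -- for every `x ∈ Γ`, `g x = l • (x g)` for some scalar `l`
  have key : ∀ x ∈ Γ, ∃ l : F, (g : Module.End F V) * (x : Module.End F V) =
      l • ((x : Module.End F V) * (g : Module.End F V)) := by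
    intro x hx
    obtain ⟨l, hl⟩ := hall x⁻¹ (Γ.inv_mem hx)
    refine ⟨l, ?_⟩
    have e : g * x = x * (x⁻¹ * g * x⁻¹⁻¹ * g⁻¹) * g := by group
    have e' : (g : Module.End F V) * (x : Module.End F V) =
        (x : Module.End F V) * ((x⁻¹ * g * x⁻¹⁻¹ * g⁻¹ : (Module.End F V)ˣ) : Module.End F V) *
          (g : Module.End F V) := by
      rw [← Units.val_mul, ← Units.val_mul, ← Units.val_mul]
      exact congrArg (fun u : (Module.End F V)ˣ => (u : Module.End F V)) e
    rw [e', hl, mul_smul_comm, mul_one, smul_mul_assoc]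
  have hex : ∃ x ∈ Γ, ∃ l : F, l ≠ 1 ∧ (g : Module.End F V) * (x : Module.End F V) =
      l • ((x : Module.End F V) * (g : Module.End F V)) := by
    by_contra hcon
    push_neg at hcon
    apply hns
    apply hΓ.schur
    intro x hx
    obtain ⟨l, hl⟩ := key x hx
    by_cases hl1 : l = 1
    · rw [hl1, one_smul] at hl
      exact hl
    · exact absurd hl (hcon x hx l hl1)
  obtain ⟨x, hx, l, hl1, hgx⟩ := hex
  have h1ne : (1 : Module.End F V) ≠ 0 := by
    intro h0
    apply hns
    refine ⟨0, ?_⟩
    rw [zero_smul, ← mul_one (g : Module.End F V), h0, mul_zero]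
  -- `l ^ r = 1`
  have hlr : l ^ r = 1 := by
    obtain ⟨s, hs⟩ := pow_isScalar hω hΓ hx
    have h2 := mul_pow_comm hgx r
    rw [hs, mul_smul_comm, mul_one, smul_mul_assoc, one_mul] at h2
    -- h2 : s • g = l ^ r • s • g
    have hs0 : s ≠ 0 := by
      intro h0
      rw [h0, zero_smul] at hs
      have h3 : ((x ^ r : (Module.End F V)ˣ) : Module.End F V) = 0 := by
        rw [Units.val_pow_eq_pow_val]; exact hs
      have h4 : (1 : Module.End F V) = 0 := by
        have h5 : (((x ^ r)⁻¹ : (Module.End F V)ˣ) : Module.End F V) *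
            ((x ^ r : (Module.End F V)ˣ) : Module.End F V) = 1 := by
          rw [← Units.val_mul, inv_mul_cancel]; rfl
        rw [← h5, h3, mul_zero]
      exact h1ne h4
    have h3 : (s * (1 - l ^ r)) • (g : Module.End F V) = 0 := by
      rw [mul_sub, mul_one, sub_smul, mul_comm s (l ^ r), ← smul_smul, ← h2, sub_self]
    have h4 : (s * (1 - l ^ r)) • (1 : Module.End F V) = 0 := by
      have h5 : (g : Module.End F V) * ((g⁻¹ : (Module.End F V)ˣ) : Module.End F V) = 1 := by
        rw [← Units.val_mul, mul_inv_cancel]; rfl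
      rw [← h5, ← smul_mul_assoc, h3, zero_mul]
    rcases smul_eq_zero.1 h4 with h | h
    · rcases mul_eq_zero.1 h with h | h
      · exact absurd h hs0
      · exact (sub_eq_zero.1 h).symm
    · exact absurd h h1ne
  have hprim : IsPrimitiveRoot l r := by
    have hfact : Fact r.Prime := ⟨hr⟩
    have h1 : orderOf l = r := orderOf_eq_prime hlr hl1
    rw [← h1]
    exact IsPrimitiveRoot.orderOf l
  exact mul_finrank_eigenspace_le (F := F) (V := V) (r := r) (lam := l) hprim
    (g : Module.End F V) x hgx c hc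

end Cfsg.Agent.Helper66.EBL3
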