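import Cfsg.Agent.Helper43.PsuM.EvDefs
import Cfsg.Agent.Helper5.SuBN.Defs
import Cfsg.Agent.Helper33.PsuM_AI
import Cfsg.Agent.Helper5.PSL2Simple

/-!
# S2089 block I-even, skeleton B, piece (EPERF) (helper66 for helper43): the Levi subgroup is perfect
-/

set_option autoImplicit false

namespace Cfsg.Agent.Helper66.PsuM

open Matrix
open scoped commutatorElement
open Cfsg.Agent.Helper43.PsuM.Ev

universe u

variable {K : Type u} [Field K] [Fintype K] {q : ℕ} {σ : K →+* K} {m : ℕ}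

/-- (EPERF) the Levi subgroup is perfect: `Ssub ≅ SL_m(K)` by `exists_mulEquiv_Ssub`, and `SL_m(K)` is
perfect for `m ≥ 3` or `|K| ≥ 4` -/
theorem Ssub_perfect (hK : Fintype.card K = q ^ 2) (hσ : ∀ x, σ (σ x) = x) (hm : 2 ≤ m)
    (hq : 2 ≤ q) : ⁅Ssub m σ, Ssub m σ⁆ = Ssub m σ := by
  obtain ⟨e, -⟩ := Cfsg.Agent.Helper33.PsuM.exists_mulEquiv_Ssub (m := m) (σ := σ) hσ
  have h4 : 4 ≤ Fintype.card K := by
    rw [hK]
    nlinarith
  have : Nontrivial (Fin m) := Fin.nontrivial_iff_two_le.mpr hm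
  have hSL : commutator (SpecialLinearGroup (Fin m) K) = ⊤ :=
    Cfsg.Agent.Helper5.commutator_SL_eq_top_of_exists (Cfsg.Agent.Helper5.exists_sq_ne_one_of_card h4)
  have hS : commutator ↥(Ssub m σ) = ⊤ := by
    have h1 : (⊤ : Subgroup (SpecialLinearGroup (Fin m) K)).map e.toMonoidHom = ⊤ :=
      Subgroup.map_top_of_surjective e.toMonoidHom e.surjective
    have h2 := Subgroup.map_commutator (⊤ : Subgroup (SpecialLinearGroup (Fin m) K)) ⊤ e.toMonoidHom
    rw [h1] at h2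
    rw [commutator_def, ← h2, ← commutator_def, hSL, h1]
  rw [← Subgroup.map_subtype_commutator, hS, ← MonoidHom.range_eq_map, Subgroup.range_subtype]

end Cfsg.Agent.Helper66.PsuM
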