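import Cfsg.Agent.Helper43.PsuM.EvDefs
import Cfsg.Agent.Helper5.SuBN.Defs
import Cfsg.Agent.Helper41.PsuM_ACONJ
import Cfsg.Agent.Helper33.PsuM_AT

/-!
# S2089 block I-even, skeleton B, piece (EXL) (helper66 for helper43): the long root subgroups
-/

set_option autoImplicit false
set_option linter.unusedSectionVars false

namespace Cfsg.Agent.Helper66.PsuM

open Matrix
open scoped commutatorElement
open Cfsg.Agent.Helper43.PsuM.Ev

universe u

section general

variable {F : Type*} [Field F] {m : ℕ} {σ : F →+* F}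

/-- every `qE σ B` lies in `Qsub` (it is `1` when `B` is not skew-hermitian) -/
theorem EXL_qE_mem_Qsub (B : Matrix (Fin m) (Fin m) F) : qE σ B ∈ Qsub m σ := by
  unfold qE ofMat
  split_ifs with h
  · refine ⟨?_, ?_, ?_⟩
    · show (qM B).toBlocks₁₁ = 1
      unfold qM
      rw [Matrix.toBlocks_fromBlocks₁₁]
    · show (qM B).toBlocks₂₁ = 0
      unfold qM
      rw [Matrix.toBlocks_fromBlocks₂₁]
    · show (qM B).toBlocks₂₂ = 1
      unfold qM
      rw [Matrix.toBlocks_fromBlocks₂₂]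
  · exact Subgroup.one_mem _

/-- (AROOT1), proved directly -/
theorem EXL_single_mem_SkewH (i : Fin m) {c : F} (hc : σ c + c = 0) :
    Matrix.single i i c ∈ SkewH m σ := by
  show (Matrix.single i i c).map σ + (Matrix.single i i c)ᵀ = 0
  have h1 : (Matrix.single i i c).map σ = Matrix.single i i (σ c) := by
    ext a b
    rw [Matrix.map_apply, Matrix.single_apply, Matrix.single_apply]
    split_ifs
    · rfl
    · exact map_zero σ
  rw [h1, Matrix.transpose_single, ← Matrix.single_add, hc, Matrix.single_zero]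

/-- the conjugate of a long root element by a torus element -/
theorem EXL_tE_conj_zE (hσ : ∀ x, σ (σ x) = x) (d : Fin m → F) (hd : ∀ i, d i ≠ 0)
    (hdet : σ (∏ i, d i) = ∏ i, d i) (i : Fin m) {c : F} (hc : σ c + c = 0) :
    tE σ d * zE σ i c * (tE σ d)⁻¹ = zE σ i (d i * σ (d i) * c) := by
  unfold zE
  rw [(Cfsg.Agent.Helper41.PsuM.tE_conj_qE hσ d hd hdet (EXL_single_mem_SkewH i hc)).2]
  congr 1
  ext a b
  rw [Matrix.mul_apply]
  simp only [Matrix.diagonal_mul, Matrix.diagonal_apply, Matrix.single_apply]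
  by_cases hab : a = i ∧ b = i
  · obtain ⟨rfl, rfl⟩ := hab
    simp
    ring
  · by_cases ha : i = a
    · subst ha
      have hb : ¬ (i = b) := fun h => hab ⟨rfl, h.symm⟩
      simp [hb]
    · simp [ha]

/-- (EXL), general field -/
theorem EXL_Xl_le_Qsub (c : Fin m) : Xl σ c ≤ Qsub m σ := by
  unfold Xl
  rw [Subgroup.closure_le]
  rintro g ⟨x, -, rfl⟩
  exact EXL_qE_mem_Qsub _

/-- the core of (EXL'): from the description (AT1) of the torus -/
theorem EXL_Tsub_normalizes_Xl_core (hσ : ∀ x, σ (σ x) = x)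
    (hAT : ∀ g : SUe m σ, g ∈ Tsub m σ →
      ∃ d : Fin m → F, (∀ i, d i ≠ 0) ∧ σ (∏ i, d i) = ∏ i, d i ∧ g = tE σ d)
    (c : Fin m) (t y : SUe m σ) (ht : t ∈ Tsub m σ)
    (hy : y ∈ Xl σ c) : t * y * t⁻¹ ∈ Xl σ c := by
  obtain ⟨d, hd, hdet, rfl⟩ := hAT t ht
  unfold Xl at hy ⊢
  induction hy using Subgroup.closure_induction with
  | mem g hg =>
    obtain ⟨x, hx, rfl⟩ := hg
    rw [EXL_tE_conj_zE hσ d hd hdet c hx]
    apply Subgroup.subset_closure
    refine ⟨d c * σ (d c) * x, ?_, rfl⟩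
    rw [map_mul, map_mul, hσ]
    have : σ (d c) * d c * σ x + d c * σ (d c) * x = d c * σ (d c) * (σ x + x) := by ring
    rw [this, hx, mul_zero]
  | one =>
    rw [mul_one, mul_inv_cancel]
    exact Subgroup.one_mem _
  | mul a b _ _ iha ihb =>
    have h1 : tE σ d * (a * b) * (tE σ d)⁻¹ = (tE σ d * a * (tE σ d)⁻¹) * (tE σ d * b * (tE σ d)⁻¹) := by
      group
    rw [h1]
    exact Subgroup.mul_mem _ iha ihb
  | inv a _ iha =>
    have h1 : tE σ d * a⁻¹ * (tE σ d)⁻¹ = (tE σ d * a * (tE σ d)⁻¹)⁻¹ := by group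
    rw [h1]
    exact Subgroup.inv_mem _ iha

end general

variable {K : Type u} [Field K] [Fintype K] {q : ℕ} {σ : K →+* K} {m : ℕ}

/-- (EXL) -/
theorem Xl_le_Qsub (c : Fin m) : Xl σ c ≤ Qsub m σ := EXL_Xl_le_Qsub c

/-- (EXL') -/
theorem Tsub_normalizes_Xl (hσ : ∀ x, σ (σ x) = x) (c : Fin m) (t y : SUe m σ) (ht : t ∈ Tsub m σ)
    (hy : y ∈ Xl σ c) : t * y * t⁻¹ ∈ Xl σ c :=
  EXL_Tsub_normalizes_Xl_core hσ
    (fun g hg => (Cfsg.Agent.Helper33.PsuM.mem_Tsub_iff hσ g).mp hg) c t y ht hy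

end Cfsg.Agent.Helper66.PsuM
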