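import Mathlib

/-!
# Abstract group computations with four pairwise "anticommuting" involutions (for helper43, S6002)

`z` is a central involution; `a b c d` are involutions with `y * x = z * (x * y)` for each pair.
All identities are obtained by rewriting to the normal form `z^ε a^i b^j c^k d^l`.
-/

set_option autoImplicit false
set_option linter.unusedSimpArgs false
set_option linter.unusedVariables false

namespace Cfsg.Agent.Helper66.XS

/-- the product `e = abcd` is an involution "anticommuting" with `a, b, c, d` -/
theorem five_abs {G : Type*} [Group G] {z a b c d : G}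
    (hz : ∀ g : G, z * g = g * z) (hzz : z * z = 1)
    (ha : a * a = 1) (hb : b * b = 1) (hc : c * c = 1) (hd : d * d = 1)
    (ba : b * a = z * (a * b)) (ca : c * a = z * (a * c)) (da : d * a = z * (a * d))
    (cb : c * b = z * (b * c)) (db : d * b = z * (b * d)) (dc : d * c = z * (c * d)) :
    (a * b * c * d) * (a * b * c * d) = 1 ∧
      (a * b * c * d) * a = z * (a * (a * b * c * d)) ∧
      (a * b * c * d) * b = z * (b * (a * b * c * d)) ∧
      (a * b * c * d) * c = z * (c * (a * b * c * d)) ∧
      (a * b * c * d) * d = z * (d * (a * b * c * d)) := by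
  have zz' : ∀ x : G, z * (z * x) = x := fun x => by rw [← mul_assoc, hzz, one_mul]
  have az : a * z = z * a := (hz a).symm
  have bz : b * z = z * b := (hz b).symm
  have cz : c * z = z * c := (hz c).symm
  have dz : d * z = z * d := (hz d).symm
  have az' : ∀ x : G, a * (z * x) = z * (a * x) := fun x => by rw [← mul_assoc, az, mul_assoc]
  have bz' : ∀ x : G, b * (z * x) = z * (b * x) := fun x => by rw [← mul_assoc, bz, mul_assoc]
  have cz' : ∀ x : G, c * (z * x) = z * (c * x) := fun x => by rw [← mul_assoc, cz, mul_assoc]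
  have dz' : ∀ x : G, d * (z * x) = z * (d * x) := fun x => by rw [← mul_assoc, dz, mul_assoc]
  have aa' : ∀ x : G, a * (a * x) = x := fun x => by rw [← mul_assoc, ha, one_mul]
  have bb' : ∀ x : G, b * (b * x) = x := fun x => by rw [← mul_assoc, hb, one_mul]
  have cc' : ∀ x : G, c * (c * x) = x := fun x => by rw [← mul_assoc, hc, one_mul]
  have dd' : ∀ x : G, d * (d * x) = x := fun x => by rw [← mul_assoc, hd, one_mul]
  have ba' : ∀ x : G, b * (a * x) = z * (a * (b * x)) := fun x => by
    rw [← mul_assoc, ba, mul_assoc, mul_assoc]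
  have ca' : ∀ x : G, c * (a * x) = z * (a * (c * x)) := fun x => by
    rw [← mul_assoc, ca, mul_assoc, mul_assoc]
  have da' : ∀ x : G, d * (a * x) = z * (a * (d * x)) := fun x => by
    rw [← mul_assoc, da, mul_assoc, mul_assoc]
  have cb' : ∀ x : G, c * (b * x) = z * (b * (c * x)) := fun x => by
    rw [← mul_assoc, cb, mul_assoc, mul_assoc]
  have db' : ∀ x : G, d * (b * x) = z * (b * (d * x)) := fun x => by
    rw [← mul_assoc, db, mul_assoc, mul_assoc]
  have dc' : ∀ x : G, d * (c * x) = z * (c * (d * x)) := fun x => by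
    rw [← mul_assoc, dc, mul_assoc, mul_assoc]
  refine ⟨?_, ?_, ?_, ?_, ?_⟩ <;>
    simp only [mul_assoc, mul_one, one_mul, hzz, zz', az, bz, cz, dz, az', bz', cz', dz',
      ha, hb, hc, hd, aa', bb', cc', dd', ba, ba', ca, ca', da, da', cb, cb', db, db', dc, dc']

/-- among the sixteen products `a^i b^j c^k d^l` the involutions are `1, a, b, c, d, abcd` -/
theorem inv_abs {G : Type*} [Group G] {z a b c d : G}
    (hz : ∀ g : G, z * g = g * z) (hzz : z * z = 1) (hz1 : z ≠ 1)
    (ha : a * a = 1) (hb : b * b = 1) (hc : c * c = 1) (hd : d * d = 1)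
    (ba : b * a = z * (a * b)) (ca : c * a = z * (a * c)) (da : d * a = z * (a * d))
    (cb : c * b = z * (b * c)) (db : d * b = z * (b * d)) (dc : d * c = z * (c * d))
    (w0 w1 w2 w3 : Bool)
    (hw : ((if w0 then a else 1) * (if w1 then b else 1) * (if w2 then c else 1) *
        (if w3 then d else 1)) *
      ((if w0 then a else 1) * (if w1 then b else 1) * (if w2 then c else 1) *
        (if w3 then d else 1)) = 1) :
    ((if w0 then a else 1) * (if w1 then b else 1) * (if w2 then c else 1) *
        (if w3 then d else 1)) = 1 ∨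
    ((if w0 then a else 1) * (if w1 then b else 1) * (if w2 then c else 1) *
        (if w3 then d else 1)) = a ∨
    ((if w0 then a else 1) * (if w1 then b else 1) * (if w2 then c else 1) *
        (if w3 then d else 1)) = b ∨
    ((if w0 then a else 1) * (if w1 then b else 1) * (if w2 then c else 1) *
        (if w3 then d else 1)) = c ∨
    ((if w0 then a else 1) * (if w1 then b else 1) * (if w2 then c else 1) *
        (if w3 then d else 1)) = d ∨
    ((if w0 then a else 1) * (if w1 then b else 1) * (if w2 then c else 1) *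
        (if w3 then d else 1)) = a * b * c * d := by
  have zz' : ∀ x : G, z * (z * x) = x := fun x => by rw [← mul_assoc, hzz, one_mul]
  have az : a * z = z * a := (hz a).symm
  have bz : b * z = z * b := (hz b).symm
  have cz : c * z = z * c := (hz c).symm
  have dz : d * z = z * d := (hz d).symm
  have az' : ∀ x : G, a * (z * x) = z * (a * x) := fun x => by rw [← mul_assoc, az, mul_assoc]
  have bz' : ∀ x : G, b * (z * x) = z * (b * x) := fun x => by rw [← mul_assoc, bz, mul_assoc]
  have cz' : ∀ x : G, c * (z * x) = z * (c * x) := fun x => by rw [← mul_assoc, cz, mul_assoc]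
  have dz' : ∀ x : G, d * (z * x) = z * (d * x) := fun x => by rw [← mul_assoc, dz, mul_assoc]
  have aa' : ∀ x : G, a * (a * x) = x := fun x => by rw [← mul_assoc, ha, one_mul]
  have bb' : ∀ x : G, b * (b * x) = x := fun x => by rw [← mul_assoc, hb, one_mul]
  have cc' : ∀ x : G, c * (c * x) = x := fun x => by rw [← mul_assoc, hc, one_mul]
  have dd' : ∀ x : G, d * (d * x) = x := fun x => by rw [← mul_assoc, hd, one_mul]
  have ba' : ∀ x : G, b * (a * x) = z * (a * (b * x)) := fun x => by
    rw [← mul_assoc, ba, mul_assoc, mul_assoc]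
  have ca' : ∀ x : G, c * (a * x) = z * (a * (c * x)) := fun x => by
    rw [← mul_assoc, ca, mul_assoc, mul_assoc]
  have da' : ∀ x : G, d * (a * x) = z * (a * (d * x)) := fun x => by
    rw [← mul_assoc, da, mul_assoc, mul_assoc]
  have cb' : ∀ x : G, c * (b * x) = z * (b * (c * x)) := fun x => by
    rw [← mul_assoc, cb, mul_assoc, mul_assoc]
  have db' : ∀ x : G, d * (b * x) = z * (b * (d * x)) := fun x => by
    rw [← mul_assoc, db, mul_assoc, mul_assoc]
  have dc' : ∀ x : G, d * (c * x) = z * (c * (d * x)) := fun x => by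
    rw [← mul_assoc, dc, mul_assoc, mul_assoc]
  cases w0 <;> cases w1 <;> cases w2 <;> cases w3 <;>
    simp only [if_true, if_false, Bool.false_eq_true, mul_one, one_mul, true_or, or_true] at hw ⊢ <;>
    first
    | trivial
    | (exfalso
       simp only [mul_assoc, mul_one, one_mul, hzz, zz', az, bz, cz, dz, az', bz', cz', dz',
         ha, hb, hc, hd, aa', bb', cc', dd', ba, ba', ca, ca', da, da', cb, cb', db, db', dc, dc']
         at hw
       exact hz1 hw)

/-- two "anticommuting" involutions differ, also up to `z`, and are not `1` or `z` -/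
theorem dist_abs {G : Type*} [Group G] {z x y : G}
    (hz : ∀ g : G, z * g = g * z) (hzz : z * z = 1) (hz1 : z ≠ 1)
    (hx : x * x = 1) (hy : y * y = 1) (hxy : x * y = z * (y * x)) :
    x ≠ y ∧ x ≠ z * y ∧ x ≠ 1 ∧ x ≠ z := by
  refine ⟨?_, ?_, ?_, ?_⟩
  · rintro rfl
    rw [hx, mul_one] at hxy
    exact hz1 hxy.symm
  · rintro rfl
    -- (z y) y = z (y (z y))
    have h1 : z * y * y = z := by rw [mul_assoc, hy, mul_one]
    have h2 : z * (y * (z * y)) = 1 := by
      rw [← mul_assoc y z y, ← hz y, mul_assoc z y y, hy, mul_one, hzz]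
    rw [h1, h2] at hxy
    exact hz1 hxy
  · rintro rfl
    rw [one_mul, mul_one] at hxy
    -- y = z * y
    have : z = 1 := by
      have h := congrArg (· * y⁻¹) hxy
      simpa using h.symm
    exact hz1 this
  · intro hxz
    rw [hxz] at hxy
    -- z * y = z * (y * z) = z * (z * y) = y
    rw [← hz y, ← mul_assoc z z y, hzz, one_mul] at hxy
    have : z = 1 := by
      have h := congrArg (· * y⁻¹) hxy
      simpa using h
    exact hz1 this

end Cfsg.Agent.Helper66.XS
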