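import Mathlib
import Cfsg.Agent.Helper43.XS.Defs
import Cfsg.Agent.Helper66.XSAbs

/-!
# Frames in `GL_4(F)`: `-1` as a central involution, and the five anticommuting involutions
(common part of the pieces (DIST), (INV) for helper43, S6002)
-/

set_option autoImplicit false
set_option linter.unusedSectionVars false
set_option linter.unusedVariables false

namespace Cfsg.Agent.Helper66.XS

open Matrix Cfsg Cfsg.Geo Cfsg.Agent.Helper43.XS

variable {F : Type*} [Field F]

local notation "Mat" => Matrix (Fin 2 ⊕ Fin 2) (Fin 2 ⊕ Fin 2) F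
local notation "GLn" => GL (Fin 2 ⊕ Fin 2) F

theorem negOne_central (g : GLn) : (-1 : GLn) * g = g * (-1) := by
  apply Units.ext; simp

theorem negOne_sq : (-1 : GLn) * (-1) = 1 := by
  apply Units.ext; simp

theorem negOne_ne_one (h2 : (2 : F) ≠ 0) : (-1 : GLn) ≠ 1 := by
  intro h
  have h1 : ((-1 : GLn) : Mat) (Sum.inl 0) (Sum.inl 0) = ((1 : GLn) : Mat) (Sum.inl 0) (Sum.inl 0) := by
    rw [h]
  rw [val_neg_GL] at h1
  simp only [Units.val_one, Matrix.neg_apply, Matrix.one_apply_eq] at h1
  apply h2
  have : (2 : F) = 1 - (-1) := by ring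
  rw [this, h1]; ring

theorem neg_eq_negOne_mul (g : GLn) : -g = (-1 : GLn) * g := (neg_one_mul_GL g).symm

theorem anti_symm_aux {x y : GLn} (h : x * y = (-1 : GLn) * (y * x)) :
    y * x = (-1 : GLn) * (x * y) := by
  rw [h, ← mul_assoc, negOne_sq, one_mul]

/-- the relations of a frame with `-1` written as a group element -/
theorem frame_anti {S : Fin 4 → GLn} (hS : IsFrame S) (i j : Fin 4) (hij : i ≠ j) :
    S i * S j = (-1 : GLn) * (S j * S i) := by
  rw [hS.anti i j hij, neg_eq_negOne_mul]

theorem five_data {S : Fin 4 → GLn} (hS : IsFrame S) :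
    S5 S * S5 S = 1 ∧ ∀ k : Fin 4, S5 S * S k = (-1 : GLn) * (S k * S5 S) := by
  have h5 := five_abs (z := (-1 : GLn)) (a := S 0) (b := S 1) (c := S 2) (d := S 3)
    negOne_central negOne_sq (hS.sq 0) (hS.sq 1) (hS.sq 2) (hS.sq 3)
    (frame_anti hS 1 0 (by decide)) (frame_anti hS 2 0 (by decide)) (frame_anti hS 3 0 (by decide))
    (frame_anti hS 2 1 (by decide)) (frame_anti hS 3 1 (by decide)) (frame_anti hS 3 2 (by decide))
  refine ⟨h5.1, ?_⟩
  intro k
  fin_cases k
  · exact h5.2.1
  · exact h5.2.2.1
  · exact h5.2.2.2.1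
  · exact h5.2.2.2.2

/-- (F5), with `-1` as a group element -/
theorem five_aux {S : Fin 4 → GLn} (hS : IsFrame S) :
    (∀ i : Fin 5, ext5 S i * ext5 S i = 1) ∧
      ∀ i j : Fin 5, i ≠ j → ext5 S i * ext5 S j = (-1 : GLn) * (ext5 S j * ext5 S i) := by
  obtain ⟨h1, h2⟩ := five_data hS
  refine ⟨?_, ?_⟩
  · intro i
    induction i using Fin.lastCases with
    | last => rw [ext5_last]; exact h1
    | cast k => rw [ext5_castSucc]; exact hS.sq k
  · intro i j hij
    induction i using Fin.lastCases with
    | last =>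
      induction j using Fin.lastCases with
      | last => exact absurd rfl hij
      | cast l => rw [ext5_last, ext5_castSucc]; exact h2 l
    | cast k =>
      induction j using Fin.lastCases with
      | last => rw [ext5_last, ext5_castSucc]; exact anti_symm_aux (h2 k)
      | cast l =>
        rw [ext5_castSucc, ext5_castSucc]
        apply frame_anti hS
        intro h
        exact hij (by rw [h])

end Cfsg.Agent.Helper66.XS
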