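import Mathlib
import Cfsg.Agent.Helper43.XS.Defs
import Cfsg.Agent.Helper66.XSCommon

/-!
# (DIST) for helper43 (S6002): the five involutions of a frame are distinct up to sign, not `±1`
-/

set_option autoImplicit false
set_option linter.unusedSectionVars false
set_option linter.unusedVariables false
set_option linter.unusedSimpArgs false

namespace Cfsg.Agent.Helper66.XS

open Matrix Cfsg Cfsg.Geo Cfsg.Agent.Helper43.XS

variable {F : Type*} [Field F]

local notation "Mat" => Matrix (Fin 2 ⊕ Fin 2) (Fin 2 ⊕ Fin 2) F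
local notation "GLn" => GL (Fin 2 ⊕ Fin 2) F
local notation "Vec" => (Fin 2 ⊕ Fin 2 → F)

/-- (DIST) the five are distinct up to sign, and not `±1` -/
theorem ext5_injective (h2 : (2 : F) ≠ 0) {S : Fin 4 → GLn} (hS : IsFrame S) :
    (∀ i j : Fin 5, (ext5 S i = ext5 S j ∨ ext5 S i = -ext5 S j) → i = j) ∧
      ∀ i : Fin 5, ext5 S i ≠ 1 ∧ ext5 S i ≠ -1 := by
  obtain ⟨hsq, hanti⟩ := five_aux hS
  have hz1 : (-1 : GLn) ≠ 1 := negOne_ne_one h2
  refine ⟨?_, ?_⟩
  · intro i j h
    by_contra hij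
    have hd := dist_abs (z := (-1 : GLn)) negOne_central negOne_sq hz1 (hsq i) (hsq j)
      (hanti i j hij)
    rcases h with h | h
    · exact hd.1 h
    · rw [neg_eq_negOne_mul] at h
      exact hd.2.1 h
  · intro i
    obtain ⟨j, hij⟩ : ∃ j : Fin 5, i ≠ j := by
      by_cases h : i = 0
      · exact ⟨1, by rw [h]; decide⟩
      · exact ⟨0, h⟩
    have hd := dist_abs (z := (-1 : GLn)) negOne_central negOne_sq hz1 (hsq i) (hsq j)
      (hanti i j hij)
    exact ⟨hd.2.2.1, hd.2.2.2⟩

end Cfsg.Agent.Helper66.XS
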