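import Mathlib
import Cfsg.Agent.Helper43.XS.Defs

/-!
# (G1c) for helper43 (S6002): from the standard generators of `Q8 ∘ D8` to a frame
-/

set_option autoImplicit false
set_option linter.unusedSectionVars false
set_option linter.unusedVariables false
set_option linter.unusedSimpArgs false

namespace Cfsg.Agent.Helper66.XS

open Matrix Cfsg Cfsg.Geo Cfsg.Agent.Helper43.XS

variable {F : Type*} [Field F]

local notation "Mat" => Matrix (Fin 2 ⊕ Fin 2) (Fin 2 ⊕ Fin 2) F
local notation "GLn" => GL (Fin 2 ⊕ Fin 2) F
local notation "Vec" => (Fin 2 ⊕ Fin 2 → F)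

/-- (G1c) from the standard generators to a frame (pure group computation; `z` central of order 2) -/
theorem frame_of_std_generators {G : Type*} [Group G] {z a b c d : G}
    (hz : ∀ g : G, z * g = g * z) (hzz : z * z = 1)
    (ha : a * a = z) (hb : b * b = z) (hab : a * b = z * (b * a))
    (hc : c * c = z) (hd : d * d = 1) (hcd : c * d = z * (d * c))
    (hac : a * c = c * a) (had : a * d = d * a) (hbc : b * c = c * b) (hbd : b * d = d * b) :
    let s : Fin 4 → G := ![d, c * d, a * c, b * c]
    (∀ i, s i * s i = 1) ∧ ∀ i j, i ≠ j → s i * s j = z * (s j * s i) := by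
  -- rewriting system with normal forms `z^ε a^i b^j c^k d^l`
  have zz' : ∀ x : G, z * (z * x) = x := fun x => by rw [← mul_assoc, hzz, one_mul]
  have az : a * z = z * a := (hz a).symm
  have bz : b * z = z * b := (hz b).symm
  have cz : c * z = z * c := (hz c).symm
  have dz : d * z = z * d := (hz d).symm
  have az' : ∀ x : G, a * (z * x) = z * (a * x) := fun x => by rw [← mul_assoc, az, mul_assoc]
  have bz' : ∀ x : G, b * (z * x) = z * (b * x) := fun x => by rw [← mul_assoc, bz, mul_assoc]
  have cz' : ∀ x : G, c * (z * x) = z * (c * x) := fun x => by rw [← mul_assoc, cz, mul_assoc]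
  have dz' : ∀ x : G, d * (z * x) = z * (d * x) := fun x => by rw [← mul_assoc, dz, mul_assoc]
  have aa' : ∀ x : G, a * (a * x) = z * x := fun x => by rw [← mul_assoc, ha]
  have bb' : ∀ x : G, b * (b * x) = z * x := fun x => by rw [← mul_assoc, hb]
  have cc' : ∀ x : G, c * (c * x) = z * x := fun x => by rw [← mul_assoc, hc]
  have dd' : ∀ x : G, d * (d * x) = x := fun x => by rw [← mul_assoc, hd, one_mul]
  have ba : b * a = z * (a * b) := by rw [hab, zz']
  have ba' : ∀ x : G, b * (a * x) = z * (a * (b * x)) := fun x => by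
    rw [← mul_assoc, ba, mul_assoc, mul_assoc]
  have ca : c * a = a * c := hac.symm
  have ca' : ∀ x : G, c * (a * x) = a * (c * x) := fun x => by
    rw [← mul_assoc, ca, mul_assoc]
  have da : d * a = a * d := had.symm
  have da' : ∀ x : G, d * (a * x) = a * (d * x) := fun x => by
    rw [← mul_assoc, da, mul_assoc]
  have cb : c * b = b * c := hbc.symm
  have cb' : ∀ x : G, c * (b * x) = b * (c * x) := fun x => by
    rw [← mul_assoc, cb, mul_assoc]
  have db : d * b = b * d := hbd.symm
  have db' : ∀ x : G, d * (b * x) = b * (d * x) := fun x => by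
    rw [← mul_assoc, db, mul_assoc]
  have dc : d * c = z * (c * d) := by rw [hcd, zz']
  have dc' : ∀ x : G, d * (c * x) = z * (c * (d * x)) := fun x => by
    rw [← mul_assoc, dc, mul_assoc, mul_assoc]
  intro s
  refine ⟨?_, ?_⟩
  · intro i
    fin_cases i <;>
      simp only [s, Fin.zero_eta, Fin.mk_one, Fin.reduceFinMk, Matrix.cons_val] <;>
      simp only [mul_assoc, mul_one, one_mul, hzz, zz', az, bz, cz, dz, az', bz', cz', dz',
        ha, hb, hc, hd, aa', bb', cc', dd', ba, ba', ca, ca', da, da', cb, cb', db, db', dc, dc']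
  · intro i j hij
    fin_cases i <;> fin_cases j <;>
      first
      | exact absurd rfl hij
      | (simp only [s, Fin.zero_eta, Fin.mk_one, Fin.reduceFinMk, Matrix.cons_val]
         simp only [mul_assoc, mul_one, one_mul, hzz, zz', az, bz, cz, dz, az', bz', cz', dz',
          ha, hb, hc, hd, aa', bb', cc', dd', ba, ba', ca, ca', da, da', cb, cb', db, db', dc, dc'])

end Cfsg.Agent.Helper66.XS
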