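import Mathlib
import Cfsg.Agent.Helper43.XS.Defs
import Cfsg.Agent.Helper66.XSCommon

/-!
# (INV) for helper43 (S6002): the involutions among the sixteen products of a frame
-/

set_option autoImplicit false
set_option linter.unusedSectionVars false
set_option linter.unusedVariables false
set_option linter.unusedSimpArgs false

namespace Cfsg.Agent.Helper66.XS

open Matrix Cfsg Cfsg.Geo Cfsg.Agent.Helper43.XS

variable {F : Type*} [Field F]

local notation "Mat" => Matrix (Fin 2 ⊕ Fin 2) (Fin 2 ⊕ Fin 2) F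
local notation "GLn" => GL (Fin 2 ⊕ Fin 2) F
local notation "Vec" => (Fin 2 ⊕ Fin 2 → F)

/-- (INV) the non-central involutions among the signed products are `±` the five -/
theorem involution_of_prodW (h2 : (2 : F) ≠ 0) {S : Fin 4 → GLn} (hS : IsFrame S)
    (w : Fin 4 → Bool) (hw : prodW S w * prodW S w = 1) :
    prodW S w = 1 ∨ ∃ i : Fin 5, prodW S w = ext5 S i ∨ prodW S w = -ext5 S i := by
  have hz1 : (-1 : GLn) ≠ 1 := negOne_ne_one h2
  have h := inv_abs (z := (-1 : GLn)) (a := S 0) (b := S 1) (c := S 2) (d := S 3)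
    negOne_central negOne_sq hz1 (hS.sq 0) (hS.sq 1) (hS.sq 2) (hS.sq 3)
    (frame_anti hS 1 0 (by decide)) (frame_anti hS 2 0 (by decide)) (frame_anti hS 3 0 (by decide))
    (frame_anti hS 2 1 (by decide)) (frame_anti hS 3 1 (by decide)) (frame_anti hS 3 2 (by decide))
    (w 0) (w 1) (w 2) (w 3) hw
  change prodW S w = 1 ∨ prodW S w = S 0 ∨ prodW S w = S 1 ∨ prodW S w = S 2 ∨ prodW S w = S 3 ∨
    prodW S w = S 0 * S 1 * S 2 * S 3 at h
  rcases h with h | h | h | h | h | h
  · exact Or.inl h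
  · exact Or.inr ⟨0, Or.inl (by rw [h, ext5_zero])⟩
  · exact Or.inr ⟨1, Or.inl (by rw [h, ext5_one])⟩
  · exact Or.inr ⟨2, Or.inl (by rw [h, ext5_two])⟩
  · exact Or.inr ⟨3, Or.inl (by rw [h, ext5_three])⟩
  · exact Or.inr ⟨4, Or.inl (by rw [h, ext5_four]; rfl)⟩

end Cfsg.Agent.Helper66.XS
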