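import Cfsg.Agent.Helper45.PronBL3.Defs

/-!
# helper45 PRON BL3 (#15446), leaf (F) (helper66)

In a finite field of odd characteristic where `-1` is a non-square, one of `2`, `-2` is a square
(the quadratic character is multiplicative).
-/

set_option autoImplicit false

namespace Cfsg.Agent.Helper66.Pron

open Matrix Cfsg.Agent.Helper99.Pron Cfsg.Agent.Helper45.Pron

variable {F : Type*} [Field F]

/-- (F) -/
theorem exists_sq_eq_two_or_neg_two [Fintype F] (h2 : (2 : F) ≠ 0) (hns : ¬ ∃ i : F, i * i = -1) :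
    ∃ w : F, w * w = 2 ∨ w * w = -2 := by
  classical
  by_cases hsq : IsSquare (2 : F)
  · obtain ⟨w, hw⟩ := hsq
    exact ⟨w, Or.inl hw.symm⟩
  · have h1 : quadraticChar F (2 : F) = -1 := quadraticChar_neg_one_iff_not_isSquare.mpr hsq
    have hm1 : ¬ IsSquare (-1 : F) := by
      rintro ⟨i, hi⟩
      exact hns ⟨i, hi.symm⟩
    have h3 : quadraticChar F (-1 : F) = -1 := quadraticChar_neg_one_iff_not_isSquare.mpr hm1
    have h4 : quadraticChar F (-2 : F) = 1 := by
      have : (-2 : F) = (-1) * 2 := by ring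
      rw [this, map_mul, h1, h3]
      norm_num
    have h5 : (-2 : F) ≠ 0 := neg_ne_zero.mpr h2
    obtain ⟨w, hw⟩ := (quadraticChar_one_iff_isSquare h5).mp h4
    exact ⟨w, Or.inr hw.symm⟩

end Cfsg.Agent.Helper66.Pron
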