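import Mathlib
import Cfsg.Agent.Helper46.RSp.Defs

/-!
# S2281 (n ≥ 3) piece (COMM) for helper46: the commutator of two pure elements
-/

set_option autoImplicit false
set_option linter.unusedSectionVars false
set_option linter.unusedVariables false

namespace Cfsg.Agent.Helper66.RSp

open Matrix Cfsg.Agent.Helper13 Cfsg.Agent.Helper46.RSp

variable {K : Type*} [Field K] {j : ℕ}

local notation "Vec" => (Fin (j + 3) ⊕ Fin (j + 3) → K)
local notation "Mat" => Matrix (Fin (j + 3) ⊕ Fin (j + 3)) (Fin (j + 3) ⊕ Fin (j + 3)) K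
local notation "Mk" => Matrix (Fin (j + 3)) (Fin (j + 3)) K
local notation "SpG" => Matrix.symplecticGroup (Fin (j + 3)) K
local notation "B" => Cfsg.sympForm (j + 3) K

theorem hasM_comm_pure {H : Subgroup SpG} {y y' : Vec} (hy : InV' y) (hy' : InV' y') (hyy' : B y y' = 0)
    (h1 : HasM H (eichS (bE i1) y 0)) (h2 : HasM H (eichS (bF i1) y' 0)) : HasM H (eichS y y' 0) := by
  obtain ⟨hy1, hy2⟩ := hy
  obtain ⟨hy'1, hy'2⟩ := hy'
  have hy'y : B y' y = 0 := by rw [sympForm_swap, hyy', neg_zero]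
  -- `g₁ f_1 = f_1 + y`, `g₁ y' = y'`
  have e1 : eichS (bE i1) y 0 *ᵥ (bF i1 : Vec) = bF i1 + y := by
    rw [eichS_mulVec, form_bF_left, form_bF_left, bE_apply_inl, if_pos rfl, hy1]
    module
  have e2 : eichS (bE i1) y 0 *ᵥ y' = y' := by
    rw [eichS_mulVec, form_bE_right, hy'2, hy'y]
    module
  have h3 : HasM H (eichS (bF i1 + y) y' 0) := by
    have := hasM_conj_eichS h1 h2
    rwa [e1, e2] at this
  -- split off `g₂`
  have hf1y' : B (bF i1 : Vec) y' = 0 := by rw [form_bF_left, hy'1]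
  have hy'f1 : B y' (bF i1 : Vec) = 0 := by rw [form_bF_right, hy'1, neg_zero]
  have hyf1 : B y (bF i1 : Vec) = 0 := by rw [form_bF_right, hy1, neg_zero]
  have e3 : eichS (bF i1 + y) y' 0 = eichS (bF i1) y' 0 * eichS y y' 0 := by
    rw [eichS_add_left hf1y' hyy', hyf1, eichS_zero_zero, Matrix.mul_one]
  have h4 : HasM H (eichS (bF i1) (-y') (-0)) := HasM.eichS_inv hy'f1 h2
  refine (h4.mul h3).of_eq ?_
  have hny'f1 : B (-y') (bF i1 : Vec) = 0 := by rw [sympForm_neg_left, hy'f1, neg_zero]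
  rw [e3, ← Matrix.mul_assoc, eichS_mul _ _ hny'f1 hy'f1, sympForm_neg_right, sympForm_self]
  have : eichS (bF i1 : Vec) (-y' + y') (-0 + 0 + -0) = 1 := by
    rw [neg_add_cancel, neg_zero, add_zero, add_zero, eichS_zero_zero]
  rw [this, Matrix.one_mul]

end Cfsg.Agent.Helper66.RSp
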