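import Mathlib

/-!
# S2281 (n ≥ 3) piece (PARAM) for helper46: a generator of `Kˣ` as parameter
-/

set_option autoImplicit false

namespace Cfsg.Agent.Helper66.RSp

variable {K : Type*} [Field K]

theorem exists_param [Fintype K] :
    ∃ c : K, c ≠ 0 ∧ ∀ A : AddSubgroup K, (∀ x ∈ A, c * x ∈ A) → (1 : K) ∈ A → A = ⊤ := by
  obtain ⟨g, hg⟩ := IsCyclic.exists_monoid_generator (α := Kˣ)
  refine ⟨(g : K), g.ne_zero, ?_⟩
  intro A hA h1
  have hpow : ∀ k : ℕ, (g : K) ^ k ∈ A := by
    intro k
    induction k with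
    | zero => rw [pow_zero]; exact h1
    | succ k ih => rw [pow_succ']; exact hA _ ih
  rw [eq_top_iff]
  intro x _
  by_cases hx : x = 0
  · rw [hx]; exact A.zero_mem
  · obtain ⟨k, hk⟩ := hg (Units.mk0 x hx)
    have : (g : K) ^ k = x := by
      have := congrArg (fun u : Kˣ => (u : K)) hk
      simpa using this
    rw [← this]
    exact hpow k

end Cfsg.Agent.Helper66.RSp
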