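import Mathlib

/-!
# S2281 (n ≥ 3) piece (SQ) for helper46: the squares span a finite field additively
-/

set_option autoImplicit false

namespace Cfsg.Agent.Helper66.RSp

variable {K : Type*} [Field K]

theorem squares_span [Fintype K] (A : AddSubgroup K) (h : ∀ t : K, t ^ 2 ∈ A) : A = ⊤ := by
  rw [eq_top_iff]
  intro x _
  by_cases h2 : ringChar K = 2
  · obtain ⟨y, hy⟩ := FiniteField.isSquare_of_char_two h2 x
    rw [hy, ← pow_two]
    exact h y
  · have h2' : (2 : K) ≠ 0 := Ring.two_ne_zero h2
    have e : x = ((x + 1) / 2) ^ 2 - ((x - 1) / 2) ^ 2 := by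
      field_simp
      ring
    rw [e]
    exact A.sub_mem (h _) (h _)

end Cfsg.Agent.Helper66.RSp
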