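import Mathlib

/-!
# Sub-farm of S5289 piece (T) (helper48), lemma (TA3) (helper66)

The three properties delivered by (SL2) `sl2_torus` survive `h ↦ h ^ (p ^ a)`.
-/

set_option autoImplicit false
set_option linter.unusedSectionVars false

universe u

namespace Cfsg.Agent.Helper66.ResT

open Subgroup

variable {Ω : Type u} [Group Ω] {p : ℕ} [hp : Fact p.Prime]

section abstractX

variable {X : Type u} [CommGroup X] [Finite X]

/-- Fermat: `c ^ p ≡ c mod p` -/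
theorem TA3_fermat (c : ℕ) : c ^ p ≡ c [MOD p] := by
  rw [← ZMod.natCast_eq_natCast_iff, Nat.cast_pow, ZMod.pow_card]

/-- powers with exponents congruent modulo `p` of an element with `g ^ p = 1` -/
theorem TA3_pow_congr {Y : Type*} [Group Y] {g : Y} (hg : g ^ p = 1) {a b : ℕ}
    (hab : a ≡ b [MOD p]) : g ^ a = g ^ b := by
  rw [pow_eq_pow_iff_modEq]
  exact hab.of_dvd (orderOf_dvd_of_pow_eq_one hg)

/-- the three properties for all powers `h ^ k`, with the exponents `(m * m) ^ k`, `m ^ k`, `n ^ k` -/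
theorem TA3_pow_aux (u h : MulAut X) (m n : ℕ)
    (hconj : h * u * h⁻¹ = u ^ (m * m))
    (hfix : ∀ x : X, u x = x → h x = x ^ m)
    (hquot : ∀ x : X, ∃ y : X, u y = y ∧ h x = x ^ n * y) (k : ℕ) :
    (h ^ k) * u * (h ^ k)⁻¹ = u ^ ((m * m) ^ k) ∧
      (∀ x : X, u x = x → (h ^ k) x = x ^ (m ^ k)) ∧
      (∀ x : X, ∃ y : X, u y = y ∧ (h ^ k) x = x ^ (n ^ k) * y) := by
  induction k with
  | zero =>
    refine ⟨by simp, fun x _ => by simp, fun x => ⟨1, map_one u, by simp⟩⟩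
  | succ k ih =>
    obtain ⟨ih1, ih2, ih3⟩ := ih
    refine ⟨?_, ?_, ?_⟩
    · have h1 : h ^ (k + 1) * u * (h ^ (k + 1))⁻¹ = h * (h ^ k * u * (h ^ k)⁻¹) * h⁻¹ := by
        rw [pow_succ']
        group
      rw [h1, ih1]
      have h2 : h * u ^ ((m * m) ^ k) * h⁻¹ = (h * u * h⁻¹) ^ ((m * m) ^ k) := by
        rw [conj_pow]
      rw [h2, hconj, ← pow_mul, pow_succ' (m * m) k]
    · intro x hx
      have h1 : (h ^ (k + 1)) x = h ((h ^ k) x) := by
        rw [pow_succ', MulAut.mul_apply]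
      rw [h1, ih2 x hx]
      have hfx : u (x ^ m ^ k) = x ^ m ^ k := by rw [map_pow, hx]
      rw [hfix _ hfx, ← pow_mul, pow_succ m k]
    · intro x
      obtain ⟨yk, hyk, hk⟩ := ih3 x
      obtain ⟨y, hy, hxy⟩ := hquot x
      refine ⟨y ^ n ^ k * yk ^ m, ?_, ?_⟩
      · rw [map_mul, map_pow, map_pow, hy, hyk]
      · have h1 : (h ^ (k + 1)) x = h ((h ^ k) x) := by
          rw [pow_succ', MulAut.mul_apply]
        rw [h1, hk, map_mul, map_pow, hxy, hfix yk hyk, mul_pow, ← pow_mul, pow_succ' n k, mul_assoc]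

/-- one step: the three properties pass from `h` to `h ^ p` -/
theorem TA3_step (hXexp : ∀ x : X, x ^ p = 1) (u h : MulAut X) (hup : u ^ p = 1) (m n : ℕ)
    (hconj : h * u * h⁻¹ = u ^ (m * m))
    (hfix : ∀ x : X, u x = x → h x = x ^ m)
    (hquot : ∀ x : X, ∃ y : X, u y = y ∧ h x = x ^ n * y) :
    (h ^ p) * u * (h ^ p)⁻¹ = u ^ (m * m) ∧
      (∀ x : X, u x = x → (h ^ p) x = x ^ m) ∧
      (∀ x : X, ∃ y : X, u y = y ∧ (h ^ p) x = x ^ n * y) := by
  obtain ⟨h1, h2, h3⟩ := TA3_pow_aux u h m n hconj hfix hquot p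
  refine ⟨?_, ?_, ?_⟩
  · rw [h1]
    exact TA3_pow_congr hup (TA3_fermat (m * m))
  · intro x hx
    rw [h2 x hx]
    exact TA3_pow_congr (hXexp x) (TA3_fermat m)
  · intro x
    obtain ⟨y, hy, hxy⟩ := h3 x
    refine ⟨y, hy, ?_⟩
    rw [hxy, TA3_pow_congr (hXexp x) (TA3_fermat n)]

/-- (TA3) the three properties delivered by (SL2) `sl2_torus` survive `h ↦ h^(p^a)`.
PROOF: induction on `a` reduces to `a = 1`.  By induction on `k`: `h^k u h^(-k) = u^((m*m)^k)`, `h^k x = x^(m^k)` on the fixed points of `u`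
(`h` maps fixed points to fixed points: `x^m`), `h^k x = x^(n^k) * y_k` with `u y_k = y_k`.  For `k = p`: `m^p ≡ m`, `n^p ≡ n`, `(m*m)^p ≡ m*m mod p`
(Fermat, `ZMod.pow_card`) and `x^p = 1`, `u^p = 1`. -/
theorem torus_pow (hXexp : ∀ x : X, x ^ p = 1) (u h : MulAut X) (hup : u ^ p = 1) (m n : ℕ)
    (hconj : h * u * h⁻¹ = u ^ (m * m))
    (hfix : ∀ x : X, u x = x → h x = x ^ m)
    (hquot : ∀ x : X, ∃ y : X, u y = y ∧ h x = x ^ n * y) (a : ℕ) :
    (h ^ (p ^ a)) * u * (h ^ (p ^ a))⁻¹ = u ^ (m * m) ∧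
      (∀ x : X, u x = x → (h ^ (p ^ a)) x = x ^ m) ∧
      (∀ x : X, ∃ y : X, u y = y ∧ (h ^ (p ^ a)) x = x ^ n * y) := by
  induction a with
  | zero =>
    rw [pow_zero, pow_one]
    exact ⟨hconj, hfix, hquot⟩
  | succ a ih =>
    obtain ⟨ih1, ih2, ih3⟩ := ih
    rw [pow_succ, pow_mul]
    exact TA3_step hXexp u (h ^ (p ^ a)) hup m n ih1 ih2 ih3

end abstractX

end Cfsg.Agent.Helper66.ResT
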