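import Mathlib
import Cfsg.Agent.Helper77.Res.Defs

/-!
# Sub-farm of S5289 piece (T) (helper48), lemma (TG1) (helper66)

The `p'`-part of an element of finite order.
-/

set_option autoImplicit false

universe u

namespace Cfsg.Agent.Helper66.ResT

open Subgroup Cfsg.Agent.Helper77.Res

variable {Ω : Type u} [Group Ω] {p : ℕ} [hp : Fact p.Prime]

/-- (TG1) the `p'`-part of an element of finite order: `a = (orderOf ψ).factorization p`, `orderOf (ψ^(p^a)) = ordCompl`
(`orderOf_pow'`, `Nat.coprime_ordCompl`). -/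
theorem exists_pow_coprime {G : Type*} [Group G] (ψ : G) (hψ : IsOfFinOrder ψ) :
    ∃ a : ℕ, (orderOf (ψ ^ (p ^ a))).Coprime p := by
  have hn : orderOf ψ ≠ 0 := (orderOf_pos_iff.mpr hψ).ne'
  refine ⟨(orderOf ψ).factorization p, ?_⟩
  have hpa : p ^ (orderOf ψ).factorization p ≠ 0 := pow_ne_zero _ hp.out.ne_zero
  rw [orderOf_pow_of_dvd hpa (Nat.ordProj_dvd (orderOf ψ) p)]
  exact (Nat.coprime_ordCompl hp.out hn).symm

end Cfsg.Agent.Helper66.ResT
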