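import Mathlib

set_option autoImplicit false

namespace Cfsg.Agent.Helper66

open scoped commutatorElement

variable {Γ : Type*} [Group Γ]

/-- If the commutators of a generating set lie in the normal subgroup `N`, then so does the whole
commutator subgroup. -/
theorem commutator_le_of_generators (S : Set Γ) (hS : Subgroup.closure S = ⊤)
    (N : Subgroup Γ) [N.Normal] (h : ∀ s ∈ S, ∀ t ∈ S, ⁅s, t⁆ ∈ N) : commutator Γ ≤ N := by
  apply Subgroup.Normal.quotient_commutative_iff_commutator_le.mp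
  -- the quotient is generated by commuting elements
  have hgen : Subgroup.closure ((QuotientGroup.mk' N) '' S) = ⊤ := by
    rw [← MonoidHom.map_closure, hS, ← MonoidHom.range_eq_map, MonoidHom.range_eq_top]
    exact QuotientGroup.mk'_surjective N
  have hcomm : IsMulCommutative (Subgroup.closure ((QuotientGroup.mk' N) '' S)) := by
    apply Subgroup.isMulCommutative_closure
    rintro _ ⟨s, hs, rfl⟩ _ ⟨t, ht, rfl⟩
    rw [← commutatorElement_eq_one_iff_mul_comm, ← map_commutatorElement, QuotientGroup.mk'_apply,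
      QuotientGroup.eq_one_iff]
    exact h s hs t ht
  rw [hgen] at hcomm
  constructor
  constructor
  intro a b
  have := hcomm.is_comm.comm ⟨a, Subgroup.mem_top a⟩ ⟨b, Subgroup.mem_top b⟩
  exact congrArg Subtype.val this

/-- A cyclic subgroup whose generator is sent to itself or its inverse by each member of a
generating set is normal. -/
theorem zpowers_normal_of_generators (S : Set Γ) (hS : Subgroup.closure S = ⊤) (c : Γ)
    (h : ∀ s ∈ S, s * c * s⁻¹ = c ∨ s * c * s⁻¹ = c⁻¹) : (Subgroup.zpowers c).Normal := by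
  rw [← Subgroup.normalizer_eq_top_iff, eq_top_iff, ← hS, Subgroup.closure_le]
  intro s hs
  rw [SetLike.mem_coe, Subgroup.mem_normalizer_iff]
  have key : ∀ k : ℤ, s * c ^ k * s⁻¹ = (s * c * s⁻¹) ^ k := by
    intro k
    have := map_zpow (MulAut.conj s) c k
    simpa [MulAut.conj_apply] using this
  have key' : ∀ k : ℤ, s⁻¹ * c ^ k * s = (s⁻¹ * c * s) ^ k := by
    intro k
    have := map_zpow (MulAut.conj s⁻¹) c k
    simpa [MulAut.conj_apply] using this
  have hinv : s⁻¹ * c * s = c ∨ s⁻¹ * c * s = c⁻¹ := by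
    rcases h s hs with h1 | h1
    · left
      calc s⁻¹ * c * s = s⁻¹ * (s * c * s⁻¹) * s := by rw [h1]
        _ = c := by group
    · right
      have hc : c = s⁻¹ * c⁻¹ * s := by rw [← h1]; group
      calc s⁻¹ * c * s = (s⁻¹ * c⁻¹ * s)⁻¹ := by group
        _ = c⁻¹ := by rw [← hc]
  intro g
  constructor
  · rintro ⟨k, rfl⟩
    show s * c ^ k * s⁻¹ ∈ Subgroup.zpowers c
    rw [key]
    rcases h s hs with h1 | h1
    · rw [h1]; exact ⟨k, rfl⟩
    · rw [h1]; exact ⟨-k, by simp⟩
  · rintro ⟨k, hk⟩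
    have hk' : (fun x => c ^ x) k = c ^ k := rfl
    rw [hk'] at hk
    have : g = s⁻¹ * c ^ k * s := by rw [hk]; group
    rw [this, key']
    rcases hinv with h1 | h1
    · rw [h1]; exact ⟨k, rfl⟩
    · rw [h1]; exact ⟨-k, by simp⟩

/-- The core computation for stem extensions of dihedral-like groups: if `Γ` is generated by
`a`, `x` and a central subgroup `Z` inside the commutator subgroup, and `x a x⁻¹ a ∈ Z`,
then `Z` is contained in the cyclic group generated by `a² z⁻¹`. -/
theorem central_le_zpowers_of_dihedral_like (Z : Subgroup Γ) (hZc : Z ≤ Subgroup.center Γ)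
    (hZd : Z ≤ commutator Γ) (a x : Γ) (hgen : Subgroup.closure ({a, x} ∪ (Z : Set Γ)) = ⊤)
    (hz : x * a * x⁻¹ * a ∈ Z) :
    Z ≤ Subgroup.zpowers (a * a * (x * a * x⁻¹ * a)⁻¹) := by
  set z := x * a * x⁻¹ * a with hzdef
  set c := a * a * z⁻¹ with hcdef
  have hzc : ∀ g : Γ, g * z = z * g := fun g => Subgroup.mem_center_iff.mp (hZc hz) g
  have hzc' : ∀ g : Γ, g * z⁻¹ = z⁻¹ * g := fun g => by
    calc g * z⁻¹ = z⁻¹ * (z * g) * z⁻¹ := by group
      _ = z⁻¹ * (g * z) * z⁻¹ := by rw [hzc g]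
      _ = z⁻¹ * g := by group
  have hxa : x * a * x⁻¹ = z * a⁻¹ := by rw [hzdef]; group
  have hconj_a : a * c * a⁻¹ = c := by
    rw [hcdef]
    calc a * (a * a * z⁻¹) * a⁻¹ = a * a * (a * z⁻¹) * a⁻¹ := by group
      _ = a * a * (z⁻¹ * a) * a⁻¹ := by rw [hzc' a]
      _ = a * a * z⁻¹ := by group
  have hconj_x : x * c * x⁻¹ = c⁻¹ := by
    rw [hcdef]
    calc x * (a * a * z⁻¹) * x⁻¹ = (x * a * x⁻¹) * (x * a * x⁻¹) * (x * z⁻¹) * x⁻¹ := by group
      _ = (z * a⁻¹) * (z * a⁻¹) * (z⁻¹ * x) * x⁻¹ := by rw [hxa, hzc' x]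
      _ = z * (a⁻¹ * z) * a⁻¹ * z⁻¹ := by group
      _ = z * (z * a⁻¹) * a⁻¹ * z⁻¹ := by rw [hzc a⁻¹]
      _ = z * (z * a⁻¹ * a⁻¹ * z⁻¹) := by group
      _ = (z * a⁻¹ * a⁻¹ * z⁻¹) * z := by rw [hzc]
      _ = z * a⁻¹ * a⁻¹ := by group
      _ = (a * a * z⁻¹)⁻¹ := by group
  have hconj_w : ∀ w ∈ Z, w * c * w⁻¹ = c := by
    intro w hw
    have := Subgroup.mem_center_iff.mp (hZc hw) c
    rw [← this]; group
  haveI hN : (Subgroup.zpowers c).Normal := by
    apply zpowers_normal_of_generators _ hgen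
    rintro s ((hs | hs) | hs)
    · rw [hs]; left; exact hconj_a
    · rw [Set.mem_singleton_iff] at hs; rw [hs]; right; exact hconj_x
    · left; exact hconj_w s hs
  have hxa_comm : ⁅x, a⁆ = c⁻¹ := by
    rw [commutatorElement_def, hxa, hcdef]
    group
  have hax_comm : ⁅a, x⁆ = c := by
    rw [← commutatorElement_inv, hxa_comm, inv_inv]
  have hcentral_comm : ∀ w ∈ Z, ∀ g : Γ, ⁅w, g⁆ = 1 ∧ ⁅g, w⁆ = 1 := by
    intro w hw g
    have := Subgroup.mem_center_iff.mp (hZc hw) g
    constructor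
    · rw [commutatorElement_eq_one_iff_mul_comm]; exact this.symm
    · rw [commutatorElement_eq_one_iff_mul_comm]; exact this
  have hle : commutator Γ ≤ Subgroup.zpowers c := by
    apply commutator_le_of_generators _ hgen
    rintro s ((hs | hs) | hs) t ((ht | ht) | ht)
    · rw [hs, ht, commutatorElement_self]; exact Subgroup.one_mem _
    · rw [Set.mem_singleton_iff] at ht
      rw [hs, ht, hax_comm]; exact Subgroup.mem_zpowers c
    · rw [(hcentral_comm t ht s).2]; exact Subgroup.one_mem _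
    · rw [Set.mem_singleton_iff] at hs
      rw [hs, ht, hxa_comm]; exact Subgroup.inv_mem _ (Subgroup.mem_zpowers c)
    · rw [Set.mem_singleton_iff] at hs ht
      rw [hs, ht, commutatorElement_self]; exact Subgroup.one_mem _
    · rw [(hcentral_comm t ht s).2]; exact Subgroup.one_mem _
    · rw [(hcentral_comm s hs t).1]; exact Subgroup.one_mem _
    · rw [(hcentral_comm s hs t).1]; exact Subgroup.one_mem _
    · rw [(hcentral_comm s hs t).1]; exact Subgroup.one_mem _
  exact hZd.trans hle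

end Cfsg.Agent.Helper66

namespace Cfsg.Agent.Helper66

open scoped commutatorElement

variable {Γ : Type*} [Group Γ]

/-- With the notation of `central_le_zpowers_of_dihedral_like`: if moreover `x` commutes with
`a ^ N` then `(a² z⁻¹) ^ N = 1`. -/
theorem dihedral_like_pow_eq_one (Z : Subgroup Γ) (hZc : Z ≤ Subgroup.center Γ)
    (a x : Γ) (hz : x * a * x⁻¹ * a ∈ Z) (N : ℕ) (hcomm : x * a ^ N = a ^ N * x) :
    (a * a * (x * a * x⁻¹ * a)⁻¹) ^ N = 1 := by
  set z := x * a * x⁻¹ * a with hzdef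
  have hzc : ∀ g : Γ, Commute g z := fun g => Subgroup.mem_center_iff.mp (hZc hz) g
  have hxa : x * a * x⁻¹ = z * a⁻¹ := by rw [hzdef]; group
  have h1 : x * a ^ N * x⁻¹ = (z * a⁻¹) ^ N := by
    have := map_pow (MulAut.conj x) a N
    simp only [MulAut.conj_apply] at this
    rw [this, hxa]
  have h2 : (z * a⁻¹) ^ N = z ^ N * (a⁻¹) ^ N := (hzc a⁻¹).symm.mul_pow N
  have h3 : x * a ^ N * x⁻¹ = a ^ N := by rw [hcomm]; group
  have h4 : a ^ N * a ^ N = z ^ N := by
    have : a ^ N = z ^ N * (a⁻¹) ^ N := by rw [← h3, h1, h2]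
    calc a ^ N * a ^ N = z ^ N * (a⁻¹) ^ N * a ^ N := by rw [← this]
      _ = z ^ N := by rw [inv_pow]; group
  have h5 : Commute (a * a) z⁻¹ := (hzc (a * a)).inv_right
  rw [h5.mul_pow, (Commute.refl a).mul_pow, h4, inv_pow, mul_inv_cancel]

end Cfsg.Agent.Helper66
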