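import Mathlib

/-!
# S3333 piece (R0b) for helper62: a self-centralizing subgroup `S` of order 9 with `N(S)/S ≅ D₈` has exponent 3
(if `S` were cyclic, `N(S)/C(S)` would embed in the abelian group `Aut S`).
-/

set_option autoImplicit false

namespace Cfsg.Agent.Helper66.S6

universe u
variable {G : Type u} [Group G] [Finite G]

/-- (R0b) `S` has exponent 3. -/
theorem pow_three_of_quotient (S : Subgroup G) (hcard : Nat.card S = 9)
    (hC : Subgroup.centralizer (S : Set G) = S)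
    (eN : ↥(Subgroup.normalizer (S : Set G)) ⧸ S.subgroupOf (Subgroup.normalizer (S : Set G)) ≃*
      DihedralGroup 4) : ∀ m ∈ S, m ^ 3 = 1 := by
  intro m hm
  by_contra h3
  -- `m` has order 9
  have hdvd : orderOf m ∣ 9 := by
    have h := orderOf_dvd_natCard (⟨m, hm⟩ : S)
    rw [hcard, ← Subgroup.orderOf_coe] at h
    exact h
  have h9 : orderOf m = 9 := by
    have hmem : orderOf m ∈ Nat.divisors 9 := Nat.mem_divisors.2 ⟨hdvd, by norm_num⟩
    have hdiv : Nat.divisors 9 = {1, 3, 9} := by decide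
    rw [hdiv] at hmem
    simp only [Finset.mem_insert, Finset.mem_singleton] at hmem
    rcases hmem with h | h | h
    · exfalso; apply h3
      rw [orderOf_eq_one_iff.1 h, one_pow]
    · exfalso; apply h3
      rw [← h]; exact pow_orderOf_eq_one m
    · exact h
  -- `S` is generated by `m`
  have hSz : Subgroup.zpowers m = S := by
    have hle : Subgroup.zpowers m ≤ S := by rw [Subgroup.zpowers_le]; exact hm
    have hcz : Nat.card (Subgroup.zpowers m) = 9 := by rw [Nat.card_zpowers, h9]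
    exact Subgroup.eq_of_le_of_card_ge hle (by rw [hcz, hcard])
  -- conjugation by the normalizer acts on `m` by powers
  have hpow : ∀ n ∈ Subgroup.normalizer (S : Set G), ∃ a : ℤ, m ^ a = n * m * n⁻¹ := by
    intro n hn
    have h1 : n * m * n⁻¹ ∈ S := (Subgroup.mem_normalizer_iff.1 hn m).1 hm
    rw [← hSz] at h1
    exact Subgroup.mem_zpowers_iff.1 h1
  have hconj : ∀ (n : G) (a b : ℤ), m ^ b = n * m * n⁻¹ → n * m ^ a * n⁻¹ = m ^ (b * a) := by
    intro n a b hb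
    rw [← conj_zpow, ← hb, zpow_mul]
  have key : ∀ n₁ ∈ Subgroup.normalizer (S : Set G), ∀ n₂ ∈ Subgroup.normalizer (S : Set G),
      (n₁ * n₂)⁻¹ * (n₂ * n₁) ∈ S := by
    intro n₁ h₁ n₂ h₂
    obtain ⟨a, ha⟩ := hpow n₁ h₁
    obtain ⟨b, hb⟩ := hpow n₂ h₂
    have e1 : n₂ * n₁ * m * (n₂ * n₁)⁻¹ = m ^ (b * a) := by
      have : n₂ * n₁ * m * (n₂ * n₁)⁻¹ = n₂ * (n₁ * m * n₁⁻¹) * n₂⁻¹ := by group
      rw [this, ← ha, hconj n₂ a b hb]
    have e2 : n₁ * n₂ * m * (n₁ * n₂)⁻¹ = m ^ (a * b) := by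
      have : n₁ * n₂ * m * (n₁ * n₂)⁻¹ = n₁ * (n₂ * m * n₂⁻¹) * n₁⁻¹ := by group
      rw [this, ← hb, hconj n₁ b a ha]
    have e3 : n₂ * n₁ * m * (n₂ * n₁)⁻¹ = n₁ * n₂ * m * (n₁ * n₂)⁻¹ := by
      rw [e1, e2, mul_comm]
    have hcm : Commute ((n₁ * n₂)⁻¹ * (n₂ * n₁)) m := by
      have : (n₁ * n₂)⁻¹ * (n₂ * n₁) * m
          = (n₁ * n₂)⁻¹ * (n₂ * n₁ * m * (n₂ * n₁)⁻¹) * (n₂ * n₁) := by group
      show (n₁ * n₂)⁻¹ * (n₂ * n₁) * m = m * ((n₁ * n₂)⁻¹ * (n₂ * n₁))
      rw [this, e3]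
      group
    rw [← hC, Subgroup.mem_centralizer_iff]
    intro s hs
    rw [← hSz] at hs
    obtain ⟨k, rfl⟩ := Subgroup.mem_zpowers_iff.1 hs
    exact ((hcm.zpow_right k).eq).symm
  -- so the quotient is commutative
  have hQ : ∀ p q : ↥(Subgroup.normalizer (S : Set G)) ⧸
      S.subgroupOf (Subgroup.normalizer (S : Set G)), p * q = q * p := by
    intro p q
    obtain ⟨n₁, rfl⟩ := QuotientGroup.mk_surjective p
    obtain ⟨n₂, rfl⟩ := QuotientGroup.mk_surjective q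
    rw [← QuotientGroup.mk_mul, ← QuotientGroup.mk_mul, QuotientGroup.eq, Subgroup.mem_subgroupOf]
    have := key n₁ n₁.2 n₂ n₂.2
    simpa using this
  have h := hQ (eN.symm (DihedralGroup.r 1)) (eN.symm (DihedralGroup.sr 0))
  have h' := congrArg eN h
  rw [map_mul, map_mul, MulEquiv.apply_symm_apply, MulEquiv.apply_symm_apply] at h'
  exact absurd h' (by decide)

end Cfsg.Agent.Helper66.S6
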