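import Mathlib

set_option autoImplicit false

namespace Cfsg.Agent.Helper66

open scoped Pointwise

section InvariantSets

variable {α β : Type*} [Group α] [MulAction α β]

/-- If `d` divides the length of the orbit of every member of an invariant finite set, then `d`
divides its cardinality. -/
theorem dvd_card_of_forall_dvd_index_stabilizer (d : ℕ) :
    ∀ (k : ℕ) (T : Finset β), T.card = k → (∀ g : α, ∀ t ∈ T, g • t ∈ T) →
      (∀ t ∈ T, d ∣ (MulAction.stabilizer α t).index) → d ∣ T.card := by
  classical
  intro k
  induction k using Nat.strong_induction_on with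
  | _ k ih =>
    intro T hk hinv hd
    rcases T.eq_empty_or_nonempty with rfl | ⟨t, ht⟩
    · simp
    · set O := T.filter (fun s => s ∈ MulAction.orbit α t) with hO
      set T' := T.filter (fun s => ¬ s ∈ MulAction.orbit α t) with hT'
      have hsplit : O.card + T'.card = T.card :=
        Finset.card_filter_add_card_filter_not (s := T) (fun s => s ∈ MulAction.orbit α t)
      have hOset : (O : Set β) = MulAction.orbit α t := by
        ext s
        simp only [hO, Finset.coe_filter, Set.mem_ofPred_eq]
        constructor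
        · exact fun h => h.2
        · rintro ⟨g, rfl⟩
          exact ⟨hinv g t ht, ⟨g, rfl⟩⟩
      have hOcard : O.card = (MulAction.stabilizer α t).index := by
        rw [MulAction.index_stabilizer, ← hOset, Set.ncard_coe_finset]
      have htO : t ∈ O := by
        rw [hO, Finset.mem_filter]; exact ⟨ht, MulAction.mem_orbit_self t⟩
      have hlt : T'.card < k := by
        have : 0 < O.card := Finset.card_pos.mpr ⟨t, htO⟩
        omega
      have hinv' : ∀ g : α, ∀ s ∈ T', g • s ∈ T' := by
        intro g s hs
        rw [hT', Finset.mem_filter] at hs ⊢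
        refine ⟨hinv g s hs.1, fun hgs => hs.2 ?_⟩
        have h1 : MulAction.orbit α (g • s) = MulAction.orbit α t := MulAction.orbit_eq_iff.mpr hgs
        rw [MulAction.orbit_smul] at h1
        rw [← h1]
        exact MulAction.mem_orbit_self s
      have hd' : ∀ s ∈ T', d ∣ (MulAction.stabilizer α s).index := by
        intro s hs
        exact hd s (Finset.mem_filter.mp hs).1
      have h2 := ih T'.card hlt T' rfl hinv' hd'
      rw [← hsplit, hOcard]
      exact dvd_add (hd t ht) h2

end InvariantSets

section Stabilizers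

variable {G : Type*} [Group G] [DecidableEq G]

/-- The stabilizer of a finite set `S` (under left multiplication) acts on `S`. -/
def stabAction (S : Finset G) : MulAction (MulAction.stabilizer G S) S where
  smul h s := ⟨(h : G) * s, by
    have h1 : (h : G) • S = S := MulAction.mem_stabilizer_iff.mp h.2
    have h2 : (h : G) • (s : G) ∈ (h : G) • S := Finset.smul_mem_smul_finset s.2
    rw [h1] at h2
    exact h2⟩
  one_smul s := by
    apply Subtype.ext
    show ((1 : MulAction.stabilizer G S) : G) * s = s
    simp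
  mul_smul h k s := by
    apply Subtype.ext
    show ((h * k : MulAction.stabilizer G S) : G) * s = (h : G) * ((k : G) * s)
    simp [mul_assoc]

/-- The order of the stabilizer of a finite set divides its cardinality. -/
theorem card_stabilizer_dvd_card (S : Finset G) :
    Nat.card (MulAction.stabilizer G S) ∣ S.card := by
  letI := stabAction S
  have hfree : ∀ s : S, MulAction.stabilizer (MulAction.stabilizer G S) s = ⊥ := by
    intro s
    rw [eq_bot_iff]
    intro h hh
    rw [MulAction.mem_stabilizer_iff] at hh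
    have h1 : (h : G) * s = s := congrArg Subtype.val hh
    rw [Subgroup.mem_bot]
    apply Subtype.ext
    simpa using h1
  have := Nat.card_congr (MulAction.selfEquivOrbitsQuotientProd hfree)
  rw [Nat.card_prod] at this
  have h2 : Nat.card S = S.card := by simp
  rw [← h2, this]
  exact dvd_mul_left _ _

end Stabilizers

section Cosets

open scoped Classical

variable {G : Type*} [Group G] [Fintype G]

/-- A left coset, as a finite set. -/
noncomputable def cosetFinset (K : Subgroup G) (q : G ⧸ K) : Finset G :=
  Finset.univ.filter (fun x => (QuotientGroup.mk x : G ⧸ K) = q)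

theorem mem_cosetFinset (K : Subgroup G) (q : G ⧸ K) (x : G) :
    x ∈ cosetFinset K q ↔ (QuotientGroup.mk x : G ⧸ K) = q := by
  simp [cosetFinset]

theorem card_cosetFinset (K : Subgroup G) (q : G ⧸ K) : (cosetFinset K q).card = Nat.card K := by
  have h1 : ((cosetFinset K q : Finset G) : Set G) = QuotientGroup.mk ⁻¹' ({q} : Set (G ⧸ K)) := by
    ext x
    simp [mem_cosetFinset]
  have h2 := QuotientGroup.card_preimage_mk K ({q} : Set (G ⧸ K))
  rw [← h1] at h2
  simpa using h2

theorem cosetFinset_nonempty (K : Subgroup G) (q : G ⧸ K) : (cosetFinset K q).Nonempty := by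
  refine ⟨q.out, ?_⟩
  rw [mem_cosetFinset]
  exact q.out_eq'

theorem cosetFinset_injective {K K' : Subgroup G} {q : G ⧸ K} {q' : G ⧸ K'}
    (h : cosetFinset K q = cosetFinset K' q') : K = K' ∧ HEq q q' := by
  obtain ⟨x₀, hx₀⟩ := cosetFinset_nonempty K q
  have hx₀' : x₀ ∈ cosetFinset K' q' := h ▸ hx₀
  rw [mem_cosetFinset] at hx₀ hx₀'
  have hK : K = K' := by
    ext k
    have e1 : k ∈ K ↔ x₀ * k ∈ cosetFinset K q := by
      rw [mem_cosetFinset, ← hx₀, QuotientGroup.eq]
      simp
    have e2 : k ∈ K' ↔ x₀ * k ∈ cosetFinset K' q' := by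
      rw [mem_cosetFinset, ← hx₀', QuotientGroup.eq]
      simp
    rw [e1, e2, h]
  subst hK
  exact ⟨rfl, heq_of_eq (hx₀.symm.trans hx₀')⟩

/-- The stabilizer of a left coset of `K` has the same order as `K`. -/
theorem card_stabilizer_cosetFinset (K : Subgroup G) (q : G ⧸ K) :
    Nat.card (MulAction.stabilizer G (cosetFinset K q)) = Nat.card K := by
  apply le_antisymm
  · have := card_stabilizer_dvd_card (cosetFinset K q)
    rw [card_cosetFinset] at this
    exact Nat.le_of_dvd Nat.card_pos this
  · obtain ⟨g, rfl⟩ := QuotientGroup.mk_surjective q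
    have hle : K.map (MulAut.conj g).toMonoidHom ≤ MulAction.stabilizer G (cosetFinset K (g : G ⧸ K)) := by
      rintro _ ⟨k, hk, rfl⟩
      rw [MulAction.mem_stabilizer_iff]
      apply Finset.eq_of_subset_of_card_le
      · intro y hy
        obtain ⟨x, hx, rfl⟩ := Finset.mem_smul_finset.mp hy
        rw [mem_cosetFinset] at hx ⊢
        rw [QuotientGroup.eq] at hx ⊢
        have : ((MulAut.conj g).toMonoidHom k • x)⁻¹ * g = (x⁻¹ * g) * k⁻¹ := by
          simp [MulAut.conj_apply, mul_assoc]
        rw [this]
        exact K.mul_mem hx (K.inv_mem hk)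
      · rw [Finset.card_smul_finset]
    calc Nat.card K = Nat.card (K.map (MulAut.conj g).toMonoidHom) :=
          (Subgroup.card_map_of_injective (MulAut.conj g).injective).symm
      _ ≤ _ := Subgroup.card_le_of_le hle

/-- A finite set whose stabilizer has as many elements as the set itself is a left coset. -/
theorem exists_eq_cosetFinset_of_card_stabilizer (S : Finset G) (hS : S.Nonempty)
    (h : Nat.card (MulAction.stabilizer G S) = S.card) :
    ∃ (K : Subgroup G) (q : G ⧸ K), Nat.card K = S.card ∧ S = cosetFinset K q := by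
  obtain ⟨s, hs⟩ := hS
  set H := MulAction.stabilizer G S with hH
  -- the right coset `H s` is contained in `S`, hence equal to it
  have hsub : ∀ x : G, x * s⁻¹ ∈ H → x ∈ S := by
    intro x hx
    have h1 : (x * s⁻¹) • S = S := MulAction.mem_stabilizer_iff.mp hx
    have h2 : (x * s⁻¹) • s ∈ (x * s⁻¹) • S := Finset.smul_mem_smul_finset hs
    rw [h1] at h2
    simpa using h2
  have hiff : ∀ x : G, x ∈ S ↔ x * s⁻¹ ∈ H := by
    have hcoset : (Finset.univ.filter (fun x : G => x * s⁻¹ ∈ H)) = S := by
      apply Finset.eq_of_subset_of_card_le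
      · intro x hx
        exact hsub x (Finset.mem_filter.mp hx).2
      · rw [← h]
        have e : H ≃ {x : G // x ∈ Finset.univ.filter (fun x : G => x * s⁻¹ ∈ H)} :=
          { toFun := fun k => ⟨(k : G) * s, by simp⟩
            invFun := fun x => ⟨(x : G) * s⁻¹, (Finset.mem_filter.mp x.2).2⟩
            left_inv := fun k => by simp
            right_inv := fun x => by simp }
        rw [Nat.card_congr e, Nat.card_eq_fintype_card, Fintype.card_coe]
    intro x
    constructor
    · intro hx
      rw [← hcoset] at hx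
      exact (Finset.mem_filter.mp hx).2
    · exact hsub x
  refine ⟨H.map (MulAut.conj s⁻¹).toMonoidHom, ((s : G) : G ⧸ H.map (MulAut.conj s⁻¹).toMonoidHom), ?_, ?_⟩
  · rw [Subgroup.card_map_of_injective (MulAut.conj s⁻¹).injective, h]
  · ext x
    rw [mem_cosetFinset, QuotientGroup.eq, Subgroup.mem_map_equiv, hiff x, MulAut.conj_symm_apply]
    have : (x * s⁻¹)⁻¹ = s⁻¹⁻¹ * (x⁻¹ * s) * s⁻¹ := by group
    rw [← H.inv_mem_iff, this]

end Cosets

section Arith

theorem choose_pred_modEq_one (p : ℕ) [hp : Fact p.Prime] (m : ℕ) (hm : 0 < m) :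
    ∀ β : ℕ, Nat.choose (p ^ β * m - 1) (p ^ β - 1) ≡ 1 [MOD p] := by
  have hp1 : 1 ≤ p := hp.out.one_le
  intro β
  induction β with
  | zero => simp [Nat.ModEq]
  | succ β ih =>
    have hpos : 0 < p ^ β * m := Nat.mul_pos (Nat.pow_pos hp.out.pos) hm
    have hpos' : 0 < p ^ β := Nat.pow_pos hp.out.pos
    have e1 : p ^ (β + 1) * m - 1 = (p - 1) + p * (p ^ β * m - 1) := by
      have : p ^ (β + 1) * m = p * (p ^ β * m) := by ring
      rw [this]
      obtain ⟨a, ha⟩ : ∃ a, p ^ β * m = a + 1 := ⟨p ^ β * m - 1, by omega⟩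
      rw [ha]
      have : p * (a + 1) = p * a + p := by ring
      rw [this]
      simp
      omega
    have e2 : p ^ (β + 1) - 1 = (p - 1) + p * (p ^ β - 1) := by
      have : p ^ (β + 1) = p * p ^ β := by ring
      rw [this]
      obtain ⟨a, ha⟩ : ∃ a, p ^ β = a + 1 := ⟨p ^ β - 1, by omega⟩
      rw [ha]
      have : p * (a + 1) = p * a + p := by ring
      rw [this]
      simp
      omega
    have hlt : p - 1 < p := by omega
    have m1 : (p ^ (β + 1) * m - 1) % p = p - 1 := by
      rw [e1, Nat.add_mul_mod_self_left, Nat.mod_eq_of_lt hlt]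
    have d1 : (p ^ (β + 1) * m - 1) / p = p ^ β * m - 1 := by
      rw [e1, Nat.add_mul_div_left _ _ hp.out.pos, Nat.div_eq_of_lt hlt, zero_add]
    have m2 : (p ^ (β + 1) - 1) % p = p - 1 := by
      rw [e2, Nat.add_mul_mod_self_left, Nat.mod_eq_of_lt hlt]
    have d2 : (p ^ (β + 1) - 1) / p = p ^ β - 1 := by
      rw [e2, Nat.add_mul_div_left _ _ hp.out.pos, Nat.div_eq_of_lt hlt, zero_add]
    have := Choose.choose_modEq_choose_mod_mul_choose_div_nat (n := p ^ (β + 1) * m - 1)
      (k := p ^ (β + 1) - 1) (p := p)
    rw [m1, d1, m2, d2, Nat.choose_self, one_mul] at this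
    exact this.trans ih

theorem choose_modEq (p : ℕ) [hp : Fact p.Prime] (m : ℕ) (hm : 0 < m) (β : ℕ) :
    Nat.choose (p ^ β * m) (p ^ β) ≡ m [MOD p * m] := by
  have hpos : 0 < p ^ β * m := Nat.mul_pos (Nat.pow_pos hp.out.pos) hm
  have hpos' : 0 < p ^ β := Nat.pow_pos hp.out.pos
  have h1 := Nat.add_one_mul_choose_eq (p ^ β * m - 1) (p ^ β - 1)
  have e1 : (p ^ β * m - 1) + 1 = p ^ β * m := by omega
  have e2 : (p ^ β - 1) + 1 = p ^ β := by omega
  rw [e1, e2] at h1
  have h2 : Nat.choose (p ^ β * m) (p ^ β) = m * Nat.choose (p ^ β * m - 1) (p ^ β - 1) := by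
    apply Nat.eq_of_mul_eq_mul_right hpos'
    rw [← h1]; ring
  rw [h2]
  have h3 := (choose_pred_modEq_one p m hm β).mul_left' m
  rw [mul_one] at h3
  rw [mul_comm p m]
  exact h3

end Arith

section Main

open scoped Classical

variable {G : Type*} [Group G] [Fintype G]

/-- **Frobenius' generalization of Sylow's third theorem**, by Wielandt's counting argument: the
number of subgroups of order `p ^ β` is congruent to `1` modulo `p`. -/
theorem card_subgroups_modEq_one (p β : ℕ) [hp : Fact p.Prime] (hdiv : p ^ β ∣ Fintype.card G) :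
    Nat.card {H : Subgroup G // Nat.card H = p ^ β} ≡ 1 [MOD p] := by
  obtain ⟨m, hm⟩ := hdiv
  have hppos : 0 < p ^ β := Nat.pow_pos hp.out.pos
  have hmpos : 0 < m := by
    rcases Nat.eq_zero_or_pos m with h0 | h0
    · rw [h0, mul_zero] at hm
      exact absurd hm Fintype.card_ne_zero
    · exact h0
  have hcardG : Nat.card G = p ^ β * m := by rw [Nat.card_eq_fintype_card, hm]
  -- the subsets of size `p ^ β`
  set Ω : Finset (Finset G) := Finset.powersetCard (p ^ β) Finset.univ with hΩ
  have hΩcard : Ω.card = Nat.choose (p ^ β * m) (p ^ β) := by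
    rw [hΩ, Finset.card_powersetCard, Finset.card_univ, hm]
  set ΩA := Ω.filter (fun S => Nat.card (MulAction.stabilizer G S) = p ^ β) with hΩA
  set ΩB := Ω.filter (fun S => ¬ Nat.card (MulAction.stabilizer G S) = p ^ β) with hΩB
  have hsplit : ΩA.card + ΩB.card = Ω.card :=
    Finset.card_filter_add_card_filter_not (s := Ω) _
  have hmemΩ : ∀ S : Finset G, S ∈ Ω ↔ S.card = p ^ β := by
    intro S
    rw [hΩ, Finset.mem_powersetCard]
    simp
  -- stabilizers of translates
  have hstab : ∀ (g : G) (S : Finset G),
      Nat.card (MulAction.stabilizer G (g • S)) = Nat.card (MulAction.stabilizer G S) := by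
    intro g S
    rw [MulAction.stabilizer_smul_eq_stabilizer_map_conj,
      Subgroup.card_map_of_injective (MulAut.conj g).injective]
  -- the second part has size divisible by `p * m`
  have hB : p * m ∣ ΩB.card := by
    apply dvd_card_of_forall_dvd_index_stabilizer (α := G) (p * m) ΩB.card ΩB rfl
    · intro g S hS
      rw [hΩB, Finset.mem_filter, hmemΩ] at hS ⊢
      refine ⟨by rw [Finset.card_smul_finset]; exact hS.1, ?_⟩
      rw [hstab]; exact hS.2
    · intro S hS
      rw [hΩB, Finset.mem_filter, hmemΩ] at hS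
      have h1 : Nat.card (MulAction.stabilizer G S) ∣ p ^ β := by
        have := card_stabilizer_dvd_card S
        rwa [hS.1] at this
      obtain ⟨j, hj, hjeq⟩ := (Nat.dvd_prime_pow hp.out).mp h1
      have hjlt : j < β := by
        rcases Nat.lt_or_ge j β with h | h
        · exact h
        · exfalso
          have : j = β := le_antisymm hj h
          rw [this] at hjeq
          exact hS.2 hjeq
      have h2 := (MulAction.stabilizer G S).card_mul_index
      rw [hjeq, hcardG] at h2
      have h3 : p ^ β = p ^ j * (p * p ^ (β - j - 1)) := by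
        rw [← pow_succ', ← pow_add]
        congr 1
        omega
      rw [h3, mul_assoc] at h2
      have h4 := Nat.eq_of_mul_eq_mul_left (Nat.pow_pos hp.out.pos) h2
      rw [h4]
      exact ⟨p ^ (β - j - 1), by ring⟩
  -- the first part is in bijection with pairs (subgroup, coset)
  have hA : ΩA.card = Nat.card {H : Subgroup G // Nat.card H = p ^ β} * m := by
    have hidx : ∀ K : {H : Subgroup G // Nat.card H = p ^ β}, Nat.card (G ⧸ K.1) = m := by
      intro K
      have h2 := K.1.card_mul_index
      rw [K.2, hcardG] at h2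
      rw [← Subgroup.index_eq_card]
      exact Nat.eq_of_mul_eq_mul_left hppos h2
    have hF : ∀ x : (Σ K : {H : Subgroup G // Nat.card H = p ^ β}, G ⧸ K.1),
        cosetFinset x.1.1 x.2 ∈ ΩA := by
      intro x
      rw [hΩA, Finset.mem_filter, hmemΩ, card_cosetFinset, card_stabilizer_cosetFinset]
      exact ⟨x.1.2, x.1.2⟩
    let F : (Σ K : {H : Subgroup G // Nat.card H = p ^ β}, G ⧸ K.1) → ΩA :=
      fun x => ⟨cosetFinset x.1.1 x.2, hF x⟩
    have hFbij : Function.Bijective F := by
      constructor
      · rintro ⟨⟨K, hK⟩, q⟩ ⟨⟨K', hK'⟩, q'⟩ h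
        have h' : cosetFinset K q = cosetFinset K' q' := congrArg Subtype.val h
        obtain ⟨h1, h2⟩ := cosetFinset_injective h'
        subst h1
        have : q = q' := eq_of_heq h2
        subst this
        rfl
      · rintro ⟨S, hS⟩
        rw [hΩA, Finset.mem_filter, hmemΩ] at hS
        have hne : S.Nonempty := by
          rw [← Finset.card_pos, hS.1]; exact hppos
        obtain ⟨K, q, hK, hSq⟩ := exists_eq_cosetFinset_of_card_stabilizer S hne (hS.2.trans hS.1.symm)
        refine ⟨⟨⟨K, hK.trans hS.1⟩, q⟩, ?_⟩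
        apply Subtype.ext
        exact hSq.symm
    have h1 : Nat.card ΩA = ΩA.card := by simp
    rw [← h1, ← Nat.card_congr (Equiv.ofBijective F hFbij)]
    haveI : Fintype {H : Subgroup G // Nat.card H = p ^ β} := Fintype.ofFinite _
    rw [Nat.card_sigma]
    simp only [hidx]
    rw [Finset.sum_const, Finset.card_univ, smul_eq_mul, Nat.card_eq_fintype_card]
  -- conclusion
  have hmain : Nat.card {H : Subgroup G // Nat.card H = p ^ β} * m ≡ 1 * m [MOD p * m] := by
    have h1 : Nat.card {H : Subgroup G // Nat.card H = p ^ β} * m + ΩB.card ≡ m [MOD p * m] := by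
      rw [← hA, hsplit, hΩcard]
      exact choose_modEq p m hmpos β
    have h2 : ΩB.card ≡ 0 [MOD p * m] := (Nat.modEq_zero_iff_dvd).mpr hB
    have h3 := Nat.ModEq.add_right_cancel h2 (by simpa using h1)
    simpa using h3
  exact Nat.ModEq.mul_right_cancel' (Nat.pos_iff_ne_zero.mp hmpos) hmain

end Main

end Cfsg.Agent.Helper66
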