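import Mathlib

/-!
# (SYL) for helper58 (S3613): Sylow count for the two-point stabilizer
-/

set_option autoImplicit false

namespace Cfsg.Agent.Helper66.N3

open MulAction
open scoped Pointwise

/-- Sylow counting: `2 * |G| = #Syl_p * (p * (p - 1))` when `2 * |N(P)| = p * (p - 1)` -/
theorem two_mul_card_eq {G : Type*} [Group G] [Finite G] {p : ℕ} [Fact p.Prime] (P : Sylow p G)
    (hN : 2 * Nat.card ↥(Subgroup.normalizer ((P : Subgroup G) : Set G)) = p * (p - 1)) :
    2 * Nat.card G = Nat.card (Sylow p G) * (p * (p - 1)) := by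
  have e : Nat.card (Sylow p G) = (Subgroup.normalizer ((P : Subgroup G) : Set G)).index :=
    Sylow.card_eq_index_normalizer P
  rw [e, ← hN, ← Subgroup.index_mul_card (Subgroup.normalizer ((P : Subgroup G) : Set G))]
  ring

theorem factorial_eq_mul_mul {p : ℕ} (hp2 : 2 ≤ p) :
    p.factorial = p * (p - 1) * (p - 2).factorial := by
  obtain ⟨k, rfl⟩ : ∃ k, p = k + 2 := ⟨p - 2, by omega⟩
  have e1 : k + 2 - 1 = k + 1 := by omega
  have e2 : k + 2 - 2 = k := by omega
  rw [e1, e2, Nat.factorial_succ, Nat.factorial_succ]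
  ring

/-- (SYL) Sylow count for the two-point stabilizer -/
theorem two_mul_card_modEq {G Ω : Type*} [Group G] [Finite G] [MulAction G Ω] [FaithfulSMul G Ω]
    [Fintype Ω] [DecidableEq Ω] (h2 : IsMultiplyPretransitive G Ω 2) {p : ℕ} [Fact p.Prime]
    (hΩ : Fintype.card Ω = p) (P : Sylow p G)
    (hN : 2 * Nat.card ↥(Subgroup.normalizer ((P : Subgroup G) : Set G)) = p * (p - 1))
    (a b : Ω) (hab : a ≠ b) :
    2 * Nat.card ↥(fixingSubgroup G ({a, b} : Set Ω)) ≡ 1 [MOD p] := by
  have hpr : p.Prime := Fact.out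
  have hp2 : 2 ≤ p := hpr.two_le
  have hs : ({a, b} : Set Ω).ncard = 2 := Set.ncard_pair hab
  have hidx := h2.index_of_fixingSubgroup_mul hs
  rw [Nat.card_eq_fintype_card, hΩ] at hidx
  have hidx' : (fixingSubgroup G ({a, b} : Set Ω)).index = p * (p - 1) := by
    apply Nat.eq_of_mul_eq_mul_right (Nat.factorial_pos (p - 2))
    rw [hidx, factorial_eq_mul_mul hp2]
  have hG : Nat.card G = p * (p - 1) * Nat.card ↥(fixingSubgroup G ({a, b} : Set Ω)) := by
    rw [← hidx', Subgroup.index_mul_card]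
  have h3 := two_mul_card_eq P hN
  rw [hG] at h3
  have hpos : 0 < p * (p - 1) := Nat.mul_pos (by omega) (by omega)
  have h4 : 2 * Nat.card ↥(fixingSubgroup G ({a, b} : Set Ω)) = Nat.card (Sylow p G) := by
    apply Nat.eq_of_mul_eq_mul_left hpos
    linarith
  rw [h4]
  exact card_sylow_modEq_one p G

end Cfsg.Agent.Helper66.N3
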