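import Mathlib
import Cfsg.Agent.Helper66.N3SYL

/-!
# (NT) for helper58 (S3613): no element acts as a transposition
-/

set_option autoImplicit false

namespace Cfsg.Agent.Helper66.N3

open MulAction
open scoped Pointwise

/-- Wilson: `(p - 2)! ≡ 1 mod p` -/
theorem factorial_sub_two_zmod (p : ℕ) [Fact p.Prime] : (((p - 2).factorial : ℕ) : ZMod p) = 1 := by
  have hpr : p.Prime := Fact.out
  have hp2 : 2 ≤ p := hpr.two_le
  have hw := ZMod.wilsons_lemma p
  have e : (p - 1).factorial = (p - 1) * (p - 2).factorial := by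
    obtain ⟨k, rfl⟩ : ∃ k, p = k + 2 := ⟨p - 2, by omega⟩
    have e1 : k + 2 - 1 = k + 1 := by omega
    have e2 : k + 2 - 2 = k := by omega
    rw [e1, e2, Nat.factorial_succ]
  rw [e, Nat.cast_mul, Nat.cast_pred (by omega : 0 < p), ZMod.natCast_self, zero_sub] at hw
  linear_combination -hw

/-- (NT) no element acts as a transposition -/
theorem no_transposition {G Ω : Type*} [Group G] [Finite G] [MulAction G Ω] [FaithfulSMul G Ω]
    [Fintype Ω] [DecidableEq Ω] [IsPretransitive G Ω] {p : ℕ} [Fact p.Prime]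
    (hΩ : Fintype.card Ω = p) (hp3 : 3 < p) (P : Sylow p G)
    (hN : 2 * Nat.card ↥(Subgroup.normalizer ((P : Subgroup G) : Set G)) = p * (p - 1))
    (a b : Ω) (hab : a ≠ b) (g : G) (hga : g • a = b) (hgb : g • b = a)
    (hfix : ∀ x, x ≠ a → x ≠ b → g • x = x) : False := by
  have hpr : p.Prime := Fact.out
  have hp2 : 2 ≤ p := hpr.two_le
  have hinj : Function.Injective (MulAction.toPermHom G Ω) := MulAction.toPerm_injective
  -- `g` acts as the swap
  have hswap : MulAction.toPermHom G Ω g = Equiv.swap a b := by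
    ext x
    rw [MulAction.toPermHom_apply, MulAction.toPerm_apply]
    by_cases hxa : x = a
    · subst hxa
      rw [Equiv.swap_apply_left, hga]
    · by_cases hxb : x = b
      · subst hxb
        rw [Equiv.swap_apply_right, hgb]
      · rw [Equiv.swap_apply_of_ne_of_ne hxa hxb]
        exact hfix x hxa hxb
  -- an element of order `p`
  have hpdvd : p ∣ Nat.card G := by
    have h1 := MulAction.index_stabilizer_of_transitive G a
    rw [Nat.card_eq_fintype_card, hΩ] at h1
    rw [← h1]
    exact Subgroup.index_dvd_card _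
  obtain ⟨x, hx⟩ := exists_prime_orderOf_dvd_card' p hpdvd
  have hσ : orderOf (MulAction.toPermHom G Ω x) = p := by
    rw [orderOf_injective (MulAction.toPermHom G Ω) hinj, hx]
  have hcyc : (MulAction.toPermHom G Ω x).IsCycle :=
    Equiv.Perm.isCycle_of_prime_order'' (by rw [hΩ]; exact hpr) (by rw [hσ, hΩ])
  have hsupp : (MulAction.toPermHom G Ω x).support = Finset.univ := by
    apply Finset.eq_univ_of_card
    rw [← hcyc.orderOf, hσ, hΩ]
  have htop : Subgroup.closure {MulAction.toPermHom G Ω x, MulAction.toPermHom G Ω g} = ⊤ := by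
    apply Equiv.Perm.closure_prime_cycle_swap (by rw [hΩ]; exact hpr) hcyc hsupp
    rw [hswap]
    exact ⟨a, b, hab, rfl⟩
  have hsurj : Function.Surjective (MulAction.toPermHom G Ω) := by
    rw [← MonoidHom.range_eq_top, eq_top_iff, ← htop, Subgroup.closure_le]
    rintro y (rfl | rfl)
    · exact ⟨_, rfl⟩
    · exact ⟨_, rfl⟩
  have hcard : Nat.card G = p.factorial := by
    rw [Nat.card_congr (Equiv.ofBijective (MulAction.toPermHom G Ω) ⟨hinj, hsurj⟩),
      Nat.card_eq_fintype_card, Fintype.card_perm, hΩ]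
  -- Sylow count
  have h3 := two_mul_card_eq P hN
  rw [hcard, factorial_eq_mul_mul hp2] at h3
  have hpos : 0 < p * (p - 1) := Nat.mul_pos (by omega) (by omega)
  have h4 : 2 * (p - 2).factorial = Nat.card (Sylow p G) := by
    apply Nat.eq_of_mul_eq_mul_left hpos
    linarith
  have h5 : ((Nat.card (Sylow p G) : ℕ) : ZMod p) = ((1 : ℕ) : ZMod p) :=
    (ZMod.natCast_eq_natCast_iff _ _ _).2 (card_sylow_modEq_one p G)
  rw [← h4, Nat.cast_mul, factorial_sub_two_zmod, Nat.cast_one, Nat.cast_ofNat, mul_one] at h5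
  have h6 : (1 : ZMod p) = 0 := by linear_combination h5
  exact one_ne_zero h6

end Cfsg.Agent.Helper66.N3
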