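import Cfsg.Agent.Helper6.SPweil1

/-!
# Weil representation (helper6 #8107, S2347): piece (W8) `exists_intertwiner_not_scalar`
-/

set_option autoImplicit false

namespace Cfsg.Agent.Helper66.SPweil

open Matrix Module
open Cfsg.Agent.Helper6.SPweil

variable {F : Type*} [Field F] {n : ℕ}

/-- the permutation matrix of `Sum.map σ σ` -/
def permSp (σ : Equiv.Perm (Fin n)) : Matrix (Fin n ⊕ Fin n) (Fin n ⊕ Fin n) F :=
  (1 : Matrix (Fin n ⊕ Fin n) (Fin n ⊕ Fin n) F).submatrix (Sum.map σ σ) id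

theorem permSp_mulVec (σ : Equiv.Perm (Fin n)) (v : Fin n ⊕ Fin n → F) :
    (permSp σ : Matrix (Fin n ⊕ Fin n) (Fin n ⊕ Fin n) F) *ᵥ v = v ∘ Sum.map σ σ := by
  funext i
  simp [permSp, Matrix.mulVec, dotProduct, Matrix.one_apply]

theorem vx_comp (σ : Equiv.Perm (Fin n)) (v : Fin n ⊕ Fin n → F) :
    vx (v ∘ Sum.map σ σ) = vx v ∘ σ := rfl

theorem vy_comp (σ : Equiv.Perm (Fin n)) (v : Fin n ⊕ Fin n → F) :
    vy (v ∘ Sum.map σ σ) = vy v ∘ σ := rfl

theorem permSp_mem (σ : Equiv.Perm (Fin n)) :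
    (permSp σ : Matrix (Fin n ⊕ Fin n) (Fin n ⊕ Fin n) F) ∈ Matrix.symplecticGroup (Fin n) F := by
  rw [Cfsg.Agent.Helper13.mem_symplecticGroup_iff_preserves]
  intro u v
  rw [permSp_mulVec, permSp_mulVec, sympForm_eq_vx_vy, sympForm_eq_vx_vy, vx_comp, vy_comp,
    vx_comp, vy_comp, comp_equiv_dotProduct_comp_equiv,
    comp_equiv_dotProduct_comp_equiv]

/-- precomposition with an involution `σ` of the coordinates, as a linear equivalence of the
function space -/
noncomputable def permOp (σ : Equiv.Perm (Fin n)) (hσ : ∀ i, σ (σ i) = i) :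
    ((Fin n → F) → ℂ) ≃ₗ[ℂ] ((Fin n → F) → ℂ) :=
  LinearEquiv.funCongrLeft ℂ ℂ
    { toFun := fun z => z ∘ σ
      invFun := fun z => z ∘ σ
      left_inv := fun z => by funext i; simp [hσ]
      right_inv := fun z => by funext i; simp [hσ] }

theorem permOp_apply (σ : Equiv.Perm (Fin n)) (hσ : ∀ i, σ (σ i) = i) (f : (Fin n → F) → ℂ)
    (z : Fin n → F) : permOp σ hσ f z = f (z ∘ σ) := rfl

theorem comp_dotProduct_of_invol (σ : Equiv.Perm (Fin n)) (hσ : ∀ i, σ (σ i) = i)
    (a z : Fin n → F) : (a ∘ σ) ⬝ᵥ z = a ⬝ᵥ (z ∘ σ) := by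
  have hz : z = (z ∘ σ) ∘ σ := by funext i; simp [hσ]
  nth_rewrite 1 [hz]
  rw [comp_equiv_dotProduct_comp_equiv]

theorem intertwines_permOp (ψ : AddChar F ℂ) (σ : Equiv.Perm (Fin n)) (hσ : ∀ i, σ (σ i) = i) :
    Intertwines ψ (⟨permSp σ, permSp_mem σ⟩ : Matrix.symplecticGroup (Fin n) F)
      (permOp σ hσ) := by
  intro v f
  funext z
  show permOp σ hσ (heis ψ v f) z =
    heis ψ ((permSp σ : Matrix (Fin n ⊕ Fin n) (Fin n ⊕ Fin n) F) *ᵥ v) (permOp σ hσ f) z
  rw [permSp_mulVec, permOp_apply, heis_apply, heis_apply, permOp_apply, vx_comp, vy_comp,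
    comp_dotProduct_of_invol σ hσ, comp_equiv_dotProduct_comp_equiv]
  congr 2
  funext i
  simp [hσ]

/-- (W8) -/
theorem exists_intertwiner_not_scalar (hn : 2 ≤ n) (h2 : (2 : F) ≠ 0) (ψ : AddChar F ℂ) :
    ∃ (g : Matrix.symplecticGroup (Fin n) F)
      (T : ((Fin n → F) → ℂ) ≃ₗ[ℂ] ((Fin n → F) → ℂ)) (f : (Fin n → F) → ℂ),
      Intertwines ψ g T ∧ f ∈ oddPart F n ∧ ∀ c : ℂ, T f ≠ c • f := by
  classical
  set i0 : Fin n := ⟨0, by omega⟩ with hi0
  set i1 : Fin n := ⟨1, by omega⟩ with hi1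
  have h01 : i0 ≠ i1 := by
    intro h
    have := congrArg Fin.val h
    simp [hi0, hi1] at this
  set σ : Equiv.Perm (Fin n) := Equiv.swap i0 i1 with hσdef
  have hσ : ∀ i, σ (σ i) = i := fun i => Equiv.swap_apply_self i0 i1 i
  set e0 : Fin n → F := Pi.single i0 1 with he0
  set e1 : Fin n → F := Pi.single i1 1 with he1
  set f : (Fin n → F) → ℂ := fun z => (if z = e0 then 1 else 0) - (if z = -e0 then 1 else 0) with hf
  have hone : (1 : F) ≠ -1 := by
    intro h
    apply h2
    have : (1 : F) + 1 = 0 := by nth_rewrite 2 [h]; ring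
    rw [← this]; ring
  have he0neg : e0 ≠ -e0 := by
    intro h
    have := congrFun h i0
    simp only [he0, Pi.neg_apply, Pi.single_eq_same] at this
    exact hone this
  have he1e0 : e1 ≠ e0 := by
    intro h
    have := congrFun h i0
    simp only [he0, he1, Pi.single_eq_same, Pi.single_eq_of_ne h01] at this
    exact zero_ne_one this
  have he1neg : e1 ≠ -e0 := by
    intro h
    have := congrFun h i0
    simp only [he0, he1, Pi.neg_apply, Pi.single_eq_same, Pi.single_eq_of_ne h01] at this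
    have h1 : (1 : F) = 0 := by
      have := congrArg Neg.neg this
      simpa using this.symm
    exact one_ne_zero h1
  have he1σ : e1 ∘ σ = e0 := by
    funext j
    simp only [Function.comp_apply, he0, he1, Pi.single_apply]
    by_cases hj : j = i0
    · rw [hj, hσdef, Equiv.swap_apply_left]; simp
    · have : σ j ≠ i1 := by
        intro h
        apply hj
        have := congrArg σ h
        rw [hσ j, hσdef, Equiv.swap_apply_right] at this
        exact this
      rw [if_neg this, if_neg hj]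
  refine ⟨⟨permSp σ, permSp_mem σ⟩, permOp σ hσ, f, intertwines_permOp ψ σ hσ, ?_, ?_⟩
  · rw [mem_oddPart]
    intro z
    simp only [hf, neg_inj]
    have h1 : (-z = e0) ↔ (z = -e0) := by
      constructor
      · intro h; rw [← h, neg_neg]
      · intro h; rw [h, neg_neg]
    simp only [h1]
    ring
  · intro c hc
    have h := congrFun hc e1
    rw [permOp_apply, he1σ] at h
    simp only [hf, Pi.smul_apply, smul_eq_mul, if_neg he0neg, if_neg he1e0,
      if_neg he1neg, sub_zero, mul_zero] at h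
    exact one_ne_zero h

end Cfsg.Agent.Helper66.SPweil
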