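import Mathlib
import Cfsg.Agent.Helper66.SchurCover

set_option autoImplicit false

namespace Cfsg.Agent.Helper66

open scoped commutatorElement

universe u v w

section Torsion

variable {X : Type u} {Q : Type v} [Group Q]

/-- The abelianization of a free group is torsion free. -/
theorem mem_commutator_freeGroup_of_pow (f : FreeGroup X) (k : ℕ) (hk : k ≠ 0)
    (h : f ^ k ∈ commutator (FreeGroup X)) : f ∈ commutator (FreeGroup X) := by
  rw [← Abelianization.ker_of, MonoidHom.mem_ker] at h ⊢
  rw [map_pow] at h
  let a : FreeAbelianGroup X := Additive.ofMul (Abelianization.of f)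
  have ha : k • a = 0 := by
    show Additive.ofMul ((Abelianization.of f) ^ k) = 0
    rw [h]; rfl
  have ha' : k • (FreeAbelianGroup.equivFinsupp X a) = 0 := by
    rw [← map_nsmul, ha, map_zero]
  have h0 : FreeAbelianGroup.equivFinsupp X a = 0 := by
    rcases smul_eq_zero.mp ha' with h1 | h1
    · exact absurd h1 hk
    · exact h1
  have : a = 0 := by
    have := congrArg (FreeAbelianGroup.equivFinsupp X).symm h0
    simpa using this
  exact this

/-- Elements of finite order of `F / [F, R]` lie in the commutator subgroup. -/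
theorem mem_commutator_of_isOfFinOrder (φ : FreeGroup X →* Q) (h : CoverH φ) (hh : IsOfFinOrder h) :
    h ∈ commutator (CoverH φ) := by
  obtain ⟨k, hk, hpow⟩ := isOfFinOrder_iff_pow_eq_one.mp hh
  obtain ⟨f, rfl⟩ := QuotientGroup.mk_surjective h
  rw [← QuotientGroup.mk_pow, QuotientGroup.eq_one_iff] at hpow
  have h1 : f ^ k ∈ commutator (FreeGroup X) := by
    have : relComm φ ≤ commutator (FreeGroup X) := by
      unfold relComm
      rw [commutator_def]
      exact Subgroup.commutator_mono le_rfl le_top
    exact this hpow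
  have h2 := mem_commutator_freeGroup_of_pow f k hk.ne' h1
  have h3 : (commutator (FreeGroup X)).map (QuotientGroup.mk' (relComm φ)) ≤ commutator (CoverH φ) := by
    rw [commutator_def, Subgroup.map_commutator, commutator_def]
    exact Subgroup.commutator_mono le_top le_top
  exact h3 ⟨f, h2, rfl⟩

end Torsion

section FGAbelian

/-- In a finitely generated abelian group the torsion has a complement. -/
theorem exists_torsionFree_complement (A : Type*) [CommGroup A] [Group.FG A] :
    ∃ S : Subgroup A, (∀ a ∈ S, IsOfFinOrder a → a = 1) ∧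
      ∀ a : A, ∃ s ∈ S, ∃ t : A, IsOfFinOrder t ∧ a = s * t := by
  obtain ⟨ι, j, _, _, p, hp, e, ⟨E⟩⟩ := CommGroup.equiv_free_prod_prod_multiplicative_zmod A
  refine ⟨(Subgroup.prod ⊤ ⊥).comap E.toMonoidHom, ?_, ?_⟩
  · intro a ha hfin
    have ha2 : (E a).2 = 1 := by
      have : E a ∈ Subgroup.prod (⊤ : Subgroup (j → Multiplicative ℤ))
          (⊥ : Subgroup ((i : ι) → Multiplicative (ZMod (p i ^ e i)))) := ha
      exact (Subgroup.mem_prod.mp this).2
    obtain ⟨k, hk, hpow⟩ := isOfFinOrder_iff_pow_eq_one.mp hfin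
    have h1 : (E a) ^ k = 1 := by rw [← map_pow, hpow, map_one]
    have h2 : (E a).1 = 1 := by
      have h3 : ((E a).1) ^ k = 1 := by
        have := congrArg Prod.fst h1
        simpa using this
      funext i
      have h4 : ((E a).1 i) ^ k = 1 := by
        have := congrFun h3 i
        simpa using this
      have h5 : k • Multiplicative.toAdd ((E a).1 i) = 0 := by
        rw [← toAdd_pow, h4]; rfl
      have h6 : Multiplicative.toAdd ((E a).1 i) = 0 := by
        rcases smul_eq_zero.mp h5 with h7 | h7
        · exact absurd h7 hk.ne'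
        · exact h7
      exact Multiplicative.toAdd.injective h6
    have : E a = 1 := Prod.ext h2 ha2
    exact (MulEquiv.map_eq_one_iff E).mp this
  · intro a
    refine ⟨E.symm ((E a).1, 1), ?_, E.symm (1, (E a).2), ?_, ?_⟩
    · show E (E.symm ((E a).1, 1)) ∈ Subgroup.prod (⊤ : Subgroup (j → Multiplicative ℤ))
          (⊥ : Subgroup ((i : ι) → Multiplicative (ZMod (p i ^ e i))))
      rw [E.apply_symm_apply]
      exact Subgroup.mem_prod.mpr ⟨Subgroup.mem_top _, Subgroup.mem_bot.mpr rfl⟩
    · have hfin : IsOfFinOrder ((1, (E a).2) : (j → Multiplicative ℤ) × ((i : ι) → Multiplicative (ZMod (p i ^ e i)))) := by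
        haveI : ∀ i, NeZero (p i ^ e i) := fun i => ⟨(pow_pos (hp i).pos _).ne'⟩
        have h1 : IsOfFinOrder ((E a).2) := isOfFinOrder_of_finite _
        obtain ⟨k, hk, hpow⟩ := isOfFinOrder_iff_pow_eq_one.mp h1
        exact isOfFinOrder_iff_pow_eq_one.mpr ⟨k, hk, by ext <;> simp [hpow]⟩
      exact E.symm.toMonoidHom.isOfFinOrder hfin
    · rw [← map_mul]
      simp

end FGAbelian

end Cfsg.Agent.Helper66
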