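import Mathlib
import Cfsg.Agent.Helper66.SchurCover2

set_option autoImplicit false

namespace Cfsg.Agent.Helper66

open scoped commutatorElement Pointwise

universe u v w

section AbstractCover

variable {H : Type u} {Q : Type v} [Group H] [Group Q]

/-- A subgroup of the centre is normal. -/
theorem normal_of_le_center (S : Subgroup H) (hS : S ≤ Subgroup.center H) : S.Normal := by
  constructor
  intro n hn g
  have := Subgroup.mem_center_iff.mp (hS hn) g
  have e : g * n * g⁻¹ = n := by rw [this]; group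
  rw [e]; exact hn

/-- Elements of `S ⊔ T` for `S` normal. -/
theorem exists_mul_of_mem_sup (S T : Subgroup H) [S.Normal] (x : H) (hx : x ∈ S ⊔ T) :
    ∃ s ∈ S, ∃ t ∈ T, s * t = x := by
  have : x ∈ ((S ⊔ T : Subgroup H) : Set H) := hx
  rw [Subgroup.normal_mul] at this
  obtain ⟨s, hs, t, ht, rfl⟩ := Set.mem_mul.mp this
  exact ⟨s, hs, t, ht, rfl⟩

variable (ρ : H →* Q) (hρ : Function.Surjective ρ) (hc : ρ.ker ≤ Subgroup.center H)
  (S : Subgroup H) [S.Normal] (hS : S ≤ ρ.ker)
  (hST : S ⊓ (ρ.ker ⊓ commutator H) = ⊥) (hsup : ρ.ker ≤ S ⊔ (ρ.ker ⊓ commutator H))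

include hρ hc hsup in
/-- The quotient by a complement of `T = ker ρ ⊓ H'` in `ker ρ` is a stem extension. -/
theorem isStemExtension_lift : Cfsg.IsStemExtension (QuotientGroup.lift S ρ hS) := by
  have hker : (QuotientGroup.lift S ρ hS).ker = ρ.ker.map (QuotientGroup.mk' S) :=
    QuotientGroup.ker_lift S ρ hS
  refine ⟨QuotientGroup.lift_surjective_of_surjective S ρ hρ hS, ?_, ?_⟩
  · rw [hker]
    rintro _ ⟨x, hx, rfl⟩
    rw [Subgroup.mem_center_iff]
    intro g
    obtain ⟨g, rfl⟩ := QuotientGroup.mk_surjective g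
    have := Subgroup.mem_center_iff.mp (hc hx) g
    show (QuotientGroup.mk' S) g * (QuotientGroup.mk' S) x = (QuotientGroup.mk' S) x * (QuotientGroup.mk' S) g
    rw [← map_mul, ← map_mul, this]
  · rw [hker]
    rintro _ ⟨x, hx, rfl⟩
    obtain ⟨s, hs, t, ht, rfl⟩ := exists_mul_of_mem_sup S _ x (hsup hx)
    have h1 : (QuotientGroup.mk' S) (s * t) = (QuotientGroup.mk' S) t := by
      rw [map_mul]
      have : (QuotientGroup.mk' S) s = 1 := (QuotientGroup.eq_one_iff s).mpr hs
      rw [this, one_mul]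
    rw [h1]
    have h3 : (commutator H).map (QuotientGroup.mk' S) ≤ commutator (H ⧸ S) := by
      rw [commutator_def, Subgroup.map_commutator, commutator_def]
      exact Subgroup.commutator_mono le_top le_top
    exact h3 ⟨t, ht.2, rfl⟩

include hST hsup in
/-- The kernel of the quotient extension is isomorphic to `T`. -/
theorem nonempty_ker_lift_mulEquiv :
    Nonempty ((QuotientGroup.lift S ρ hS).ker ≃* ↥(ρ.ker ⊓ commutator H)) := by
  have hker : (QuotientGroup.lift S ρ hS).ker = ρ.ker.map (QuotientGroup.mk' S) :=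
    QuotientGroup.ker_lift S ρ hS
  let θ : ↥(ρ.ker ⊓ commutator H) →* (QuotientGroup.lift S ρ hS).ker :=
    { toFun := fun t => ⟨(QuotientGroup.mk' S) t, by
        rw [hker]; exact ⟨t, t.2.1, rfl⟩⟩
      map_one' := by apply Subtype.ext; simp
      map_mul' := fun a b => by apply Subtype.ext; simp }
  have hinj : Function.Injective θ := by
    rw [injective_iff_map_eq_one]
    intro t ht
    have h1 : (QuotientGroup.mk' S) (t : H) = 1 := congrArg Subtype.val ht
    have h2 : (t : H) ∈ S := (QuotientGroup.eq_one_iff (t : H)).mp h1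
    have h3 : (t : H) ∈ S ⊓ (ρ.ker ⊓ commutator H) := ⟨h2, t.2⟩
    rw [hST, Subgroup.mem_bot] at h3
    exact Subtype.ext h3
  have hsurj : Function.Surjective θ := by
    rintro ⟨y, hy⟩
    rw [hker] at hy
    obtain ⟨x, hx, rfl⟩ := hy
    obtain ⟨s, hs, t, ht, rfl⟩ := exists_mul_of_mem_sup S _ x (hsup hx)
    refine ⟨⟨t, ht⟩, ?_⟩
    apply Subtype.ext
    show (QuotientGroup.mk' S) t = (QuotientGroup.mk' S) (s * t)
    rw [map_mul]
    have : (QuotientGroup.mk' S) s = 1 := (QuotientGroup.eq_one_iff s).mpr hs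
    rw [this, one_mul]
  exact ⟨(MulEquiv.ofBijective θ ⟨hinj, hsurj⟩).symm⟩

end AbstractCover

section Complement

variable {X : Type u} {Q : Type v} [Group Q] [Finite X] [Finite Q]

/-- Inside `F / [F, R]` every subgroup `N ≤ ker ρ` of finite index contains a subgroup `S` meeting
`T = ker ρ ⊓ H'` trivially such that `N ≤ S ⊔ T`. -/
theorem exists_complement_le (φ : FreeGroup X →* Q) (hφ : Function.Surjective φ)
    (N : Subgroup (CoverH φ)) (hN : N ≤ (rho φ).ker) [N.FiniteIndex] :
    ∃ S : Subgroup (CoverH φ), S ≤ N ∧ S ⊓ ((rho φ).ker ⊓ commutator (CoverH φ)) = ⊥ ∧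
      N ≤ S ⊔ ((rho φ).ker ⊓ commutator (CoverH φ)) := by
  haveI : Group.FG N := Subgroup.fg_of_index_ne_zero N
  have hcommN : ∀ a b : N, a * b = b * a := by
    intro a b
    apply Subtype.ext
    show (a : CoverH φ) * (b : CoverH φ) = (b : CoverH φ) * (a : CoverH φ)
    exact (Subgroup.mem_center_iff.mp (ker_rho_le_center φ (hN b.2)) a)
  letI : CommGroup N := { (inferInstance : Group N) with mul_comm := hcommN }
  obtain ⟨S₀, hS₀, hdec⟩ := exists_torsionFree_complement N
  haveI := finite_commutator_coverH φ hφ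
  refine ⟨S₀.map N.subtype, ?_, ?_, ?_⟩
  · rintro _ ⟨s, _, rfl⟩
    exact s.2
  · rw [eq_bot_iff]
    rintro _ ⟨⟨s, hs, rfl⟩, ht⟩
    rw [Subgroup.mem_bot]
    have hfin : IsOfFinOrder (⟨(s : CoverH φ), ht.2⟩ : commutator (CoverH φ)) := isOfFinOrder_of_finite _
    have hfin' : IsOfFinOrder s := by
      obtain ⟨k, hk, hpow⟩ := isOfFinOrder_iff_pow_eq_one.mp hfin
      refine isOfFinOrder_iff_pow_eq_one.mpr ⟨k, hk, ?_⟩
      apply Subtype.ext
      have := congrArg Subtype.val hpow
      simpa using this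
    have := hS₀ s hs hfin'
    rw [this]; rfl
  · intro n hn
    obtain ⟨s, hs, t, ht, hst⟩ := hdec ⟨n, hn⟩
    have h1 : n = (s : CoverH φ) * (t : CoverH φ) := congrArg Subtype.val hst
    rw [h1]
    apply Subgroup.mul_mem
    · exact Subgroup.mem_sup_left ⟨s, hs, rfl⟩
    · apply Subgroup.mem_sup_right
      refine ⟨hN t.2, ?_⟩
      apply mem_commutator_of_isOfFinOrder
      obtain ⟨k, hk, hpow⟩ := isOfFinOrder_iff_pow_eq_one.mp ht
      refine isOfFinOrder_iff_pow_eq_one.mpr ⟨k, hk, ?_⟩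
      have := congrArg Subtype.val hpow
      simpa using this

end Complement

end Cfsg.Agent.Helper66
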