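import Mathlib
import Cfsg.Agent.Helper66.SchurCover3

set_option autoImplicit false

namespace Cfsg.Agent.Helper66

open scoped commutatorElement

universe u v w

section General

variable {Q : Type u} [Group Q]

/-- The multiplier is determined up to isomorphism. -/
theorem nonempty_mulEquiv_of_hasSchurMultiplier {A : Type v} {B : Type w} [CommGroup A] [CommGroup B]
    (hA : Cfsg.HasSchurMultiplier Q A) (hB : Cfsg.HasSchurMultiplier Q B) : Nonempty (A ≃* B) := by
  obtain ⟨⟨Γ₁, _, _, σ₁, hσ₁, ⟨e₁⟩⟩, hA2⟩ := hA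
  obtain ⟨⟨Γ₂, _, _, σ₂, hσ₂, ⟨e₂⟩⟩, hB2⟩ := hB
  obtain ⟨π₁, hπ₁⟩ := hB2 Γ₁ σ₁ hσ₁
  obtain ⟨π₂, hπ₂⟩ := hA2 Γ₂ σ₂ hσ₂
  haveI : Finite A := Finite.of_equiv _ e₁.toEquiv
  haveI : Finite B := Finite.of_equiv _ e₂.toEquiv
  -- surjections both ways
  let f : A →* B := e₂.toMonoidHom.comp π₂
  let g : B →* A := e₁.toMonoidHom.comp π₁
  have hf : Function.Surjective f := e₂.surjective.comp hπ₂
  have hg : Function.Surjective g := e₁.surjective.comp hπ₁
  have hcard : Nat.card A = Nat.card B :=
    le_antisymm (Nat.card_le_card_of_surjective g hg) (Nat.card_le_card_of_surjective f hf)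
  have hfbij : Function.Bijective f :=
    (Nat.bijective_iff_surjective_and_card f).mpr ⟨hf, hcard⟩
  exact ⟨MulEquiv.ofBijective f hfbij⟩

theorem hasSchurMultiplier_of_mulEquiv {A : Type v} {B : Type w} [CommGroup A] [CommGroup B]
    (hB : Cfsg.HasSchurMultiplier Q B) (e : A ≃* B) : Cfsg.HasSchurMultiplier Q A := by
  obtain ⟨⟨Γ₂, i1, i2, σ₂, hσ₂, ⟨e₂⟩⟩, hB2⟩ := hB
  refine ⟨⟨Γ₂, i1, i2, σ₂, hσ₂, ⟨e₂.trans e.symm⟩⟩, ?_⟩
  intro Γ _ _ σ hσ
  obtain ⟨π, hπ⟩ := hB2 Γ σ hσ
  exact ⟨π.comp e.toMonoidHom, hπ.comp e.surjective⟩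

end General

section Standard

variable (Q : Type u) [Group Q]

/-- The standard presentation of a group, by all its elements. -/
def stdPres : FreeGroup Q →* Q := FreeGroup.lift (id : Q → Q)

theorem stdPres_surjective : Function.Surjective (stdPres Q) :=
  fun q => ⟨FreeGroup.of q, by simp [stdPres]⟩

/-- The group `F / [F, R]` for the standard presentation. -/
abbrev SchurH : Type u := CoverH (stdPres Q)

/-- The canonical map `F / [F, R] →* Q`. -/
def schurRho : SchurH Q →* Q := rho (stdPres Q)

theorem schurRho_surjective : Function.Surjective (schurRho Q) :=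
  rho_surjective _ (stdPres_surjective Q)

theorem ker_schurRho_le_center : (schurRho Q).ker ≤ Subgroup.center (SchurH Q) :=
  ker_rho_le_center _

/-- The Schur multiplier, as the subgroup `R/[F,R] ∩ F'/[F,R]` of `F/[F,R]`. -/
def schurT : Subgroup (SchurH Q) := (schurRho Q).ker ⊓ commutator (SchurH Q)

theorem schurT_le_center : schurT Q ≤ Subgroup.center (SchurH Q) :=
  inf_le_left.trans (ker_schurRho_le_center Q)

noncomputable instance schurT_commGroup : CommGroup (schurT Q) :=
  { (inferInstance : Group (schurT Q)) with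
    mul_comm := fun a b => by
      apply Subtype.ext
      exact (Subgroup.mem_center_iff.mp (schurT_le_center Q b.2) a) }

instance schurT_finite [Finite Q] : Finite (schurT Q) := by
  haveI := finite_commutator_coverH (stdPres Q) (stdPres_surjective Q)
  exact Finite.of_injective (fun t : schurT Q => (⟨t.1, t.2.2⟩ : commutator (SchurH Q)))
    (fun a b h => Subtype.ext (congrArg (fun x : commutator (SchurH Q) => (x : SchurH Q)) h))

variable {Q}

/-- Every central extension of `Q` receives a map from `F / [F, R]`, which sends the multiplier onto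
the intersection of the kernel with the commutator subgroup. -/
theorem exists_schur_lift {E : Type w} [Group E] (π : E →* Q) (hπs : Function.Surjective π)
    (hπc : π.ker ≤ Subgroup.center E) :
    ∃ ψ : SchurH Q →* E, π.comp ψ = schurRho Q ∧ (schurT Q).map ψ = π.ker ⊓ commutator E := by
  obtain ⟨ψ, hψ⟩ := exists_lift (stdPres Q) π hπs hπc
  exact ⟨ψ, hψ, map_ker_inf_commutator (schurRho Q) (schurRho_surjective Q) π hπc ψ hψ⟩

/-- For a stem extension the multiplier maps onto the kernel. -/
theorem exists_surjective_schurT_ker {E : Type w} [Group E] (π : E →* Q)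
    (hπ : Cfsg.IsStemExtension π) : ∃ θ : schurT Q →* π.ker, Function.Surjective θ := by
  obtain ⟨hs, hc, hd⟩ := hπ
  obtain ⟨ψ, hψ, hmap⟩ := exists_schur_lift π hs hc
  rw [inf_eq_left.mpr hd] at hmap
  have hmem : ∀ t : schurT Q, ψ t ∈ π.ker := fun t => by
    rw [← hmap]; exact ⟨t, t.2, rfl⟩
  refine ⟨{ toFun := fun t => ⟨ψ t, hmem t⟩
            map_one' := by apply Subtype.ext; simp
            map_mul' := fun a b => by apply Subtype.ext; simp }, ?_⟩
  rintro ⟨y, hy⟩
  rw [← hmap] at hy
  obtain ⟨t, ht, rfl⟩ := hy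
  exact ⟨⟨t, ht⟩, rfl⟩

variable (Q)

/-- **Existence of Schur covers**, in the strong form: every subgroup `N` of the kernel of finite
index which together with the multiplier generates the kernel contains a subgroup `S` such that
`H ⧸ S` is a finite stem extension with kernel isomorphic to the multiplier. -/
theorem exists_cover_le [Finite Q] (N : Subgroup (SchurH Q)) (hN : N ≤ (schurRho Q).ker)
    (hNT : (schurRho Q).ker ≤ N ⊔ schurT Q) :
    ∃ (S : Subgroup (SchurH Q)) (_ : S.Normal) (hS : S ≤ (schurRho Q).ker), S ≤ N ∧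
      Finite (SchurH Q ⧸ S) ∧
      Cfsg.IsStemExtension (QuotientGroup.lift S (schurRho Q) hS) ∧
      Nonempty ((QuotientGroup.lift S (schurRho Q) hS).ker ≃* schurT Q) := by
  haveI : (schurRho Q).ker.FiniteIndex := finiteIndex_ker_rho _ (stdPres_surjective Q)
  -- `N` has finite index
  haveI hNfin : N.FiniteIndex := by
    haveI : N.IsFiniteRelIndex (schurRho Q).ker := by
      constructor
      intro h0
      -- the quotient map restricted to `T` is onto `ker / N`
      have : (N.subgroupOf (schurRho Q).ker).index ≠ 0 := by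
        haveI : Finite ((schurRho Q).ker ⧸ N.subgroupOf (schurRho Q).ker) := by
          let f : schurT Q → (schurRho Q).ker ⧸ N.subgroupOf (schurRho Q).ker :=
            fun t => QuotientGroup.mk ⟨t.1, t.2.1⟩
          have hf : Function.Surjective f := by
            intro q
            obtain ⟨⟨x, hx⟩, rfl⟩ := QuotientGroup.mk_surjective q
            have hx' := hNT hx
            haveI : N.Normal := normal_of_le_center N (hN.trans (ker_schurRho_le_center Q))
            obtain ⟨n, hn, t, ht, rfl⟩ := exists_mul_of_mem_sup N (schurT Q) x hx'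
            refine ⟨⟨t, ht⟩, ?_⟩
            show (QuotientGroup.mk ⟨t, ht.1⟩ : (schurRho Q).ker ⧸ N.subgroupOf (schurRho Q).ker) = _
            rw [QuotientGroup.eq]
            show (⟨t, ht.1⟩ : (schurRho Q).ker)⁻¹ * ⟨n * t, hx⟩ ∈ N.subgroupOf (schurRho Q).ker
            rw [Subgroup.mem_subgroupOf]
            have hcomm := Subgroup.mem_center_iff.mp (schurT_le_center Q ht) n
            have : ((⟨t, ht.1⟩ : (schurRho Q).ker)⁻¹ * ⟨n * t, hx⟩ : (schurRho Q).ker).1 = n := by
              show t⁻¹ * (n * t) = n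
              rw [hcomm]; group
            rw [this]; exact hn
          exact Finite.of_surjective f hf
        exact Subgroup.index_ne_zero_of_finite
      exact this h0
    have h1 : N.relIndex (schurRho Q).ker ≠ 0 := Subgroup.IsFiniteRelIndex.relIndex_ne_zero
    have h2 : (schurRho Q).ker.index ≠ 0 := Subgroup.FiniteIndex.index_ne_zero
    constructor
    rw [← Subgroup.relIndex_mul_index hN]
    exact mul_ne_zero h1 h2
  obtain ⟨S, hSN, hST, hNS⟩ := exists_complement_le (stdPres Q) (stdPres_surjective Q) N hN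
  have hS : S ≤ (schurRho Q).ker := hSN.trans hN
  have hSn : S.Normal := normal_of_le_center S (hS.trans (ker_schurRho_le_center Q))
  have hsup : (schurRho Q).ker ≤ S ⊔ ((schurRho Q).ker ⊓ commutator (SchurH Q)) := by
    refine hNT.trans (sup_le ?_ le_sup_right)
    exact hNS
  have hstem := isStemExtension_lift (schurRho Q) (schurRho_surjective Q) (ker_schurRho_le_center Q)
    S hS hsup
  have hker := nonempty_ker_lift_mulEquiv (schurRho Q) S hS hST hsup
  refine ⟨S, hSn, hS, hSN, ?_, hstem, hker⟩
  rw [MonoidHom.finite_iff_finite_ker_range (QuotientGroup.lift S (schurRho Q) hS)]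
  obtain ⟨e⟩ := hker
  haveI : Finite ↥((schurRho Q).ker ⊓ commutator (SchurH Q)) := schurT_finite Q
  exact ⟨Finite.of_equiv _ e.symm.toEquiv, inferInstance⟩

/-- The subgroup `schurT Q` is the Schur multiplier of `Q`. -/
theorem hasSchurMultiplier_schurT [Finite Q] : Cfsg.HasSchurMultiplier Q (schurT Q) := by
  constructor
  · obtain ⟨S, hSn, hS, _, hfin, hstem, hker⟩ :=
      exists_cover_le Q (schurRho Q).ker le_rfl le_sup_left
    exact ⟨SchurH Q ⧸ S, inferInstance, hfin, QuotientGroup.lift S (schurRho Q) hS, hstem, hker⟩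
  · intro Γ _ _ σ hσ
    exact exists_surjective_schurT_ker σ hσ

/-- Characterization of the multiplier. -/
theorem hasSchurMultiplier_iff [Finite Q] (A : Type v) [CommGroup A] :
    Cfsg.HasSchurMultiplier Q A ↔ Nonempty (A ≃* schurT Q) :=
  ⟨fun h => nonempty_mulEquiv_of_hasSchurMultiplier h (hasSchurMultiplier_schurT Q),
    fun ⟨e⟩ => hasSchurMultiplier_of_mulEquiv (hasSchurMultiplier_schurT Q) e⟩

end Standard

end Cfsg.Agent.Helper66
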