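import Mathlib
import Cfsg.Prelude.Def_KGroupFacts

set_option autoImplicit false

namespace Cfsg.Agent.Helper66

universe u v

/-- The identity is a stem extension. -/
theorem isStemExtension_id (G : Type u) [Group G] : Cfsg.IsStemExtension (MonoidHom.id G) := by
  refine ⟨Function.surjective_id, ?_, ?_⟩ <;>
  · intro x hx
    rw [MonoidHom.mem_ker] at hx
    simp only [MonoidHom.id_apply] at hx
    subst hx
    exact Subgroup.one_mem _

/-- If every finite stem extension of the finite group `G` has trivial kernel, the multiplier is trivial. -/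
theorem hasCyclicSchurMultiplier_one_of_forall {G : Type u} [Group G] [Finite G]
    (h : ∀ (Γ : Type u) [Group Γ] [Finite Γ] (σ : Γ →* G), Cfsg.IsStemExtension σ → σ.ker = ⊥) :
    Cfsg.HasCyclicSchurMultiplier G 1 := by
  refine ⟨⟨G, inferInstance, inferInstance, MonoidHom.id G, isStemExtension_id G, ?_⟩, ?_⟩
  · have hk : (MonoidHom.id G).ker = ⊥ := by
      ext x; simp
    rw [hk]
    have : Unique (Multiplicative (ZMod 1)) := by
      change Unique (Multiplicative (Fin 1)); infer_instance
    exact ⟨MulEquiv.ofUnique⟩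
  · intro Γ _ _ σ hσ
    refine ⟨1, ?_⟩
    intro x
    refine ⟨1, ?_⟩
    have := h Γ σ hσ
    apply Subtype.ext
    have hx : (x : Γ) ∈ (⊥ : Subgroup Γ) := this ▸ x.2
    rw [Subgroup.mem_bot] at hx
    rw [hx]
    rfl

/-- If the multiplier of `G` is trivial, every finite stem extension of `G` has trivial kernel. -/
theorem ker_eq_bot_of_hasCyclicSchurMultiplier_one {G : Type u} [Group G]
    (h : Cfsg.HasCyclicSchurMultiplier G 1) (Γ : Type u) [Group Γ] [Finite Γ] (σ : Γ →* G)
    (hσ : Cfsg.IsStemExtension σ) : σ.ker = ⊥ := by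
  obtain ⟨π, hπ⟩ := h.2 Γ σ hσ
  rw [eq_bot_iff]
  intro x hx
  obtain ⟨a, ha⟩ := hπ ⟨x, hx⟩
  have : Subsingleton (Multiplicative (ZMod 1)) := by
    change Subsingleton (Multiplicative (Fin 1)); infer_instance
  have : a = 1 := Subsingleton.elim _ _
  rw [this, map_one] at ha
  rw [Subgroup.mem_bot]
  exact (congrArg Subtype.val ha).symm

end Cfsg.Agent.Helper66
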