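import Mathlib
import Cfsg.Agent.Helper66.SchurMult
import Cfsg.Agent.Helper66.SchurBasic

set_option autoImplicit false

namespace Cfsg.Agent.Helper66

open scoped commutatorElement

universe u v w

/-- A finite group has an isomorphic copy in every universe. -/
theorem exists_mulEquiv_universe (G : Type u) [Group G] [Finite G] :
    ∃ (G' : Type v) (_ : Group G') (_ : Finite G'), Nonempty (G' ≃* G) := by
  obtain ⟨n, ⟨e⟩⟩ := Finite.exists_equiv_fin G
  let e' : ULift.{v} (Fin n) ≃ G := Equiv.ulift.trans e.symm
  letI : Group (ULift.{v} (Fin n)) := e'.group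
  exact ⟨ULift.{v} (Fin n), inferInstance, inferInstance, ⟨e'.mulEquiv⟩⟩

/-- The commutator subgroup is mapped onto the commutator subgroup by a surjection. -/
theorem map_commutator_of_surjective {G : Type u} {H : Type v} [Group G] [Group H] (f : G →* H)
    (hf : Function.Surjective f) : (commutator G).map f = commutator H := by
  rw [commutator_def, commutator_def, Subgroup.map_commutator,
    Subgroup.map_top_of_surjective f hf]

/-- Stem extensions can be transported along isomorphisms of the covering group. -/
theorem isStemExtension_comp_mulEquiv {G : Type u} {Γ : Type v} {Γ' : Type w} [Group G] [Group Γ]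
    [Group Γ'] (σ : Γ →* G) (hσ : Cfsg.IsStemExtension σ) (e : Γ' ≃* Γ) :
    Cfsg.IsStemExtension (σ.comp e.toMonoidHom) := by
  obtain ⟨hs, hc, hd⟩ := hσ
  refine ⟨hs.comp e.surjective, ?_, ?_⟩
  · intro x hx
    have hx' : e x ∈ σ.ker := by
      rw [MonoidHom.mem_ker] at hx ⊢
      exact hx
    have hcen := hc hx'
    rw [Subgroup.mem_center_iff] at hcen ⊢
    intro z
    apply e.injective
    rw [map_mul, map_mul]
    exact hcen (e z)
  · intro x hx
    have hx' : e x ∈ σ.ker := by
      rw [MonoidHom.mem_ker] at hx ⊢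
      exact hx
    have hcom := hd hx'
    rw [← map_commutator_of_surjective e.toMonoidHom e.surjective] at hcom
    obtain ⟨c, hc', hce⟩ := hcom
    have : c = x := e.injective hce
    rw [← this]
    exact hc'

/-- If the multiplier of `G` is trivial, every finite stem extension of `G`, in any universe, has
trivial kernel. -/
theorem ker_eq_bot_of_hasCyclicSchurMultiplier_one' {G : Type u} [Group G]
    (h : Cfsg.HasCyclicSchurMultiplier G 1) (Γ : Type w) [Group Γ] [Finite Γ] (σ : Γ →* G)
    (hσ : Cfsg.IsStemExtension σ) : σ.ker = ⊥ := by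
  obtain ⟨Γ', _, _, ⟨e⟩⟩ := exists_mulEquiv_universe.{w, u} Γ
  have h1 := ker_eq_bot_of_hasCyclicSchurMultiplier_one h Γ' (σ.comp e.toMonoidHom)
    (isStemExtension_comp_mulEquiv σ hσ e)
  rw [eq_bot_iff] at h1 ⊢
  intro x hx
  have : e.symm x ∈ (σ.comp e.toMonoidHom).ker := by
    rw [MonoidHom.mem_ker] at hx ⊢
    simpa using hx
  have := h1 this
  rw [Subgroup.mem_bot] at this ⊢
  simpa using this

/-- If `σ ∘ β` is a stem extension and `β` is surjective, then `β` is a stem extension. -/
theorem isStemExtension_of_comp {G : Type u} {Γ : Type v} {Γ' : Type w} [Group G] [Group Γ]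
    [Group Γ'] (σ : Γ →* G) (β : Γ' →* Γ) (hβ : Function.Surjective β)
    (h : Cfsg.IsStemExtension (σ.comp β)) : Cfsg.IsStemExtension β := by
  obtain ⟨_, hc, hd⟩ := h
  have hle : β.ker ≤ (σ.comp β).ker := by
    intro x hx
    rw [MonoidHom.mem_ker] at hx ⊢
    rw [MonoidHom.comp_apply, hx, map_one]
  exact ⟨hβ, hle.trans hc, hle.trans hd⟩

end Cfsg.Agent.Helper66
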