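import Mathlib
import Cfsg.Agent.Helper66.SchurMult
import Cfsg.Agent.Helper66.SchurMult2
import Cfsg.Agent.Helper33.IndexP

/-!
# From a central extension with an involution in `ker ∩ E'` to a double cover (S0891)
-/

set_option autoImplicit false
set_option linter.style.haveILetI false

namespace Cfsg.Agent.Helper66

universe u v w

/-- A finite abelian group of even order has a subgroup of index two. -/
theorem exists_index_two_of_even_card {T : Type u} [CommGroup T] [Finite T]
    (h : 2 ∣ Nat.card T) : ∃ U : Subgroup T, U.index = 2 := by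
  haveI : Fact (Nat.Prime 2) := ⟨Nat.prime_two⟩
  obtain ⟨t, ht⟩ := exists_prime_orderOf_dvd_card' 2 h
  let sq : T →* T := powMonoidHom 2
  have hninj : ¬ Function.Injective sq := by
    intro hinj
    have h1 : sq t = sq 1 := by
      change t ^ 2 = 1 ^ 2
      rw [one_pow, ← ht, pow_orderOf_eq_one]
    have := hinj h1
    rw [this, orderOf_one] at ht
    omega
  have hnsurj : ¬ Function.Surjective sq := fun hs => hninj (Finite.injective_iff_surjective.mpr hs)
  have hne : sq.range ≠ ⊤ := fun htop => hnsurj (MonoidHom.range_eq_top.mp htop)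
  let ψ : T →* T ⧸ sq.range := QuotientGroup.mk' sq.range
  have hψ : Function.Surjective ψ := QuotientGroup.mk'_surjective _
  have hQ : IsPGroup 2 (T ⧸ sq.range) := by
    intro q
    obtain ⟨x, rfl⟩ := QuotientGroup.mk_surjective q
    refine ⟨1, ?_⟩
    rw [pow_one, ← QuotientGroup.mk_pow, QuotientGroup.eq_one_iff]
    exact ⟨x, rfl⟩
  have hnt : Nontrivial (T ⧸ sq.range) := by
    by_contra hcon
    rw [not_nontrivial_iff_subsingleton] at hcon
    exact hne (QuotientGroup.subgroup_eq_top_of_subsingleton _ hcon)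
  obtain ⟨N, -, hN⟩ := Helper33.exists_normal_index_prime_of_surjective ψ hψ hQ hnt
  exact ⟨N, hN⟩

/-- A finite stem extension with kernel of even order has a quotient which is a stem extension
with kernel of order two. -/
theorem exists_double_cover_of_stem {Q : Type u} [Group Q] {Γ₀ : Type v} [Group Γ₀] [Finite Γ₀]
    (σ : Γ₀ →* Q) (hσ : Cfsg.IsStemExtension σ) (heven : 2 ∣ Nat.card σ.ker) :
    ∃ (Γ : Type v) (_ : Group Γ) (_ : Finite Γ) (w : Γ) (_ : w ∈ Subgroup.center Γ),
      orderOf w = 2 ∧ w ∈ commutator Γ ∧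
      ∃ _ : (Subgroup.zpowers w).Normal, Nonempty (Γ ⧸ Subgroup.zpowers w ≃* Q) := by
  obtain ⟨hs, hc, hd⟩ := hσ
  letI : CommGroup σ.ker :=
    { (inferInstance : Group σ.ker) with
      mul_comm := fun a b => Subtype.ext (Subgroup.mem_center_iff.mp (hc b.2) a) }
  obtain ⟨U₀, hU₀⟩ := exists_index_two_of_even_card (T := σ.ker) heven
  -- an element outside `U₀`
  obtain ⟨k₀, hk₀⟩ : ∃ k₀ : σ.ker, k₀ ∉ U₀ := by
    obtain ⟨a, ha⟩ := Subgroup.index_eq_two_iff.mp hU₀
    refine ⟨a, fun haU => ?_⟩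
    have := ha 1
    rw [one_mul] at this
    rcases this with ⟨_, h2⟩ | ⟨_, h2⟩
    · exact h2 U₀.one_mem
    · exact h2 haU
  let U : Subgroup Γ₀ := U₀.map σ.ker.subtype
  have hUle : U ≤ σ.ker := by
    rintro _ ⟨x, -, rfl⟩
    exact x.2
  have hUmem : ∀ x : σ.ker, (x : Γ₀) ∈ U ↔ x ∈ U₀ := by
    intro x
    constructor
    · rintro ⟨y, hy, hyx⟩
      have : y = x := Subtype.ext hyx
      rwa [← this]
    · intro hx
      exact ⟨x, hx, rfl⟩
  haveI hUn : U.Normal := by
    constructor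
    intro x hx g
    have hxc : g * x = x * g := Subgroup.mem_center_iff.mp (hc (hUle hx)) g
    rw [hxc, mul_inv_cancel_right]
    exact hx
  let σ' : Γ₀ ⧸ U →* Q := QuotientGroup.lift U σ hUle
  have hσ's : Function.Surjective σ' := by
    intro q
    obtain ⟨g, rfl⟩ := hs q
    exact ⟨QuotientGroup.mk g, rfl⟩
  let w : Γ₀ ⧸ U := QuotientGroup.mk (k₀ : Γ₀)
  have hw1 : w ≠ 1 := by
    intro h
    rw [QuotientGroup.eq_one_iff] at h
    exact hk₀ ((hUmem k₀).mp h)
  have hw2 : w ^ 2 = 1 := by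
    change (QuotientGroup.mk (k₀ : Γ₀) : Γ₀ ⧸ U) ^ 2 = 1
    rw [← QuotientGroup.mk_pow, QuotientGroup.eq_one_iff]
    have : k₀ ^ 2 ∈ U₀ := Subgroup.sq_mem_of_index_two hU₀ k₀
    have h2 := (hUmem (k₀ ^ 2)).mpr this
    simpa using h2
  have hword : orderOf w = 2 := orderOf_eq_prime hw2 hw1
  have hwc : w ∈ Subgroup.center (Γ₀ ⧸ U) := by
    rw [Subgroup.mem_center_iff]
    intro x
    obtain ⟨g, rfl⟩ := QuotientGroup.mk_surjective x
    change (QuotientGroup.mk g : Γ₀ ⧸ U) * QuotientGroup.mk (k₀ : Γ₀) =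
      QuotientGroup.mk (k₀ : Γ₀) * QuotientGroup.mk g
    rw [← QuotientGroup.mk_mul, ← QuotientGroup.mk_mul,
      Subgroup.mem_center_iff.mp (hc k₀.2) g]
  have hwd : w ∈ commutator (Γ₀ ⧸ U) := by
    rw [← map_commutator_of_surjective (QuotientGroup.mk' U) (QuotientGroup.mk'_surjective U)]
    exact ⟨k₀, hd k₀.2, rfl⟩
  have hker : σ'.ker = Subgroup.zpowers w := by
    apply le_antisymm
    · intro x hx
      obtain ⟨g, rfl⟩ := QuotientGroup.mk_surjective x
      have hg : g ∈ σ.ker := by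
        rw [MonoidHom.mem_ker] at hx ⊢
        exact hx
      by_cases hgU : (⟨g, hg⟩ : σ.ker) ∈ U₀
      · have : (QuotientGroup.mk g : Γ₀ ⧸ U) = 1 := by
          rw [QuotientGroup.eq_one_iff]
          exact (hUmem ⟨g, hg⟩).mpr hgU
        rw [this]
        exact Subgroup.one_mem _
      · have hmul : (⟨g, hg⟩ : σ.ker) * k₀⁻¹ ∈ U₀ := by
          rw [Subgroup.mul_mem_iff_of_index_two hU₀]
          constructor
          · intro h; exact absurd h hgU
          · intro h; exact absurd (U₀.inv_mem_iff.mp h) hk₀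
        have h2 := (hUmem _).mpr hmul
        have : (QuotientGroup.mk g : Γ₀ ⧸ U) = w := by
          change (QuotientGroup.mk g : Γ₀ ⧸ U) = QuotientGroup.mk (k₀ : Γ₀)
          rw [QuotientGroup.eq]
          have h3 : (g⁻¹ * (k₀ : Γ₀))⁻¹ ∈ U := by
            rw [mul_inv_rev, inv_inv]
            have hcomm : (k₀ : Γ₀)⁻¹ * g = g * (k₀ : Γ₀)⁻¹ :=
              (Subgroup.mem_center_iff.mp (hc (σ.ker.inv_mem k₀.2)) g).symm
            rw [hcomm]
            simpa using h2
          exact U.inv_mem_iff.mp h3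
        rw [this]
        exact Subgroup.mem_zpowers w
    · rw [Subgroup.zpowers_le, MonoidHom.mem_ker]
      change σ (k₀ : Γ₀) = 1
      exact k₀.2
  have hn : (Subgroup.zpowers w).Normal := hker ▸ (inferInstance : σ'.ker.Normal)
  refine ⟨Γ₀ ⧸ U, inferInstance, inferInstance, w, hwc, hword, hwd, hn, ?_⟩
  exact ⟨(QuotientGroup.quotientMulEquivOfEq hker.symm).trans
    (QuotientGroup.quotientKerEquivOfSurjective σ' hσ's)⟩

/-- A central extension of a finite group `Q` in which an involution of the kernel lies in the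
commutator subgroup gives rise to a finite stem extension of `Q` with kernel of order two. -/
theorem exists_double_cover_of_central_ext {Q : Type u} [Group Q] [Finite Q] {E : Type w} [Group E]
    (π : E →* Q) (hπs : Function.Surjective π) (hπc : π.ker ≤ Subgroup.center E)
    (z : E) (hzk : z ∈ π.ker) (hzc : z ∈ commutator E) (hz2 : orderOf z = 2) :
    ∃ (Γ : Type u) (_ : Group Γ) (_ : Finite Γ) (w : Γ) (_ : w ∈ Subgroup.center Γ),
      orderOf w = 2 ∧ w ∈ commutator Γ ∧
      ∃ _ : (Subgroup.zpowers w).Normal, Nonempty (Γ ⧸ Subgroup.zpowers w ≃* Q) := by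
  obtain ⟨ψ, hψ, hmap⟩ := exists_schur_lift π hπs hπc
  have hz : z ∈ (schurT Q).map ψ := by rw [hmap]; exact ⟨hzk, hzc⟩
  obtain ⟨t, ht, rfl⟩ := hz
  have h2 : 2 ∣ Nat.card (schurT Q) := by
    have h1 : orderOf (ψ t) ∣ orderOf t := orderOf_map_dvd ψ t
    rw [hz2] at h1
    have h3 : orderOf (⟨t, ht⟩ : schurT Q) = orderOf t := Subgroup.orderOf_mk t ht
    exact h1.trans (h3 ▸ orderOf_dvd_natCard _)
  obtain ⟨S, hSn, hS, -, hfin, hstem, ⟨e⟩⟩ :=
    exists_cover_le Q (schurRho Q).ker le_rfl le_sup_left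
  have h4 : 2 ∣ Nat.card (QuotientGroup.lift S (schurRho Q) hS).ker := by
    rw [Nat.card_congr e.toEquiv]; exact h2
  exact exists_double_cover_of_stem _ hstem h4

end Cfsg.Agent.Helper66
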