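import Cfsg.Agent.Helper61.DihDefs

/-!
# (ARITH) for helper61 (S3616): the final integer contradiction
-/

set_option autoImplicit false

namespace Cfsg.Agent.Helper66.Dih

open DihedralGroup Finset Cfsg.Agent.Helper61.Dih

/-- (ARITH) -/
theorem arith (a b e q mu s : ℤ) (hs : s = a - b) (hs2 : s ^ 2 = a + b - mu)
    (h2ab : 2 * a * b = mu * e) (hq3 : 3 ≤ q) (hqs : q ∣ s) (hs0 : s ≠ 0) (hb0 : 0 < b)
    (hbe : b < e) (hCS : q * b ^ 2 ≤ e * (b + (q - 1) * (mu - a))) : False := by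
  have ha : a = s + b := by linarith
  have hmu : mu = 2 * b + s - s ^ 2 := by linarith
  subst ha
  subst hmu
  obtain ⟨t, rfl⟩ := hqs
  have he : 0 < e := by linarith
  have hq0 : 0 < q := by linarith
  have ht0 : t ≠ 0 := by
    intro h0
    apply hs0
    rw [h0, mul_zero]
  -- (1)
  have h1 : e * (q * t) ^ 2 = 2 * b * (e - b) - (q * t) * (2 * b - e) := by
    linear_combination h2ab
  -- (3)
  have h3 : (q - 2) * e * (q * t) ^ 2 ≤ q * (q * t) * (2 * b - e) := by
    have e1 : q * (e * (q * t) ^ 2) = q * (2 * b * (e - b) - (q * t) * (2 * b - e)) := by rw [h1]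
    nlinarith [hCS, e1]
  -- (4)
  have h4 : (q - 2) * e * t ^ 2 ≤ t * (2 * b - e) := by
    by_contra hlt
    push_neg at hlt
    have hq2 : 0 < q ^ 2 := pow_pos hq0 2
    nlinarith [mul_pos hq2 (sub_pos.2 hlt)]
  -- (6)
  have h5 : e * t ^ 2 ≤ (q - 2) * e * t ^ 2 := by
    have h6 : 0 ≤ e * t ^ 2 := mul_nonneg he.le (sq_nonneg t)
    nlinarith
  have h7 : t * (2 * b - e) < e * t ^ 2 := by
    rcases lt_or_gt_of_ne ht0 with hneg | hpos
    · have h8 : 1 ≤ -t := by omega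
      nlinarith [mul_pos (by linarith : (0 : ℤ) < -t) hb0, mul_nonneg (by linarith : (0 : ℤ) ≤ -t - 1) (mul_nonneg he.le (by linarith : (0 : ℤ) ≤ -t))]
    · have h8 : 1 ≤ t := by omega
      nlinarith [mul_pos hpos (sub_pos.2 hbe), mul_nonneg (by linarith : (0 : ℤ) ≤ t - 1) (mul_nonneg he.le hpos.le)]
  linarith

end Cfsg.Agent.Helper66.Dih
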