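import Cfsg.Agent.Helper61.DihDefs

/-!
# (P4d) for helper61 (S3616): the `q`-torsion of `ZMod e` has `q` elements
-/

set_option autoImplicit false

namespace Cfsg.Agent.Helper66.Dih

open DihedralGroup Finset Cfsg.Agent.Helper61.Dih

variable {e : ℕ} [NeZero e]

/-- (P4d) the subgroup of order `q` -/
theorem card_torsion (q : ℕ) [Fact q.Prime] (hqe : q ∣ e) :
    (univ.filter (fun u : ZMod e => q • u = 0)).card = q := by
  have h := IsAddCyclic.card_nsmulAddMonoidHom_ker (ZMod e) q
  rw [Nat.card_zmod, Nat.gcd_eq_right hqe] at h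
  have h2 : (univ.filter (fun u : ZMod e => q • u = 0)).card =
      Nat.card ↥(nsmulAddMonoidHom q : ZMod e →+ ZMod e).ker := by
    rw [← Nat.card_eq_finsetCard]
    apply Nat.card_congr
    apply Equiv.subtypeEquivRight
    intro u
    simp [AddMonoidHom.mem_ker]
  rw [h2, h]

end Cfsg.Agent.Helper66.Dih
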