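import Cfsg.Agent.Helper61.DihDefs
import Cfsg.Agent.Helper66.DihP4d

/-!
# (P2) for helper61 (S3616): divisibility of the fibre counts forces periodicity
-/

set_option autoImplicit false

namespace Cfsg.Agent.Helper66.Dih

open DihedralGroup Finset Cfsg.Agent.Helper61.Dih

variable {e : ℕ} [NeZero e]

/-- a fibre of multiplication by `q` through `x` has `q` elements -/
theorem card_fibre (q : ℕ) [Fact q.Prime] (hqe : q ∣ e) (x : ZMod e) :
    (univ.filter (fun i : ZMod e => q • i = q • x)).card = q := by
  refine Eq.trans ?_ (card_torsion (e := e) q hqe)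
  apply Finset.card_nbij' (fun i => i - x) (fun u => u + x)
  · intro i hi
    simp only [coe_filter, mem_univ, true_and, Set.mem_ofPred_eq] at hi ⊢
    rw [smul_sub, hi, sub_self]
  · intro u hu
    simp only [coe_filter, mem_univ, true_and, Set.mem_ofPred_eq] at hu ⊢
    rw [smul_add, hu, zero_add]
  · intro i _
    simp
  · intro u _
    simp

/-- (P2) -/
theorem P2 {A : Finset (ZMod e)} (q : ℕ) [Fact q.Prime] (hqe : q ∣ e)
    (hdiv : ∀ y : ZMod e, y ≠ 0 → q ∣ (A.filter (fun i => q • i = y)).card)
    (x u : ZMod e) (hu : q • u = 0) (hx : q • x ≠ 0) : x ∈ A ↔ x + u ∈ A := by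
  have hq : q.Prime := Fact.out
  have hF := card_fibre (e := e) q hqe x
  have hsub : A.filter (fun i => q • i = q • x) ⊆ univ.filter (fun i : ZMod e => q • i = q • x) :=
    Finset.filter_subset_filter _ (Finset.subset_univ A)
  have hle := Finset.card_le_card hsub
  rw [hF] at hle
  have hd := hdiv (q • x) hx
  have hxF : q • x = q • x := rfl
  have hxuF : q • (x + u) = q • x := by rw [smul_add, hu, add_zero]
  by_cases hc : (A.filter (fun i => q • i = q • x)).card = 0
  · rw [Finset.card_eq_zero] at hc
    constructor
    · intro hxA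
      have : x ∈ A.filter (fun i => q • i = q • x) := Finset.mem_filter.2 ⟨hxA, hxF⟩
      rw [hc] at this
      exact absurd this (Finset.notMem_empty _)
    · intro hxA
      have : x + u ∈ A.filter (fun i => q • i = q • x) := Finset.mem_filter.2 ⟨hxA, hxuF⟩
      rw [hc] at this
      exact absurd this (Finset.notMem_empty _)
  · have hcq : (A.filter (fun i => q • i = q • x)).card = q :=
      le_antisymm hle (Nat.le_of_dvd (Nat.pos_of_ne_zero hc) hd)
    have heq : A.filter (fun i => q • i = q • x) = univ.filter (fun i : ZMod e => q • i = q • x) :=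
      Finset.eq_of_subset_of_card_le hsub (by rw [hF, hcq])
    have hall : ∀ i : ZMod e, q • i = q • x → i ∈ A := by
      intro i hi
      have : i ∈ univ.filter (fun i : ZMod e => q • i = q • x) :=
        Finset.mem_filter.2 ⟨Finset.mem_univ _, hi⟩
      rw [← heq] at this
      exact (Finset.mem_filter.1 this).1
    exact ⟨fun _ => hall _ hxuF, fun _ => hall _ hxF⟩

end Cfsg.Agent.Helper66.Dih
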