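import Mathlib
import Cfsg.Agent.Helper99.P4Defs

/-!
# (T1f) for helper99 (S6000): a Pauli-like group containing `P`-conjugates of the four standard
generators is the `P`-conjugate of the standard group `R0`
-/

set_option autoImplicit false
open scoped MatrixGroups

namespace Cfsg.Agent.Helper66.P4

open Matrix Polynomial Cfsg.Agent.Helper99.P4 Cfsg.Geo

variable {F : Type*} [Field F]

theorem eq_zero_of_neg_eq (h2 : (2 : F) ≠ 0) {x : F} (h : -x = x ∨ x = -x) : x = 0 := by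
  have h' : 2 * x = 0 := by
    rcases h with h | h
    · linear_combination (-1 : F) * h
    · linear_combination h
  exact (mul_eq_zero.1 h').resolve_left h2

/-- a matrix commuting with the four standard generators is a scalar -/
theorem scalar_of_commute_gens (h2 : (2 : F) ≠ 0) (M : Matrix (Fin 4) (Fin 4) F)
    (hZ1 : M * mZ1 = mZ1 * M) (hX1 : M * mX1 = mX1 * M) (hZ2 : M * mZ2 = mZ2 * M)
    (hX2 : M * mX2 = mX2 * M) : ∃ c : F, M = c • 1 := by
  have eZ1 : ∀ a b : Fin 4, (M * mZ1 : Matrix (Fin 4) (Fin 4) F) a b =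
      (mZ1 * M : Matrix (Fin 4) (Fin 4) F) a b := fun a b => by rw [hZ1]
  have eZ2 : ∀ a b : Fin 4, (M * mZ2 : Matrix (Fin 4) (Fin 4) F) a b =
      (mZ2 * M : Matrix (Fin 4) (Fin 4) F) a b := fun a b => by rw [hZ2]
  have eX1 : ∀ a b : Fin 4, (M * mX1 : Matrix (Fin 4) (Fin 4) F) a b =
      (mX1 * M : Matrix (Fin 4) (Fin 4) F) a b := fun a b => by rw [hX1]
  have eX2 : ∀ a b : Fin 4, (M * mX2 : Matrix (Fin 4) (Fin 4) F) a b =
      (mX2 * M : Matrix (Fin 4) (Fin 4) F) a b := fun a b => by rw [hX2]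
  have h01 : M 0 1 = 0 := by
    have h := eZ2 0 1
    simp [mZ2, Matrix.mul_apply, Fin.sum_univ_four] at h
    exact eq_zero_of_neg_eq h2 (by first | exact Or.inl h | exact Or.inr h)
  have h02 : M 0 2 = 0 := by
    have h := eZ1 0 2
    simp [mZ1, Matrix.mul_apply, Fin.sum_univ_four] at h
    exact eq_zero_of_neg_eq h2 (by first | exact Or.inl h | exact Or.inr h)
  have h03 : M 0 3 = 0 := by
    have h := eZ1 0 3
    simp [mZ1, Matrix.mul_apply, Fin.sum_univ_four] at h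
    exact eq_zero_of_neg_eq h2 (by first | exact Or.inl h | exact Or.inr h)
  have h10 : M 1 0 = 0 := by
    have h := eZ2 1 0
    simp [mZ2, Matrix.mul_apply, Fin.sum_univ_four] at h
    exact eq_zero_of_neg_eq h2 (by first | exact Or.inl h | exact Or.inr h)
  have h12 : M 1 2 = 0 := by
    have h := eZ1 1 2
    simp [mZ1, Matrix.mul_apply, Fin.sum_univ_four] at h
    exact eq_zero_of_neg_eq h2 (by first | exact Or.inl h | exact Or.inr h)
  have h13 : M 1 3 = 0 := by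
    have h := eZ1 1 3
    simp [mZ1, Matrix.mul_apply, Fin.sum_univ_four] at h
    exact eq_zero_of_neg_eq h2 (by first | exact Or.inl h | exact Or.inr h)
  have h20 : M 2 0 = 0 := by
    have h := eZ1 2 0
    simp [mZ1, Matrix.mul_apply, Fin.sum_univ_four] at h
    exact eq_zero_of_neg_eq h2 (by first | exact Or.inl h | exact Or.inr h)
  have h21 : M 2 1 = 0 := by
    have h := eZ1 2 1
    simp [mZ1, Matrix.mul_apply, Fin.sum_univ_four] at h
    exact eq_zero_of_neg_eq h2 (by first | exact Or.inl h | exact Or.inr h)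
  have h23 : M 2 3 = 0 := by
    have h := eZ2 2 3
    simp [mZ2, Matrix.mul_apply, Fin.sum_univ_four] at h
    exact eq_zero_of_neg_eq h2 (by first | exact Or.inl h | exact Or.inr h)
  have h30 : M 3 0 = 0 := by
    have h := eZ1 3 0
    simp [mZ1, Matrix.mul_apply, Fin.sum_univ_four] at h
    exact eq_zero_of_neg_eq h2 (by first | exact Or.inl h | exact Or.inr h)
  have h31 : M 3 1 = 0 := by
    have h := eZ1 3 1
    simp [mZ1, Matrix.mul_apply, Fin.sum_univ_four] at h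
    exact eq_zero_of_neg_eq h2 (by first | exact Or.inl h | exact Or.inr h)
  have h32 : M 3 2 = 0 := by
    have h := eZ2 3 2
    simp [mZ2, Matrix.mul_apply, Fin.sum_univ_four] at h
    exact eq_zero_of_neg_eq h2 (by first | exact Or.inl h | exact Or.inr h)

  have d02 : M 0 0 = M 2 2 := by
    have h := eX1 0 2
    simpa [mX1, Matrix.mul_apply, Fin.sum_univ_four] using h
  have d01 : M 0 0 = M 1 1 := by
    have h := eX2 0 1
    simpa [mX2, Matrix.mul_apply, Fin.sum_univ_four] using h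
  have d23 : M 2 2 = M 3 3 := by
    have h := eX2 2 3
    simpa [mX2, Matrix.mul_apply, Fin.sum_univ_four] using h
  refine ⟨M 0 0, ?_⟩
  ext a b
  fin_cases a <;> fin_cases b <;>
    simp [h01, h02, h03, h10, h12, h13, h20, h21, h23, h30, h31, h32, ← d01, ← d02, ← d23]

theorem exists_pow_of_pow_four {i : F} (hi : i ^ 2 = -1) {z : F} (hz : z ^ 4 = 1) :
    ∃ k : ℕ, z = i ^ k := by
  have h : (z - 1) * (z + 1) * (z - i) * (z + i) = 0 := by
    have e : (z - 1) * (z + 1) * (z - i) * (z + i) = z ^ 4 - 1 - (z ^ 2 - 1) * (i ^ 2 + 1) := by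
      ring
    rw [e, hz, hi]; ring
  rcases mul_eq_zero.1 h with h | h
  · rcases mul_eq_zero.1 h with h | h
    · rcases mul_eq_zero.1 h with h | h
      · exact ⟨0, by rw [pow_zero]; linear_combination h⟩
      · exact ⟨2, by rw [hi]; linear_combination h⟩
    · exact ⟨1, by rw [pow_one]; linear_combination h⟩
  · refine ⟨3, ?_⟩
    have e : i ^ 3 = -i := by
      have e' : i ^ 3 = i ^ 2 * i := by ring
      rw [e', hi]; ring
    rw [e]; linear_combination h

/-- the conjugate `P⁻¹ h P` as a matrix -/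
theorem conj_inv_val (P h : GL (Fin 4) F) (X : Matrix (Fin 4) (Fin 4) F)
    (hX : (h : Matrix (Fin 4) (Fin 4) F) * (P : Matrix (Fin 4) (Fin 4) F) =
      (P : Matrix (Fin 4) (Fin 4) F) * X) :
    ((P⁻¹ * h * P : GL (Fin 4) F) : Matrix (Fin 4) (Fin 4) F) = X := by
  rw [Units.val_mul, Units.val_mul, Matrix.mul_assoc, hX, ← Matrix.mul_assoc, ← Units.val_mul,
    inv_mul_cancel, Units.val_one, Matrix.one_mul]

theorem exists_conj_val (P h : GL (Fin 4) F) (X : Matrix (Fin 4) (Fin 4) F)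
    (hX : (h : Matrix (Fin 4) (Fin 4) F) * (P : Matrix (Fin 4) (Fin 4) F) =
      (P : Matrix (Fin 4) (Fin 4) F) * X) :
    ∃ x : GL (Fin 4) F, (x : Matrix (Fin 4) (Fin 4) F) = X ∧
      (MulAut.conj P).toMonoidHom x = h := by
  refine ⟨P⁻¹ * h * P, conj_inv_val P h X hX, ?_⟩
  simp only [MulEquiv.coe_toMonoidHom, MulAut.conj_apply]
  group

/-- sign of commutation is preserved by conjugation -/
theorem conj_comm_sign (P g h : GL (Fin 4) F) (X : Matrix (Fin 4) (Fin 4) F)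
    (hX : (h : Matrix (Fin 4) (Fin 4) F) * (P : Matrix (Fin 4) (Fin 4) F) =
      (P : Matrix (Fin 4) (Fin 4) F) * X)
    (hc : (g : Matrix (Fin 4) (Fin 4) F) * h = h * g ∨
      (g : Matrix (Fin 4) (Fin 4) F) * h = -((h : Matrix (Fin 4) (Fin 4) F) * g)) :
    ∃ e : ZMod 2, ((P⁻¹ * g * P : GL (Fin 4) F) : Matrix (Fin 4) (Fin 4) F) * X =
      (sg e : F) • (X * ((P⁻¹ * g * P : GL (Fin 4) F) : Matrix (Fin 4) (Fin 4) F)) := by
  have hXe := conj_inv_val P h X hX
  have e1 : ((P⁻¹ * g * P : GL (Fin 4) F) : Matrix (Fin 4) (Fin 4) F) * X =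
      ((P⁻¹ : GL (Fin 4) F) : Matrix (Fin 4) (Fin 4) F) *
        ((g : Matrix (Fin 4) (Fin 4) F) * h) * (P : Matrix (Fin 4) (Fin 4) F) := by
    rw [← hXe, ← Units.val_mul, ← Units.val_mul, ← Units.val_mul, ← Units.val_mul]
    congr 1
    group
  have e2 : X * ((P⁻¹ * g * P : GL (Fin 4) F) : Matrix (Fin 4) (Fin 4) F) =
      ((P⁻¹ : GL (Fin 4) F) : Matrix (Fin 4) (Fin 4) F) *
        ((h : Matrix (Fin 4) (Fin 4) F) * g) * (P : Matrix (Fin 4) (Fin 4) F) := by
    rw [← hXe, ← Units.val_mul, ← Units.val_mul, ← Units.val_mul, ← Units.val_mul]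
    congr 1
    group
  rcases hc with hc | hc
  · exact ⟨0, by rw [e1, e2, hc, sg_zero, one_smul]⟩
  · refine ⟨1, ?_⟩
    rw [e1, e2, hc, sg_one, Matrix.mul_neg, Matrix.neg_mul, neg_smul, one_smul]

theorem pw_e1000 : (pw ((1, 0, 0, 0) : V4) : Matrix (Fin 4) (Fin 4) F) = mX1 := by
  simp [pw, z2_v0, z2_v1]
theorem pw_e0100 : (pw ((0, 1, 0, 0) : V4) : Matrix (Fin 4) (Fin 4) F) = mZ1 := by
  simp [pw, z2_v0, z2_v1]
theorem pw_e0010 : (pw ((0, 0, 1, 0) : V4) : Matrix (Fin 4) (Fin 4) F) = mX2 := by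
  simp [pw, z2_v0, z2_v1]
theorem pw_e0001 : (pw ((0, 0, 0, 1) : V4) : Matrix (Fin 4) (Fin 4) F) = mZ2 := by
  simp [pw, z2_v0, z2_v1]

theorem pw_mul_mZ1 (v : V4) :
    (pw v : Matrix (Fin 4) (Fin 4) F) * mZ1 = (sg v.1 : F) • (mZ1 * pw v) := by
  have h := pw_comm (F := F) v ((0, 1, 0, 0) : V4)
  rw [pw_e0100] at h
  simpa [bil] using h
theorem pw_mul_mX1 (v : V4) :
    (pw v : Matrix (Fin 4) (Fin 4) F) * mX1 = (sg v.2.1 : F) • (mX1 * pw v) := by
  have h := pw_comm (F := F) v ((1, 0, 0, 0) : V4)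
  rw [pw_e1000] at h
  simpa [bil] using h
theorem pw_mul_mZ2 (v : V4) :
    (pw v : Matrix (Fin 4) (Fin 4) F) * mZ2 = (sg v.2.2.1 : F) • (mZ2 * pw v) := by
  have h := pw_comm (F := F) v ((0, 0, 0, 1) : V4)
  rw [pw_e0001] at h
  simpa [bil] using h
theorem pw_mul_mX2 (v : V4) :
    (pw v : Matrix (Fin 4) (Fin 4) F) * mX2 = (sg v.2.2.2 : F) • (mX2 * pw v) := by
  have h := pw_comm (F := F) v ((0, 0, 1, 0) : V4)
  rw [pw_e0010] at h
  simpa [bil] using h

theorem comm_of_signs (M N X : Matrix (Fin 4) (Fin 4) F) (e : ZMod 2)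
    (h1 : M * X = (sg e : F) • (X * M)) (h2 : N * X = (sg e : F) • (X * N)) :
    (M * N) * X = X * (M * N) := by
  rw [Matrix.mul_assoc, h2, Matrix.mul_smul, ← Matrix.mul_assoc, h1, Matrix.smul_mul, smul_smul,
    sg_mul_self, one_smul, Matrix.mul_assoc]

/-- a matrix that (anti)commutes with each of the four generators is a scalar multiple of a Pauli
word -/
theorem eq_smul_pw_of_signs (h2 : (2 : F) ≠ 0) (M : Matrix (Fin 4) (Fin 4) F) (ea eb ec ed : ZMod 2)
    (hZ1 : M * mZ1 = (sg ea : F) • (mZ1 * M)) (hX1 : M * mX1 = (sg eb : F) • (mX1 * M))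
    (hZ2 : M * mZ2 = (sg ec : F) • (mZ2 * M)) (hX2 : M * mX2 = (sg ed : F) • (mX2 * M)) :
    ∃ (z : F) (v : V4), M = z • pw v := by
  let v : V4 := (ea, eb, ec, ed)
  obtain ⟨z, hz⟩ := scalar_of_commute_gens h2 (M * pw v)
    (comm_of_signs M (pw v) mZ1 ea hZ1 (pw_mul_mZ1 v))
    (comm_of_signs M (pw v) mX1 eb hX1 (pw_mul_mX1 v))
    (comm_of_signs M (pw v) mZ2 ec hZ2 (pw_mul_mZ2 v))
    (comm_of_signs M (pw v) mX2 ed hX2 (pw_mul_mX2 v))
  refine ⟨z * sg (eps v v), v, ?_⟩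
  calc M = M * (pw v * ((sg (eps v v) : F) • pw v)) := by rw [pw_mul_inv, Matrix.mul_one]
    _ = (M * pw v) * ((sg (eps v v) : F) • pw v) := by rw [Matrix.mul_assoc]
    _ = (z * sg (eps v v)) • pw v := by
      rw [hz, Matrix.smul_mul, Matrix.one_mul, smul_smul]

/-- (T1f) -/
theorem R_eq_conj (h2 : (2 : F) ≠ 0) {i : F} (hi : i ^ 2 = -1) (R : Subgroup (GL (Fin 4) F))
    (hR : IsPauliLike i R) (P : GL (Fin 4) F) (a b c d : GL (Fin 4) F)
    (ha : a ∈ R) (hb : b ∈ R) (hc : c ∈ R) (hd : d ∈ R)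
    (hPa : (a : Matrix (Fin 4) (Fin 4) F) * (P : Matrix (Fin 4) (Fin 4) F) = (P : Matrix (Fin 4) (Fin 4) F) * mZ1)
    (hPb : (b : Matrix (Fin 4) (Fin 4) F) * (P : Matrix (Fin 4) (Fin 4) F) = (P : Matrix (Fin 4) (Fin 4) F) * mX1)
    (hPc : (c : Matrix (Fin 4) (Fin 4) F) * (P : Matrix (Fin 4) (Fin 4) F) = (P : Matrix (Fin 4) (Fin 4) F) * mZ2)
    (hPd : (d : Matrix (Fin 4) (Fin 4) F) * (P : Matrix (Fin 4) (Fin 4) F) = (P : Matrix (Fin 4) (Fin 4) F) * mX2) :
    R = (R0 i hi).map (MulAut.conj P).toMonoidHom := by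
  ext g
  rw [Subgroup.mem_map]
  constructor
  · intro hg
    obtain ⟨ea, hea⟩ := conj_comm_sign P g a mZ1 hPa (hR.comm g hg a ha)
    obtain ⟨eb, heb⟩ := conj_comm_sign P g b mX1 hPb (hR.comm g hg b hb)
    obtain ⟨ec, hec⟩ := conj_comm_sign P g c mZ2 hPc (hR.comm g hg c hc)
    obtain ⟨ed, hed⟩ := conj_comm_sign P g d mX2 hPd (hR.comm g hg d hd)
    obtain ⟨z, v, hzv⟩ := eq_smul_pw_of_signs h2 _ ea eb ec ed hea heb hec hed
    -- the square
    have hsq : ((P⁻¹ * g * P : GL (Fin 4) F) : Matrix (Fin 4) (Fin 4) F) *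
        ((P⁻¹ * g * P : GL (Fin 4) F) : Matrix (Fin 4) (Fin 4) F) =
        ((P⁻¹ : GL (Fin 4) F) : Matrix (Fin 4) (Fin 4) F) *
          ((g : Matrix (Fin 4) (Fin 4) F) * g) * (P : Matrix (Fin 4) (Fin 4) F) := by
      rw [← Units.val_mul, ← Units.val_mul, ← Units.val_mul, ← Units.val_mul]
      congr 1
      group
    have hPP : ((P⁻¹ : GL (Fin 4) F) : Matrix (Fin 4) (Fin 4) F) *
        (P : Matrix (Fin 4) (Fin 4) F) = 1 := by
      rw [← Units.val_mul, inv_mul_cancel, Units.val_one]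
    have hsq' : (z ^ 2 * sg (eps v v)) • (1 : Matrix (Fin 4) (Fin 4) F) = 1 ∨
        (z ^ 2 * sg (eps v v)) • (1 : Matrix (Fin 4) (Fin 4) F) = -1 := by
      have e : ((P⁻¹ * g * P : GL (Fin 4) F) : Matrix (Fin 4) (Fin 4) F) *
          ((P⁻¹ * g * P : GL (Fin 4) F) : Matrix (Fin 4) (Fin 4) F) =
          (z ^ 2 * sg (eps v v)) • (1 : Matrix (Fin 4) (Fin 4) F) := by
        rw [hzv, Matrix.smul_mul, Matrix.mul_smul, pw_mul_self, smul_smul, smul_smul]
        congr 1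
        ring
      rw [← e, hsq]
      rcases hR.sq g hg with h | h
      · left; rw [h, Matrix.mul_one, hPP]
      · right; rw [h, Matrix.mul_neg, Matrix.mul_one, Matrix.neg_mul, hPP]
    have hz4 : z ^ 4 = 1 := by
      have hs := sg_mul_self (F := F) (eps v v)
      have h00 : z ^ 2 * sg (eps v v) = 1 ∨ z ^ 2 * sg (eps v v) = -1 := by
        rcases hsq' with h | h
        · left
          have := congrFun (congrFun h 0) 0
          simpa using this
        · right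
          have := congrFun (congrFun h 0) 0
          simpa using this
      have e : z ^ 4 = (z ^ 2 * sg (eps v v)) ^ 2 * (sg (eps v v) * sg (eps v v)) -
          z ^ 4 * ((sg (eps v v) * sg (eps v v)) ^ 2 - 1) := by ring
      rcases h00 with h | h
      · rw [e, h, hs]; ring
      · rw [e, h, hs]; ring
    obtain ⟨k, hk⟩ := exists_pow_of_pow_four hi hz4
    refine ⟨P⁻¹ * g * P, ⟨k, v, by rw [hzv, hk]⟩, ?_⟩
    simp only [MulEquiv.coe_toMonoidHom, MulAut.conj_apply]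
    group
  · rintro ⟨m, ⟨k, v, hmv⟩, rfl⟩
    obtain ⟨gi, hgi, hgiv⟩ := hR.i_mem
    obtain ⟨GZ1, hGZ1, hcZ1⟩ := exists_conj_val P a mZ1 hPa
    obtain ⟨GX1, hGX1, hcX1⟩ := exists_conj_val P b mX1 hPb
    obtain ⟨GZ2, hGZ2, hcZ2⟩ := exists_conj_val P c mZ2 hPc
    obtain ⟨GX2, hGX2, hcX2⟩ := exists_conj_val P d mX2 hPd
    obtain ⟨GI, hGI, hcI⟩ := exists_conj_val P gi (i • 1) (by
      rw [hgiv, Matrix.smul_mul, Matrix.one_mul, Matrix.mul_smul, Matrix.mul_one])
    have hm : m = GI ^ k * GX1 ^ v.1.val * GZ1 ^ v.2.1.val * GX2 ^ v.2.2.1.val *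
        GZ2 ^ v.2.2.2.val := by
      apply Units.ext
      simp only [Units.val_mul, Units.val_pow_eq_pow_val, hGI, hGX1, hGZ1, hGX2, hGZ2]
      rw [hmv, _root_.smul_pow, one_pow]
      simp only [pw, Matrix.smul_mul, Matrix.one_mul]
    rw [hm]
    simp only [map_mul, map_pow, hcI, hcX1, hcZ1, hcX2, hcZ2]
    exact mul_mem (mul_mem (mul_mem (mul_mem (pow_mem hgi _) (pow_mem hb _)) (pow_mem ha _))
      (pow_mem hd _)) (pow_mem hc _)

end Cfsg.Agent.Helper66.P4
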