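import Mathlib
import Cfsg.Prelude.Def_CaseTheorems
import Cfsg.Agent.Helper54.SCG.Defs

set_option autoImplicit false

/-!
# S3921 (helper54's SCG farm), leaf (RA) (helper66)

Commuting in `PSL2(F)` means commuting up to sign in `SL2(F)`: the centre of `SL2(F)` is `{±1}`.
-/

namespace Cfsg.Agent.Helper66.SCG

open Matrix Cfsg.Agent.Helper54.SCG

/-- (RA) commuting in PSL2 means commuting up to sign in SL2 (the centre is {±1}:
`Matrix.SpecialLinearGroup.mem_center_iff`). -/
theorem RA_conj_eq_or_neg {F : Type*} [Field F] (g h : Matrix.SpecialLinearGroup (Fin 2) F)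
    (hc : (QuotientGroup.mk h : Matrix.ProjectiveSpecialLinearGroup (Fin 2) F) * QuotientGroup.mk g =
      QuotientGroup.mk g * QuotientGroup.mk h) :
    h * g * h⁻¹ = g ∨
      ((h * g * h⁻¹ : Matrix.SpecialLinearGroup (Fin 2) F) : Matrix (Fin 2) (Fin 2) F) =
        - (g : Matrix (Fin 2) (Fin 2) F) := by
  -- the commutator is central
  have hz : h * g * h⁻¹ * g⁻¹ ∈ Subgroup.center (Matrix.SpecialLinearGroup (Fin 2) F) := by
    rw [← QuotientGroup.eq_one_iff]
    have h1 : ((h * g * h⁻¹ * g⁻¹ : Matrix.SpecialLinearGroup (Fin 2) F) :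
        Matrix.SpecialLinearGroup (Fin 2) F ⧸ Subgroup.center (Matrix.SpecialLinearGroup (Fin 2) F)) =
        ((QuotientGroup.mk h : Matrix.ProjectiveSpecialLinearGroup (Fin 2) F) * QuotientGroup.mk g) *
          (QuotientGroup.mk h)⁻¹ * (QuotientGroup.mk g)⁻¹ := rfl
    rw [h1, hc]
    group
  rw [Matrix.SpecialLinearGroup.mem_center_iff] at hz
  obtain ⟨r, hr, hrz⟩ := hz
  rw [Fintype.card_fin] at hr
  have hmul : h * g * h⁻¹ = (h * g * h⁻¹ * g⁻¹) * g := by group
  have hmat : ((h * g * h⁻¹ : Matrix.SpecialLinearGroup (Fin 2) F) : Matrix (Fin 2) (Fin 2) F) =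
      r • (g : Matrix (Fin 2) (Fin 2) F) := by
    rw [hmul, Matrix.SpecialLinearGroup.coe_mul, ← hrz]
    ext i j
    simp [Matrix.scalar_apply, Matrix.mul_apply, Matrix.diagonal_apply]
  have hr' : r = 1 ∨ r = -1 := by
    have h2 : (r - 1) * (r + 1) = 0 := by ring_nf; rw [hr]; ring
    rcases mul_eq_zero.mp h2 with h3 | h3
    · left; exact sub_eq_zero.mp h3
    · right; exact eq_neg_of_add_eq_zero_left h3
  rcases hr' with rfl | rfl
  · left
    apply Subtype.ext
    rw [hmat, one_smul]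
  · right
    rw [hmat, neg_smul, one_smul]

end Cfsg.Agent.Helper66.SCG
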