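import Mathlib
import Cfsg.Prelude.Def_CaseTheorems
import Cfsg.Agent.Helper54.SCG.Defs

set_option autoImplicit false

/-!
# S3921 (helper54's SCG farm), leaf (RB) (helper66)

If `h g h⁻¹ = -g` in `SL2(F)`, `2 ≠ 0`, then `tr g = 0` (the trace is a class function).
-/

namespace Cfsg.Agent.Helper66.SCG

open Matrix Cfsg.Agent.Helper54.SCG

/-- (RB) -/
theorem RB_trace_eq_zero {F : Type*} [Field F] (h2 : (2 : F) ≠ 0)
    (g h : Matrix.SpecialLinearGroup (Fin 2) F)
    (hc : ((h * g * h⁻¹ : Matrix.SpecialLinearGroup (Fin 2) F) : Matrix (Fin 2) (Fin 2) F) =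
        - (g : Matrix (Fin 2) (Fin 2) F)) :
    Matrix.trace (g : Matrix (Fin 2) (Fin 2) F) = 0 := by
  have h1 : Matrix.trace ((h * g * h⁻¹ : Matrix.SpecialLinearGroup (Fin 2) F) :
      Matrix (Fin 2) (Fin 2) F) = Matrix.trace (g : Matrix (Fin 2) (Fin 2) F) := by
    rw [Matrix.SpecialLinearGroup.coe_mul, Matrix.trace_mul_comm, ← Matrix.SpecialLinearGroup.coe_mul]
    rw [inv_mul_cancel_left]
  rw [hc, Matrix.trace_neg] at h1
  have h3 : (2 : F) * Matrix.trace (g : Matrix (Fin 2) (Fin 2) F) = 0 := by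
    have : Matrix.trace (g : Matrix (Fin 2) (Fin 2) F) + Matrix.trace (g : Matrix (Fin 2) (Fin 2) F) = 0 := by
      nth_rewrite 1 [← h1]
      exact neg_add_cancel _
    rw [two_mul]
    exact this
  exact (mul_eq_zero.mp h3).resolve_left h2

end Cfsg.Agent.Helper66.SCG
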