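import Cfsg.Agent.Helper66.A7Code

/-!
# Explicit elements of `3.A₇`, the kernel of the projection to `A₇`, and surjectivity
-/

set_option autoImplicit false

namespace Cfsg.Agent.Helper66.TripleA7

open Cfsg.Agent.Helper27 GF4 Subgroup
open scoped commutatorElement

def uw : U := Units.mk0 GF4.w (by decide)
def uw2 : U := Units.mk0 GF4.w2 (by decide)

def σ₁ : Equiv.Perm (Fin 7) := Equiv.swap 0 1 * Equiv.swap 0 2
def σ₂ : Equiv.Perm (Fin 7) := Equiv.swap 3 4 * Equiv.swap 3 5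
def σ₃ : Equiv.Perm (Fin 7) :=
  Equiv.swap 0 1 * Equiv.swap 1 2 * Equiv.swap 2 3 * Equiv.swap 3 4 * Equiv.swap 4 5 * Equiv.swap 5 6

def c₁ : D := ![1, 1, uw, 1, 1, 1, 1, uw2, uw2, 1, 1, 1, uw, 1, 1, 1, uw2, uw, uw, uw2, 1]
def c₂ : D := ![1, uw, uw, uw2, 1, uw2, uw2, uw2, uw, 1, uw, uw, uw, uw, 1, 1, 1, uw2, 1, uw2, uw2]
def c₃ : D := ![1, uw2, 1, 1, uw2, 1, 1, uw2, 1, 1, 1, uw, uw, 1, uw, 1, uw2, uw2, uw2, 1, 1]

theorem σ₁_mem : σ₁ ∈ alternatingGroup (Fin 7) := by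
  rw [Equiv.Perm.mem_alternatingGroup]
  unfold σ₁
  rw [Equiv.Perm.sign_mul, Equiv.Perm.sign_swap (by decide), Equiv.Perm.sign_swap (by decide)]
  rfl

theorem σ₂_mem : σ₂ ∈ alternatingGroup (Fin 7) := by
  rw [Equiv.Perm.mem_alternatingGroup]
  unfold σ₂
  rw [Equiv.Perm.sign_mul, Equiv.Perm.sign_swap (by decide), Equiv.Perm.sign_swap (by decide)]
  rfl

theorem σ₃_mem : σ₃ ∈ alternatingGroup (Fin 7) := by
  rw [Equiv.Perm.mem_alternatingGroup]
  unfold σ₃
  simp only [Equiv.Perm.sign_mul]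
  rw [Equiv.Perm.sign_swap (by decide), Equiv.Perm.sign_swap (by decide),
    Equiv.Perm.sign_swap (by decide), Equiv.Perm.sign_swap (by decide),
    Equiv.Perm.sign_swap (by decide), Equiv.Perm.sign_swap (by decide)]
  rfl

def X0 : Mon := ⟨c₁, σ₁⟩
def Y0 : Mon := ⟨c₂, σ₂⟩
def W0 : Mon := ⟨c₃, σ₃⟩

theorem X0_mem : X0 ∈ T := by
  rw [mem_T, pres_iff_chk]
  refine ⟨σ₁_mem, ?_⟩
  decide +kernel

theorem Y0_mem : Y0 ∈ T := by
  rw [mem_T, pres_iff_chk]
  refine ⟨σ₂_mem, ?_⟩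
  decide +kernel

theorem W0_mem : W0 ∈ T := by
  rw [mem_T, pres_iff_chk]
  refine ⟨σ₃_mem, ?_⟩
  decide +kernel

def X : T := ⟨X0, X0_mem⟩
def Y : T := ⟨Y0, Y0_mem⟩
def W : T := ⟨W0, W0_mem⟩

/-- the scalar `w²` -/
def Z0 : Mon := ⟨fun _ => uw2, 1⟩

theorem comm_XY0 : ⁅X0, Y0⁆ = Z0 := by
  apply SemidirectProduct.ext
  · funext i
    revert i
    decide +kernel
  · decide +kernel

theorem comm_XY : (⁅X, Y⁆ : T).1 = Z0 := by
  show ⁅X0, Y0⁆ = Z0
  exact comm_XY0

/-! ### the kernel consists of scalars -/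

/-- the information positions -/
def piv : Fin 6 → Fin 21 := ![0, 1, 2, 6, 7, 11]

theorem proj_eq_sum (y : Fin 21 → GF4) (i : Fin 21) :
    proj y i = ∑ l : Fin 6, y (piv l) * gen l i := by
  rw [Fin.sum_univ_six]
  rfl

theorem gen_piv : ∀ k l : Fin 6, gen k (piv l) = if k = l then 1 else 0 := by decide +kernel

theorem gen_last_ne : ∀ k : Fin 6, gen k 18 ≠ 0 := by decide +kernel

theorem exists_gen_ne : ∀ i : Fin 21, ∃ k : Fin 6, gen k i ≠ 0 := by decide +kernel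

theorem diag_const (c : Fin 21 → GF4) (h : Chk c id) : ∀ i, c i = c 18 := by
  have key : ∀ (k : Fin 6) (i : Fin 21), c i * gen k i = c (piv k) * gen k i := by
    intro k i
    have h1 : act c id (gen k) i = proj (act c id (gen k)) i := h k i
    rw [proj_eq_sum] at h1
    have h2 : ∀ l : Fin 6, act c id (gen k) (piv l) * gen l i =
        if k = l then c (piv k) * gen k i else 0 := by
      intro l
      show c (piv l) * gen k (piv l) * gen l i = _
      rw [gen_piv]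
      split_ifs with hkl
      · subst hkl
        rw [mul_one]
      · rw [mul_zero, zero_mul]
    rw [Finset.sum_congr rfl (fun l _ => h2 l), Finset.sum_ite_eq Finset.univ k,
      if_pos (Finset.mem_univ k)] at h1
    exact h1
  have h3 : ∀ k : Fin 6, c 18 = c (piv k) := fun k =>
    mul_right_cancel₀ (gen_last_ne k) (key k 18)
  intro i
  obtain ⟨k, hk⟩ := exists_gen_ne i
  rw [h3 k]
  exact mul_right_cancel₀ hk (key k i)

theorem left_const_of_right_eq_one {m : Mon} (hm : m ∈ T) (h1 : m.right = 1) :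
    ∀ i j, m.left i = m.left j := by
  have h2 := (pres_iff_chk m).1 hm.2
  have h3 : pairFun m.right⁻¹ = id := by
    funext i
    rw [h1, inv_one, pairFun_one]
    rfl
  rw [h3] at h2
  have h4 := diag_const _ h2
  intro i j
  apply Units.ext
  rw [h4 i, h4 j]

theorem mem_ker_τ_iff (m : T) : m ∈ τ.ker ↔ m.1.right = 1 := by
  rw [MonoidHom.mem_ker, Subtype.ext_iff]
  rfl

theorem ker_τ_le_center : τ.ker ≤ Subgroup.center T := by
  intro m hm
  rw [Subgroup.mem_center_iff]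
  intro q
  have h1 : m.1.right = 1 := (mem_ker_τ_iff m).1 hm
  have hc := left_const_of_right_eq_one m.2 h1
  apply Subtype.ext
  apply SemidirectProduct.ext
  · show (q.1 * m.1).left = (m.1 * q.1).left
    rw [SemidirectProduct.mul_left, SemidirectProduct.mul_left, h1, map_one]
    funext i
    show q.1.left i * m.1.left (pairFun q.1.right⁻¹ i) = m.1.left i * q.1.left i
    rw [hc (pairFun q.1.right⁻¹ i) i, mul_comm]
  · show (q.1 * m.1).right = (m.1 * q.1).right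
    rw [SemidirectProduct.mul_right, SemidirectProduct.mul_right, h1, mul_one, one_mul]

/-! ### the central element of order 3 -/

theorem comm_mem_ker : ⁅X, Y⁆ ∈ τ.ker := by
  rw [mem_ker_τ_iff, comm_XY]
  rfl

theorem comm_mem_commutator : ⁅X, Y⁆ ∈ commutator T :=
  Subgroup.commutator_mem_commutator (Subgroup.mem_top X) (Subgroup.mem_top Y)

theorem comm_pow : ⁅X, Y⁆ ^ 3 = 1 := by
  apply Subtype.ext
  rw [Subgroup.coe_pow, comm_XY]
  decide +kernel

theorem comm_ne : ⁅X, Y⁆ ≠ 1 := by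
  intro h
  have h2 : (⁅X, Y⁆ : T).1.left 0 = ((1 : T) : Mon).left 0 := by rw [h]
  rw [comm_XY] at h2
  revert h2
  decide +kernel

theorem orderOf_comm : orderOf ⁅X, Y⁆ = 3 := by
  have : Fact (Nat.Prime 3) := ⟨Nat.prime_three⟩
  exact orderOf_eq_prime comm_pow comm_ne

/-! ### surjectivity -/

theorem σ₃_trans : ∀ x y : Fin 7, ∃ k : Fin 7, (σ₃ ^ (k : ℕ)) x = y := by decide +kernel

theorem τ_surjective : Function.Surjective τ := by
  let R : Subgroup (Equiv.Perm (Fin 7)) := τ.range.map (alternatingGroup (Fin 7)).subtype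
  have h1 : σ₁ ∈ R := ⟨τ X, ⟨X, rfl⟩, rfl⟩
  have h3 : σ₃ ∈ R := ⟨τ W, ⟨W, rfl⟩, rfl⟩
  have hcyc : σ₁.IsThreeCycle :=
    Equiv.Perm.isThreeCycle_swap_mul_swap_same (by decide) (by decide) (by decide)
  have : MulAction.IsPretransitive R (Fin 7) := by
    constructor
    intro x y
    obtain ⟨k, hk⟩ := σ₃_trans x y
    exact ⟨⟨σ₃ ^ (k : ℕ), pow_mem h3 _⟩, hk⟩
  have hprim : MulAction.IsPreprimitive R (Fin 7) := by
    apply MulAction.IsPreprimitive.of_prime_card
    rw [Nat.card_eq_fintype_card, Fintype.card_fin]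
    norm_num
  have hle := Equiv.Perm.alternatingGroup_le_of_isPreprimitive_of_isThreeCycle_mem hprim hcyc h1
  intro a
  obtain ⟨b, ⟨m, rfl⟩, hb⟩ := hle a.2
  exact ⟨m, Subtype.ext hb⟩

end Cfsg.Agent.Helper66.TripleA7
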