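import Mathlib
import Cfsg.Agent.Helper76.CharCentral
import Cfsg.Agent.Helper74.ThompsonDeg

/-!
# Schur: the square of the exponent of a central subgroup inside the commutator subgroup
divides its index

`exponent_sq_dvd_index`: for a finite group `G` and `Z ≤ Z(G) ∩ G'`, `exp(Z)^2 ∣ |G : Z|`.
Proof by characters: for a linear character `φ` of `Z` of order `exp Z`, the irreducible characters
`χ` of `G` lying over `φ` satisfy `∑ χ(1)^2 = |G : Z|` (regular character + orthogonality on `Z`),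
and `exp Z ∣ χ(1)` (determinant argument, as `Z ≤ G'`).
-/

set_option autoImplicit false
set_option linter.style.haveILetI false

namespace Cfsg.Agent.Helper66

open Cfsg

universe u

section
variable {G : Type u} [Group G]

/-- Determinant argument: if `z ∈ G'` acts as the scalar `c` in an `n`-dimensional representation,
then `c ^ n = 1`. -/
theorem scalar_pow_eq_one_of_mem_commutator {n : ℕ} (ρ : Representation ℂ G (Fin n → ℂ)) (z : G)
    (hz : z ∈ commutator G) (c : ℂ) (hc : ρ z = c • (1 : Module.End ℂ (Fin n → ℂ))) :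
    c ^ n = 1 := by
  let f : G →* ℂ := (LinearMap.det : Module.End ℂ (Fin n → ℂ) →* ℂ).comp ρ
  have h1 : f z = 1 := by
    have h : f.toHomUnits z = 1 := Abelianization.commutator_subset_ker f.toHomUnits hz
    have h' := congrArg Units.val h
    simpa using h'
  have h2 : f z = c ^ n := by
    show LinearMap.det (ρ z) = c ^ n
    rw [hc, LinearMap.det_smul]
    simp
  rw [← h2, h1]

/-- The central character of an irreducible character, as a monoid hom on the centre. -/
noncomputable def centralCharHom (χ : IrrCharacter G) : Subgroup.center G →* ℂ where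
  toFun z := (χ : G → ℂ) z / (χ : G → ℂ) 1
  map_one' := by
    obtain ⟨n, hn, h1⟩ := Helper76.irr_exists_degree χ.2
    have : (χ : G → ℂ) 1 ≠ 0 := by rw [h1]; exact_mod_cast hn.ne'
    simp [div_self this]
  map_mul' := by
    intro a b
    obtain ⟨n, hn, h1⟩ := Helper76.irr_exists_degree χ.2
    have hne : (χ : G → ℂ) 1 ≠ 0 := by rw [h1]; exact_mod_cast hn.ne'
    obtain ⟨c, hc⟩ := Helper76.irr_exists_central_scalar χ.2 (a : G) a.2
    have ha : (χ : G → ℂ) a = c * (χ : G → ℂ) 1 := by simpa using hc 1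
    have hab : (χ : G → ℂ) (a * b : G) = c * (χ : G → ℂ) b := hc b
    show (χ : G → ℂ) ((a * b : Subgroup.center G) : G) / _ = _
    rw [Subgroup.coe_mul, hab, ha]
    field_simp

theorem centralCharHom_apply (χ : IrrCharacter G) (z : Subgroup.center G) :
    centralCharHom χ z = (χ : G → ℂ) z / (χ : G → ℂ) 1 := rfl

end

section main
variable {G : Type u} [Group G] [Finite G]

theorem exponent_sq_dvd_index (Z : Subgroup G) (hZc : Z ≤ Subgroup.center G)
    (hZd : Z ≤ commutator G) : Monoid.exponent Z ^ 2 ∣ Z.index := by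
  classical
  haveI : Fintype G := Fintype.ofFinite G
  haveI : Fintype (IrrCharacter G) := Helper74.irrFintype G
  letI : CommGroup Z :=
    { (inferInstance : Group Z) with
      mul_comm := fun a b => Subtype.ext (by
        have h := hZc a.2
        rw [Subgroup.mem_center_iff] at h
        exact (h b).symm) }
  have hexpne : Monoid.exponent Z ≠ 0 := Monoid.exponent_ne_zero_of_finite
  haveI : NeZero ((Monoid.exponent Z : ℕ) : ℂ) := ⟨by exact_mod_cast hexpne⟩
  obtain ⟨E⟩ := CommGroup.monoidHom_mulEquiv_of_hasEnoughRootsOfUnity Z ℂ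
  have hexp : Monoid.exponent (Z →* ℂˣ) = Monoid.exponent Z := Monoid.exponent_eq_of_mulEquiv E
  haveI : Finite (Z →* ℂˣ) := Finite.of_equiv Z E.symm.toEquiv
  obtain ⟨φ, hφ⟩ : ∃ φ : Z →* ℂˣ, orderOf φ = Monoid.exponent Z := by
    rw [← hexp]
    have hEE : Monoid.ExponentExists (Z →* ℂˣ) :=
      ⟨Nat.card (Z →* ℂˣ), Nat.card_pos, fun g => pow_card_eq_one'⟩
    exact Monoid.exists_orderOf_eq_exponent hEE
  -- degrees
  have hdeg : ∀ χ : IrrCharacter G, (χ : G → ℂ) 1 = (charDegree (χ : G → ℂ) : ℂ) := fun χ =>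
    (Helper74.charDegree_cast (Helper74.irr_isCharacter χ)).symm
  -- the twisted hom
  let ψ : IrrCharacter G → (Z →* ℂ) := fun χ =>
    ((Units.coeHom ℂ).comp (φ⁻¹)) * ((centralCharHom χ).comp (Subgroup.inclusion hZc))
  have hψ : ∀ (χ : IrrCharacter G) (z : Z),
      ψ χ z = ((φ z)⁻¹ : ℂˣ) * ((χ : G → ℂ) z / (χ : G → ℂ) 1) := by
    intro χ z
    simp [ψ, centralCharHom_apply]
  -- the key identity
  have hkey : ∑ χ : IrrCharacter G, (χ : G → ℂ) 1 ^ 2 * ∑ z : Z, ψ χ z = (Nat.card G : ℂ) := by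
    have h1 : ∑ z : Z, (((φ z)⁻¹ : ℂˣ) : ℂ) *
        (∑ χ : IrrCharacter G, (χ : G → ℂ) 1 * (χ : G → ℂ) z) = (Nat.card G : ℂ) := by
      rw [Finset.sum_eq_single (1 : Z)]
      · rw [Subgroup.coe_one, Helper74.sum_irr_degree_mul_apply, if_pos rfl]
        simp
      · intro z _ hz
        have : (z : G) ≠ 1 := fun h => hz (Subtype.ext h)
        rw [Helper74.sum_irr_degree_mul_apply, if_neg this, mul_zero]
      · intro h; exact absurd (Finset.mem_univ _) h
    rw [← h1]
    simp only [Finset.mul_sum]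
    rw [Finset.sum_comm]
    refine Finset.sum_congr rfl (fun z _ => Finset.sum_congr rfl (fun χ _ => ?_))
    rw [hψ]
    obtain ⟨n, hn, h1'⟩ := Helper76.irr_exists_degree χ.2
    have hne : (χ : G → ℂ) 1 ≠ 0 := by rw [h1']; exact_mod_cast hn.ne'
    field_simp
  -- evaluate the inner sums
  have hinner : ∀ χ : IrrCharacter G, ∑ z : Z, ψ χ z = if ψ χ = 1 then (Nat.card Z : ℂ) else 0 := by
    intro χ
    rw [sum_hom_units]
    split_ifs
    · rw [Nat.card_eq_fintype_card]
    · simp
  -- the set of characters over φ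
  set S : Finset (IrrCharacter G) := Finset.univ.filter (fun χ => ψ χ = 1) with hS
  have hsum : (∑ χ ∈ S, charDegree (χ : G → ℂ) ^ 2) * Nat.card Z = Nat.card G := by
    have : (((∑ χ ∈ S, charDegree (χ : G → ℂ) ^ 2) * Nat.card Z : ℕ) : ℂ) = (Nat.card G : ℂ) := by
      rw [← hkey]
      push_cast
      rw [Finset.sum_mul, hS, Finset.sum_filter]
      refine Finset.sum_congr rfl (fun χ _ => ?_)
      rw [hinner χ, hdeg χ]
      split_ifs <;> simp
    exact_mod_cast this
  have hidx : Z.index = ∑ χ ∈ S, charDegree (χ : G → ℂ) ^ 2 := by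
    have h1 := Z.card_mul_index
    have hZpos : 0 < Nat.card Z := Nat.card_pos
    have : Nat.card Z * Z.index = Nat.card Z * ∑ χ ∈ S, charDegree (χ : G → ℂ) ^ 2 := by
      rw [h1, ← hsum, mul_comm]
    exact Nat.eq_of_mul_eq_mul_left hZpos this
  rw [hidx]
  refine Finset.dvd_sum (fun χ hχ => ?_)
  apply pow_dvd_pow_of_dvd
  -- `exp Z ∣ χ(1)` for χ over φ
  have hχ1 : ψ χ = 1 := (Finset.mem_filter.mp hχ).2
  rw [← hφ]
  apply orderOf_dvd_of_pow_eq_one
  ext z
  -- unpack
  have hd := hdeg χ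
  obtain ⟨χf, n, ρ, hirr, rfl⟩ := χ
  haveI := hirr
  obtain ⟨c, hc⟩ := Helper76.exists_scalar_of_mem_center ρ (z : G) (hZc z.2)
  have hcn : c ^ n = 1 := scalar_pow_eq_one_of_mem_commutator ρ z (hZd z.2) c hc
  have hχz : ρ.character (z : G) = c * ρ.character 1 := by
    have := Helper76.character_central_mul ρ (z : G) c hc 1
    simpa using this
  have h1n : ρ.character 1 = (n : ℂ) := by simp [Representation.char_one]
  have hn0 : (n : ℂ) ≠ 0 := by
    obtain ⟨m, hm, h1'⟩ := Helper76.irr_exists_degree (⟨n, ρ, hirr, rfl⟩ : IsIrrCharacter G ρ.character)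
    rw [h1n] at h1'
    rw [h1']; exact_mod_cast hm.ne'
  have hz1 := congrArg (fun f : Z →* ℂ => f z) hχ1
  simp only [MonoidHom.one_apply] at hz1
  rw [hψ] at hz1
  simp only at hz1
  rw [hχz, h1n, mul_div_assoc, div_self hn0, mul_one] at hz1
  -- so c = φ z
  have hcφ : c = ((φ z : ℂˣ) : ℂ) := by
    have h2 : ((φ z : ℂˣ) : ℂ) * (((φ z)⁻¹ : ℂˣ) : ℂ) = 1 := by
      rw [← Units.val_mul, mul_inv_cancel, Units.val_one]
    calc c = ((φ z : ℂˣ) : ℂ) * ((((φ z)⁻¹ : ℂˣ) : ℂ) * c) := by rw [← mul_assoc, h2, one_mul]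
      _ = ((φ z : ℂˣ) : ℂ) := by rw [hz1, mul_one]
  have hnd : n = charDegree ρ.character := by
    have : (n : ℂ) = (charDegree ρ.character : ℂ) := by rw [← h1n]; exact hd
    exact_mod_cast this
  rw [MonoidHom.pow_apply, MonoidHom.one_apply, ← hnd]
  rw [Units.val_pow_eq_pow_val, ← hcφ, hcn, Units.val_one]

end main

end Cfsg.Agent.Helper66
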