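import Mathlib
import Cfsg.Agent.Helper66.SchurMult2

set_option autoImplicit false

namespace Cfsg.Agent.Helper66

open scoped commutatorElement

universe u v w

section Duality

/-- A quotient of a finite abelian group embeds in it. -/
theorem exists_injective_of_surjective {B : Type u} {K : Type v} [CommGroup B] [Finite B]
    [instK : Group K] (hK : ∀ a b : K, a * b = b * a) (θ : B →* K) (hθ : Function.Surjective θ) :
    ∃ κ : K →* B, Function.Injective κ := by
  letI : CommGroup K := { instK with mul_comm := hK }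
  haveI : Finite K := Finite.of_surjective θ hθ
  haveI : NeZero (Monoid.exponent B) := ⟨Monoid.exponent_ne_zero_of_finite⟩
  haveI : NeZero (Monoid.exponent K) := ⟨Monoid.exponent_ne_zero_of_finite⟩
  obtain ⟨eB⟩ := CommGroup.monoidHom_mulEquiv_of_hasEnoughRootsOfUnity B ℂ
  obtain ⟨eK⟩ := CommGroup.monoidHom_mulEquiv_of_hasEnoughRootsOfUnity K ℂ
  let pre : (K →* ℂˣ) →* (B →* ℂˣ) := MonoidHom.compHom' θ
  have hpre : Function.Injective pre := by
    intro χ₁ χ₂ h
    apply MonoidHom.ext
    intro k
    obtain ⟨b, rfl⟩ := hθ k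
    have := congrArg (fun f : B →* ℂˣ => f b) h
    exact this
  exact ⟨eB.toMonoidHom.comp (pre.comp eK.symm.toMonoidHom),
    eB.injective.comp (hpre.comp eK.symm.injective)⟩

end Duality

section Transfer

variable {G : Type u} [Group G] [Finite G]

/-- **Transfer for multipliers**: `m`-th powers of the elements of the multiplier of `G`, `m` the
index of the subgroup `U`, form a group isomorphic to a subgroup of the multiplier of `U`. -/
theorem exists_pow_index_range_mulEquiv (U : Subgroup G) :
    ∃ C : Subgroup (schurT U),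
      Nonempty ((powMonoidHom U.index : schurT G →* schurT G).range ≃* C) := by
  classical
  let ρ := schurRho G
  let Ut : Subgroup (SchurH G) := U.comap ρ
  have hidx : Ut.index = U.index := Subgroup.index_comap_of_surjective U (schurRho_surjective G)
  haveI : Ut.FiniteIndex := ⟨by rw [hidx]; exact Subgroup.FiniteIndex.index_ne_zero⟩
  let ϕ : Ut →* Abelianization Ut := Abelianization.of
  let V : SchurH G →* Abelianization Ut := MonoidHom.transfer ϕ
  -- `m`-th powers of elements of the multiplier lie in the commutator subgroup of `Ut`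
  have hkerUt : (schurRho G).ker ≤ Ut := by
    intro x hx
    show schurRho G x ∈ U
    rw [MonoidHom.mem_ker.mp hx]
    exact U.one_mem
  have hpow : ∀ t : schurT G, (⟨(t : SchurH G) ^ U.index,
      hkerUt (Subgroup.pow_mem _ t.2.1 _)⟩ : Ut) ∈ commutator Ut := by
    intro t
    have hcen : (t : SchurH G) ∈ Subgroup.center (SchurH G) := schurT_le_center G t.2
    have key : ∀ (k : ℕ) (g₀ : SchurH G), g₀⁻¹ * (t : SchurH G) ^ k * g₀ ∈ Ut →
        g₀⁻¹ * (t : SchurH G) ^ k * g₀ = (t : SchurH G) ^ k := by
      intro k g₀ _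
      have := Subgroup.mem_center_iff.mp (Subgroup.pow_mem _ hcen k) g₀
      rw [mul_assoc, ← this, ← mul_assoc, inv_mul_cancel, one_mul]
    have h1 := MonoidHom.transfer_eq_pow ϕ (t : SchurH G) key
    have h2 : V (t : SchurH G) = 1 :=
      MonoidHom.mem_ker.mp (Abelianization.commutator_subset_ker V t.2.2)
    have h3 : ϕ ⟨(t : SchurH G) ^ Ut.index, MonoidHom.transfer_eq_pow_aux (t : SchurH G) key⟩ = 1 := by
      rw [← h1]; exact h2
    have h4 : (⟨(t : SchurH G) ^ Ut.index, MonoidHom.transfer_eq_pow_aux (t : SchurH G) key⟩ : Ut) ∈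
        commutator Ut := by
      rw [← Abelianization.ker_of]
      exact h3
    have h5 : (⟨(t : SchurH G) ^ U.index, hkerUt (Subgroup.pow_mem _ t.2.1 _)⟩ : Ut) =
        ⟨(t : SchurH G) ^ Ut.index, MonoidHom.transfer_eq_pow_aux (t : SchurH G) key⟩ := by
      apply Subtype.ext
      show (t : SchurH G) ^ U.index = (t : SchurH G) ^ Ut.index
      rw [hidx]
    rw [h5]
    exact h4
  -- the central extension `Ut → U`
  let ρU : Ut →* U := (schurRho G).subgroupComap U
  have hρUs : Function.Surjective ρU :=
    MonoidHom.subgroupComap_surjective_of_surjective _ _ (schurRho_surjective G)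
  have hρUk : ∀ x : Ut, x ∈ ρU.ker ↔ (x : SchurH G) ∈ (schurRho G).ker := by
    intro x
    rw [MonoidHom.mem_ker, MonoidHom.mem_ker]
    constructor
    · intro h
      have := congrArg Subtype.val h
      exact this
    · intro h
      apply Subtype.ext
      exact h
  have hρUc : ρU.ker ≤ Subgroup.center Ut := by
    intro x hx
    have hx' := ker_schurRho_le_center G ((hρUk x).mp hx)
    rw [Subgroup.mem_center_iff]
    intro y
    apply Subtype.ext
    exact Subgroup.mem_center_iff.mp hx' y
  obtain ⟨ψ, hψ, hmap⟩ := exists_schur_lift ρU hρUs hρUc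
  -- the subgroup `K`
  let K : Subgroup Ut := ρU.ker ⊓ commutator Ut
  have hKcomm : ∀ a b : K, a * b = b * a := by
    intro a b
    apply Subtype.ext
    have := Subgroup.mem_center_iff.mp (hρUc b.2.1) (a : Ut)
    exact this
  have hmemK : ∀ t : schurT U, ψ t ∈ K := fun t => by
    show ψ t ∈ ρU.ker ⊓ commutator Ut
    rw [← hmap]; exact ⟨t, t.2, rfl⟩
  let θ : schurT U →* K :=
    { toFun := fun t => ⟨ψ t, hmemK t⟩
      map_one' := by apply Subtype.ext; simp
      map_mul' := fun a b => by apply Subtype.ext; simp }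
  have hθs : Function.Surjective θ := by
    rintro ⟨y, hy⟩
    have hy' : y ∈ ρU.ker ⊓ commutator Ut := hy
    rw [← hmap] at hy'
    obtain ⟨t, ht, rfl⟩ := hy'
    exact ⟨⟨t, ht⟩, rfl⟩
  obtain ⟨κ, hκ⟩ := exists_injective_of_surjective hKcomm θ hθs
  -- the embedding of the powers into `K`
  have hιmem : ∀ x : (powMonoidHom U.index : schurT G →* schurT G).range,
      (⟨((x : schurT G) : SchurH G), hkerUt (x : schurT G).2.1⟩ : Ut) ∈ K := by
    rintro ⟨x, t, rfl⟩
    refine ⟨?_, ?_⟩
    · exact (hρUk _).mpr (powMonoidHom U.index t : schurT G).2.1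
    · exact hpow t
  let ι : (powMonoidHom U.index : schurT G →* schurT G).range →* K :=
    { toFun := fun x => ⟨⟨((x : schurT G) : SchurH G), hkerUt (x : schurT G).2.1⟩, hιmem x⟩
      map_one' := by apply Subtype.ext; apply Subtype.ext; rfl
      map_mul' := fun a b => by apply Subtype.ext; apply Subtype.ext; rfl }
  have hι : Function.Injective ι := by
    intro a b h
    apply Subtype.ext
    apply Subtype.ext
    have := congrArg (fun k : K => ((k : Ut) : SchurH G)) h
    exact this
  exact ⟨(κ.comp ι).range, ⟨MonoidHom.ofInjective (hκ.comp hι)⟩⟩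

end Transfer

end Cfsg.Agent.Helper66
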