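import Mathlib
import Cfsg.Agent.Helper66.SchurMult
import Cfsg.Agent.Helper66.SchurTransfer
import Cfsg.Agent.Helper66.ExpSq

/-!
# Tools for bounding Schur multipliers from above and below
-/

set_option autoImplicit false

namespace Cfsg.Agent.Helper66

universe u v w

/-- Composing with an isomorphism of the base group does not change the kernel. -/
theorem ker_mulEquiv_comp' {Γ : Type w} {G G' : Type u} [Group Γ] [Group G] [Group G']
    (σ : Γ →* G) (e : G ≃* G') : (e.toMonoidHom.comp σ).ker = σ.ker := by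
  ext x
  rw [MonoidHom.mem_ker, MonoidHom.mem_ker, MonoidHom.comp_apply]
  exact e.map_eq_one_iff

theorem isStemExtension_mulEquiv_comp' {Γ : Type w} {G G' : Type u} [Group Γ] [Group G] [Group G']
    (σ : Γ →* G) (hσ : Cfsg.IsStemExtension σ) (e : G ≃* G') :
    Cfsg.IsStemExtension (e.toMonoidHom.comp σ) := by
  refine ⟨e.surjective.comp hσ.1, ?_, ?_⟩
  · rw [ker_mulEquiv_comp']; exact hσ.2.1
  · rw [ker_mulEquiv_comp']; exact hσ.2.2

/-- The Schur multiplier is invariant under isomorphism of the group. -/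
theorem hasSchurMultiplier_congr {K U : Type u} [Group K] [Group U] (e : K ≃* U) {A : Type v}
    [CommGroup A] (h : Cfsg.HasSchurMultiplier K A) : Cfsg.HasSchurMultiplier U A := by
  obtain ⟨⟨Γ, hG, hF, σ, hσ, ⟨k⟩⟩, h2⟩ := h
  refine ⟨⟨Γ, hG, hF, e.toMonoidHom.comp σ, isStemExtension_mulEquiv_comp' σ hσ e,
    ⟨(MulEquiv.subgroupCongr (ker_mulEquiv_comp' σ e)).trans k⟩⟩, ?_⟩
  intro Γ' _ _ σ' hσ'
  obtain ⟨π, hπ⟩ := h2 Γ' (e.symm.toMonoidHom.comp σ')
    (isStemExtension_mulEquiv_comp' σ' hσ' e.symm)
  have hk : (e.symm.toMonoidHom.comp σ').ker = σ'.ker := ker_mulEquiv_comp' σ' e.symm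
  exact ⟨(MulEquiv.subgroupCongr hk).toMonoidHom.comp π,
    (MulEquiv.subgroupCongr hk).surjective.comp hπ⟩

/-- The order of the multiplier of a group isomorphic to `K`. -/
theorem card_schurT_of_mulEquiv {K U : Type u} [Group K] [Group U] [Finite U] (e : K ≃* U)
    {A : Type v} [CommGroup A] (h : Cfsg.HasSchurMultiplier K A) :
    Nat.card (schurT U) = Nat.card A := by
  obtain ⟨k⟩ := (hasSchurMultiplier_iff U A).mp (hasSchurMultiplier_congr e h)
  exact (Nat.card_congr k.toEquiv).symm

/-- **Lower bound**: the order of a central element of a central extension of `Q` which lies in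
the commutator subgroup and in the kernel divides the order of the multiplier. -/
theorem orderOf_dvd_card_schurT {Q : Type u} [Group Q] [Finite Q] {E : Type w} [Group E]
    (π : E →* Q) (hs : Function.Surjective π) (hc : π.ker ≤ Subgroup.center E) (z : E)
    (hzk : z ∈ π.ker) (hzc : z ∈ commutator E) : orderOf z ∣ Nat.card (schurT Q) := by
  obtain ⟨ψ, -, hmap⟩ := exists_schur_lift π hs hc
  have hz : z ∈ (schurT Q).map ψ := by
    rw [hmap]
    exact ⟨hzk, hzc⟩
  obtain ⟨t, ht, rfl⟩ := hz
  have h1 : orderOf (ψ t) ∣ orderOf t := orderOf_map_dvd ψ t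
  have h2 : orderOf t = orderOf (⟨t, ht⟩ : schurT Q) := (Subgroup.orderOf_mk t ht).symm
  rw [h2] at h1
  exact h1.trans (orderOf_dvd_natCard _)

/-- **Upper bound** by transfer: the group of `m`-th powers of the multiplier of `G`, `m` the
index of `U`, has order dividing the order of the multiplier of `U`. -/
theorem card_pow_index_range_dvd {G : Type u} [Group G] [Finite G] (U : Subgroup G) :
    Nat.card (powMonoidHom U.index : schurT G →* schurT G).range ∣ Nat.card (schurT U) := by
  obtain ⟨C, ⟨e⟩⟩ := exists_pow_index_range_mulEquiv U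
  rw [Nat.card_congr e.toEquiv]
  exact Subgroup.card_subgroup_dvd_card C

end Cfsg.Agent.Helper66
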