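import Mathlib

/-!
# A central extension of the alternating group inside the units of a Clifford algebra (S0891)

For a `ℚ`-algebra `A` with anticommuting square roots of one `e 0, …, e (n-1)`, the pairs
`(g, π)` of a unit `g` and a permutation `π` with `g * e m = sign π * e (π m) * g` form a group
mapping onto the symmetric group, with central kernel.  The even part is a central extension of the
alternating group in which `-1` is a commutator.
-/

set_option autoImplicit false
set_option linter.style.haveILetI false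

namespace Cfsg.Agent.Helper66

open Equiv
open scoped commutatorElement

universe u

section abstract

variable {A : Type u} [Ring A] [Algebra ℚ A] {n : ℕ}

/-- Anticommuting square roots of one generating (in the weak sense `central`) the algebra. -/
structure IsCliffGen (e : Fin n → A) : Prop where
  sq : ∀ i, e i * e i = 1
  anti : ∀ i j, i ≠ j → e i * e j = -(e j * e i)
  ne : (1 : A) ≠ -1
  central : ∀ g : A, (∀ m, g * e m = e m * g) → ∀ a : A, g * a = a * g

variable {e : Fin n → A}

theorem IsCliffGen.injective (he : IsCliffGen e) : Function.Injective e := by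
  intro i j hij
  by_contra hne
  have h1 := he.anti i j hne
  rw [← hij, he.sq] at h1
  exact he.ne h1

/-- The sign of a permutation as an element of `A`. -/
def sgnA (A : Type u) [Ring A] (π : Perm (Fin n)) : A := (((Perm.sign π : ℤˣ) : ℤ) : A)

theorem sgnA_mul (π σ : Perm (Fin n)) : sgnA A (π * σ) = sgnA A π * sgnA A σ := by
  unfold sgnA
  rw [Perm.sign_mul, Units.val_mul, Int.cast_mul]

theorem sgnA_comm (π : Perm (Fin n)) (a : A) : sgnA A π * a = a * sgnA A π :=
  Int.cast_comm _ _

theorem sgnA_mul_self (π : Perm (Fin n)) : sgnA A π * sgnA A π = 1 := by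
  unfold sgnA
  rw [← Int.cast_mul, ← Units.val_mul, Int.units_mul_self]
  simp

theorem sgnA_inv (π : Perm (Fin n)) : sgnA A π⁻¹ = sgnA A π := by
  unfold sgnA
  rw [Perm.sign_inv]

theorem sgnA_one : sgnA A (1 : Perm (Fin n)) = 1 := by
  unfold sgnA
  simp

theorem sgnA_of_mem_alternating {π : Perm (Fin n)} (h : π ∈ alternatingGroup (Fin n)) :
    sgnA A π = 1 := by
  unfold sgnA
  rw [Perm.mem_alternatingGroup.mp h]
  simp

theorem sgnA_swap {i j : Fin n} (h : i ≠ j) : sgnA A (swap i j) = -1 := by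
  unfold sgnA
  rw [Perm.sign_swap h]
  simp

/-- The "pin" group: pairs `(g, π)` with `g * e m = sign π * (e (π m) * g)`. -/
def pinSub (e : Fin n → A) : Subgroup (Aˣ × Perm (Fin n)) where
  carrier := {x | ∀ m, (x.1 : A) * e m = sgnA A x.2 * (e (x.2 m) * (x.1 : A))}
  one_mem' := by
    intro m
    simp [sgnA_one]
  mul_mem' := by
    intro x y hx hy m
    have hx' := hx (y.2 m)
    have hy' := hy m
    simp only [Prod.fst_mul, Prod.snd_mul, Units.val_mul, Perm.coe_mul, Function.comp_apply]
    rw [sgnA_mul]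
    calc (x.1 : A) * y.1 * e m = x.1 * ((y.1 : A) * e m) := mul_assoc _ _ _
      _ = x.1 * (sgnA A y.2 * (e (y.2 m) * (y.1 : A))) := by rw [hy']
      _ = sgnA A y.2 * (((x.1 : A) * e (y.2 m)) * (y.1 : A)) := by
        rw [← mul_assoc, ← sgnA_comm, mul_assoc, mul_assoc]
      _ = sgnA A y.2 * ((sgnA A x.2 * (e (x.2 (y.2 m)) * (x.1 : A))) * (y.1 : A)) := by rw [hx']
      _ = sgnA A x.2 * sgnA A y.2 * (e (x.2 (y.2 m)) * ((x.1 : A) * y.1)) := by
        rw [sgnA_comm x.2 (sgnA A y.2)]
        simp only [mul_assoc]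
  inv_mem' := by
    intro x hx m
    have hx' := hx (x.2⁻¹ m)
    simp only [Prod.fst_inv, Prod.snd_inv]
    rw [sgnA_inv]
    have h1 : x.2 (x.2⁻¹ m) = m := by simp
    rw [h1] at hx'
    -- `x.1 * e (x.2⁻¹ m) = s * (e m * x.1)`
    have h2 : e (x.2⁻¹ m) * ((x.1⁻¹ : Aˣ) : A) = sgnA A x.2 * (((x.1⁻¹ : Aˣ) : A) * e m) := by
      have := congrArg (fun t => ((x.1⁻¹ : Aˣ) : A) * t * ((x.1⁻¹ : Aˣ) : A)) hx'
      beta_reduce at this
      rw [← mul_assoc, Units.inv_mul, one_mul] at this
      rw [this, ← mul_assoc, ← sgnA_comm, mul_assoc, mul_assoc, mul_assoc, Units.mul_inv, mul_one]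
    rw [h2, ← mul_assoc, sgnA_mul_self, one_mul]

theorem mem_pinSub {x : Aˣ × Perm (Fin n)} :
    x ∈ pinSub e ↔ ∀ m, (x.1 : A) * e m = sgnA A x.2 * (e (x.2 m) * (x.1 : A)) := Iff.rfl


/-- `e i - e j` squares to `2`. -/
theorem IsCliffGen.sub_mul_self (he : IsCliffGen e) {i j : Fin n} (h : i ≠ j) :
    (e i - e j) * (e i - e j) = 2 := by
  rw [mul_sub, sub_mul, sub_mul, he.sq, he.sq, he.anti i j h]
  abel_nf
  norm_num

/-- The unit `e i - e j`. -/
def swapUnit (he : IsCliffGen e) {i j : Fin n} (h : i ≠ j) : Aˣ where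
  val := e i - e j
  inv := (2⁻¹ : ℚ) • (e i - e j)
  val_inv := by
    rw [mul_smul_comm, he.sub_mul_self h]
    rw [show (2 : A) = (2 : ℚ) • (1 : A) by rw [ofNat_smul_eq_nsmul]; simp, smul_smul]
    norm_num
  inv_val := by
    rw [smul_mul_assoc, he.sub_mul_self h]
    rw [show (2 : A) = (2 : ℚ) • (1 : A) by rw [ofNat_smul_eq_nsmul]; simp, smul_smul]
    norm_num

@[simp] theorem swapUnit_val (he : IsCliffGen e) {i j : Fin n} (h : i ≠ j) :
    ((swapUnit he h : Aˣ) : A) = e i - e j := rfl

theorem swapUnit_mem (he : IsCliffGen e) {i j : Fin n} (h : i ≠ j) :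
    (swapUnit he h, swap i j) ∈ pinSub e := by
  intro m
  simp only [swapUnit_val]
  rw [sgnA_swap h]
  by_cases hmi : m = i
  · subst hmi
    rw [swap_apply_left, sub_mul, mul_sub, he.sq, he.sq]
    simp
  · by_cases hmj : m = j
    · subst hmj
      rw [swap_apply_right, sub_mul, mul_sub, he.sq, he.sq]
      simp
    · rw [swap_apply_of_ne_of_ne hmi hmj, sub_mul, mul_sub, he.anti i m (Ne.symm hmi),
        he.anti j m (Ne.symm hmj)]
      simp only [neg_mul, one_mul, neg_sub, sub_neg_eq_add]
      abel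

theorem pinSub_map_snd (he : IsCliffGen e) :
    (pinSub e).map (MonoidHom.snd Aˣ (Perm (Fin n))) = ⊤ := by
  rw [eq_top_iff, ← Perm.closure_isSwap, Subgroup.closure_le]
  rintro σ ⟨i, j, hij, rfl⟩
  exact ⟨(swapUnit he hij, swap i j), swapUnit_mem he hij, rfl⟩

/-- The "spin" group: the even part of `pinSub`. -/
def spinSub (e : Fin n → A) : Subgroup (Aˣ × Perm (Fin n)) :=
  pinSub e ⊓ (alternatingGroup (Fin n)).comap (MonoidHom.snd Aˣ (Perm (Fin n)))

theorem mem_spinSub {x : Aˣ × Perm (Fin n)} :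
    x ∈ spinSub e ↔ x.2 ∈ alternatingGroup (Fin n) ∧ ∀ m, (x.1 : A) * e m = e (x.2 m) * (x.1 : A) := by
  unfold spinSub
  rw [Subgroup.mem_inf, Subgroup.mem_comap, mem_pinSub]
  constructor
  · rintro ⟨h1, h2⟩
    have h2' : x.2 ∈ alternatingGroup (Fin n) := h2
    refine ⟨h2', fun m => ?_⟩
    have := h1 m
    rw [sgnA_of_mem_alternating h2', one_mul] at this
    exact this
  · rintro ⟨h1, h2⟩
    refine ⟨fun m => ?_, h1⟩
    rw [sgnA_of_mem_alternating h1, one_mul]
    exact h2 m

/-- The projection to the alternating group. -/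
def spinHom (e : Fin n → A) : spinSub e →* alternatingGroup (Fin n) :=
  ((MonoidHom.snd Aˣ (Perm (Fin n))).comp (spinSub e).subtype).codRestrict _
    (fun x => (mem_spinSub.mp x.2).1)

@[simp] theorem spinHom_coe (x : spinSub e) : ((spinHom e x : alternatingGroup (Fin n)) : Perm (Fin n)) = x.1.2 :=
  rfl

theorem spinHom_surjective (he : IsCliffGen e) : Function.Surjective (spinHom e) := by
  rintro ⟨σ, hσ⟩
  have : σ ∈ (pinSub e).map (MonoidHom.snd Aˣ (Perm (Fin n))) := by
    rw [pinSub_map_snd he]; trivial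
  obtain ⟨x, hx, rfl⟩ := this
  exact ⟨⟨x, ⟨hx, hσ⟩⟩, Subtype.ext rfl⟩

theorem spinHom_ker_le_center (he : IsCliffGen e) :
    (spinHom e).ker ≤ Subgroup.center (spinSub e) := by
  intro x hx
  rw [MonoidHom.mem_ker] at hx
  have hx2 : x.1.2 = 1 := by
    have := congrArg (fun t : alternatingGroup (Fin n) => (t : Perm (Fin n))) hx
    simpa using this
  have hcomm : ∀ m, (x.1.1 : A) * e m = e m * (x.1.1 : A) := by
    intro m
    have := (mem_spinSub.mp x.2).2 m
    rw [hx2] at this
    simpa using this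
  have hcen := he.central _ hcomm
  rw [Subgroup.mem_center_iff]
  intro y
  apply Subtype.ext
  apply Prod.ext
  · apply Units.ext
    simp only [Subgroup.coe_mul, Prod.fst_mul, Units.val_mul]
    exact (hcen _).symm
  · simp only [Subgroup.coe_mul, Prod.snd_mul]
    rw [hx2, mul_one, one_mul]


/-- The lift of a product of two transpositions. -/
def dblSwap (he : IsCliffGen e) {i j k l : Fin n} (hij : i ≠ j) (hkl : k ≠ l) : spinSub e :=
  ⟨(swapUnit he hij * swapUnit he hkl, swap i j * swap k l),
    ⟨(pinSub e).mul_mem (swapUnit_mem he hij) (swapUnit_mem he hkl), by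
      change swap i j * swap k l ∈ alternatingGroup (Fin n)
      rw [Perm.mem_alternatingGroup, Perm.sign_mul, Perm.sign_swap hij, Perm.sign_swap hkl]
      simp⟩⟩

theorem dblSwap_val (he : IsCliffGen e) {i j k l : Fin n} (hij : i ≠ j) (hkl : k ≠ l) :
    (((dblSwap he hij hkl).1.1 : Aˣ) : A) = (e i - e j) * (e k - e l) := rfl

theorem dblSwap_perm (he : IsCliffGen e) {i j k l : Fin n} (hij : i ≠ j) (hkl : k ≠ l) :
    (dblSwap he hij hkl).1.2 = swap i j * swap k l := rfl

theorem dblSwap_anticomm (he : IsCliffGen e) {i j k l : Fin n} (hij : i ≠ j) (hik : i ≠ k)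
    (hil : i ≠ l) (hjk : j ≠ k) (hjl : j ≠ l) (hkl : k ≠ l) :
    (((dblSwap he hij hkl).1.1 : Aˣ) : A) * (((dblSwap he hik hjl).1.1 : Aˣ) : A) =
      -((((dblSwap he hik hjl).1.1 : Aˣ) : A) * (((dblSwap he hij hkl).1.1 : Aˣ) : A)) := by
  have hrel := (mem_spinSub.mp (dblSwap he hij hkl).2).2
  rw [dblSwap_perm] at hrel
  have hi : (swap i j * swap k l) i = j := by
    rw [Perm.mul_apply, swap_apply_of_ne_of_ne hik hil, swap_apply_left]
  have hj : (swap i j * swap k l) j = i := by
    rw [Perm.mul_apply, swap_apply_of_ne_of_ne hjk hjl, swap_apply_right]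
  have hk : (swap i j * swap k l) k = l := by
    rw [Perm.mul_apply, swap_apply_left, swap_apply_of_ne_of_ne (Ne.symm hil) (Ne.symm hjl)]
  have hl : (swap i j * swap k l) l = k := by
    rw [Perm.mul_apply, swap_apply_right, swap_apply_of_ne_of_ne (Ne.symm hik) (Ne.symm hjk)]
  have ri := hrel i
  have rj := hrel j
  have rk := hrel k
  have rl := hrel l
  rw [hi] at ri
  rw [hj] at rj
  rw [hk] at rk
  rw [hl] at rl
  set a : A := (((dblSwap he hij hkl).1.1 : Aˣ) : A) with ha
  rw [dblSwap_val he hik hjl]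
  have h1 : a * (e i - e k) = (e j - e l) * a := by rw [mul_sub, sub_mul, ri, rk]
  have h2 : a * (e j - e l) = (e i - e k) * a := by rw [mul_sub, sub_mul, rj, rl]
  have h3 : (e j - e l) * (e i - e k) = -((e i - e k) * (e j - e l)) := by
    rw [mul_sub, sub_mul, sub_mul, mul_sub, sub_mul, sub_mul, he.anti j i (Ne.symm hij),
      he.anti j k hjk, he.anti l i (Ne.symm hil), he.anti l k (Ne.symm hkl)]
    abel
  calc a * ((e i - e k) * (e j - e l)) = (a * (e i - e k)) * (e j - e l) := (mul_assoc _ _ _).symm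
    _ = (e j - e l) * (a * (e j - e l)) := by rw [h1, mul_assoc]
    _ = ((e j - e l) * (e i - e k)) * a := by rw [h2, mul_assoc]
    _ = -((e i - e k) * (e j - e l) * a) := by rw [h3, neg_mul]

theorem units_commutator_of_anticomm (a b : Aˣ) (h : (a : A) * b = -((b : A) * a)) :
    a * b * a⁻¹ * b⁻¹ = -1 := by
  apply Units.ext
  simp only [Units.val_mul, Units.val_neg, Units.val_one]
  rw [h, neg_mul, neg_mul, mul_assoc (b : A), Units.mul_inv, mul_one, Units.mul_inv]

/-- An element of the spin group with first component `-1` is in the kernel and has order 2. -/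
theorem spin_neg_one_props (he : IsCliffGen e) (z : spinSub e) (hz1 : z.1.1 = -1) :
    z ∈ (spinHom e).ker ∧ orderOf z = 2 := by
  have hz2 : z.1.2 = 1 := by
    have hrel := (mem_spinSub.mp z.2).2
    rw [hz1] at hrel
    ext m
    have := hrel m
    simp only [Units.val_neg, Units.val_one, neg_mul, one_mul, mul_neg, mul_one, neg_inj] at this
    rw [Perm.one_apply]
    exact congrArg _ (he.injective this).symm
  have hz : (z : Aˣ × Perm (Fin n)) = (-1, 1) := Prod.ext hz1 hz2
  refine ⟨?_, ?_⟩
  · rw [MonoidHom.mem_ker]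
    apply Subtype.ext
    rw [spinHom_coe, hz2]
    rfl
  · apply orderOf_eq_prime
    · apply Subtype.ext
      rw [Subgroup.coe_pow, hz]
      simp
    · intro h1
      have := congrArg (fun t : spinSub e => ((t.1.1 : Aˣ) : A)) h1
      simp only [hz1, Units.val_neg, Units.val_one, Subgroup.coe_one, Prod.fst_one] at this
      exact he.ne this.symm

/-- In the spin group, `-1` is a commutator lying in the kernel. -/
theorem exists_spin_central (he : IsCliffGen e) {i j k l : Fin n} (hij : i ≠ j) (hik : i ≠ k)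
    (hil : i ≠ l) (hjk : j ≠ k) (hjl : j ≠ l) (hkl : k ≠ l) :
    ∃ z : spinSub e, z ∈ (spinHom e).ker ∧ z ∈ commutator (spinSub e) ∧ orderOf z = 2 := by
  have hz1 : (⁅dblSwap he hij hkl, dblSwap he hik hjl⁆ : spinSub e).1.1 = -1 := by
    rw [commutatorElement_def]
    simp only [Subgroup.coe_mul, Subgroup.coe_inv, Prod.fst_mul, Prod.fst_inv]
    exact units_commutator_of_anticomm _ _ (dblSwap_anticomm he hij hik hil hjk hjl hkl)
  obtain ⟨h1, h2⟩ := spin_neg_one_props he _ hz1
  exact ⟨_, h1, Subgroup.commutator_mem_commutator (Subgroup.mem_top _) (Subgroup.mem_top _), h2⟩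

end abstract

open CliffordAlgebra

noncomputable section

/-- The sum-of-squares quadratic form on `ℚ^n`. -/
def sumSqForm (n : ℕ) : QuadraticForm ℚ (Fin n → ℚ) :=
  QuadraticMap.weightedSumSquares ℚ (fun _ : Fin n => (1 : ℚ))

theorem sumSqForm_apply (n : ℕ) (v : Fin n → ℚ) : sumSqForm n v = ∑ i, v i * v i := by
  unfold sumSqForm
  rw [QuadraticMap.weightedSumSquares_apply]
  simp

theorem sumSqForm_single (n : ℕ) (i : Fin n) : sumSqForm n (Pi.single i 1) = 1 := by
  rw [sumSqForm_apply]
  simp [Pi.single_apply]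

theorem sumSqForm_isOrtho (n : ℕ) {i j : Fin n} (h : i ≠ j) :
    (sumSqForm n).IsOrtho (Pi.single i 1) (Pi.single j 1) := by
  rw [QuadraticMap.isOrtho_def, sumSqForm_single, sumSqForm_single, sumSqForm_apply]
  simp only [Pi.add_apply, Pi.single_apply]
  have : ∀ x : Fin n, ((if x = i then (1:ℚ) else 0) + if x = j then 1 else 0) *
      ((if x = i then (1:ℚ) else 0) + if x = j then 1 else 0) =
      (if x = i then (1:ℚ) else 0) + if x = j then 1 else 0 := by
    intro x
    by_cases hxi : x = i
    · have : x ≠ j := fun hxj => h (hxi.symm.trans hxj)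
      simp [hxi, h]
    · by_cases hxj : x = j
      · have : ¬ j = i := fun hji => hxi (hxj.trans hji)
        simp [hxj, this]
      · simp [hxi, hxj]
  simp only [this]
  rw [Finset.sum_add_distrib]
  simp

/-- The generators of the Clifford algebra. -/
def spinE (n : ℕ) (i : Fin n) : CliffordAlgebra (sumSqForm n) := ι (sumSqForm n) (Pi.single i 1)

theorem spinE_isCliffGen (n : ℕ) : IsCliffGen (spinE n) where
  sq := by
    intro i
    unfold spinE
    rw [ι_sq_scalar, sumSqForm_single, map_one]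
  anti := by
    intro i j hij
    unfold spinE
    exact ι_mul_ι_comm_of_isOrtho (sumSqForm_isOrtho n hij)
  ne := by
    intro h
    have h2 : (2 : CliffordAlgebra (sumSqForm n)) = 0 := by
      have : (1 : CliffordAlgebra (sumSqForm n)) + 1 = 0 := by
        nth_rewrite 2 [h]; simp
      rw [← this]; norm_num
    have h3 : (algebraMap ℚ (CliffordAlgebra (sumSqForm n)) (2⁻¹)) * 2 = 1 := by
      rw [show (2 : CliffordAlgebra (sumSqForm n)) = algebraMap ℚ _ 2 from (map_ofNat _ 2).symm,
        ← map_mul]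
      norm_num
    rw [h2, mul_zero] at h3
    exact zero_ne_one h3
  central := by
    intro g hg a
    induction a using CliffordAlgebra.induction with
    | algebraMap r => exact (Algebra.commutes r g).symm
    | ι v =>
      have hv : v = ∑ i, v i • (Pi.single i (1 : ℚ) : Fin n → ℚ) := by
        ext j
        simp [Finset.sum_apply, Pi.single_apply]
      rw [hv, map_sum, Finset.mul_sum, Finset.sum_mul]
      apply Finset.sum_congr rfl
      intro i _
      rw [map_smul, mul_smul_comm, smul_mul_assoc]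
      congr 1
      exact hg i
    | mul a b ha hb => rw [← mul_assoc, ha, mul_assoc, hb, mul_assoc]
    | add a b ha hb => rw [mul_add, add_mul, ha, hb]


/-- For `n ≥ 4` the alternating group has a central extension (by a possibly infinite group) in which
some element of order two of the kernel is a commutator. -/
theorem exists_spin_extension (n : ℕ) (hn : 4 ≤ n) :
    ∃ (E : Type) (_ : Group E) (π : E →* alternatingGroup (Fin n)), Function.Surjective π ∧
      π.ker ≤ Subgroup.center E ∧ ∃ z : E, z ∈ π.ker ∧ z ∈ commutator E ∧ orderOf z = 2 := by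
  have he := spinE_isCliffGen n
  have h01 : (⟨0, by omega⟩ : Fin n) ≠ ⟨1, by omega⟩ := by simp [Fin.ext_iff]
  have h02 : (⟨0, by omega⟩ : Fin n) ≠ ⟨2, by omega⟩ := by simp [Fin.ext_iff]
  have h03 : (⟨0, by omega⟩ : Fin n) ≠ ⟨3, by omega⟩ := by simp [Fin.ext_iff]
  have h12 : (⟨1, by omega⟩ : Fin n) ≠ ⟨2, by omega⟩ := by simp [Fin.ext_iff]
  have h13 : (⟨1, by omega⟩ : Fin n) ≠ ⟨3, by omega⟩ := by simp [Fin.ext_iff]
  have h23 : (⟨2, by omega⟩ : Fin n) ≠ ⟨3, by omega⟩ := by simp [Fin.ext_iff]
  exact ⟨spinSub (spinE n), inferInstance, spinHom (spinE n), spinHom_surjective he,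
    spinHom_ker_le_center he, exists_spin_central he h01 h02 h03 h12 h13 h23⟩

end

end Cfsg.Agent.Helper66
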