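import Mathlib
import Cfsg.Agent.Helper66.A7Elems
import Cfsg.Agent.Helper96.HexGroup
import Cfsg.Agent.Helper66.SpinCover
import Cfsg.Agent.Helper66.SchurBounds

/-!
# Lower bounds for the multipliers of `Alt(6)` and `Alt(7)`
-/

set_option autoImplicit false

namespace Cfsg.Agent.Helper66

open scoped commutatorElement

/-- the spin double cover shows that 2 divides the order of the multiplier of `Alt(n)`, `n ≥ 4` -/
theorem two_dvd_card_schurT_alt (n : ℕ) (hn : 4 ≤ n) :
    2 ∣ Nat.card (schurT (alternatingGroup (Fin n))) := by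
  obtain ⟨E, hE, π, hπs, hπc, z, hzk, hzc, hz2⟩ := exists_spin_extension n hn
  rw [← hz2]
  exact orderOf_dvd_card_schurT π hπs hπc z hzk hzc

/-- the triple cover `3.A₇` shows that 3 divides the order of the multiplier of `Alt(7)` -/
theorem three_dvd_card_schurT_alt7 : 3 ∣ Nat.card (schurT (alternatingGroup (Fin 7))) := by
  rw [← TripleA7.orderOf_comm]
  exact orderOf_dvd_card_schurT TripleA7.τ TripleA7.τ_surjective TripleA7.ker_τ_le_center _
    TripleA7.comm_mem_ker TripleA7.comm_mem_commutator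

/-- the triple cover `3.A₆` (the monomial automorphisms of the hexacode, by helper96) shows that 3
divides the order of the multiplier of `Alt(6)` -/
theorem three_dvd_card_schurT_alt6 : 3 ∣ Nat.card (schurT (alternatingGroup (Fin 6))) := by
  let τ' : Cfsg.Agent.Helper96.HexGroup.T →* alternatingGroup (Fin 6) :=
    Cfsg.Agent.Helper96.HexGroup.τ.codRestrict (alternatingGroup (Fin 6)) (fun m => by
      rw [← Cfsg.Agent.Helper96.HexGroup.range_τ]
      exact ⟨m, rfl⟩)
  have hker : τ'.ker = Cfsg.Agent.Helper96.HexGroup.τ.ker := by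
    ext m
    rw [MonoidHom.mem_ker, MonoidHom.mem_ker, Subtype.ext_iff]
    rfl
  have hsurj : Function.Surjective τ' := by
    intro a
    have ha : a.1 ∈ Cfsg.Agent.Helper96.HexGroup.τ.range := by
      rw [Cfsg.Agent.Helper96.HexGroup.range_τ]
      exact a.2
    obtain ⟨m, hm⟩ := ha
    exact ⟨m, Subtype.ext hm⟩
  have hord : orderOf ⁅Cfsg.Agent.Helper96.HexGroup.X, Cfsg.Agent.Helper96.HexGroup.Y⁆ = 3 := by
    have : Fact (Nat.Prime 3) := ⟨Nat.prime_three⟩
    exact orderOf_eq_prime Cfsg.Agent.Helper96.HexGroup.comm_pow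
      Cfsg.Agent.Helper96.HexGroup.comm_ne
  rw [← hord]
  refine orderOf_dvd_card_schurT τ' hsurj ?_ _ ?_ ?_
  · rw [hker]
    exact Cfsg.Agent.Helper96.HexGroup.ker_τ_le_center
  · rw [hker]
    exact Cfsg.Agent.Helper96.HexGroup.comm_mem_ker
  · exact Subgroup.commutator_mem_commutator (Subgroup.mem_top _) (Subgroup.mem_top _)

end Cfsg.Agent.Helper66
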