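import Cfsg.Agent.Helper66.A7Pairs
import Cfsg.Agent.Helper27.GF4

/-!
# A `[21, 6, 10]` code over `GF(4)` on the 2-subsets of `Fin 7`, and its monomial automorphisms

The group of monomial automorphisms (with permutation part induced from `Alt(7)`) of this code is
the triple cover `3.A₇`.
-/

set_option autoImplicit false

namespace Cfsg.Agent.Helper66.TripleA7

open Cfsg.Agent.Helper27 GF4

abbrev U := GF4ˣ
abbrev D := Fin 21 → U

/-- permutations of the coordinates acting on scalings -/
def permAut : Equiv.Perm (Fin 21) →* MulAut D where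
  toFun σ :=
    { toFun := fun d i => d (σ.symm i)
      invFun := fun d i => d (σ i)
      left_inv := fun d => by funext i; simp
      right_inv := fun d => by funext i; simp
      map_mul' := fun _ _ => rfl }
  map_one' := rfl
  map_mul' := fun _ _ => rfl

/-- `Perm (Fin 7)` acting on scalings of the 21 coordinates -/
def φ : Equiv.Perm (Fin 7) →* MulAut D := permAut.comp pairPerm

theorem φ_apply (σ : Equiv.Perm (Fin 7)) (d : D) (i : Fin 21) :
    φ σ d i = d (pairFun σ⁻¹ i) := rfl

/-- the monomial group `3 ≀ S₇` on 21 coordinates -/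
abbrev Mon := D ⋊[φ] Equiv.Perm (Fin 7)

instance finiteMon : Finite Mon := Finite.of_equiv _ SemidirectProduct.equivProd.symm

/-- the action of a scaling `c` and an inverse permutation table `s` on a word -/
def act (c : Fin 21 → GF4) (s : Fin 21 → Fin 21) (x : Fin 21 → GF4) : Fin 21 → GF4 :=
  fun i => c i * x (s i)

/-- the monomial action of the monomial group -/
def mact (m : Mon) (x : Fin 21 → GF4) : Fin 21 → GF4 :=
  act (fun i => (m.left i : GF4)) (pairFun m.right⁻¹) x

theorem mact_one (x : Fin 21 → GF4) : mact 1 x = x := by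
  funext i
  show ((1 : Mon).left i : GF4) * x (pairFun (1 : Mon).right⁻¹ i) = x i
  rw [SemidirectProduct.one_right, inv_one, pairFun_one, SemidirectProduct.one_left]
  simp

theorem mact_mul (m m' : Mon) (x : Fin 21 → GF4) : mact (m * m') x = mact m (mact m' x) := by
  funext i
  show ((m * m').left i : GF4) * x (pairFun (m * m').right⁻¹ i) =
    (m.left i : GF4) * ((m'.left (pairFun m.right⁻¹ i) : GF4) *
      x (pairFun m'.right⁻¹ (pairFun m.right⁻¹ i)))
  rw [SemidirectProduct.mul_right, mul_inv_rev, pairFun_mul, SemidirectProduct.mul_left]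
  show ((m.left i * φ m.right m'.left i : U) : GF4) * _ = _
  rw [φ_apply, Units.val_mul, mul_assoc]

/-- generator matrix of the code (in reduced echelon form, pivots `0, 1, 2, 6, 7, 11`) -/
def gen : Fin 6 → Fin 21 → GF4 :=
  ![![o,z,z,o,w2,o,z,z,o,w,w,z,z,z,z,z,z,z,w2,w,w2],
    ![z,o,z,o,w,w,z,z,z,z,z,z,w,w2,o,z,z,z,o,o,w2],
    ![z,z,o,w,w,o,z,z,z,z,z,z,z,z,z,o,w,o,w2,o,o],
    ![z,z,z,z,z,z,o,z,o,w2,o,z,w,w,w,z,z,z,w,w2,w2],
    ![z,z,z,z,z,z,z,o,w2,w2,w,z,z,z,z,w,o,o,w2,w2,w],
    ![z,z,z,z,z,z,z,z,z,z,z,o,w2,w,o,o,o,w,o,w2,o]]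

/-- the codeword with the same information symbols as `y` -/
def proj (y : Fin 21 → GF4) (i : Fin 21) : GF4 :=
  y 0 * gen 0 i + y 1 * gen 1 i + y 2 * gen 2 i + y 6 * gen 3 i + y 7 * gen 4 i + y 11 * gen 5 i

/-- the code -/
def code : Submodule GF4 (Fin 21 → GF4) where
  carrier := {y | ∀ i, y i = proj y i}
  add_mem' := by
    intro a b ha hb i
    show (a + b) i = proj (a + b) i
    unfold proj
    simp only [Pi.add_apply]
    rw [ha i, hb i]
    unfold proj
    ring
  zero_mem' := by
    intro i
    simp [proj]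
  smul_mem' := by
    intro c a ha i
    show (c • a) i = proj (c • a) i
    unfold proj
    simp only [Pi.smul_apply, smul_eq_mul]
    rw [ha i]
    unfold proj
    ring

theorem mem_code (y : Fin 21 → GF4) : y ∈ code ↔ ∀ i, y i = proj y i := Iff.rfl

instance decMemCode (y : Fin 21 → GF4) : Decidable (y ∈ code) :=
  decidable_of_iff _ (mem_code y).symm

theorem gen_mem : ∀ k : Fin 6, gen k ∈ code := by decide +kernel

/-- every codeword is the combination of the generators given by its information symbols -/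
theorem eq_comb {y : Fin 21 → GF4} (hy : y ∈ code) :
    y = y 0 • gen 0 + y 1 • gen 1 + y 2 • gen 2 + y 6 • gen 3 + y 7 • gen 4 + y 11 • gen 5 := by
  funext i
  rw [hy i]
  simp [proj]

theorem act_add (c : Fin 21 → GF4) (s : Fin 21 → Fin 21) (x y : Fin 21 → GF4) :
    act c s (x + y) = act c s x + act c s y := by
  funext i
  simp [act, mul_add]

theorem act_smul (c : Fin 21 → GF4) (s : Fin 21 → Fin 21) (a : GF4) (x : Fin 21 → GF4) :
    act c s (a • x) = a • act c s x := by
  funext i
  simp [act, mul_left_comm]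

/-- the decidable form of preservation -/
def Chk (c : Fin 21 → GF4) (s : Fin 21 → Fin 21) : Prop := ∀ k : Fin 6, act c s (gen k) ∈ code

instance decChk (c : Fin 21 → GF4) (s : Fin 21 → Fin 21) : Decidable (Chk c s) := by
  unfold Chk
  infer_instance

theorem act_mem_iff_chk (c : Fin 21 → GF4) (s : Fin 21 → Fin 21) :
    (∀ y ∈ code, act c s y ∈ code) ↔ Chk c s := by
  constructor
  · intro h k
    exact h _ (gen_mem k)
  · intro h y hy
    rw [eq_comb hy]
    simp only [act_add, act_smul]
    exact add_mem (add_mem (add_mem (add_mem (add_mem (Submodule.smul_mem _ _ (h 0))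
      (Submodule.smul_mem _ _ (h 1))) (Submodule.smul_mem _ _ (h 2)))
      (Submodule.smul_mem _ _ (h 3))) (Submodule.smul_mem _ _ (h 4)))
      (Submodule.smul_mem _ _ (h 5))

/-- the monomial map `m` preserves the code -/
def Pres (m : Mon) : Prop := ∀ y ∈ code, mact m y ∈ code

theorem pres_iff_chk (m : Mon) :
    Pres m ↔ Chk (fun i => (m.left i : GF4)) (pairFun m.right⁻¹) :=
  act_mem_iff_chk _ _

/-- the monomial automorphisms of the code with even permutation part, as a submonoid -/
def T0 : Submonoid Mon where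
  carrier := {m | m.right ∈ alternatingGroup (Fin 7) ∧ Pres m}
  mul_mem' := by
    rintro a b ⟨ha1, ha2⟩ ⟨hb1, hb2⟩
    refine ⟨?_, ?_⟩
    · rw [SemidirectProduct.mul_right]
      exact mul_mem ha1 hb1
    · intro y hy
      rw [mact_mul]
      exact ha2 _ (hb2 y hy)
  one_mem' := by
    refine ⟨one_mem _, ?_⟩
    intro y hy
    rw [mact_one]
    exact hy

/-- the monomial automorphisms of the code with even permutation part: the group `3.A₇` -/
def T : Subgroup Mon where
  toSubmonoid := T0
  inv_mem' := by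
    intro a ha
    have h1 : a⁻¹ ∈ Subgroup.zpowers a := Subgroup.inv_mem _ (Subgroup.mem_zpowers a)
    rw [← mem_powers_iff_mem_zpowers] at h1
    obtain ⟨n, hn⟩ := h1
    have h2 : a ^ n ∈ T0 := pow_mem ha n
    have h3 : a ^ n = a⁻¹ := hn
    rw [h3] at h2
    exact h2

theorem mem_T (m : Mon) : m ∈ T ↔ m.right ∈ alternatingGroup (Fin 7) ∧ Pres m := Iff.rfl

instance finiteT : Finite T := inferInstance

/-- the underlying even permutation -/
def τ : T →* alternatingGroup (Fin 7) :=
  (SemidirectProduct.rightHom.comp T.subtype).codRestrict (alternatingGroup (Fin 7))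
    (fun m => m.2.1)

theorem τ_apply (m : T) : (τ m : Equiv.Perm (Fin 7)) = m.1.right := rfl

end Cfsg.Agent.Helper66.TripleA7
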