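import Mathlib

/-!
# The action of `Perm (Fin 7)` on the 21 two-element subsets of `Fin 7`

The 2-subsets are numbered `0, …, 20` in lexicographic order; everything is given by explicit tables,
so that the kernel can evaluate it.
-/

set_option autoImplicit false

namespace Cfsg.Agent.Helper66.TripleA7

/-- smaller element of the `p`-th 2-subset -/
def d1 : Fin 21 → Fin 7 := ![0,0,0,0,0,0,1,1,1,1,1,2,2,2,2,3,3,3,4,4,5]
/-- larger element of the `p`-th 2-subset -/
def d2 : Fin 21 → Fin 7 := ![1,2,3,4,5,6,2,3,4,5,6,3,4,5,6,4,5,6,5,6,6]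
/-- the number of the 2-subset `{a, b}` (and `0` on the diagonal) -/
def encU : Fin 7 → Fin 7 → Fin 21 :=
  ![![0,0,1,2,3,4,5], ![0,0,6,7,8,9,10], ![1,6,0,11,12,13,14], ![2,7,11,0,15,16,17],
    ![3,8,12,15,0,18,19], ![4,9,13,16,18,0,20], ![5,10,14,17,19,20,0]]

theorem encU_symm : ∀ a b : Fin 7, encU a b = encU b a := by decide
theorem encU_dec : ∀ p : Fin 21, encU (d1 p) (d2 p) = p := by decide
theorem d1_ne_d2 : ∀ p : Fin 21, d1 p ≠ d2 p := by decide
theorem dec_encU : ∀ a b : Fin 7, a ≠ b →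
    (d1 (encU a b) = a ∧ d2 (encU a b) = b) ∨ (d1 (encU a b) = b ∧ d2 (encU a b) = a) := by decide

/-- the induced map on 2-subsets -/
def pairFun (σ : Equiv.Perm (Fin 7)) (p : Fin 21) : Fin 21 := encU (σ (d1 p)) (σ (d2 p))

theorem pairFun_one (p : Fin 21) : pairFun 1 p = p := encU_dec p

theorem pairFun_mul (σ τ : Equiv.Perm (Fin 7)) (p : Fin 21) :
    pairFun (σ * τ) p = pairFun σ (pairFun τ p) := by
  have hne : τ (d1 p) ≠ τ (d2 p) := fun h => d1_ne_d2 p (τ.injective h)
  unfold pairFun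
  rcases dec_encU _ _ hne with ⟨h1, h2⟩ | ⟨h1, h2⟩
  · rw [h1, h2]; rfl
  · rw [h1, h2, encU_symm]; rfl

/-- the action on 2-subsets as a homomorphism -/
def pairPerm : Equiv.Perm (Fin 7) →* Equiv.Perm (Fin 21) where
  toFun σ :=
    { toFun := pairFun σ
      invFun := pairFun σ⁻¹
      left_inv := fun p => by rw [← pairFun_mul, inv_mul_cancel, pairFun_one]
      right_inv := fun p => by rw [← pairFun_mul, mul_inv_cancel, pairFun_one] }
  map_one' := Equiv.ext fun p => pairFun_one p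
  map_mul' σ τ := Equiv.ext fun p => pairFun_mul σ τ p

theorem pairPerm_apply (σ : Equiv.Perm (Fin 7)) (p : Fin 21) : pairPerm σ p = pairFun σ p := rfl

theorem pairPerm_symm_apply (σ : Equiv.Perm (Fin 7)) (p : Fin 21) :
    (pairPerm σ).symm p = pairFun σ⁻¹ p := rfl

end Cfsg.Agent.Helper66.TripleA7
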