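import Mathlib
import Cfsg.Agent.Helper66.StemGen

set_option autoImplicit false

namespace Cfsg.Agent.Helper66

open scoped commutatorElement

variable {Γ : Type*} [Group Γ]

/-- A central cyclic subgroup is normal. -/
theorem zpowers_normal_of_mem_center (c : Γ) (hc : c ∈ Subgroup.center Γ) :
    (Subgroup.zpowers c).Normal := by
  constructor
  rintro _ ⟨k, rfl⟩ g
  have : c ^ k ∈ Subgroup.center Γ := Subgroup.zpow_mem _ hc k
  have h2 := Subgroup.mem_center_iff.mp this g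
  have : g * c ^ k * g⁻¹ = c ^ k := by rw [h2]; group
  show g * c ^ k * g⁻¹ ∈ Subgroup.zpowers c
  rw [this]
  exact ⟨k, rfl⟩

/-- If `Γ` is generated by `a`, `b` and a central subgroup `Z` inside the commutator subgroup, and
`⁅a, b⁆ ∈ Z`, then `Z` is contained in the cyclic group generated by `⁅a, b⁆`. -/
theorem central_le_zpowers_commutator (Z : Subgroup Γ) (hZc : Z ≤ Subgroup.center Γ)
    (hZd : Z ≤ commutator Γ) (a b : Γ) (hgen : Subgroup.closure ({a, b} ∪ (Z : Set Γ)) = ⊤)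
    (hz : ⁅a, b⁆ ∈ Z) : Z ≤ Subgroup.zpowers ⁅a, b⁆ := by
  have hN : (Subgroup.zpowers ⁅a, b⁆).Normal := zpowers_normal_of_mem_center _ (hZc hz)
  have hcentral_comm : ∀ w ∈ Z, ∀ g : Γ, ⁅w, g⁆ = 1 ∧ ⁅g, w⁆ = 1 := by
    intro w hw g
    have := Subgroup.mem_center_iff.mp (hZc hw) g
    constructor
    · rw [commutatorElement_eq_one_iff_mul_comm]; exact this.symm
    · rw [commutatorElement_eq_one_iff_mul_comm]; exact this
  have hle : commutator Γ ≤ Subgroup.zpowers ⁅a, b⁆ := by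
    apply commutator_le_of_generators _ hgen
    rintro s ((hs | hs) | hs) t ((ht | ht) | ht)
    · rw [hs, ht, commutatorElement_self]; exact Subgroup.one_mem _
    · rw [Set.mem_singleton_iff] at ht
      rw [hs, ht]; exact Subgroup.mem_zpowers _
    · rw [(hcentral_comm t ht s).2]; exact Subgroup.one_mem _
    · rw [Set.mem_singleton_iff] at hs
      rw [hs, ht, ← commutatorElement_inv a b]; exact Subgroup.inv_mem _ (Subgroup.mem_zpowers _)
    · rw [Set.mem_singleton_iff] at hs ht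
      rw [hs, ht, commutatorElement_self]; exact Subgroup.one_mem _
    · rw [(hcentral_comm t ht s).2]; exact Subgroup.one_mem _
    · rw [(hcentral_comm s hs t).1]; exact Subgroup.one_mem _
    · rw [(hcentral_comm s hs t).1]; exact Subgroup.one_mem _
    · rw [(hcentral_comm s hs t).1]; exact Subgroup.one_mem _
  exact hZd.trans hle

/-- If `⁅a, b⁆` is central then `⁅a, b ^ k⁆ = ⁅a, b⁆ ^ k`. -/
theorem commutator_pow_right_of_central (a b : Γ) (hc : ⁅a, b⁆ ∈ Subgroup.center Γ) (k : ℕ) :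
    ⁅a, b ^ k⁆ = ⁅a, b⁆ ^ k := by
  have hcomm : ∀ g : Γ, Commute g ⁅a, b⁆ := fun g => Subgroup.mem_center_iff.mp hc g
  have h1 : a * b * a⁻¹ = ⁅a, b⁆ * b := by rw [commutatorElement_def]; group
  have h2 : a * b ^ k * a⁻¹ = (⁅a, b⁆ * b) ^ k := by
    have := map_pow (MulAut.conj a) b k
    simp only [MulAut.conj_apply] at this
    rw [this, h1]
  have h3 : (⁅a, b⁆ * b) ^ k = ⁅a, b⁆ ^ k * b ^ k := (hcomm b).symm.mul_pow k
  calc ⁅a, b ^ k⁆ = a * b ^ k * a⁻¹ * (b ^ k)⁻¹ := commutatorElement_def _ _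
    _ = ⁅a, b⁆ ^ k * b ^ k * (b ^ k)⁻¹ := by rw [h2, h3]
    _ = ⁅a, b⁆ ^ k := by group

/-- If `⁅a, b⁆` is central and `b ^ n` is central then `⁅a, b⁆ ^ n = 1`. -/
theorem commutator_pow_eq_one_of_central (a b : Γ) (hc : ⁅a, b⁆ ∈ Subgroup.center Γ) (n : ℕ)
    (hb : b ^ n ∈ Subgroup.center Γ) : ⁅a, b⁆ ^ n = 1 := by
  rw [← commutator_pow_right_of_central a b hc n, commutatorElement_eq_one_iff_mul_comm]
  exact (Subgroup.mem_center_iff.mp hb a)

end Cfsg.Agent.Helper66
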