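import Mathlib
import Cfsg.Prelude.Def_KGroupFacts
import Cfsg.Agent.Helper66.StemGen
import Cfsg.Agent.Helper66.SchurBasic

set_option autoImplicit false

namespace Cfsg.Agent.Helper66

open scoped commutatorElement

/-- A surjection from `Multiplicative (ZMod n)` onto a group generated by an element `g` with `g ^ n = 1`. -/
theorem exists_surjective_zmod_of_zpowers {K : Type*} [Group K] (n : ℕ) (g : K) (hg : g ^ n = 1)
    (hgen : ∀ w : K, w ∈ Subgroup.zpowers g) :
    ∃ π : Multiplicative (ZMod n) →* K, Function.Surjective π := by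
  let f : ℤ →+ Additive K := zmultiplesHom (Additive K) (Additive.ofMul g)
  have hf : f n = 0 := by
    show (n : ℤ) • Additive.ofMul g = 0
    rw [natCast_zsmul, ← ofMul_pow, hg]; rfl
  let φ : ZMod n →+ Additive K := ZMod.lift n ⟨f, hf⟩
  refine ⟨AddMonoidHom.toMultiplicativeLeft φ, ?_⟩
  intro w
  obtain ⟨k, hk⟩ := hgen w
  refine ⟨Multiplicative.ofAdd (k : ZMod n), ?_⟩
  show Additive.toMul (φ (k : ZMod n)) = w
  have : φ (k : ZMod n) = f k := ZMod.lift_coe n ⟨f, hf⟩ k
  rw [this]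
  show Additive.toMul (k • Additive.ofMul g) = w
  rw [← ofMul_zpow]
  exact hk

section Dihedral

variable {Γ : Type*} [Group Γ]

/-- The kernel of a stem extension of a dihedral group is generated by an element of order at most 2,
which is trivial when `n` is odd. -/
theorem dihedral_stem_ker (n : ℕ) [NeZero n] (σ : Γ →* DihedralGroup n) (hσ : Cfsg.IsStemExtension σ) :
    ∃ d ∈ σ.ker, σ.ker ≤ Subgroup.zpowers d ∧ d ^ 2 = 1 ∧ (Odd n → d = 1) := by
  obtain ⟨hsurj, hcen, hder⟩ := hσ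
  obtain ⟨a, ha⟩ := hsurj (DihedralGroup.r 1)
  obtain ⟨x, hx⟩ := hsurj (DihedralGroup.sr 0)
  have hapow : ∀ k : ℕ, σ (a ^ k) = DihedralGroup.r (k : ZMod n) := by
    intro k; rw [map_pow, ha, DihedralGroup.r_one_pow]
  have hgen : Subgroup.closure ({a, x} ∪ (σ.ker : Set Γ)) = ⊤ := by
    rw [eq_top_iff]
    intro g _
    have ha_mem : a ∈ Subgroup.closure ({a, x} ∪ (σ.ker : Set Γ)) :=
      Subgroup.subset_closure (Or.inl (Or.inl rfl))
    have hx_mem : x ∈ Subgroup.closure ({a, x} ∪ (σ.ker : Set Γ)) :=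
      Subgroup.subset_closure (Or.inl (Or.inr rfl))
    have hker_mem : ∀ w, w ∈ σ.ker → w ∈ Subgroup.closure ({a, x} ∪ (σ.ker : Set Γ)) :=
      fun w hw => Subgroup.subset_closure (Or.inr hw)
    rcases hg : σ g with i | i
    · have : g * (a ^ i.val)⁻¹ ∈ σ.ker := by
        rw [MonoidHom.mem_ker, map_mul, map_inv, hapow, hg, ZMod.natCast_zmod_val]
        exact mul_inv_cancel _
      have h2 := Subgroup.mul_mem _ (hker_mem _ this) (Subgroup.pow_mem _ ha_mem i.val)
      have h3 : g * (a ^ i.val)⁻¹ * a ^ i.val = g := by group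
      rwa [h3] at h2
    · have : g * (x * a ^ i.val)⁻¹ ∈ σ.ker := by
        rw [MonoidHom.mem_ker, map_mul, map_inv, map_mul, hapow, hx, hg, ZMod.natCast_zmod_val,
          DihedralGroup.sr_mul_r, zero_add]
        exact mul_inv_cancel _
      have h2 := Subgroup.mul_mem _ (hker_mem _ this)
        (Subgroup.mul_mem _ hx_mem (Subgroup.pow_mem _ ha_mem i.val))
      have h3 : g * (x * a ^ i.val)⁻¹ * (x * a ^ i.val) = g := by group
      rwa [h3] at h2
  have hz : x * a * x⁻¹ * a ∈ σ.ker := by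
    rw [MonoidHom.mem_ker]
    simp only [map_mul, map_inv, ha, hx, DihedralGroup.inv_sr, DihedralGroup.sr_mul_r,
      DihedralGroup.sr_mul_sr, DihedralGroup.r_mul_r]
    rw [DihedralGroup.one_def]
    congr 1
    ring
  have hle := central_le_zpowers_of_dihedral_like σ.ker hcen hder a x hgen hz
  have han : a ^ n ∈ σ.ker := by
    rw [MonoidHom.mem_ker, hapow, ZMod.natCast_self]; rfl
  have hcomm : x * a ^ n = a ^ n * x := (Subgroup.mem_center_iff.mp (hcen han) x)
  have hcn := dihedral_like_pow_eq_one σ.ker hcen a x hz n hcomm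
  set c := a * a * (x * a * x⁻¹ * a)⁻¹ with hcdef
  have hσc : σ c = DihedralGroup.r 2 := by
    rw [hcdef, map_mul, map_inv, MonoidHom.mem_ker.mp hz, inv_one, mul_one, map_mul, ha,
      DihedralGroup.r_mul_r]
    congr 1
    norm_num
  have hσck : ∀ k : ℤ, σ (c ^ k) = DihedralGroup.r (2 * k : ZMod n) := by
    intro k; rw [map_zpow, hσc, DihedralGroup.r_zpow]
  -- membership in the kernel in terms of the exponent
  have hdiv : ∀ k : ℤ, c ^ k ∈ σ.ker → (n : ℤ) ∣ 2 * k := by
    intro k hk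
    rw [MonoidHom.mem_ker, hσck, DihedralGroup.one_def, DihedralGroup.r.injEq] at hk
    have : ((2 * k : ℤ) : ZMod n) = 0 := by push_cast; exact hk
    exact (ZMod.intCast_zmod_eq_zero_iff_dvd _ _).mp this
  rcases Nat.even_or_odd n with hev | hodd
  · obtain ⟨m, hm⟩ := hev
    refine ⟨c ^ m, ?_, ?_, ?_, ?_⟩
    · rw [MonoidHom.mem_ker, map_pow, hσc, DihedralGroup.r_pow, DihedralGroup.one_def]
      congr 1
      have : ((m + m : ℕ) : ZMod n) = 0 := by rw [← hm]; exact ZMod.natCast_self n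
      push_cast at this
      rw [← this]; ring
    · intro w hw
      obtain ⟨k, rfl⟩ := hle hw
      have hk' : c ^ k ∈ σ.ker := hw
      have hd := hdiv k hk'
      have hmpos : (m : ℤ) ≠ 0 := by
        have := NeZero.ne n
        intro h0
        have : m = 0 := by exact_mod_cast h0
        omega
      have : (m : ℤ) ∣ k := by
        rw [hm] at hd
        push_cast at hd
        have h2 : (2 : ℤ) * m ∣ 2 * k := by
          have : (m : ℤ) + m = 2 * m := by ring
          rwa [this] at hd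
        exact (mul_dvd_mul_iff_left (by norm_num : (2 : ℤ) ≠ 0)).mp h2
      obtain ⟨j, rfl⟩ := this
      refine ⟨j, ?_⟩
      show (c ^ m) ^ j = c ^ ((m : ℤ) * j)
      rw [zpow_mul, zpow_natCast]
    · rw [← pow_mul, ← hcn, hm]; congr 1; ring
    · intro hodd
      exfalso
      rw [hm] at hodd
      exact (Nat.not_even_iff_odd.mpr hodd) ⟨m, rfl⟩
  · refine ⟨1, Subgroup.one_mem _, ?_, one_pow 2, fun _ => rfl⟩
    intro w hw
    obtain ⟨k, rfl⟩ := hle hw
    have hk' : c ^ k ∈ σ.ker := hw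
    have hd := hdiv k hk'
    have hcop : IsCoprime (n : ℤ) 2 := by
      rw [Int.isCoprime_iff_gcd_eq_one]
      obtain ⟨j, hj⟩ := hodd
      rw [hj]
      simp [Int.gcd]
    have : (n : ℤ) ∣ k := hcop.dvd_of_dvd_mul_left hd
    obtain ⟨j, rfl⟩ := this
    have : c ^ ((n : ℤ) * j) = 1 := by
      rw [zpow_mul, zpow_natCast, hcn, one_zpow]
    show c ^ ((n : ℤ) * j) ∈ Subgroup.zpowers 1
    rw [this]
    exact Subgroup.one_mem _

/-- The kernel of a stem extension of a dicyclic group is trivial. -/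
theorem quaternion_stem_ker (n : ℕ) [NeZero n] (σ : Γ →* QuaternionGroup n) (hσ : Cfsg.IsStemExtension σ) :
    σ.ker = ⊥ := by
  obtain ⟨hsurj, hcen, hder⟩ := hσ
  obtain ⟨a, ha⟩ := hsurj (QuaternionGroup.a 1)
  obtain ⟨x, hx⟩ := hsurj (QuaternionGroup.xa 0)
  have h2n : ((2 : ZMod (2 * n)) * (n : ZMod (2 * n))) = 0 := by
    have : ((2 * n : ℕ) : ZMod (2 * n)) = 0 := ZMod.natCast_self _
    push_cast at this
    exact this
  have hapow : ∀ k : ℕ, σ (a ^ k) = QuaternionGroup.a (k : ZMod (2 * n)) := by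
    intro k; rw [map_pow, ha, QuaternionGroup.a_one_pow]
  have h2nz : NeZero (2 * n) := ⟨by have := NeZero.ne n; omega⟩
  have hgen : Subgroup.closure ({a, x} ∪ (σ.ker : Set Γ)) = ⊤ := by
    rw [eq_top_iff]
    intro g _
    have ha_mem : a ∈ Subgroup.closure ({a, x} ∪ (σ.ker : Set Γ)) :=
      Subgroup.subset_closure (Or.inl (Or.inl rfl))
    have hx_mem : x ∈ Subgroup.closure ({a, x} ∪ (σ.ker : Set Γ)) :=
      Subgroup.subset_closure (Or.inl (Or.inr rfl))
    have hker_mem : ∀ w, w ∈ σ.ker → w ∈ Subgroup.closure ({a, x} ∪ (σ.ker : Set Γ)) :=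
      fun w hw => Subgroup.subset_closure (Or.inr hw)
    rcases hg : σ g with i | i
    · have : g * (a ^ i.val)⁻¹ ∈ σ.ker := by
        rw [MonoidHom.mem_ker, map_mul, map_inv, hapow, hg, ZMod.natCast_zmod_val]
        exact mul_inv_cancel _
      have h2 := Subgroup.mul_mem _ (hker_mem _ this) (Subgroup.pow_mem _ ha_mem i.val)
      have h3 : g * (a ^ i.val)⁻¹ * a ^ i.val = g := by group
      rwa [h3] at h2
    · have : g * (x * a ^ i.val)⁻¹ ∈ σ.ker := by
        rw [MonoidHom.mem_ker, map_mul, map_inv, map_mul, hapow, hx, hg, ZMod.natCast_zmod_val,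
          QuaternionGroup.xa_mul_a, zero_add]
        exact mul_inv_cancel _
      have h2 := Subgroup.mul_mem _ (hker_mem _ this)
        (Subgroup.mul_mem _ hx_mem (Subgroup.pow_mem _ ha_mem i.val))
      have h3 : g * (x * a ^ i.val)⁻¹ * (x * a ^ i.val) = g := by group
      rwa [h3] at h2
  have hxinv : (QuaternionGroup.xa (0 : ZMod (2 * n)))⁻¹ = QuaternionGroup.xa ((n : ZMod (2 * n)) + 0) := rfl
  have hz : x * a * x⁻¹ * a ∈ σ.ker := by
    rw [MonoidHom.mem_ker]
    simp only [map_mul, map_inv, ha, hx, hxinv, QuaternionGroup.xa_mul_a,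
      QuaternionGroup.xa_mul_xa, QuaternionGroup.a_mul_a]
    rw [QuaternionGroup.one_def]
    congr 1
    linear_combination h2n
  have hle := central_le_zpowers_of_dihedral_like σ.ker hcen hder a x hgen hz
  -- `x` commutes with `a ^ n` because `a ^ n` is `x * x` up to a central element
  have hw0 : (a ^ n)⁻¹ * (x * x) ∈ σ.ker := by
    rw [MonoidHom.mem_ker, map_mul, map_inv, hapow, map_mul, hx, QuaternionGroup.xa_mul_xa]
    simp
  have hcomm : x * a ^ n = a ^ n * x := by
    have hc := Subgroup.mem_center_iff.mp (hcen hw0) x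
    -- a^n = x x w0⁻¹
    have : a ^ n = (x * x) * ((a ^ n)⁻¹ * (x * x))⁻¹ := by group
    set w0 := (a ^ n)⁻¹ * (x * x) with hw0def
    have hc' : x * w0⁻¹ = w0⁻¹ * x := by
      calc x * w0⁻¹ = w0⁻¹ * (w0 * x) * w0⁻¹ := by group
        _ = w0⁻¹ * (x * w0) * w0⁻¹ := by rw [hc]
        _ = w0⁻¹ * x := by group
    rw [this]
    calc x * (x * x * w0⁻¹) = x * x * (x * w0⁻¹) := by group
      _ = x * x * (w0⁻¹ * x) := by rw [hc']
      _ = x * x * w0⁻¹ * x := by group
  have hcn := dihedral_like_pow_eq_one σ.ker hcen a x hz n hcomm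
  set c := a * a * (x * a * x⁻¹ * a)⁻¹ with hcdef
  have hσc : σ c = QuaternionGroup.a 2 := by
    rw [hcdef, map_mul, map_inv, MonoidHom.mem_ker.mp hz, inv_one, mul_one, map_mul, ha,
      QuaternionGroup.a_mul_a]
    congr 1
    norm_num
  have ha_zpow : ∀ (i : ZMod (2 * n)) (k : ℤ), (QuaternionGroup.a i) ^ k = QuaternionGroup.a (i * (k : ZMod (2 * n))) := by
    intro i k
    have hnat : ∀ m : ℕ, (QuaternionGroup.a i) ^ m = QuaternionGroup.a (i * (m : ZMod (2 * n))) := by
      intro m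
      induction m with
      | zero => simp
      | succ m ih => rw [pow_succ, ih, QuaternionGroup.a_mul_a]; congr 1; push_cast; ring
    cases k with
    | ofNat m => simpa using hnat m
    | negSucc m =>
      rw [zpow_negSucc, hnat]
      show QuaternionGroup.a (-(i * ((m + 1 : ℕ) : ZMod (2 * n)))) = _
      congr 1
      push_cast
      ring
  rw [eq_bot_iff]
  intro w hw
  obtain ⟨k, rfl⟩ := hle hw
  have hk' : c ^ k ∈ σ.ker := hw
  rw [MonoidHom.mem_ker, map_zpow, hσc, ha_zpow, QuaternionGroup.one_def, QuaternionGroup.a.injEq] at hk'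
  have h1 : ((2 * k : ℤ) : ZMod (2 * n)) = 0 := by push_cast; exact hk'
  have h2 := (ZMod.intCast_zmod_eq_zero_iff_dvd _ _).mp h1
  have h3 : (n : ℤ) ∣ k := by
    push_cast at h2
    exact (mul_dvd_mul_iff_left (by norm_num : (2 : ℤ) ≠ 0)).mp h2
  obtain ⟨j, rfl⟩ := h3
  rw [Subgroup.mem_bot]
  show c ^ ((n : ℤ) * j) = 1
  rw [zpow_mul, zpow_natCast, hcn, one_zpow]

end Dihedral

end Cfsg.Agent.Helper66
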