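import Mathlib
import Cfsg.Prelude.Def_KGroupFacts

set_option autoImplicit false

namespace Cfsg.Agent.Helper66

open scoped commutatorElement

universe u v

/-- A bi-additive map from a (multiplicative) group to an additive group. -/
structure BiAdd (G : Type u) (A : Type v) [Group G] [AddCommGroup A] where
  toFun : G → G → A
  map_mul_left : ∀ g h k, toFun (g * h) k = toFun g k + toFun h k
  map_mul_right : ∀ g h k, toFun g (h * k) = toFun g h + toFun g k

namespace BiAdd

variable {G : Type u} {A : Type v} [Group G] [AddCommGroup A] (β : BiAdd G A)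

theorem map_one_left (g : G) : β.toFun 1 g = 0 := by
  have := β.map_mul_left 1 1 g
  rw [mul_one] at this
  exact left_eq_add.mp this

theorem map_one_right (g : G) : β.toFun g 1 = 0 := by
  have := β.map_mul_right g 1 1
  rw [mul_one] at this
  exact left_eq_add.mp this

theorem map_inv_left (g h : G) : β.toFun g⁻¹ h = - β.toFun g h := by
  have := β.map_mul_left g⁻¹ g h
  rw [inv_mul_cancel, map_one_left] at this
  exact eq_neg_of_add_eq_zero_left this.symm

end BiAdd

/-- The set `A × G` with the multiplication twisted by the bi-additive map `β`. -/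
structure TwistedProd {G : Type u} {A : Type v} [Group G] [AddCommGroup A] (β : BiAdd G A) where
  fst : A
  snd : G

namespace TwistedProd

variable {G : Type u} {A : Type v} [Group G] [AddCommGroup A] {β : BiAdd G A}

@[ext] theorem ext' {x y : TwistedProd β} (h1 : x.fst = y.fst) (h2 : x.snd = y.snd) : x = y := by
  cases x; cases y; simp_all

instance instMulTwistedProd : Mul (TwistedProd β) :=
  ⟨fun x y => ⟨x.fst + y.fst + β.toFun x.snd y.snd, x.snd * y.snd⟩⟩

instance instOneTwistedProd : One (TwistedProd β) := ⟨⟨0, 1⟩⟩

instance instInvTwistedProd : Inv (TwistedProd β) :=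
  ⟨fun x => ⟨-x.fst + β.toFun x.snd x.snd, x.snd⁻¹⟩⟩

@[simp] theorem mul_fst (x y : TwistedProd β) : (x * y).fst = x.fst + y.fst + β.toFun x.snd y.snd := rfl
@[simp] theorem mul_snd (x y : TwistedProd β) : (x * y).snd = x.snd * y.snd := rfl
@[simp] theorem one_fst : (1 : TwistedProd β).fst = 0 := rfl
@[simp] theorem one_snd : (1 : TwistedProd β).snd = 1 := rfl
@[simp] theorem inv_fst (x : TwistedProd β) : (x⁻¹).fst = -x.fst + β.toFun x.snd x.snd := rfl
@[simp] theorem inv_snd (x : TwistedProd β) : (x⁻¹).snd = x.snd⁻¹ := rfl

instance instGroupTwistedProd : Group (TwistedProd β) where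
  mul_assoc x y z := by
    apply ext'
    · simp only [mul_fst, mul_snd, β.map_mul_left, β.map_mul_right]; abel
    · simp only [mul_snd, mul_assoc]
  one_mul x := by
    apply ext'
    · simp [β.map_one_left]
    · simp
  mul_one x := by
    apply ext'
    · simp [β.map_one_right]
    · simp
  inv_mul_cancel x := by
    apply ext'
    · simp only [mul_fst, inv_fst, inv_snd, one_fst, β.map_inv_left]; abel
    · simp

/-- The projection onto `G`. -/
def proj (β : BiAdd G A) : TwistedProd β →* G where
  toFun x := x.snd
  map_one' := rfl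
  map_mul' _ _ := rfl

@[simp] theorem proj_apply (x : TwistedProd β) : proj β x = x.snd := rfl

theorem proj_surjective : Function.Surjective (proj β) := fun g => ⟨⟨0, g⟩, rfl⟩

theorem mem_ker_proj (x : TwistedProd β) : x ∈ (proj β).ker ↔ x.snd = 1 := Iff.rfl

/-- The inclusion of `A` (written multiplicatively). -/
def incl (β : BiAdd G A) : Multiplicative A →* TwistedProd β where
  toFun a := ⟨Multiplicative.toAdd a, 1⟩
  map_one' := rfl
  map_mul' a b := by
    apply ext'
    · simp [β.map_one_left]
    · simp

@[simp] theorem incl_fst (a : Multiplicative A) : (incl β a).fst = Multiplicative.toAdd a := rfl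
@[simp] theorem incl_snd (a : Multiplicative A) : (incl β a).snd = 1 := rfl

theorem incl_injective : Function.Injective (incl β) := by
  intro a b h
  have := congrArg TwistedProd.fst h
  simpa using this

theorem range_incl : (incl β).range = (proj β).ker := by
  ext x
  rw [mem_ker_proj]
  constructor
  · rintro ⟨a, rfl⟩; rfl
  · intro h
    refine ⟨Multiplicative.ofAdd x.fst, ?_⟩
    apply ext'
    · simp
    · simp [h]

/-- The kernel of the projection is isomorphic to `A`. -/
noncomputable def kerEquiv (β : BiAdd G A) : (proj β).ker ≃* Multiplicative A :=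
  ((MonoidHom.ofInjective (incl_injective (β := β))).trans
    (MulEquiv.subgroupCongr (range_incl (β := β)))).symm

theorem ker_le_center : (proj β).ker ≤ Subgroup.center (TwistedProd β) := by
  intro x hx
  rw [mem_ker_proj] at hx
  rw [Subgroup.mem_center_iff]
  intro y
  apply ext'
  · simp only [mul_fst, hx, β.map_one_left, β.map_one_right]; abel
  · simp [hx]

/-- The commutator of the standard lifts of two commuting elements. -/
theorem commutator_lift (g h : G) (hgh : g * h = h * g) :
    ⁅(⟨0, g⟩ : TwistedProd β), (⟨0, h⟩ : TwistedProd β)⁆ =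
      (⟨β.toFun g h - β.toFun h g, 1⟩ : TwistedProd β) := by
  rw [commutatorElement_def]
  have h1 : (⟨0, g⟩ : TwistedProd β) * ⟨0, h⟩ =
      (⟨β.toFun g h - β.toFun h g, 1⟩ : TwistedProd β) * ((⟨0, h⟩ : TwistedProd β) * ⟨0, g⟩) := by
    apply ext'
    · simp [β.map_one_left]
    · simp [hgh]
  rw [h1]
  group

instance instFiniteTwistedProd [Finite G] [Finite A] : Finite (TwistedProd β) := by
  let e : TwistedProd β ≃ A × G :=
    { toFun := fun x => (x.fst, x.snd)
      invFun := fun p => ⟨p.1, p.2⟩
      left_inv := fun x => by cases x; rfl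
      right_inv := fun p => by cases p; rfl }
  exact Finite.of_equiv _ e.symm

end TwistedProd

end Cfsg.Agent.Helper66
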