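import Mathlib
import Cfsg.Agent.Helper66.SchurBounds
import Cfsg.Agent.S3952
import Cfsg.Agent.S3965
import Cfsg.Agent.S3951

/-!
# A criterion for the Schur multiplier to be cyclic of order 6
-/

set_option autoImplicit false

namespace Cfsg.Agent.Helper66

/-- An abelian group of order 6 is cyclic. -/
theorem isCyclic_of_card_six {A : Type*} [CommGroup A] (h : Nat.card A = 6) : IsCyclic A := by
  have : Finite A := Nat.finite_of_card_ne_zero (by rw [h]; norm_num)
  have : Fact (Nat.Prime 2) := ⟨Nat.prime_two⟩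
  have : Fact (Nat.Prime 3) := ⟨Nat.prime_three⟩
  obtain ⟨a, ha⟩ := exists_prime_orderOf_dvd_card' (G := A) 2 (by rw [h]; norm_num)
  obtain ⟨b, hb⟩ := exists_prime_orderOf_dvd_card' (G := A) 3 (by rw [h]; norm_num)
  have hab : orderOf (a * b) = orderOf a * orderOf b :=
    (Commute.all a b).orderOf_mul_eq_mul_orderOf_of_coprime (by rw [ha, hb]; norm_num)
  exact isCyclic_of_orderOf_eq_card (a * b) (by rw [hab, ha, hb, h])

theorem dvd_six_of_sq_dvd : ∀ e : ℕ, e ≤ 50 → e ^ 2 ∣ 2520 → e ∣ 6 := by decide

/-- If a finite group `G` of order dividing `2520` has a dihedral subgroup of order 8 and an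
elementary abelian subgroup of order 9 whose indices have greatest common divisor prime to 6, then
its multiplier has order at most 6. -/
theorem card_schurT_le_six {G : Type} [Group G] [Finite G] (hG : Nat.card G ∣ 2520)
    (U1 U2 : Subgroup G) (e1 : DihedralGroup 4 ≃* U1)
    (e2 : Multiplicative (ZMod 3 × ZMod 3) ≃* U2)
    (hco : Nat.Coprime (Nat.gcd U1.index U2.index) 6) : Nat.card (schurT G) ≤ 6 := by
  have hexp : Monoid.exponent (schurT G) ^ 2 ∣ Nat.card G :=
    Cfsg.Agent.S3952.result (hasSchurMultiplier_schurT G)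
  have he6 : Monoid.exponent (schurT G) ∣ 6 := by
    have h := hexp.trans hG
    have hle : Monoid.exponent (schurT G) ^ 2 ≤ 2520 := Nat.le_of_dvd (by norm_num) h
    have hle' : Monoid.exponent (schurT G) ≤ 50 := by nlinarith
    exact dvd_six_of_sq_dvd _ hle' h
  have h6 : ∀ a : schurT G, a ^ 6 = 1 := fun a => by
    obtain ⟨k, hk⟩ := he6
    rw [hk, pow_mul, Monoid.pow_exponent_eq_one, one_pow]
  -- the two transfer bounds
  have hc1 : Nat.card (schurT U1) = 2 := by
    rw [card_schurT_of_mulEquiv e1 (Cfsg.Agent.S3965.result 4 ⟨2, rfl⟩)]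
    simp
  have hc2 : Nat.card (schurT U2) = 3 := by
    rw [card_schurT_of_mulEquiv e2 (Cfsg.Agent.S3951.result 3 3 (dvd_refl 3))]
    simp
  have hd1 := card_pow_index_range_dvd U1
  have hd2 := card_pow_index_range_dvd U2
  rw [hc1] at hd1
  rw [hc2] at hd2
  have hl1 := Nat.le_of_dvd (by norm_num) hd1
  have hl2 := Nat.le_of_dvd (by norm_num) hd2
  -- the injection
  let f : schurT G →* (powMonoidHom U1.index : schurT G →* schurT G).range ×
      (powMonoidHom U2.index : schurT G →* schurT G).range :=
    (powMonoidHom U1.index : schurT G →* schurT G).rangeRestrict.prod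
      (powMonoidHom U2.index : schurT G →* schurT G).rangeRestrict
  have hf : Function.Injective f := by
    rw [injective_iff_map_eq_one]
    intro a ha
    have ha1 : a ^ U1.index = 1 := by
      have := congrArg (fun p => (p.1 : schurT G)) ha
      simpa [f] using this
    have ha2 : a ^ U2.index = 1 := by
      have := congrArg (fun p => (p.2 : schurT G)) ha
      simpa [f] using this
    have hd : orderOf a ∣ Nat.gcd (Nat.gcd U1.index U2.index) 6 :=
      Nat.dvd_gcd (Nat.dvd_gcd (orderOf_dvd_of_pow_eq_one ha1) (orderOf_dvd_of_pow_eq_one ha2))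
        (orderOf_dvd_of_pow_eq_one (h6 a))
    rw [Nat.Coprime] at hco
    rw [hco, Nat.dvd_one] at hd
    exact orderOf_eq_one_iff.mp hd
  have hcard := Nat.card_le_card_of_injective f hf
  rw [Nat.card_prod] at hcard
  calc Nat.card (schurT G) ≤ _ := hcard
    _ ≤ 2 * 3 := Nat.mul_le_mul hl1 hl2

/-- The multiplier is cyclic of order 6 if its order is at most 6 and divisible by 2 and 3. -/
theorem hasCyclicSchurMultiplier_six {G : Type} [Group G] [Finite G]
    (hle : Nat.card (schurT G) ≤ 6) (h2 : 2 ∣ Nat.card (schurT G))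
    (h3 : 3 ∣ Nat.card (schurT G)) : Cfsg.HasCyclicSchurMultiplier G 6 := by
  have h6 : Nat.card (schurT G) = 6 := by
    have hpos : 0 < Nat.card (schurT G) := Nat.card_pos
    have hd : 6 ∣ Nat.card (schurT G) :=
      Nat.Coprime.mul_dvd_of_dvd_of_dvd (by norm_num : Nat.Coprime 2 3) h2 h3
    have := Nat.le_of_dvd hpos hd
    omega
  have hcyc := isCyclic_of_card_six h6
  have e := zmodCyclicMulEquiv hcyc
  rw [h6] at e
  exact (hasSchurMultiplier_iff G (Multiplicative (ZMod 6))).mpr ⟨e⟩

end Cfsg.Agent.Helper66
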