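import Mathlib

/-!
# In an alternating group of degree at most 7 all involutions are conjugate
-/

set_option autoImplicit false

namespace Cfsg.Agent.Helper66

open Equiv Equiv.Perm

/-- The cycle type of an even involution on at most seven points is `{2, 2}`. -/
theorem cycleType_of_even_involution {α : Type*} [Fintype α] [DecidableEq α]
    (hα : Fintype.card α ≤ 7) (u : Perm α) (hu : orderOf u = 2) (hs : Perm.sign u = 1) :
    u.cycleType = Multiset.replicate 2 2 := by
  obtain ⟨n, hn⟩ := cycleType_prime_order (σ := u) (by rw [hu]; exact Nat.prime_two)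
  rw [hu] at hn
  have hsum := sum_cycleType_le u
  rw [hn, Multiset.sum_replicate, smul_eq_mul] at hsum
  have hsign := sign_of_cycleType u
  rw [hs, hn, Multiset.sum_replicate, Multiset.card_replicate, smul_eq_mul] at hsign
  have heven : Even ((n + 1) * 2 + (n + 1)) :=
    (neg_one_pow_eq_one_iff_even (R := ℤˣ) (by decide)).mp hsign.symm
  have hn1 : n + 1 = 2 := by
    rcases heven with ⟨m, hm⟩
    omega
  rw [hn, hn1]

/-- An involution commutes with the transposition of a point and its image. -/
theorem involution_comm_swap {α : Type*} [DecidableEq α] (u : Perm α) (huu : u * u = 1) (p : α) :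
    u * swap p (u p) = swap p (u p) * u := by
  have h2 : u (u p) = p := by
    have := congrArg (fun f : Perm α => f p) huu
    simpa using this
  have h1 : u * swap p (u p) * u⁻¹ = swap p (u p) := by
    rw [← swap_apply_apply, h2, swap_comm]
  calc u * swap p (u p) = u * swap p (u p) * u⁻¹ * u := by group
    _ = swap p (u p) * u := by rw [h1]

/-- In an alternating group on at most seven points, any two involutions are conjugate. -/
theorem alt_involutions_conj {α : Type*} [Fintype α] [DecidableEq α] (hα : Fintype.card α ≤ 7)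
    (u v : alternatingGroup α) (hu : orderOf u = 2) (hv : orderOf v = 2) :
    ∃ g : alternatingGroup α, g * u * g⁻¹ = v := by
  have hu' : orderOf (u : Perm α) = 2 := by rw [Subgroup.orderOf_coe]; exact hu
  have hv' : orderOf (v : Perm α) = 2 := by rw [Subgroup.orderOf_coe]; exact hv
  have hcu := cycleType_of_even_involution hα u.1 hu' (mem_alternatingGroup.mp u.2)
  have hcv := cycleType_of_even_involution hα v.1 hv' (mem_alternatingGroup.mp v.2)
  obtain ⟨τ, hτ⟩ := isConj_iff.mp (isConj_iff_cycleType_eq.mpr (hcu.trans hcv.symm))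
  by_cases hτs : Perm.sign τ = 1
  · exact ⟨⟨τ, mem_alternatingGroup.mpr hτs⟩, Subtype.ext hτ⟩
  · -- correct `τ` by a transposition commuting with `u`
    have hune : (u : Perm α) ≠ 1 := by
      intro h
      rw [h, orderOf_one] at hu'
      norm_num at hu'
    obtain ⟨p, hp⟩ : ∃ p, (u : Perm α) p ≠ p := by
      by_contra hall
      apply hune
      ext q
      by_contra hq
      exact hall ⟨q, hq⟩
    have huu : (u : Perm α) * u = 1 := by rw [← pow_two, ← hu', pow_orderOf_eq_one]
    have hcomm := involution_comm_swap (u : Perm α) huu p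
    have hτs' : Perm.sign τ = -1 := (Int.units_eq_one_or (Perm.sign τ)).resolve_left hτs
    have hsgn : Perm.sign (τ * swap p ((u : Perm α) p)) = 1 := by
      rw [Perm.sign_mul, hτs', sign_swap (Ne.symm hp)]
      rfl
    refine ⟨⟨τ * swap p ((u : Perm α) p), mem_alternatingGroup.mpr hsgn⟩, Subtype.ext ?_⟩
    show τ * swap p ((u : Perm α) p) * u * (τ * swap p ((u : Perm α) p))⁻¹ = v
    rw [mul_inv_rev, swap_inv, ← hτ]
    calc τ * swap p ((u : Perm α) p) * u * (swap p ((u : Perm α) p) * τ⁻¹)
        = τ * (swap p ((u : Perm α) p) * u) * swap p ((u : Perm α) p) * τ⁻¹ := by group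
      _ = τ * (u * swap p ((u : Perm α) p)) * swap p ((u : Perm α) p) * τ⁻¹ := by rw [hcomm]
      _ = τ * u * (swap p ((u : Perm α) p) * swap p ((u : Perm α) p)) * τ⁻¹ := by group
      _ = τ * u * τ⁻¹ := by rw [swap_mul_self, mul_one]

end Cfsg.Agent.Helper66
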