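import Mathlib
import Cfsg.Agent.S0051
import Cfsg.Agent.Helper45.Dihedral

/-!
# Involutions in non-split double covers (abstract part of S0447)
-/

set_option autoImplicit false

namespace Cfsg.Agent.Helper66

open Subgroup

/-- In a group whose centre has order two, central elements square to one. -/
theorem central_sq_of_card_two {H : Type*} [Group H] (hZ : Nat.card (center H) = 2) {c : H}
    (hc : c ∈ center H) : c * c = 1 := by
  have : Finite (center H) := Nat.finite_of_card_ne_zero (by rw [hZ]; norm_num)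
  have h : (⟨c, hc⟩ : center H) ^ Nat.card (center H) = 1 := pow_card_eq_one'
  rw [hZ] at h
  have h2 := congrArg Subtype.val h
  rw [pow_two] at h2
  exact h2

/-- **Core of S0447, part 1.**  Let `π : H → Q` be surjective with kernel the centre of `H`, of
order two and without a complement.  Suppose that `Q` has a dihedral subgroup of odd index generated
by two involutions `a`, `b` (with `(ab)^k` an involution and `|⟨a, b⟩| = 4k`), and that all
involutions of `Q` are conjugate.  Then every involution of `H` is central. -/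
theorem involution_mem_center_of_nonsplit {H Q : Type*} [Group H] [Finite H] [Group Q] [Finite Q]
    (π : H →* Q) (hπ : Function.Surjective π) (hker : π.ker = center H)
    (hZ : Nat.card (center H) = 2)
    (hns : ∀ L : Subgroup H, ¬ (center H).IsComplement' L)
    (k : ℕ) (a b : Q) (ha : orderOf a = 2) (hb : orderOf b = 2)
    (hab : orderOf ((a * b) ^ k) = 2)
    (hcard : Nat.card (closure ({a, b} : Set Q)) = 4 * k)
    (hodd : Odd (closure ({a, b} : Set Q)).index)
    (hconj : ∀ u v : Q, orderOf u = 2 → orderOf v = 2 → ∃ g : Q, g * u * g⁻¹ = v)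
    (x : H) (hx : orderOf x = 2) : x ∈ center H := by
  by_contra hxc
  have hxx : x * x = 1 := by rw [← pow_two, ← hx, pow_orderOf_eq_one]
  have hπx : orderOf (π x) = 2 := by
    have : Fact (Nat.Prime 2) := ⟨Nat.prime_two⟩
    apply orderOf_eq_prime
    · rw [← map_pow, pow_two, hxx, map_one]
    · intro h
      apply hxc
      rw [← hker]
      exact MonoidHom.mem_ker.mpr h
  -- every lift of an involution squares to one
  have claimA : ∀ w : H, orderOf (π w) = 2 → w * w = 1 := by
    intro w hw
    obtain ⟨g, hg⟩ := hconj (π x) (π w) hπx hw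
    obtain ⟨g', rfl⟩ := hπ g
    set y := g' * x * g'⁻¹ with hy
    have hyy : y * y = 1 := by
      rw [hy]
      calc g' * x * g'⁻¹ * (g' * x * g'⁻¹) = g' * (x * x) * g'⁻¹ := by group
        _ = 1 := by rw [hxx]; group
    have hmem : y⁻¹ * w ∈ center H := by
      rw [← hker, MonoidHom.mem_ker, map_mul, map_inv, hy, map_mul, map_mul, map_inv, hg,
        inv_mul_cancel]
    have hcc := central_sq_of_card_two hZ hmem
    have hcomm : y⁻¹ * w * y = y * (y⁻¹ * w) := (mem_center_iff.mp hmem y).symm
    calc w * w = y * (y⁻¹ * w) * (y * (y⁻¹ * w)) := by group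
      _ = y * (y⁻¹ * w * y) * (y⁻¹ * w) := by group
      _ = y * (y * (y⁻¹ * w)) * (y⁻¹ * w) := by rw [hcomm]
      _ = (y * y) * ((y⁻¹ * w) * (y⁻¹ * w)) := by group
      _ = 1 := by rw [hyy, hcc, one_mul]
  -- lifts of `a` and `b`
  obtain ⟨a', rfl⟩ := hπ a
  obtain ⟨b', rfl⟩ := hπ b
  have haa : a' * a' = 1 := claimA a' ha
  have hbb : b' * b' = 1 := claimA b' hb
  set c := a' * b' with hc
  have hck : (c ^ k) * (c ^ k) = 1 := by
    apply claimA
    rw [map_pow, hc, map_mul]
    exact hab
  have hcn : c ^ (2 * k) = 1 := by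
    rw [two_mul, pow_add]
    exact hck
  have hainv : a'⁻¹ = a' := inv_eq_of_mul_eq_one_right haa
  have hbinv : b'⁻¹ = b' := inv_eq_of_mul_eq_one_right hbb
  have hrel : a' * c * a'⁻¹ = c⁻¹ := by
    rw [hc, mul_inv_rev, hainv, hbinv]
    calc a' * (a' * b') * a' = (a' * a') * b' * a' := by group
      _ = b' * a' := by rw [haa, one_mul]
  let φ : DihedralGroup (2 * k) →* H := Cfsg.Agent.Helper45.dihHom (2 * k) c a' hcn haa hrel
  have hφr : ∀ i, φ (DihedralGroup.r i) = (Cfsg.Agent.Helper45.zpowHom (2 * k) c hcn i).toMul :=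
    fun _ => rfl
  have hφs : ∀ i, φ (DihedralGroup.sr i) =
      a' * (Cfsg.Agent.Helper45.zpowHom (2 * k) c hcn i).toMul := fun _ => rfl
  have hkpos : 0 < k := by
    rcases Nat.eq_zero_or_pos k with h0 | h0
    · exfalso
      rw [h0, pow_zero, orderOf_one] at hab
      norm_num at hab
    · exact h0
  have : NeZero (2 * k) := ⟨by omega⟩
  set L := φ.range with hL
  set S := closure ({π a', π b'} : Set Q) with hS
  set U := S.comap π with hU
  -- `a'` and `b'` lie in `L`
  have haL : a' ∈ L := ⟨DihedralGroup.sr 0, by rw [hφs, map_zero, toMul_zero, mul_one]⟩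
  have hbL : b' ∈ L := by
    refine ⟨DihedralGroup.sr 1, ?_⟩
    rw [hφs]
    have h1 := Cfsg.Agent.Helper45.zpowHom_intCast (2 * k) c hcn 1
    rw [Int.cast_one, zpow_one] at h1
    rw [h1, hc, ← mul_assoc, haa, one_mul]
  -- `L ≤ U`
  have hcS : π c ∈ S := by
    rw [hc, map_mul]
    exact mul_mem (subset_closure (by simp)) (subset_closure (by simp))
  have hLU : L ≤ U := by
    rintro _ ⟨d, rfl⟩
    rw [hU, mem_comap]
    rcases d with i | i
    · rw [hφr]
      obtain ⟨j, hj⟩ := mem_zpowers_iff.mp (Cfsg.Agent.Helper45.zpowHom_mem (2 * k) c hcn i)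
      rw [← hj, map_zpow]
      exact zpow_mem hcS j
    · rw [hφs, map_mul]
      obtain ⟨j, hj⟩ := mem_zpowers_iff.mp (Cfsg.Agent.Helper45.zpowHom_mem (2 * k) c hcn i)
      rw [← hj, map_zpow]
      exact mul_mem (subset_closure (by simp)) (zpow_mem hcS j)
  -- `π` maps `L` onto `S`
  have hSL : S ≤ L.map π := by
    rw [hS, closure_le]
    rintro q hq
    rcases hq with rfl | rfl
    · exact ⟨a', haL, rfl⟩
    · exact ⟨b', hbL, rfl⟩
  have hKU : center H ≤ U := by
    intro z hz
    rw [hU, mem_comap]
    rw [← hker, MonoidHom.mem_ker] at hz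
    rw [hz]
    exact one_mem _
  -- `K ⊔ L = U`
  have hsup : center H ⊔ L = U := by
    apply le_antisymm (sup_le hKU hLU)
    intro u hu
    rw [hU, mem_comap] at hu
    obtain ⟨l, hl, hlu⟩ := hSL hu
    have : u * l⁻¹ ∈ center H := by
      rw [← hker, MonoidHom.mem_ker, map_mul, map_inv, hlu, mul_inv_cancel]
    have h2 : u = (u * l⁻¹) * l := by group
    rw [h2]
    exact mul_mem (mem_sup_left this) (mem_sup_right hl)
  -- `L ⊓ K = ⊥` by counting
  have hLcard : Nat.card L ≤ 4 * k := by
    have h1 : Nat.card L ≤ Nat.card (DihedralGroup (2 * k)) :=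
      Nat.card_le_card_of_surjective φ.rangeRestrict φ.rangeRestrict_surjective
    rw [DihedralGroup.nat_card] at h1
    omega
  have hinf : L ⊓ center H = ⊥ := by
    -- the restriction of `π` to `L` is injective
    let ρ : L →* S := (π.comp L.subtype).codRestrict S (fun l => by
      have := hLU l.2
      rw [hU, mem_comap] at this
      exact this)
    have hρs : Function.Surjective ρ := by
      rintro ⟨s, hs⟩
      obtain ⟨l, hl, hls⟩ := hSL hs
      exact ⟨⟨l, hl⟩, Subtype.ext hls⟩
    have hSc : Nat.card L = Nat.card S := by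
      have h1 : Nat.card S ≤ Nat.card L := Nat.card_le_card_of_surjective ρ hρs
      rw [hcard] at h1 ⊢
      omega
    have hρi : Function.Injective ρ :=
      ((Nat.bijective_iff_surjective_and_card ρ).mpr ⟨hρs, hSc⟩).1
    rw [eq_bot_iff]
    rintro l ⟨hl, hlz⟩
    rw [mem_bot]
    have h1 : ρ ⟨l, hl⟩ = ρ 1 := by
      apply Subtype.ext
      show π l = π ((1 : L) : H)
      have hlz' : l ∈ π.ker := by rw [hker]; exact hlz
      rw [MonoidHom.mem_ker.mp hlz', OneMemClass.coe_one, map_one]
    have := congrArg Subtype.val (hρi h1)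
    exact this
  -- Gaschütz
  have hcop : (Nat.card (center H)).Coprime U.index := by
    rw [hZ, hU, index_comap_of_surjective S hπ]
    exact (Nat.coprime_two_left).mpr hodd
  obtain ⟨C, hC⟩ := Cfsg.Agent.S0051.result (center H) U hKU hcop L hLU hinf hsup
  exact hns C hC

end Cfsg.Agent.Helper66
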