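import Mathlib
import Cfsg.Prelude.Def_SporadicB
import Cfsg.Agent.Helper66.DblCoverInvol
import Cfsg.Agent.Helper66.AltInvolConj

/-!
# Non-split double covers of small alternating groups have a unique involution (S0447, part 1)
-/

set_option autoImplicit false

namespace Cfsg.Agent.Helper66

open Subgroup DihedralGroup

/-- The image of a dihedral group under `r i ↦ x ^ i`, `sr i ↦ s x ^ i` is generated by `s`, `s x`. -/
theorem closure_pair_eq_range {Q : Type*} [Group Q] (m : ℕ) (f : DihedralGroup m →* Q) (x s : Q)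
    (hr : ∀ i : ZMod m, f (r i) = x ^ i.val) (hs : ∀ i : ZMod m, f (sr i) = s * x ^ i.val)
    (hss : s * s = 1) (hs0 : f (sr 0) = s) (hs1 : f (sr 1) = s * x) :
    closure ({s, s * x} : Set Q) = f.range := by
  apply le_antisymm
  · rw [closure_le]
    rintro q hq
    rcases hq with rfl | rfl
    · exact ⟨sr 0, hs0⟩
    · exact ⟨sr 1, hs1⟩
  · have hsm : s ∈ closure ({s, s * x} : Set Q) := subset_closure (by simp)
    have hxm : x ∈ closure ({s, s * x} : Set Q) := by
      have h1 : s * (s * x) ∈ closure ({s, s * x} : Set Q) :=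
        mul_mem hsm (subset_closure (by simp))
      rwa [← mul_assoc, hss, one_mul] at h1
    rintro _ ⟨d, rfl⟩
    rcases d with i | i
    · rw [hr]
      exact pow_mem hxm _
    · rw [hs]
      exact mul_mem hsm (pow_mem hxm _)

theorem orderOf_eq_two_of {Q : Type*} [Group Q] {g : Q} (h1 : g ≠ 1) (h2 : g * g = 1) :
    orderOf g = 2 := by
  have : Fact (Nat.Prime 2) := ⟨Nat.prime_two⟩
  exact orderOf_eq_prime (by rw [pow_two]; exact h2) h1

/-- Part 1 of S0447 for one degree, given an explicit dihedral subgroup of odd index. -/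
theorem involution_central_of_dihedral {n : ℕ} (hn : n ≤ 7) {H : Type} [Group H] [Finite H]
    (hH : Cfsg.IsNonsplitDoubleCover H (alternatingGroup (Fin n))) (k : ℕ)
    (f : DihedralGroup (2 * k) →* alternatingGroup (Fin n)) (hf : Function.Injective f)
    (x s : alternatingGroup (Fin n))
    (hr : ∀ i : ZMod (2 * k), f (r i) = x ^ i.val)
    (hs : ∀ i : ZMod (2 * k), f (sr i) = s * x ^ i.val)
    (hs0 : f (sr 0) = s) (hs1 : f (sr 1) = s * x)
    (hss : s * s = 1) (hsne : s ≠ 1) (hbb : (s * x) * (s * x) = 1) (hbne : s * x ≠ 1)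
    (hxk : x ^ k ≠ 1) (hx2k : x ^ k * x ^ k = 1) (hodd : Odd f.range.index)
    (y : H) (hy : orderOf y = 2) : y ∈ center H := by
  obtain ⟨hZ, ⟨e⟩, hns⟩ := hH
  let π : H →* alternatingGroup (Fin n) := e.toMonoidHom.comp (QuotientGroup.mk' (center H))
  have hπ : Function.Surjective π := e.surjective.comp (QuotientGroup.mk'_surjective _)
  have hker : π.ker = center H := by
    ext g
    rw [MonoidHom.mem_ker, MonoidHom.comp_apply]
    show e (QuotientGroup.mk' (center H) g) = 1 ↔ _
    rw [e.map_eq_one_iff, QuotientGroup.mk'_apply, QuotientGroup.eq_one_iff]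
  have hcl := closure_pair_eq_range (2 * k) f x s hr hs hss hs0 hs1
  have hab : s * (s * x) = x := by rw [← mul_assoc, hss, one_mul]
  have hcard : Nat.card (closure ({s, s * x} : Set (alternatingGroup (Fin n)))) = 4 * k := by
    rw [hcl, ← Nat.card_congr (MonoidHom.ofInjective hf).toEquiv, DihedralGroup.nat_card]
    ring
  refine involution_mem_center_of_nonsplit π hπ hker hZ hns k s (s * x)
    (orderOf_eq_two_of hsne hss) (orderOf_eq_two_of hbne hbb) ?_ hcard ?_ ?_ y hy
  · rw [hab]
    exact orderOf_eq_two_of hxk hx2k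
  · rw [hcl]
    exact hodd
  · intro u v hu hv
    exact alt_involutions_conj (by rw [Fintype.card_fin]; exact hn) u v hu hv

end Cfsg.Agent.Helper66
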