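import Mathlib
import Cfsg.Agent.Helper66.DblCoverAlt
import Cfsg.Agent.Helper66.AltSub6

/-!
# Involutions in non-split double covers of `Alt(6)`
-/

set_option autoImplicit false

namespace Cfsg.Agent.Helper66.AltD6

open DihedralGroup Cfsg.Agent.Helper66.AltSub6

theorem facts : s * s = 1 ∧ s ≠ 1 ∧ (s * x) * (s * x) = 1 ∧ s * x ≠ 1 ∧ x ^ 2 ≠ 1 ∧
    x ^ 2 * x ^ 2 = 1 ∧ f1fun (sr 0) = s ∧ f1fun (sr 1) = s * x := by decide +kernel

/-- every involution of a non-split double cover of `Alt(6)` is central -/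
theorem involution_central {H : Type} [Group H] [Finite H]
    (hH : Cfsg.IsNonsplitDoubleCover H (alternatingGroup (Fin 6))) (y : H)
    (hy : orderOf y = 2) : y ∈ Subgroup.center H := by
  obtain ⟨h1, h2, h3, h4, h5, h6, h7, h8⟩ := facts
  exact involution_central_of_dihedral (n := 6) (by norm_num) hH 2 f1 f1_injective x s
    (fun _ => rfl) (fun _ => rfl) h7 h8 h1 h2 h3 h4 h5 h6 (by rw [index_f1]; decide) y hy

end Cfsg.Agent.Helper66.AltD6
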