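import Mathlib
import Cfsg.Agent.Helper66.SchurSix

/-!
# A dihedral subgroup of order 8 and an elementary abelian subgroup of order 9 in `Alt(7)`,
and the bound `|M(Alt(7))| ≤ 6`
-/

set_option autoImplicit false

namespace Cfsg.Agent.Helper66.AltSub7

def xp : Equiv.Perm (Fin 7) := Equiv.swap 0 1 * Equiv.swap 1 2 * Equiv.swap 2 3 * Equiv.swap 4 5
def sp : Equiv.Perm (Fin 7) := Equiv.swap 0 2 * Equiv.swap 4 5
def ap : Equiv.Perm (Fin 7) := Equiv.swap 0 1 * Equiv.swap 1 2
def bp : Equiv.Perm (Fin 7) := Equiv.swap 3 4 * Equiv.swap 4 5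

theorem xp_mem : xp ∈ alternatingGroup (Fin 7) := by
  rw [Equiv.Perm.mem_alternatingGroup]
  unfold xp
  simp only [Equiv.Perm.sign_mul]
  rw [Equiv.Perm.sign_swap (by decide), Equiv.Perm.sign_swap (by decide),
    Equiv.Perm.sign_swap (by decide), Equiv.Perm.sign_swap (by decide)]
  rfl

theorem sp_mem : sp ∈ alternatingGroup (Fin 7) := by
  rw [Equiv.Perm.mem_alternatingGroup]
  unfold sp
  rw [Equiv.Perm.sign_mul, Equiv.Perm.sign_swap (by decide), Equiv.Perm.sign_swap (by decide)]
  rfl

theorem ap_mem : ap ∈ alternatingGroup (Fin 7) := by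
  rw [Equiv.Perm.mem_alternatingGroup]
  unfold ap
  rw [Equiv.Perm.sign_mul, Equiv.Perm.sign_swap (by decide), Equiv.Perm.sign_swap (by decide)]
  rfl

theorem bp_mem : bp ∈ alternatingGroup (Fin 7) := by
  rw [Equiv.Perm.mem_alternatingGroup]
  unfold bp
  rw [Equiv.Perm.sign_mul, Equiv.Perm.sign_swap (by decide), Equiv.Perm.sign_swap (by decide)]
  rfl

def x : alternatingGroup (Fin 7) := ⟨xp, xp_mem⟩
def s : alternatingGroup (Fin 7) := ⟨sp, sp_mem⟩
def a : alternatingGroup (Fin 7) := ⟨ap, ap_mem⟩
def b : alternatingGroup (Fin 7) := ⟨bp, bp_mem⟩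

/-- the dihedral group of order 8 in `Alt(7)` -/
def f1fun : DihedralGroup 4 → alternatingGroup (Fin 7)
  | DihedralGroup.r i => x ^ i.val
  | DihedralGroup.sr i => s * x ^ i.val

theorem f1fun_one : f1fun 1 = 1 := by decide +kernel

theorem f1fun_mul : ∀ g h : DihedralGroup 4, f1fun (g * h) = f1fun g * f1fun h := by
  decide +kernel

theorem f1fun_inj : ∀ g h : DihedralGroup 4, f1fun g = f1fun h → g = h := by decide +kernel

def f1 : DihedralGroup 4 →* alternatingGroup (Fin 7) where
  toFun := f1fun
  map_one' := f1fun_one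
  map_mul' := f1fun_mul

theorem f1_injective : Function.Injective f1 := fun g h hgh => f1fun_inj g h hgh

/-- the elementary abelian group of order 9 in `Alt(7)` -/
def f2fun (v : ZMod 3 × ZMod 3) : alternatingGroup (Fin 7) := a ^ v.1.val * b ^ v.2.val

theorem f2fun_zero : f2fun 0 = 1 := by decide +kernel

theorem f2fun_add : ∀ v w : ZMod 3 × ZMod 3, f2fun (v + w) = f2fun v * f2fun w := by
  decide +kernel

theorem f2fun_inj : ∀ v w : ZMod 3 × ZMod 3, f2fun v = f2fun w → v = w := by decide +kernel

def f2 : Multiplicative (ZMod 3 × ZMod 3) →* alternatingGroup (Fin 7) where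
  toFun v := f2fun v.toAdd
  map_one' := f2fun_zero
  map_mul' v w := f2fun_add v.toAdd w.toAdd

theorem f2_injective : Function.Injective f2 := fun v w hvw =>
  Multiplicative.toAdd.injective (f2fun_inj v.toAdd w.toAdd hvw)

theorem card_alt : Nat.card (alternatingGroup (Fin 7)) = 2520 := by
  rw [nat_card_alternatingGroup, Nat.card_eq_fintype_card, Fintype.card_fin]
  decide

theorem index_f1 : f1.range.index = 315 := by
  have h := Subgroup.index_mul_card f1.range
  rw [card_alt, ← Nat.card_congr (MonoidHom.ofInjective f1_injective).toEquiv,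
    DihedralGroup.nat_card] at h
  omega

theorem index_f2 : f2.range.index = 280 := by
  have h := Subgroup.index_mul_card f2.range
  have h9 : Nat.card (Multiplicative (ZMod 3 × ZMod 3)) = 9 := by
    rw [Nat.card_eq_fintype_card]
    rfl
  rw [card_alt, ← Nat.card_congr (MonoidHom.ofInjective f2_injective).toEquiv, h9] at h
  omega

/-- the multiplier of `Alt(7)` has order at most 6 -/
theorem card_schurT_le : Nat.card (schurT (alternatingGroup (Fin 7))) ≤ 6 := by
  apply card_schurT_le_six ((dvd_of_eq card_alt).trans (by decide : 2520 ∣ 2520)) f1.range f2.range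
    (MonoidHom.ofInjective f1_injective) (MonoidHom.ofInjective f2_injective)
  rw [index_f1, index_f2]
  decide

end Cfsg.Agent.Helper66.AltSub7
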