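import Mathlib
import Cfsg.Agent.Helper66.DblCoverAlt

/-!
# A four-group of odd index in `Alt(5)`, and involutions in non-split double covers of `Alt(5)`
-/

set_option autoImplicit false

namespace Cfsg.Agent.Helper66.AltV5

open DihedralGroup

def xp : Equiv.Perm (Fin 5) := Equiv.swap 0 2 * Equiv.swap 1 3
def sp : Equiv.Perm (Fin 5) := Equiv.swap 0 1 * Equiv.swap 2 3

theorem xp_mem : xp ∈ alternatingGroup (Fin 5) := by
  rw [Equiv.Perm.mem_alternatingGroup]
  unfold xp
  rw [Equiv.Perm.sign_mul, Equiv.Perm.sign_swap (by decide), Equiv.Perm.sign_swap (by decide)]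
  rfl

theorem sp_mem : sp ∈ alternatingGroup (Fin 5) := by
  rw [Equiv.Perm.mem_alternatingGroup]
  unfold sp
  rw [Equiv.Perm.sign_mul, Equiv.Perm.sign_swap (by decide), Equiv.Perm.sign_swap (by decide)]
  rfl

def x : alternatingGroup (Fin 5) := ⟨xp, xp_mem⟩
def s : alternatingGroup (Fin 5) := ⟨sp, sp_mem⟩

def f1fun : DihedralGroup 2 → alternatingGroup (Fin 5)
  | DihedralGroup.r i => x ^ i.val
  | DihedralGroup.sr i => s * x ^ i.val

theorem f1fun_one : f1fun 1 = 1 := by decide +kernel

theorem f1fun_mul : ∀ g h : DihedralGroup 2, f1fun (g * h) = f1fun g * f1fun h := by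
  decide +kernel

theorem f1fun_inj : ∀ g h : DihedralGroup 2, f1fun g = f1fun h → g = h := by decide +kernel

def f1 : DihedralGroup 2 →* alternatingGroup (Fin 5) where
  toFun := f1fun
  map_one' := f1fun_one
  map_mul' := f1fun_mul

theorem f1_injective : Function.Injective f1 := fun g h hgh => f1fun_inj g h hgh

theorem card_alt : Nat.card (alternatingGroup (Fin 5)) = 60 := by
  rw [nat_card_alternatingGroup, Nat.card_eq_fintype_card, Fintype.card_fin]
  decide

theorem index_f1 : f1.range.index = 15 := by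
  have h := Subgroup.index_mul_card f1.range
  rw [card_alt, ← Nat.card_congr (MonoidHom.ofInjective f1_injective).toEquiv,
    DihedralGroup.nat_card] at h
  omega

theorem facts : s * s = 1 ∧ s ≠ 1 ∧ (s * x) * (s * x) = 1 ∧ s * x ≠ 1 ∧ x ^ 1 ≠ 1 ∧
    x ^ 1 * x ^ 1 = 1 ∧ f1fun (sr 0) = s ∧ f1fun (sr 1) = s * x := by decide +kernel

/-- every involution of a non-split double cover of `Alt(5)` is central -/
theorem involution_central {H : Type} [Group H] [Finite H]
    (hH : Cfsg.IsNonsplitDoubleCover H (alternatingGroup (Fin 5))) (y : H)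
    (hy : orderOf y = 2) : y ∈ Subgroup.center H := by
  obtain ⟨h1, h2, h3, h4, h5, h6, h7, h8⟩ := facts
  exact involution_central_of_dihedral (n := 5) (by norm_num) hH 1 f1 f1_injective x s
    (fun _ => rfl) (fun _ => rfl) h7 h8 h1 h2 h3 h4 h5 h6 (by rw [index_f1]; decide) y hy

end Cfsg.Agent.Helper66.AltV5
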