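import Mathlib

/-!
# Fourier analysis on a finite abelian group with a fixed-point-free group of automorphisms

The abstract computation behind the Brauer–Leonard theorem: from the column orthogonality
relations on `A ∖ {1}` we get the Gram matrix of the integer vectors
`α i ψ = ⟨F i, ψ⟩ - ⟨F i, 1⟩`.
-/

set_option autoImplicit false
set_option linter.unusedSectionVars false

namespace Cfsg.Agent.Helper66.BL

open scoped ComplexConjugate
open Finset

section dual

variable {A : Type*} [CommGroup A] [Finite A]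

theorem finite_hom : Finite (A →* ℂˣ) := by
  have : NeZero (Monoid.exponent A) := ⟨Monoid.exponent_ne_zero_of_finite⟩
  obtain ⟨e⟩ := CommGroup.monoidHom_mulEquiv_of_hasEnoughRootsOfUnity A ℂ
  exact Finite.of_equiv A e.symm.toEquiv

/-- Values of a hom on a finite group have norm one, so conjugation is inversion. -/
theorem conj_hom_apply (ψ : A →* ℂˣ) (a : A) :
    conj ((ψ a : ℂˣ) : ℂ) = ((ψ a⁻¹ : ℂˣ) : ℂ) := by
  have hpow : ((ψ a : ℂˣ) : ℂ) ^ Nat.card A = 1 := by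
    rw [← Units.val_pow_eq_pow_val, ← map_pow, pow_card_eq_one', map_one, Units.val_one]
  have hnorm : ‖((ψ a : ℂˣ) : ℂ)‖ = 1 :=
    Complex.norm_eq_one_of_pow_eq_one hpow (Nat.card_pos.ne')
  rw [map_inv, Units.val_inv_eq_inv_val]
  exact (Complex.inv_eq_conj hnorm).symm

variable [Fintype A]

/-- First orthogonality: a nontrivial hom sums to zero. -/
theorem sum_hom_eq_zero {ψ : A →* ℂˣ} (hψ : ψ ≠ 1) : ∑ a, ((ψ a : ℂˣ) : ℂ) = 0 := by
  have : ∃ b, ψ b ≠ 1 := by
    by_contra h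
    push_neg at h
    exact hψ (MonoidHom.ext h)
  obtain ⟨b, hb⟩ := this
  have h := Fintype.sum_equiv (Equiv.mulLeft b)
    (fun a => ((ψ b : ℂˣ) : ℂ) * ((ψ a : ℂˣ) : ℂ)) (fun a => ((ψ a : ℂˣ) : ℂ))
    (fun a => by simp)
  rw [← Finset.mul_sum] at h
  have hne' : ((ψ b : ℂˣ) : ℂ) ≠ 1 := fun h' => hb (Units.ext h')
  have : (((ψ b : ℂˣ) : ℂ) - 1) * ∑ a, ((ψ a : ℂˣ) : ℂ) = 0 := by
    rw [sub_mul, h, one_mul, sub_self]
  rcases mul_eq_zero.mp this with h' | h'
  · exact absurd (sub_eq_zero.mp h') hne'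
  · exact h'

theorem sum_hom_one : ∑ a : A, (((1 : A →* ℂˣ) a : ℂˣ) : ℂ) = (Fintype.card A : ℂ) := by
  simp

open Classical in
theorem sum_conj_mul (ψ ψ' : A →* ℂˣ) :
    ∑ a, conj ((ψ a : ℂˣ) : ℂ) * ((ψ' a : ℂˣ) : ℂ) =
      if ψ' = ψ then (Fintype.card A : ℂ) else 0 := by
  have e : ∀ a, conj ((ψ a : ℂˣ) : ℂ) * ((ψ' a : ℂˣ) : ℂ) = (((ψ⁻¹ * ψ') a : ℂˣ) : ℂ) := by
    intro a
    rw [conj_hom_apply, MonoidHom.mul_apply, MonoidHom.inv_apply, Units.val_mul, map_inv]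
  rw [Finset.sum_congr rfl (fun a _ => e a)]
  by_cases h : ψ' = ψ
  · have h1 : ψ⁻¹ * ψ = 1 := inv_mul_cancel ψ
    rw [if_pos h, h, h1]
    exact sum_hom_one
  · rw [if_neg h]
    apply sum_hom_eq_zero
    intro h'
    exact h (inv_mul_eq_one.mp h').symm

/-- Second orthogonality. -/
theorem sum_over_hom_of_ne [Fintype (A →* ℂˣ)] {a : A} (ha : a ≠ 1) :
    ∑ φ : A →* ℂˣ, ((φ a : ℂˣ) : ℂ) = 0 := by
  have : NeZero (Monoid.exponent A) := ⟨Monoid.exponent_ne_zero_of_finite⟩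
  obtain ⟨φ₀, hφ₀⟩ := CommGroup.exists_apply_ne_one_of_hasEnoughRootsOfUnity A ℂ ha
  have h := Fintype.sum_equiv (Equiv.mulLeft φ₀)
    (fun φ : A →* ℂˣ => ((φ₀ a : ℂˣ) : ℂ) * ((φ a : ℂˣ) : ℂ))
    (fun φ => ((φ a : ℂˣ) : ℂ)) (fun φ => by simp)
  rw [← Finset.mul_sum] at h
  have hne' : ((φ₀ a : ℂˣ) : ℂ) ≠ 1 := fun h' => hφ₀ (Units.ext h')
  have : (((φ₀ a : ℂˣ) : ℂ) - 1) * ∑ φ : A →* ℂˣ, ((φ a : ℂˣ) : ℂ) = 0 := by
    rw [sub_mul, h, one_mul, sub_self]
  rcases mul_eq_zero.mp this with h' | h'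
  · exact absurd (sub_eq_zero.mp h') hne'
  · exact h'

theorem sum_over_hom_one [Fintype (A →* ℂˣ)] :
    ∑ φ : A →* ℂˣ, ((φ (1 : A) : ℂˣ) : ℂ) = (Fintype.card A : ℂ) := by
  have : NeZero (Monoid.exponent A) := ⟨Monoid.exponent_ne_zero_of_finite⟩
  simp only [map_one, Units.val_one, Finset.sum_const, Finset.card_univ, nsmul_eq_mul, mul_one]
  rw [← Nat.card_eq_fintype_card, CommGroup.card_monoidHom_of_hasEnoughRootsOfUnity A ℂ,
    Nat.card_eq_fintype_card]

/-- The multiplicity of the linear character `ψ` in the function `F`. -/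
noncomputable def mult (F : A → ℂ) (ψ : A →* ℂˣ) : ℂ :=
  (Fintype.card A : ℂ)⁻¹ * ∑ a, F a * conj ((ψ a : ℂˣ) : ℂ)

theorem card_ne_zero' : (Fintype.card A : ℂ) ≠ 0 := by
  have : 0 < Fintype.card A := Fintype.card_pos
  exact_mod_cast this.ne'

/-- Fourier inversion. -/
theorem fourier_inversion [Fintype (A →* ℂˣ)] (F : A → ℂ) (a : A) :
    F a = ∑ ψ : A →* ℂˣ, mult F ψ * ((ψ a : ℂˣ) : ℂ) := by
  classical
  unfold mult
  have e1 : ∀ ψ : A →* ℂˣ, (Fintype.card A : ℂ)⁻¹ * (∑ b, F b * conj ((ψ b : ℂˣ) : ℂ)) *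
      ((ψ a : ℂˣ) : ℂ) = (Fintype.card A : ℂ)⁻¹ * ∑ b, F b * ((ψ (a * b⁻¹) : ℂˣ) : ℂ) := by
    intro ψ
    rw [mul_assoc, Finset.sum_mul]
    congr 1
    refine Finset.sum_congr rfl (fun b _ => ?_)
    rw [conj_hom_apply, map_mul, Units.val_mul]
    ring
  rw [Finset.sum_congr rfl (fun ψ _ => e1 ψ), ← Finset.mul_sum, Finset.sum_comm]
  have e2 : ∀ b, ∑ ψ : A →* ℂˣ, F b * ((ψ (a * b⁻¹) : ℂˣ) : ℂ) =
      if b = a then F a * (Fintype.card A : ℂ) else 0 := by
    intro b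
    rw [← Finset.mul_sum]
    by_cases h : b = a
    · rw [if_pos h, h, mul_inv_cancel, sum_over_hom_one]
    · rw [if_neg h, sum_over_hom_of_ne, mul_zero]
      intro h'
      apply h
      have := mul_inv_eq_one.mp h'
      exact this.symm
  rw [Finset.sum_congr rfl (fun b _ => e2 b), Finset.sum_ite_eq' Finset.univ a, if_pos (Finset.mem_univ a)]
  field_simp [card_ne_zero' (A := A)]

end dual

section gram

variable {A : Type*} [CommGroup A] [Fintype A] [DecidableEq A]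
variable (Γ : Subgroup (MulAut A)) [Fintype Γ]

/-- The difference of multiplicities as a single sum. -/
theorem mult_sub_mult_one (F : A → ℂ) (ψ : A →* ℂˣ) :
    mult F ψ - mult F 1 =
      (Fintype.card A : ℂ)⁻¹ * ∑ a, F a * (conj ((ψ a : ℂˣ) : ℂ) - 1) := by
  unfold mult
  rw [← mul_sub, ← Finset.sum_sub_distrib]
  congr 1
  refine Finset.sum_congr rfl (fun a _ => ?_)
  simp only [MonoidHom.one_apply, Units.val_one, map_one]
  ring

theorem conj_mult_sub_mult_one (F : A → ℂ) (ψ : A →* ℂˣ) :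
    conj (mult F ψ - mult F 1) =
      (Fintype.card A : ℂ)⁻¹ * ∑ a, conj (F a) * (((ψ a : ℂˣ) : ℂ) - 1) := by
  rw [mult_sub_mult_one, map_mul, map_inv₀, map_natCast, map_sum]
  congr 1
  refine Finset.sum_congr rfl (fun a _ => ?_)
  rw [map_mul, map_sub, Complex.conj_conj, map_one]

variable {Γ}

open Classical in
/-- Summing over the `Γ`-orbit of a non-identity element. -/
theorem sum_orbit (hfree : ∀ γ ∈ Γ, ∀ a : A, a ≠ 1 → γ a = a → γ = 1) (a : A) (ha : a ≠ 1)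
    (h : A → ℂ) :
    ∑ a', (if ∃ γ ∈ Γ, γ a = a' then h a' else 0) = ∑ γ : Γ, h ((γ : MulAut A) a) := by
  classical
  have hinj : Function.Injective (fun γ : Γ => (γ : MulAut A) a) := by
    intro γ γ' hγ
    have h1 : ((γ'⁻¹ * γ : Γ) : MulAut A) a = a := by
      have : (γ : MulAut A) a = (γ' : MulAut A) a := hγ
      simp only [Subgroup.coe_mul, Subgroup.coe_inv, MulAut.mul_apply, this]
      exact (γ' : MulAut A).symm_apply_apply a
    have h2 := hfree _ (γ'⁻¹ * γ).2 a ha h1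
    have h3 : γ'⁻¹ * γ = 1 := Subtype.ext h2
    exact (inv_mul_eq_one.mp h3).symm
  rw [← Finset.sum_image (s := Finset.univ) (g := fun γ : Γ => (γ : MulAut A) a) (f := h)
    (fun x _ y _ hxy => hinj hxy)]
  rw [← Finset.sum_filter]
  apply Finset.sum_congr _ (fun _ _ => rfl)
  ext a'
  simp only [Finset.mem_filter, Finset.mem_univ, true_and, Finset.mem_image, Subtype.exists,
    exists_prop]

/-- A fixed-point-free group of automorphisms also acts fixed-point-freely on the dual. -/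
theorem hom_free (hfree : ∀ γ ∈ Γ, ∀ a : A, a ≠ 1 → γ a = a → γ = 1) (γ : MulAut A)
    (hγ : γ ∈ Γ) (hγ1 : γ ≠ 1) (ψ : A →* ℂˣ) (hψ : ψ.comp γ.toMonoidHom = ψ) : ψ = 1 := by
  -- the endomorphism `a ↦ γ a * a⁻¹` is injective, hence surjective
  let φ : A →* A :=
    { toFun := fun a => γ a * a⁻¹
      map_one' := by simp
      map_mul' := fun a b => by
        rw [map_mul, mul_inv]
        exact mul_mul_mul_comm _ _ _ _ }
  have hinj : Function.Injective φ := by
    rw [injective_iff_map_eq_one]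
    intro a ha
    by_contra hne
    have : γ a = a := by
      have : γ a * a⁻¹ = 1 := ha
      exact mul_inv_eq_one.mp this
    exact hγ1 (hfree γ hγ a hne this)
  have hsurj : Function.Surjective φ := Finite.surjective_of_injective hinj
  ext a
  obtain ⟨b, rfl⟩ := hsurj a
  have h1 : ψ (γ b) = ψ b := by
    have := DFunLike.congr_fun hψ b
    simpa using this
  have : ψ (φ b) = 1 := by
    show ψ (γ b * b⁻¹) = 1
    rw [map_mul, h1, map_inv, mul_inv_cancel]
  rw [this]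
  simp

open Classical in
/-- **Gram matrix.** -/
theorem gram_complex (hfree : ∀ γ ∈ Γ, ∀ a : A, a ≠ 1 → γ a = a → γ = 1)
    {ι : Type*} [Fintype ι] (F : ι → A → ℂ)
    (hK : ∀ a a', a ≠ 1 → a' ≠ 1 → ∑ i, F i a * conj (F i a') =
      if ∃ γ ∈ Γ, γ a = a' then (Fintype.card A : ℂ) else 0)
    (ψ ψ' : A →* ℂˣ) (hψ : ψ ≠ 1) (hψ' : ψ' ≠ 1) :
    ∑ i, (mult (F i) ψ - mult (F i) 1) * conj (mult (F i) ψ' - mult (F i) 1) =
      (Fintype.card Γ : ℂ) +
        ((Finset.univ.filter fun γ : Γ => ψ'.comp (γ : MulAut A).toMonoidHom = ψ).card : ℂ) := by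
  classical
  set g : A → ℂ := fun a => conj ((ψ a : ℂˣ) : ℂ) - 1 with hg
  set h : A → ℂ := fun a => ((ψ' a : ℂˣ) : ℂ) - 1 with hh
  have hg1 : g 1 = 0 := by simp [hg]
  have hh1 : h 1 = 0 := by simp [hh]
  have hc := card_ne_zero' (A := A)
  -- step 1: expand the product
  have e1 : ∀ i, (mult (F i) ψ - mult (F i) 1) * conj (mult (F i) ψ' - mult (F i) 1) =
      (Fintype.card A : ℂ)⁻¹ ^ 2 * ∑ a, ∑ a', g a * h a' * (F i a * conj (F i a')) := by
    intro i
    rw [mult_sub_mult_one, conj_mult_sub_mult_one, mul_mul_mul_comm, ← sq, Finset.sum_mul_sum]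
    congr 1
    refine Finset.sum_congr rfl (fun a _ => Finset.sum_congr rfl (fun a' _ => ?_))
    ring
  rw [Finset.sum_congr rfl (fun i _ => e1 i), ← Finset.mul_sum]
  -- step 2: bring the sum over `i` inside
  have e2 : ∑ i, ∑ a, ∑ a', g a * h a' * (F i a * conj (F i a')) =
      ∑ a, ∑ a', g a * h a' * ∑ i, F i a * conj (F i a') := by
    rw [Finset.sum_comm]
    refine Finset.sum_congr rfl (fun a _ => ?_)
    rw [Finset.sum_comm]
    refine Finset.sum_congr rfl (fun a' _ => ?_)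
    rw [Finset.mul_sum]
  rw [e2]
  -- step 3: use the column relations
  have e3 : ∀ a, ∑ a', g a * h a' * ∑ i, F i a * conj (F i a') =
      (Fintype.card A : ℂ) * (g a * ∑ γ : Γ, h ((γ : MulAut A) a)) := by
    intro a
    by_cases ha : a = 1
    · rw [ha, hg1]
      simp
    · rw [← sum_orbit hfree a ha h, Finset.mul_sum, Finset.mul_sum]
      refine Finset.sum_congr rfl (fun a' _ => ?_)
      by_cases ha' : a' = 1
      · rw [ha', hh1]
        simp
      · rw [hK a a' ha ha']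
        split_ifs <;> ring
  rw [Finset.sum_congr rfl (fun a _ => e3 a), ← Finset.mul_sum]
  -- step 4: swap and evaluate
  have e4 : ∑ a, g a * ∑ γ : Γ, h ((γ : MulAut A) a) =
      ∑ γ : Γ, ∑ a, g a * h ((γ : MulAut A) a) := by
    rw [Finset.sum_comm]
    refine Finset.sum_congr rfl (fun a _ => ?_)
    rw [Finset.mul_sum]
  rw [e4]
  have e5 : ∀ γ : Γ, ∑ a, g a * h ((γ : MulAut A) a) =
      (Fintype.card A : ℂ) *
        ((if ψ'.comp (γ : MulAut A).toMonoidHom = ψ then 1 else 0) + 1) := by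
    intro γ
    have e51 : ∀ a, g a * h ((γ : MulAut A) a) =
        conj ((ψ a : ℂˣ) : ℂ) * (((ψ'.comp (γ : MulAut A).toMonoidHom) a : ℂˣ) : ℂ)
          - conj ((ψ a : ℂˣ) : ℂ) - (((ψ'.comp (γ : MulAut A).toMonoidHom) a : ℂˣ) : ℂ) + 1 := by
      intro a
      simp only [hg, hh, MonoidHom.comp_apply, MulEquiv.coe_toMonoidHom]
      ring
    rw [Finset.sum_congr rfl (fun a _ => e51 a), Finset.sum_add_distrib, Finset.sum_sub_distrib,
      Finset.sum_sub_distrib, sum_conj_mul, ← map_sum, sum_hom_eq_zero hψ, map_zero]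
    have hne : ψ'.comp (γ : MulAut A).toMonoidHom ≠ 1 := by
      intro h1
      apply hψ'
      ext a
      have := DFunLike.congr_fun h1 ((γ : MulAut A).symm a)
      simpa using this
    rw [sum_hom_eq_zero hne]
    simp only [Finset.sum_const, Finset.card_univ, nsmul_eq_mul, mul_one, sub_zero]
    split_ifs <;> ring
  rw [Finset.sum_congr rfl (fun γ _ => e5 γ), ← Finset.mul_sum, Finset.sum_add_distrib,
    Finset.sum_boole]
  simp only [Finset.sum_const, Finset.card_univ, nsmul_eq_mul, mul_one]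
  field_simp
  ring

/-- Test vectors orthogonal to all columns on `A ∖ {1}` are orthogonal to the `α`'s. -/
theorem test_vector {ι : Type*} [Fintype ι] (F : ι → A → ℂ) (t : ι → ℂ)
    (ht : ∀ a, a ≠ 1 → ∑ i, t i * conj (F i a) = 0) (ψ : A →* ℂˣ) :
    ∑ i, t i * conj (mult (F i) ψ - mult (F i) 1) = 0 := by
  have e1 : ∀ i, t i * conj (mult (F i) ψ - mult (F i) 1) =
      (Fintype.card A : ℂ)⁻¹ * ∑ a, (((ψ a : ℂˣ) : ℂ) - 1) * (t i * conj (F i a)) := by
    intro i
    rw [conj_mult_sub_mult_one, mul_left_comm, Finset.mul_sum]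
    congr 1
    refine Finset.sum_congr rfl (fun a _ => ?_)
    ring
  rw [Finset.sum_congr rfl (fun i _ => e1 i), ← Finset.mul_sum, Finset.sum_comm]
  have e2 : ∀ a, ∑ i, (((ψ a : ℂˣ) : ℂ) - 1) * (t i * conj (F i a)) = 0 := by
    intro a
    rw [← Finset.mul_sum]
    by_cases ha : a = 1
    · rw [ha]; simp
    · rw [ht a ha, mul_zero]
  rw [Finset.sum_congr rfl (fun a _ => e2 a)]
  simp

/-- Expansion of `F` on `A ∖ {1}` in terms of the differences of multiplicities. -/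
theorem expansion [Fintype (A →* ℂˣ)] (F : A → ℂ) (a : A) (ha : a ≠ 1) :
    F a = ∑ ψ : A →* ℂˣ, (mult F ψ - mult F 1) * ((ψ a : ℂˣ) : ℂ) := by
  have e1 : ∀ ψ : A →* ℂˣ, (mult F ψ - mult F 1) * ((ψ a : ℂˣ) : ℂ) =
      mult F ψ * ((ψ a : ℂˣ) : ℂ) - mult F 1 * ((ψ a : ℂˣ) : ℂ) := fun ψ => by ring
  rw [Finset.sum_congr rfl (fun ψ _ => e1 ψ), Finset.sum_sub_distrib, ← Finset.mul_sum,
    sum_over_hom_of_ne ha, mul_zero, sub_zero]
  exact fourier_inversion F a

end gram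

end Cfsg.Agent.Helper66.BL
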