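import Cfsg.Agent.Helper66.BLLattice
import Cfsg.Agent.Helper66.BLFourier

/-!
# The Brauer–Leonard structure theorem, abstract form

A finite abelian group `A`, a group `Γ` of automorphisms acting freely on `A ∖ {1}`, and a finite
family of functions `F i : A → ℂ` whose columns on `A ∖ {1}` satisfy the orthogonality relations
of a principal block, with integral "multiplicity differences" `α i ψ`.
-/

set_option autoImplicit false
set_option linter.unusedSectionVars false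
set_option linter.unusedVariables false

namespace Cfsg.Agent.Helper66.BL

open scoped ComplexConjugate

section abstract

variable {A : Type*} [CommGroup A] [Fintype A] [DecidableEq A]
variable (Γ : Subgroup (MulAut A)) [Fintype Γ]

/-- The orbit relation on the dual group. -/
def dualRel (ψ ψ' : A →* ℂˣ) : Prop :=
  ∃ γ ∈ Γ, ψ'.comp (γ : MulAut A).toMonoidHom = ψ

theorem dualRel_refl (ψ : A →* ℂˣ) : dualRel Γ ψ ψ :=
  ⟨1, Γ.one_mem, by ext a; simp⟩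

theorem dualRel_symm {ψ ψ' : A →* ℂˣ} (h : dualRel Γ ψ ψ') : dualRel Γ ψ' ψ := by
  obtain ⟨γ, hγ, rfl⟩ := h
  refine ⟨γ⁻¹, Γ.inv_mem hγ, ?_⟩
  ext a
  simp

theorem dualRel_trans {ψ ψ' ψ'' : A →* ℂˣ} (h : dualRel Γ ψ ψ') (h' : dualRel Γ ψ' ψ'') :
    dualRel Γ ψ ψ'' := by
  obtain ⟨γ, hγ, rfl⟩ := h
  obtain ⟨γ', hγ', rfl⟩ := h'
  refine ⟨γ' * γ, Γ.mul_mem hγ' hγ, ?_⟩
  ext a
  simp

theorem dualRel_one_right {ψ : A →* ℂˣ} (h : dualRel Γ ψ 1) : ψ = 1 := by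
  obtain ⟨γ, _, rfl⟩ := h
  ext a
  simp

theorem dualRel_ne_one {ψ ψ' : A →* ℂˣ} (hψ : ψ ≠ 1) (h : dualRel Γ ψ ψ') : ψ' ≠ 1 := by
  rintro rfl
  exact hψ (dualRel_one_right Γ h)

variable {Γ}

/-- Uniqueness of the automorphism realizing the relation. -/
theorem dualRel_unique (hfree : ∀ γ ∈ Γ, ∀ a : A, a ≠ 1 → γ a = a → γ = 1)
    {ψ ψ' : A →* ℂˣ} (hψ' : ψ' ≠ 1) {γ γ' : MulAut A} (hγ : γ ∈ Γ) (hγ' : γ' ∈ Γ)
    (h : ψ'.comp γ.toMonoidHom = ψ) (h' : ψ'.comp γ'.toMonoidHom = ψ) : γ = γ' := by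
  by_contra hne
  have hne' : γ * γ'⁻¹ ≠ 1 := fun h1 => hne (mul_inv_eq_one.mp h1)
  apply hψ'
  refine hom_free hfree (γ * γ'⁻¹) (Γ.mul_mem hγ (Γ.inv_mem hγ')) hne' ψ' ?_
  ext a
  have e1 : ψ' (γ (γ'⁻¹ a)) = ψ (γ'⁻¹ a) := by rw [← h]; rfl
  have e2 : ψ (γ'⁻¹ a) = ψ' (γ' (γ'⁻¹ a)) := by rw [← h']; rfl
  simp only [MonoidHom.coe_comp, MulEquiv.coe_toMonoidHom, Function.comp_apply, MulAut.mul_apply]
  rw [e1, e2]
  simp


section gramInt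

variable {ι : Type*} [Fintype ι] [DecidableEq ι]

open Classical in
/-- The integral Gram matrix. -/
theorem int_gram (hfree : ∀ γ ∈ Γ, ∀ a : A, a ≠ 1 → γ a = a → γ = 1)
    (F : ι → A → ℂ)
    (hK : ∀ a a', a ≠ 1 → a' ≠ 1 → ∑ i, F i a * conj (F i a') =
      if ∃ γ ∈ Γ, γ a = a' then (Fintype.card A : ℂ) else 0)
    (α : ι → (A →* ℂˣ) → ℤ)
    (hα : ∀ i ψ, ψ ≠ 1 → (α i ψ : ℂ) = mult (F i) ψ - mult (F i) 1)
    (ψ ψ' : A →* ℂˣ) (hψ : ψ ≠ 1) (hψ' : ψ' ≠ 1) :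
    ∑ i, α i ψ * α i ψ' = (Fintype.card Γ : ℤ) + (if dualRel Γ ψ ψ' then 1 else 0) := by
  have h := gram_complex hfree F hK ψ ψ' hψ hψ'
  have e1 : ∀ i, (mult (F i) ψ - mult (F i) 1) * conj (mult (F i) ψ' - mult (F i) 1) =
      ((α i ψ * α i ψ' : ℤ) : ℂ) := by
    intro i
    rw [← hα i ψ hψ, ← hα i ψ' hψ', map_intCast]
    push_cast
    ring
  rw [Finset.sum_congr rfl (fun i _ => e1 i), ← Int.cast_sum] at h
  have hcard : (Finset.univ.filter fun γ : Γ => ψ'.comp (γ : MulAut A).toMonoidHom = ψ).card =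
      if dualRel Γ ψ ψ' then 1 else 0 := by
    by_cases hr : dualRel Γ ψ ψ'
    · rw [if_pos hr]
      obtain ⟨γ₀, hγ₀, h₀⟩ := hr
      rw [Finset.card_eq_one]
      refine ⟨⟨γ₀, hγ₀⟩, ?_⟩
      ext γ
      simp only [Finset.mem_filter, Finset.mem_univ, true_and, Finset.mem_singleton]
      constructor
      · intro hγ
        exact Subtype.ext (dualRel_unique hfree hψ' γ.2 hγ₀ hγ h₀)
      · rintro rfl
        exact h₀
    · rw [if_neg hr, Finset.card_eq_zero, Finset.filter_eq_empty_iff]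
      intro γ _ hγ
      exact hr ⟨γ, γ.2, hγ⟩
  rw [hcard] at h
  have : ((∑ i, α i ψ * α i ψ' : ℤ) : ℂ) =
      (((Fintype.card Γ : ℤ) + (if dualRel Γ ψ ψ' then 1 else 0) : ℤ) : ℂ) := by
    rw [h]
    push_cast
    by_cases hr : dualRel Γ ψ ψ' <;> simp [hr]
  exact_mod_cast this

end gramInt


section structureThm

variable {ι : Type*} [Fintype ι] [DecidableEq ι]

/-- The number of characters of `A`. -/
theorem card_dual [Fintype (A →* ℂˣ)] : Fintype.card (A →* ℂˣ) = Fintype.card A := by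
  have : NeZero (Monoid.exponent A) := ⟨Monoid.exponent_ne_zero_of_finite⟩
  rw [← Nat.card_eq_fintype_card, CommGroup.card_monoidHom_of_hasEnoughRootsOfUnity A ℂ,
    Nat.card_eq_fintype_card]

/-- There are two unrelated nontrivial characters if `|Γ| + 1 < |A|`. -/
theorem exists_unrelated (hcard : Fintype.card Γ + 1 < Fintype.card A) :
    ∃ ψ ψ' : A →* ℂˣ, ψ ≠ 1 ∧ ψ' ≠ 1 ∧ ¬ dualRel Γ ψ ψ' := by
  classical
  haveI : Finite (A →* ℂˣ) := finite_hom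
  haveI : Fintype (A →* ℂˣ) := Fintype.ofFinite _
  by_contra hcon
  push_neg at hcon
  have hS : (Finset.univ.filter fun ψ : A →* ℂˣ => ψ ≠ 1).card = Fintype.card A - 1 := by
    rw [Finset.filter_ne' Finset.univ (1 : A →* ℂˣ), Finset.card_erase_of_mem (Finset.mem_univ _),
      Finset.card_univ, card_dual]
  have hne : (Finset.univ.filter fun ψ : A →* ℂˣ => ψ ≠ 1).Nonempty := by
    rw [← Finset.card_pos, hS]; omega
  obtain ⟨ψ₀, hψ₀⟩ := hne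
  rw [Finset.mem_filter] at hψ₀
  have hsub : (Finset.univ.filter fun ψ : A →* ℂˣ => ψ ≠ 1) ⊆
      Finset.univ.image (fun γ : Γ => ψ₀.comp ((γ : MulAut A)⁻¹).toMonoidHom) := by
    intro ψ hψ
    rw [Finset.mem_filter] at hψ
    obtain ⟨γ, hγ, h⟩ := hcon ψ₀ ψ hψ₀.2 hψ.2
    rw [Finset.mem_image]
    refine ⟨⟨γ, hγ⟩, Finset.mem_univ _, ?_⟩
    rw [← h]
    ext a
    simp
  have := (Finset.card_le_card hsub).trans Finset.card_image_le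
  rw [hS, Finset.card_univ] at this
  omega

open Classical in
/-- **Structure theorem (abstract Brauer–Leonard).** -/
theorem abstract_structure (hfree : ∀ γ ∈ Γ, ∀ a : A, a ≠ 1 → γ a = a → γ = 1)
    (F : ι → A → ℂ)
    (hK : ∀ a a', a ≠ 1 → a' ≠ 1 → ∑ i, F i a * conj (F i a') =
      if ∃ γ ∈ Γ, γ a = a' then (Fintype.card A : ℂ) else 0)
    (α : ι → (A →* ℂˣ) → ℤ)
    (hα : ∀ i ψ, ψ ≠ 1 → (α i ψ : ℂ) = mult (F i) ψ - mult (F i) 1)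
    (x : ι → ℤ) (hx : ∀ i, 0 < x i)
    (hxF : ∀ a, a ≠ 1 → ∑ i, (x i : ℂ) * conj (F i a) = 0)
    (hcard : Fintype.card Γ + 1 < Fintype.card A) :
    ∃ (a : ι → ℤ) (δ d : ℤ) (θ : {ψ : A →* ℂˣ // ψ ≠ 1} → ι), (δ = 1 ∨ δ = -1) ∧
      (∀ ψ i, α i ψ.1 = - a i + (if i = θ ψ then δ else 0)) ∧
      (∀ ψ ψ', θ ψ = θ ψ' ↔ dualRel Γ ψ.1 ψ'.1) ∧ ∀ ψ, a (θ ψ) = d := by
  have hr : Equivalence (fun j j' : {ψ : A →* ℂˣ // ψ ≠ 1} => dualRel Γ j.1 j'.1) :=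
    ⟨fun j => dualRel_refl Γ j.1, fun h => dualRel_symm Γ h, fun h h' => dualRel_trans Γ h h'⟩
  have hvx : ∀ j : {ψ : A →* ℂˣ // ψ ≠ 1}, ∑ i, α i j.1 * x i = 0 := by
    intro j
    have h := test_vector F (fun i => (x i : ℂ)) hxF j.1
    have e1 : ∀ i, (x i : ℂ) * conj (mult (F i) j.1 - mult (F i) 1) =
        ((α i j.1 * x i : ℤ) : ℂ) := by
      intro i
      rw [← hα i j.1 j.2, map_intCast]
      push_cast
      ring
    rw [Finset.sum_congr rfl (fun i _ => e1 i), ← Int.cast_sum] at h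
    exact_mod_cast h
  obtain ⟨ψ, ψ', hψ, hψ', hun⟩ := exists_unrelated (Γ := Γ) hcard
  obtain ⟨c, δ, θ, hδ, hdec, hinj, d, hd⟩ :=
    lattice_structure (fun j j' : {ψ : A →* ℂˣ // ψ ≠ 1} => dualRel Γ j.1 j'.1) hr
      (Fintype.card Γ : ℤ) (fun j i => α i j.1)
      (fun j j' => int_gram hfree F hK α hα j.1 j'.1 j.2 j'.2) x hx hvx
      ⟨⟨ψ, hψ⟩, ⟨ψ', hψ'⟩, hun⟩
  refine ⟨fun i => - c i, δ, d, θ, hδ, ?_, hinj, ?_⟩
  · intro j i
    rw [hdec j i, neg_neg]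
  · intro j
    show - c (θ j) = d
    rw [hd j, neg_neg]

end structureThm


section consequences

variable {ι : Type*} [Fintype ι] [DecidableEq ι]

/-- The sum of all nontrivial characters at a nonidentity element is `-1`. -/
theorem sum_nontrivial_hom [Fintype (A →* ℂˣ)] {b : A} (hb : b ≠ 1) :
    ∑ ψ : A →* ℂˣ, (if ψ = 1 then (0 : ℂ) else ((ψ b : ℂˣ) : ℂ)) = -1 := by
  classical
  have h := sum_over_hom_of_ne (A := A) hb
  rw [← Finset.add_sum_erase Finset.univ _ (Finset.mem_univ (1 : A →* ℂˣ))] at h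
  rw [← Finset.add_sum_erase Finset.univ _ (Finset.mem_univ (1 : A →* ℂˣ)), if_pos rfl, zero_add]
  have e : ∑ ψ ∈ Finset.univ.erase (1 : A →* ℂˣ), (if ψ = 1 then (0 : ℂ) else ((ψ b : ℂˣ) : ℂ)) =
      ∑ ψ ∈ Finset.univ.erase (1 : A →* ℂˣ), ((ψ b : ℂˣ) : ℂ) := by
    refine Finset.sum_congr rfl (fun ψ hψ => ?_)
    rw [if_neg (Finset.ne_of_mem_erase hψ)]
  rw [e]
  simp only [MonoidHom.one_apply, Units.val_one] at h
  linear_combination h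

open Classical in
/-- Values of the functions `F i` on `A ∖ {1}`. -/
theorem values_general [Fintype (A →* ℂˣ)] (F : ι → A → ℂ)
    (α : ι → (A →* ℂˣ) → ℤ)
    (hα : ∀ i ψ, ψ ≠ 1 → (α i ψ : ℂ) = mult (F i) ψ - mult (F i) 1)
    {a : ι → ℤ} {δ : ℤ} {θ : {ψ : A →* ℂˣ // ψ ≠ 1} → ι}
    (hdec : ∀ ψ i, α i ψ.1 = - a i + (if i = θ ψ then δ else 0))
    (i : ι) {b : A} (hb : b ≠ 1) :
    F i b = (a i : ℂ) + (δ : ℂ) *
      ∑ ψ : A →* ℂˣ, (if ∃ h : ψ ≠ 1, θ ⟨ψ, h⟩ = i then ((ψ b : ℂˣ) : ℂ) else 0) := by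
  rw [expansion (F i) b hb]
  have e1 : ∀ ψ : A →* ℂˣ, (mult (F i) ψ - mult (F i) 1) * ((ψ b : ℂˣ) : ℂ) =
      - (a i : ℂ) * (if ψ = 1 then (0 : ℂ) else ((ψ b : ℂˣ) : ℂ)) +
      (δ : ℂ) * (if ∃ h : ψ ≠ 1, θ ⟨ψ, h⟩ = i then ((ψ b : ℂˣ) : ℂ) else 0) := by
    intro ψ
    by_cases hψ : ψ = 1
    · subst hψ
      rw [sub_self, zero_mul, if_pos rfl, mul_zero, zero_add, if_neg, mul_zero]
      rintro ⟨h, -⟩
      exact h rfl
    · rw [if_neg hψ, ← hα i ψ hψ, hdec ⟨ψ, hψ⟩ i]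
      by_cases hi : i = θ ⟨ψ, hψ⟩
      · rw [if_pos hi, if_pos ⟨hψ, hi.symm⟩]
        push_cast
        ring
      · rw [if_neg hi, if_neg]
        · push_cast
          ring
        · rintro ⟨h, h'⟩
          exact hi h'.symm
  rw [Finset.sum_congr rfl (fun ψ _ => e1 ψ), Finset.sum_add_distrib, ← Finset.mul_sum,
    ← Finset.mul_sum, sum_nontrivial_hom hb]
  ring


open Classical in
/-- Values on the non-exceptional part. -/
theorem values_X (F : ι → A → ℂ)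
    (α : ι → (A →* ℂˣ) → ℤ)
    (hα : ∀ i ψ, ψ ≠ 1 → (α i ψ : ℂ) = mult (F i) ψ - mult (F i) 1)
    {a : ι → ℤ} {δ : ℤ} {θ : {ψ : A →* ℂˣ // ψ ≠ 1} → ι}
    (hdec : ∀ ψ i, α i ψ.1 = - a i + (if i = θ ψ then δ else 0))
    (i : ι) (hi : ∀ ψ, θ ψ ≠ i) {b : A} (hb : b ≠ 1) :
    F i b = (a i : ℂ) := by
  haveI : Finite (A →* ℂˣ) := finite_hom
  haveI : Fintype (A →* ℂˣ) := Fintype.ofFinite _
  rw [values_general F α hα hdec i hb, Finset.sum_eq_zero, mul_zero, add_zero]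
  intro ψ _
  rw [if_neg]
  rintro ⟨h, h'⟩
  exact hi _ h'

open Classical in
/-- Values on the exceptional part. -/
theorem values_Y (F : ι → A → ℂ)
    (α : ι → (A →* ℂˣ) → ℤ)
    (hα : ∀ i ψ, ψ ≠ 1 → (α i ψ : ℂ) = mult (F i) ψ - mult (F i) 1)
    {a : ι → ℤ} {δ : ℤ} {θ : {ψ : A →* ℂˣ // ψ ≠ 1} → ι}
    (hdec : ∀ ψ i, α i ψ.1 = - a i + (if i = θ ψ then δ else 0))
    (hinj : ∀ ψ ψ', θ ψ = θ ψ' ↔ dualRel Γ ψ.1 ψ'.1)
    (ψ₀ : {ψ : A →* ℂˣ // ψ ≠ 1}) {b : A} (hb : b ≠ 1) :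
    F (θ ψ₀) b = (a (θ ψ₀) : ℂ) + (δ : ℂ) *
      ∑ᶠ ψ ∈ {ψ : A →* ℂˣ | dualRel Γ ψ₀.1 ψ}, ((ψ b : ℂˣ) : ℂ) := by
  haveI : Finite (A →* ℂˣ) := finite_hom
  haveI : Fintype (A →* ℂˣ) := Fintype.ofFinite _
  rw [values_general F α hα hdec (θ ψ₀) hb, finsum_mem_def, finsum_eq_sum_of_fintype]
  congr 2
  refine Finset.sum_congr rfl (fun ψ _ => ?_)
  rw [Set.indicator_apply]
  have hiff : (∃ h : ψ ≠ 1, θ ⟨ψ, h⟩ = θ ψ₀) ↔ ψ ∈ {ψ : A →* ℂˣ | dualRel Γ ψ₀.1 ψ} := by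
    rw [Set.mem_setOf_eq]
    constructor
    · rintro ⟨h, h'⟩
      exact dualRel_symm Γ ((hinj ⟨ψ, h⟩ ψ₀).mp h')
    · intro h
      have h1 : ψ ≠ 1 := dualRel_ne_one Γ ψ₀.2 h
      exact ⟨h1, (hinj ⟨ψ, h1⟩ ψ₀).mpr (dualRel_symm Γ h)⟩
  by_cases hc : ∃ h : ψ ≠ 1, θ ⟨ψ, h⟩ = θ ψ₀
  · rw [if_pos hc, if_pos (hiff.mp hc)]
  · rw [if_neg hc, if_neg (fun h => hc (hiff.mpr h))]

theorem mult_const_one {ψ : A →* ℂˣ} (hψ : ψ ≠ 1) : mult (fun _ : A => (1 : ℂ)) ψ = 0 := by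
  unfold mult
  have : ∑ a : A, (1 : ℂ) * conj ((ψ a : ℂˣ) : ℂ) = conj (∑ a : A, ((ψ a : ℂˣ) : ℂ)) := by
    rw [map_sum]
    refine Finset.sum_congr rfl (fun a _ => ?_)
    rw [one_mul]
  rw [this, sum_hom_eq_zero hψ, map_zero, mul_zero]

theorem mult_const_one_one : mult (fun _ : A => (1 : ℂ)) (1 : A →* ℂˣ) = 1 := by
  unfold mult
  simp only [MonoidHom.one_apply, Units.val_one, map_one, mul_one, Finset.sum_const,
    Finset.card_univ, nsmul_eq_mul]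
  exact inv_mul_cancel₀ card_ne_zero'

open Classical in
/-- The constant function `1` is not exceptional, and `a = 1` there. -/
theorem principal_not_exceptional (F : ι → A → ℂ)
    (α : ι → (A →* ℂˣ) → ℤ)
    (hα : ∀ i ψ, ψ ≠ 1 → (α i ψ : ℂ) = mult (F i) ψ - mult (F i) 1)
    {a : ι → ℤ} {δ : ℤ} {θ : {ψ : A →* ℂˣ // ψ ≠ 1} → ι}
    (hδ : δ = 1 ∨ δ = -1)
    (hdec : ∀ ψ i, α i ψ.1 = - a i + (if i = θ ψ then δ else 0))
    (hinj : ∀ ψ ψ', θ ψ = θ ψ' ↔ dualRel Γ ψ.1 ψ'.1)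
    (hcard : Fintype.card Γ + 1 < Fintype.card A)
    (i₀ : ι) (h1 : ∀ b, F i₀ b = 1) :
    (∀ ψ, θ ψ ≠ i₀) ∧ a i₀ = 1 := by
  have hF : F i₀ = fun _ => (1 : ℂ) := funext h1
  have hα1 : ∀ ψ : {ψ : A →* ℂˣ // ψ ≠ 1}, α i₀ ψ.1 = -1 := by
    intro ψ
    have h := hα i₀ ψ.1 ψ.2
    rw [hF, mult_const_one ψ.2, mult_const_one_one] at h
    have : ((α i₀ ψ.1 : ℤ) : ℂ) = ((-1 : ℤ) : ℂ) := by rw [h]; push_cast; ring
    exact_mod_cast this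
  obtain ⟨ψ, ψ', hψ, hψ', hun⟩ := exists_unrelated (Γ := Γ) hcard
  have hnot : ∀ ψ₁, θ ψ₁ ≠ i₀ := by
    intro ψ₁ h₁
    -- some nontrivial character is unrelated to `ψ₁`
    obtain ⟨ψ₂, h₂⟩ : ∃ ψ₂ : {ψ : A →* ℂˣ // ψ ≠ 1}, ¬ dualRel Γ ψ₁.1 ψ₂.1 := by
      by_cases hc : dualRel Γ ψ₁.1 ψ
      · refine ⟨⟨ψ', hψ'⟩, fun hc' => hun ?_⟩
        exact dualRel_trans Γ (dualRel_symm Γ hc) hc'
      · exact ⟨⟨ψ, hψ⟩, hc⟩
    have e1 := hdec ψ₁ i₀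
    rw [if_pos h₁.symm, hα1] at e1
    have e2 := hdec ψ₂ i₀
    rw [if_neg, hα1] at e2
    · rcases hδ with h | h <;> omega
    · intro h
      apply h₂
      rw [← hinj, h₁, h]
  refine ⟨hnot, ?_⟩
  have e2 := hdec ⟨ψ, hψ⟩ i₀
  rw [if_neg (fun h => hnot _ h.symm), hα1] at e2
  omega


open Classical in
/-- Splitting a sum over `ι` into the exceptional and the non-exceptional part. -/
theorem sum_split {R : Type*} [CommRing R] {a : ι → ℤ} {d : ℤ}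
    {θ : {ψ : A →* ℂˣ // ψ ≠ 1} → ι} (hd : ∀ ψ, a (θ ψ) = d) (g : ι → R) :
    ∑ i, (a i : R) * g i =
      ∑ᶠ i ∈ {i : ι | ¬ ∃ ψ, θ ψ = i}, (a i : R) * g i +
        (d : R) * ∑ᶠ i ∈ {i : ι | ∃ ψ, θ ψ = i}, g i := by
  rw [finsum_mem_eq_finite_toFinset_sum _ (Set.toFinite _),
    finsum_mem_eq_finite_toFinset_sum _ (Set.toFinite _)]
  have e1 : (Set.toFinite {i : ι | ¬ ∃ ψ, θ ψ = i}).toFinset =
      Finset.univ.filter (fun i => ¬ ∃ ψ, θ ψ = i) := by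
    ext i; simp
  have e2 : (Set.toFinite {i : ι | ∃ ψ, θ ψ = i}).toFinset =
      Finset.univ.filter (fun i => ∃ ψ, θ ψ = i) := by
    ext i; simp
  rw [e1, e2, ← Finset.sum_filter_add_sum_filter_not Finset.univ (fun i => ∃ ψ, θ ψ = i),
    add_comm, Finset.mul_sum]
  congr 1
  refine Finset.sum_congr rfl (fun i hi => ?_)
  rw [Finset.mem_filter] at hi
  obtain ⟨ψ, rfl⟩ := hi.2
  rw [hd]

open Classical in
/-- The norm identity. -/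
theorem norm_identity (hfree : ∀ γ ∈ Γ, ∀ a : A, a ≠ 1 → γ a = a → γ = 1)
    (F : ι → A → ℂ)
    (hK : ∀ a a', a ≠ 1 → a' ≠ 1 → ∑ i, F i a * conj (F i a') =
      if ∃ γ ∈ Γ, γ a = a' then (Fintype.card A : ℂ) else 0)
    (α : ι → (A →* ℂˣ) → ℤ)
    (hα : ∀ i ψ, ψ ≠ 1 → (α i ψ : ℂ) = mult (F i) ψ - mult (F i) 1)
    {a : ι → ℤ} {δ d : ℤ} {θ : {ψ : A →* ℂˣ // ψ ≠ 1} → ι}
    (hδ : δ = 1 ∨ δ = -1)
    (hdec : ∀ ψ i, α i ψ.1 = - a i + (if i = θ ψ then δ else 0))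
    (hd : ∀ ψ, a (θ ψ) = d)
    (ψ₀ : {ψ : A →* ℂˣ // ψ ≠ 1}) :
    (d - δ) ^ 2 + ((Nat.card {i : ι // ∃ ψ, θ ψ = i} : ℤ) - 1) * d ^ 2 +
      ∑ᶠ i ∈ {i : ι | ¬ ∃ ψ, θ ψ = i}, a i ^ 2 = (Fintype.card Γ : ℤ) + 1 := by
  have hG := int_gram hfree F hK α hα ψ₀.1 ψ₀.1 ψ₀.2 ψ₀.2
  rw [if_pos (dualRel_refl Γ ψ₀.1)] at hG
  have e1 : ∀ i, α i ψ₀.1 * α i ψ₀.1 =
      a i * a i - 2 * δ * (if i = θ ψ₀ then a i else 0) + (if i = θ ψ₀ then δ ^ 2 else 0) := by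
    intro i
    rw [hdec ψ₀ i]
    by_cases hi : i = θ ψ₀
    · rw [if_pos hi, if_pos hi, if_pos hi]; ring
    · rw [if_neg hi, if_neg hi, if_neg hi]; ring
  rw [Finset.sum_congr rfl (fun i _ => e1 i), Finset.sum_add_distrib, Finset.sum_sub_distrib,
    ← Finset.mul_sum, Finset.sum_ite_eq' Finset.univ (θ ψ₀), if_pos (Finset.mem_univ _),
    Finset.sum_ite_eq' Finset.univ (θ ψ₀), if_pos (Finset.mem_univ _), hd] at hG
  have hs := sum_split (R := ℤ) hd a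
  simp only [Int.cast_id] at hs
  rw [hs] at hG
  have hcardY : ∑ᶠ i ∈ {i : ι | ∃ ψ, θ ψ = i}, a i = (Nat.card {i : ι // ∃ ψ, θ ψ = i} : ℤ) * d := by
    rw [finsum_mem_eq_finite_toFinset_sum _ (Set.toFinite _)]
    have e2 : (Set.toFinite {i : ι | ∃ ψ, θ ψ = i}).toFinset =
        Finset.univ.filter (fun i => ∃ ψ, θ ψ = i) := by
      ext i; simp
    rw [e2, Nat.card_eq_fintype_card, Fintype.card_subtype]
    rw [Finset.sum_congr rfl (g := fun _ => d)]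
    · rw [Finset.sum_const, nsmul_eq_mul]
    · intro i hi
      rw [Finset.mem_filter] at hi
      obtain ⟨ψ, rfl⟩ := hi.2
      exact hd ψ
  rw [hcardY] at hG
  have hδ2 : δ ^ 2 = 1 := by rcases hδ with h | h <;> rw [h] <;> norm_num
  have e3 : ∀ i, a i ^ 2 = a i * a i := fun i => sq (a i)
  rw [finsum_mem_congr rfl (fun i _ => e3 i)]
  linear_combination hG


open Classical in
/-- The number of exceptional indices. -/
theorem card_exceptional (hfree : ∀ γ ∈ Γ, ∀ a : A, a ≠ 1 → γ a = a → γ = 1)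
    {θ : {ψ : A →* ℂˣ // ψ ≠ 1} → ι}
    (hinj : ∀ ψ ψ', θ ψ = θ ψ' ↔ dualRel Γ ψ.1 ψ'.1) :
    Nat.card {i : ι // ∃ ψ, θ ψ = i} * Fintype.card Γ = Fintype.card A - 1 := by
  haveI : Finite (A →* ℂˣ) := finite_hom
  haveI : Fintype (A →* ℂˣ) := Fintype.ofFinite _
  have hJ : Fintype.card {ψ : A →* ℂˣ // ψ ≠ 1} = Fintype.card A - 1 := by
    rw [Fintype.card_subtype, Finset.filter_ne' Finset.univ (1 : A →* ℂˣ),
      Finset.card_erase_of_mem (Finset.mem_univ _), Finset.card_univ, card_dual]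
  rw [← hJ, Nat.card_eq_fintype_card, Fintype.card_subtype]
  have hfib := Finset.card_eq_sum_card_fiberwise (f := θ)
      (s := (Finset.univ : Finset {ψ : A →* ℂˣ // ψ ≠ 1}))
      (t := Finset.univ.filter (fun i => ∃ ψ, θ ψ = i))
      (fun ψ _ => by rw [Finset.mem_coe, Finset.mem_filter]; exact ⟨Finset.mem_univ _, ψ, rfl⟩)
  rw [Finset.card_univ] at hfib
  rw [hfib, Finset.sum_congr rfl (g := fun _ => Fintype.card Γ)]
  · rw [Finset.sum_const, smul_eq_mul]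
  · intro i hi
    rw [Finset.mem_filter] at hi
    obtain ⟨ψ₀, rfl⟩ := hi.2
    have hne : ∀ γ : Γ, ψ₀.1.comp ((γ : MulAut A)).toMonoidHom ≠ 1 := by
      intro γ
      refine dualRel_ne_one Γ ψ₀.2 (ψ := ψ₀.1) ⟨(γ : MulAut A)⁻¹, Γ.inv_mem γ.2, ?_⟩
      ext b
      simp
    set g : Γ → {ψ : A →* ℂˣ // ψ ≠ 1} :=
      fun γ => ⟨ψ₀.1.comp ((γ : MulAut A)).toMonoidHom, hne γ⟩ with hg
    have hginj : Function.Injective g := by
      intro γ γ' h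
      have h' : ψ₀.1.comp ((γ : MulAut A)).toMonoidHom =
          ψ₀.1.comp ((γ' : MulAut A)).toMonoidHom := congrArg Subtype.val h
      exact Subtype.ext (dualRel_unique hfree ψ₀.2 γ.2 γ'.2 h' rfl)
    have himg : (Finset.univ.filter fun j => θ j = θ ψ₀) = Finset.univ.image g := by
      ext j
      simp only [Finset.mem_filter, Finset.mem_univ, true_and, Finset.mem_image]
      rw [hinj]
      constructor
      · rintro ⟨γ, hγ, h⟩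
        exact ⟨⟨γ, hγ⟩, Subtype.ext h⟩
      · rintro ⟨γ, h⟩
        exact ⟨γ, γ.2, congrArg Subtype.val h⟩
    rw [himg, Finset.card_image_of_injective _ hginj, Finset.card_univ]

open Classical in
/-- Test vectors: vectors orthogonal to all the columns on `A ∖ {1}`. -/
theorem test_relation (F : ι → A → ℂ)
    (α : ι → (A →* ℂˣ) → ℤ)
    (hα : ∀ i ψ, ψ ≠ 1 → (α i ψ : ℂ) = mult (F i) ψ - mult (F i) 1)
    {a : ι → ℤ} {δ d : ℤ} {θ : {ψ : A →* ℂˣ // ψ ≠ 1} → ι}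
    (hδ : δ = 1 ∨ δ = -1)
    (hdec : ∀ ψ i, α i ψ.1 = - a i + (if i = θ ψ then δ else 0))
    (hd : ∀ ψ, a (θ ψ) = d)
    (t : ι → ℂ) (ht : ∀ b, b ≠ 1 → ∑ i, t i * conj (F i b) = 0) :
    (∀ ψ ψ', t (θ ψ) = t (θ ψ')) ∧
      ∀ ψ, ((Nat.card {i : ι // ∃ ψ, θ ψ = i} : ℂ) * d - δ) * t (θ ψ) +
        ∑ᶠ i ∈ {i : ι | ¬ ∃ ψ, θ ψ = i}, (a i : ℂ) * t i = 0 := by
  have hδ2 : (δ : ℂ) * δ = 1 := by
    rcases hδ with h | h <;> rw [h] <;> norm_num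
  have key : ∀ ψ, (δ : ℂ) * t (θ ψ) = ∑ i, (a i : ℂ) * t i := by
    intro ψ
    have h := test_vector F t ht ψ.1
    have e1 : ∀ i, t i * conj (mult (F i) ψ.1 - mult (F i) 1) =
        - ((a i : ℂ) * t i) + (if i = θ ψ then (δ : ℂ) * t i else 0) := by
      intro i
      rw [← hα i ψ.1 ψ.2, map_intCast, hdec ψ i]
      by_cases hi : i = θ ψ
      · rw [if_pos hi, if_pos hi]; push_cast; ring
      · rw [if_neg hi, if_neg hi]; push_cast; ring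
    rw [Finset.sum_congr rfl (fun i _ => e1 i), Finset.sum_add_distrib, Finset.sum_neg_distrib,
      Finset.sum_ite_eq' Finset.univ (θ ψ), if_pos (Finset.mem_univ _)] at h
    linear_combination h
  have hconst : ∀ ψ ψ', t (θ ψ) = t (θ ψ') := by
    intro ψ ψ'
    have h1 := key ψ
    have h2 := key ψ'
    have : (δ : ℂ) * t (θ ψ) = (δ : ℂ) * t (θ ψ') := by rw [h1, h2]
    calc t (θ ψ) = (δ : ℂ) * δ * t (θ ψ) := by rw [hδ2, one_mul]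
      _ = (δ : ℂ) * ((δ : ℂ) * t (θ ψ)) := by ring
      _ = (δ : ℂ) * ((δ : ℂ) * t (θ ψ')) := by rw [this]
      _ = (δ : ℂ) * δ * t (θ ψ') := by ring
      _ = t (θ ψ') := by rw [hδ2, one_mul]
  refine ⟨hconst, fun ψ => ?_⟩
  have hs := sum_split (R := ℂ) hd t
  have hY : ∑ᶠ i ∈ {i : ι | ∃ ψ, θ ψ = i}, t i =
      (Nat.card {i : ι // ∃ ψ, θ ψ = i} : ℂ) * t (θ ψ) := by
    rw [finsum_mem_eq_finite_toFinset_sum _ (Set.toFinite _)]
    have e2 : (Set.toFinite {i : ι | ∃ ψ, θ ψ = i}).toFinset =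
        Finset.univ.filter (fun i => ∃ ψ, θ ψ = i) := by
      ext i; simp
    rw [e2, Nat.card_eq_fintype_card, Fintype.card_subtype]
    rw [Finset.sum_congr rfl (g := fun _ => t (θ ψ))]
    · rw [Finset.sum_const, nsmul_eq_mul]
    · intro i hi
      rw [Finset.mem_filter] at hi
      obtain ⟨ψ', rfl⟩ := hi.2
      exact hconst ψ' ψ
  have hk := key ψ
  rw [hs, hY] at hk
  linear_combination -hk

end consequences

end abstract

end Cfsg.Agent.Helper66.BL
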