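import Mathlib

/-!
# Integer arithmetic for the Brauer–Leonard theorem with `|N/C| = 3`
-/

set_option autoImplicit false

namespace Cfsg.Agent.Helper66.BL

/-- Cauchy–Schwarz equality case (one minus sign). -/
theorem one_minus {A B a b xj uj : ℤ} (hA : 0 < A) (hB : 0 < B) (h1 : xj = 1 + A + B)
    (h2 : uj = 1 + a + b)
    (h3 : A * B * xj + a ^ 2 * B * xj + b ^ 2 * A * xj - uj ^ 2 * A * B = 0) : a = A := by
  subst h1 h2
  have key : B * (a - A) ^ 2 + A * (b - B) ^ 2 + (a * B - b * A) ^ 2 = 0 := by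
    linear_combination h3
  have h1' : 0 ≤ B * (a - A) ^ 2 := by positivity
  have h2' : 0 ≤ A * (b - B) ^ 2 := by positivity
  have h3' : 0 ≤ (a * B - b * A) ^ 2 := by positivity
  have h4 : B * (a - A) ^ 2 = 0 := by linarith
  rcases mul_eq_zero.mp h4 with h | h
  · omega
  · have := pow_eq_zero_iff (two_ne_zero) |>.mp h
    omega

/-- An integer which is a rational square is a square. -/
theorem int_sq_of_mul_sq {n k m : ℤ} (hk : k ≠ 0) (h : n * k ^ 2 = m ^ 2) : ∃ r : ℤ, n = r ^ 2 := by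
  have hdvd : k ^ 2 ∣ m ^ 2 := ⟨n, by rw [← h]; ring⟩
  have hk' : k ∣ m := (Int.pow_dvd_pow_iff two_ne_zero).mp hdvd
  obtain ⟨r, rfl⟩ := hk'
  refine ⟨r, ?_⟩
  have hk2 : k ^ 2 ≠ 0 := pow_ne_zero 2 hk
  have : n * k ^ 2 = r ^ 2 * k ^ 2 := by rw [h]; ring
  exact mul_right_cancel₀ hk2 this

/-- Two minus signs: the product of the degrees is a square. -/
theorem two_minus {A B C U V W : ℤ} (hA : 0 < A) (hB : 0 < B) (hC : 0 < C)
    (h1 : 1 + A = B + C) (h2 : 1 + U = V + W)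
    (h3 : A * B * C + U ^ 2 * B * C - V ^ 2 * A * C - W ^ 2 * A * B = 0) (hU : U ≠ A) :
    ∃ r : ℤ, A * B * C = r ^ 2 := by
  have hC' : C = 1 + A - B := by linarith
  have hW' : W = 1 + U - V := by linarith
  subst hC' hW'
  have key : B * (1 + A - B) * (A - U) ^ 2 = A * ((1 + A - B) * V - B * (1 + U - V)) ^ 2 := by
    linear_combination (1 + A) * h3
  refine int_sq_of_mul_sq (k := A - U) (m := A * ((1 + A - B) * V - B * (1 + U - V)))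
    (sub_ne_zero.mpr (Ne.symm hU)) ?_
  linear_combination A * key

/-- **Arithmetic for an involution which is `p`-regular.** -/
theorem arith_odd {s₁ s₂ s₃ x₁ x₂ x₃ u₁ u₂ u₃ : ℤ} (hs₁ : s₁ = 1 ∨ s₁ = -1)
    (hs₂ : s₂ = 1 ∨ s₂ = -1) (hs₃ : s₃ = 1 ∨ s₃ = -1) (hx₁ : 0 < x₁) (hx₂ : 0 < x₂) (hx₃ : 0 < x₃)
    (hu₁ : u₁ ≠ x₁) (hu₂ : u₂ ≠ x₂) (hu₃ : u₃ ≠ x₃)
    (R1 : 1 + s₁ * x₁ + s₂ * x₂ + s₃ * x₃ = 0) (R2 : 1 + s₁ * u₁ + s₂ * u₂ + s₃ * u₃ = 0)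
    (R3 : x₁ * x₂ * x₃ + s₁ * u₁ ^ 2 * x₂ * x₃ + s₂ * u₂ ^ 2 * x₁ * x₃ + s₃ * u₃ ^ 2 * x₁ * x₂ = 0) :
    ((if s₁ = -1 then 1 else 0) + (if s₂ = -1 then 1 else 0) + (if s₃ = -1 then 1 else 0) = 2) ∧
      ∃ r : ℤ, x₁ * x₂ * x₃ = r ^ 2 := by
  rcases hs₁ with rfl | rfl <;> rcases hs₂ with rfl | rfl <;> rcases hs₃ with rfl | rfl
  · -- + + +
    exfalso; linarith
  · -- + + - : one minus, j = 3
    exfalso
    apply hu₁
    refine one_minus (A := x₁) (B := x₂) (a := u₁) (b := u₂) (xj := x₃) (uj := u₃) hx₁ hx₂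
      (by linarith) (by linarith) ?_
    linear_combination R3
  · -- + - + : one minus, j = 2
    exfalso
    apply hu₁
    refine one_minus (A := x₁) (B := x₃) (a := u₁) (b := u₃) (xj := x₂) (uj := u₂) hx₁ hx₃
      (by linarith) (by linarith) ?_
    linear_combination R3
  · -- + - - : two minus
    refine ⟨by norm_num, ?_⟩
    have := two_minus (A := x₁) (B := x₂) (C := x₃) (U := u₁) (V := u₂) (W := u₃) hx₁ hx₂ hx₃
      (by linarith) (by linarith) (by linear_combination R3) hu₁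
    exact this
  · -- - + + : one minus, j = 1
    exfalso
    apply hu₂
    refine one_minus (A := x₂) (B := x₃) (a := u₂) (b := u₃) (xj := x₁) (uj := u₁) hx₂ hx₃
      (by linarith) (by linarith) ?_
    linear_combination R3
  · -- - + - : two minus
    refine ⟨by norm_num, ?_⟩
    obtain ⟨r, hr⟩ := two_minus (A := x₂) (B := x₁) (C := x₃) (U := u₂) (V := u₁) (W := u₃)
      hx₂ hx₁ hx₃ (by linarith) (by linarith) (by linear_combination R3) hu₂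
    exact ⟨r, by rw [← hr]; ring⟩
  · -- - - + : two minus
    refine ⟨by norm_num, ?_⟩
    obtain ⟨r, hr⟩ := two_minus (A := x₃) (B := x₁) (C := x₂) (U := u₃) (V := u₁) (W := u₂)
      hx₃ hx₁ hx₂ (by linarith) (by linarith) (by linear_combination R3) hu₃
    exact ⟨r, by rw [← hr]; ring⟩
  · -- - - -
    exfalso; linarith

/-- **Arithmetic for `p = 2`.** -/
theorem arith_two {s₁ s₂ s₃ x₁ x₂ x₃ : ℤ} (hs₁ : s₁ = 1 ∨ s₁ = -1)
    (hs₂ : s₂ = 1 ∨ s₂ = -1) (hs₃ : s₃ = 1 ∨ s₃ = -1) (hx₁ : 0 < x₁) (hx₂ : 0 < x₂) (hx₃ : 0 < x₃)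
    (h₁ : s₁ = -1 → 15 ≤ x₁) (h₂ : s₂ = -1 → 15 ≤ x₂)
    (h₁' : ¬ (s₁ = 1 ∧ x₁ = 1)) (h₂' : ¬ (s₂ = 1 ∧ x₂ = 1))
    (R1 : 1 + s₁ * x₁ + s₂ * x₂ + s₃ * x₃ = 0)
    (R3 : x₁ * x₂ * x₃ + s₁ * x₂ * x₃ + s₂ * x₁ * x₃ + 9 * s₃ * x₁ * x₂ = 0) : False := by
  rcases hs₁ with rfl | rfl <;> rcases hs₂ with rfl | rfl <;> rcases hs₃ with rfl | rfl
  · -- + + +
    linarith
  · -- + + -
    have hx₃' : x₃ = 1 + x₁ + x₂ := by linarith
    subst hx₃'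
    have key : x₁ * (x₂ - 1) ^ 2 + x₂ * (x₁ - 1) ^ 2 + (x₁ - x₂) ^ 2 = 0 := by
      linear_combination R3
    have e1 : 0 ≤ x₁ * (x₂ - 1) ^ 2 := by positivity
    have e2 : 0 ≤ x₂ * (x₁ - 1) ^ 2 := by positivity
    have e3 : 0 ≤ (x₁ - x₂) ^ 2 := by positivity
    have e4 : x₂ * (x₁ - 1) ^ 2 = 0 := by linarith
    rcases mul_eq_zero.mp e4 with h | h
    · omega
    · have := pow_eq_zero_iff (two_ne_zero) |>.mp h
      exact h₁' ⟨rfl, by omega⟩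
  · -- + - +
    have hx₂' : x₂ = 1 + x₁ + x₃ := by linarith
    subst hx₂'
    nlinarith [mul_pos hx₁ hx₃, mul_pos (mul_pos hx₁ hx₃) hx₁, mul_pos (mul_pos hx₁ hx₃) hx₃,
      mul_pos hx₃ hx₃, mul_pos hx₁ hx₁]
  · -- + - -
    have h15 := h₂ rfl
    have hx₁' : x₁ = x₂ + x₃ - 1 := by linarith
    subst hx₁'
    have key : (x₂ + x₃ - 1) * x₂ * (x₃ - 9) = x₃ * (x₃ - 1) := by linear_combination R3
    by_cases he : x₃ ≤ 9
    · have hpos : 0 < (x₂ + x₃ - 1) * x₂ := by nlinarith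
      nlinarith
    · push_neg at he
      have he' : 10 ≤ x₃ := by omega
      nlinarith [mul_pos hx₂ hx₃, mul_nonneg (by linarith : (0:ℤ) ≤ x₂ - 15) (by linarith : (0:ℤ) ≤ x₃ - 10),
        mul_nonneg (by linarith : (0:ℤ) ≤ x₃ - 10) (by linarith : (0:ℤ) ≤ x₃ - 10),
        mul_nonneg (mul_nonneg (by linarith : (0:ℤ) ≤ x₂ - 15) (by linarith : (0:ℤ) ≤ x₃ - 10)) (by linarith : (0:ℤ) ≤ x₂),
        mul_nonneg (mul_nonneg (by linarith : (0:ℤ) ≤ x₂ - 15) (by linarith : (0:ℤ) ≤ x₃ - 10)) (by linarith : (0:ℤ) ≤ x₃)]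
  · -- - + +
    have hx₁' : x₁ = 1 + x₂ + x₃ := by linarith
    subst hx₁'
    nlinarith [mul_pos hx₂ hx₃, mul_pos (mul_pos hx₂ hx₃) hx₂, mul_pos (mul_pos hx₂ hx₃) hx₃,
      mul_pos hx₃ hx₃, mul_pos hx₂ hx₂]
  · -- - + -
    have h15 := h₁ rfl
    have hx₂' : x₂ = x₁ + x₃ - 1 := by linarith
    subst hx₂'
    have key : (x₁ + x₃ - 1) * x₁ * (x₃ - 9) = x₃ * (x₃ - 1) := by linear_combination R3
    by_cases he : x₃ ≤ 9
    · have hpos : 0 < (x₁ + x₃ - 1) * x₁ := by nlinarith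
      nlinarith
    · push_neg at he
      have he' : 10 ≤ x₃ := by omega
      nlinarith [mul_pos hx₁ hx₃, mul_nonneg (by linarith : (0:ℤ) ≤ x₁ - 15) (by linarith : (0:ℤ) ≤ x₃ - 10),
        mul_nonneg (by linarith : (0:ℤ) ≤ x₃ - 10) (by linarith : (0:ℤ) ≤ x₃ - 10),
        mul_nonneg (mul_nonneg (by linarith : (0:ℤ) ≤ x₁ - 15) (by linarith : (0:ℤ) ≤ x₃ - 10)) (by linarith : (0:ℤ) ≤ x₁),
        mul_nonneg (mul_nonneg (by linarith : (0:ℤ) ≤ x₁ - 15) (by linarith : (0:ℤ) ≤ x₃ - 10)) (by linarith : (0:ℤ) ≤ x₃)]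
  · -- - - +
    have h15 := h₁ rfl
    have h15' := h₂ rfl
    have hx₃' : x₃ = x₁ + x₂ - 1 := by linarith
    subst hx₃'
    nlinarith [mul_nonneg (by linarith : (0:ℤ) ≤ x₁ - 15) (by linarith : (0:ℤ) ≤ x₂ - 15),
      mul_pos hx₁ hx₂]
  · -- - - -
    linarith

end Cfsg.Agent.Helper66.BL
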