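import Cfsg.Agent.S0942
import Cfsg.Agent.S0947
import Cfsg.Agent.S0925
import Cfsg.Agent.Helper66.BLGroup

/-!
# Column relations in the principal block (Brauer–Leonard set-up)
-/

set_option autoImplicit false
set_option linter.unusedSectionVars false
set_option linter.style.haveILetI false

namespace Cfsg.Agent.Helper66.BL

open Cfsg
open scoped ComplexConjugate

section columns

variable {G : Type*} [Group G] [Finite G] {p : ℕ} [Fact p.Prime] {M : Ideal AlgInt}

theorem exists_orderOf_eq_of_mem (P : Sylow p G) {y : G} (hy : y ∈ (P : Subgroup G)) :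
    ∃ k : ℕ, orderOf y = p ^ k := by
  obtain ⟨k, hk⟩ := (IsPGroup.iff_orderOf.mp P.2) ⟨y, hy⟩
  exact ⟨k, by rw [← hk, Subgroup.orderOf_mk]⟩

theorem isPPart_self (P : Sylow p G) {y : G} (hy : y ∈ (P : Subgroup G)) : IsPPart p y y := by
  have hp : p.Prime := Fact.out
  refine ⟨1, mul_one y, Commute.one_right y, exists_orderOf_eq_of_mem P hy, ?_⟩
  rw [orderOf_one]
  exact hp.not_dvd_one

theorem isPPart_one_of_regular {g : G} (hg : ¬ p ∣ orderOf g) : IsPPart p g 1 :=
  ⟨g, one_mul g, Commute.one_left g, ⟨0, by simp⟩, hg⟩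

variable (hM : IsPModular p M) (P : Sylow p G) (hab : IsMulCommutative P)
  (hfrob : ∀ y : G, y ∈ (P : Subgroup G) → y ≠ 1 →
    Subgroup.centralizer ({y} : Set G) ⊓ Subgroup.normalizer ((P : Subgroup G) : Set G) =
      Subgroup.centralizer ((P : Subgroup G) : Set G))

include hM hab hfrob

/-- Principal block characters are constant on the `p`-section of `y ∈ P ∖ {1}`. -/
theorem principal_apply_of_isPPart {z y : G} (hy : y ∈ (P : Subgroup G)) (hy1 : y ≠ 1)
    (hz : IsPPart p z y) (χ : IrrCharacter G) (hχ : χ ∈ principalBlock M G) :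
    (χ : G → ℂ) z = (χ : G → ℂ) y := by
  obtain ⟨v, hv, rfl⟩ := exists_mem_centralizerPPrimeCore P hab hy (hfrob y hy hy1) hz
  exact Cfsg.Agent.S0942.result p M hM y (exists_orderOf_eq_of_mem P hy) v hv χ hχ

/-- The column of `y ∈ P ∖ {1}` has squared norm `|P|`. -/
theorem principal_norm_sum {y : G} (hy : y ∈ (P : Subgroup G)) (hy1 : y ≠ 1) :
    ∑ᶠ χ ∈ principalBlock M G, ‖(χ : G → ℂ) y‖ ^ 2 = (Nat.card P : ℝ) := by
  have hp : p.Prime := Fact.out
  have h1reg : ¬ p ∣ orderOf (1 : Subgroup.centralizer ({y} : Set G)) := by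
    rw [orderOf_one]; exact hp.not_dvd_one
  have h := (Cfsg.Agent.S0947.result p M hM y (exists_orderOf_eq_of_mem P hy) hy1 1 h1reg).2
    (pPrimeCore_centralizer_index P hab hy (hfrob y hy hy1))
  rw [Subgroup.coe_one, mul_one, pow_factorization_card_centralizer P hab hy] at h
  exact h

/-- Columns of non-conjugate elements of `P` are orthogonal. -/
theorem principal_orth {y y' : G} (hy : y ∈ (P : Subgroup G)) (hy' : y' ∈ (P : Subgroup G))
    (hnc : ¬ IsConj y y') :
    ∑ᶠ χ ∈ principalBlock M G, (χ : G → ℂ) y * (χ : G → ℂ) y'⁻¹ = 0 :=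
  (Cfsg.Agent.S0925.result p M hM).2 y y' y y' (isPPart_self P hy) (isPPart_self P hy') hnc
    (principalBlock M G) (Cfsg.Agent.Helper78.isPBlock_principalBlock M G)

/-- Columns of `p`-regular elements are orthogonal to the columns of `P ∖ {1}`. -/
theorem principal_orth_regular {g y : G} (hg : ¬ p ∣ orderOf g) (hy : y ∈ (P : Subgroup G))
    (hy1 : y ≠ 1) :
    ∑ᶠ χ ∈ principalBlock M G, (χ : G → ℂ) g * (χ : G → ℂ) y⁻¹ = 0 := by
  refine (Cfsg.Agent.S0925.result p M hM).2 g y 1 y (isPPart_one_of_regular hg)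
    (isPPart_self P hy) ?_ (principalBlock M G) (Cfsg.Agent.Helper78.isPBlock_principalBlock M G)
  intro hc
  apply hy1
  exact isConj_one_right.mp hc

end columns

end Cfsg.Agent.Helper66.BL
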