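import Cfsg.Agent.Helper66.BLAbstract

/-!
# A free group of automorphisms of order `3`
-/

set_option autoImplicit false
set_option linter.unusedSectionVars false
set_option linter.unusedVariables false

namespace Cfsg.Agent.Helper66.BL

open scoped ComplexConjugate

section cubic

variable {A : Type*} [CommGroup A] [Fintype A] [DecidableEq A]
variable {Γ : Subgroup (MulAut A)} [Fintype Γ]

/-- For `γ ≠ 1` in a free group of automorphisms of order `3` and an involution `τ`: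
`τ · γ(τ) = γ²(τ)`. -/
theorem mul_apply_eq (hfree : ∀ γ ∈ Γ, ∀ a : A, a ≠ 1 → γ a = a → γ = 1)
    (h3 : Fintype.card Γ = 3) {γ : MulAut A} (hγ : γ ∈ Γ) (hγ1 : γ ≠ 1) {τ : A}
    (hτ : τ * τ = 1) : τ * γ τ = γ (γ τ) := by
  have hpow : γ ^ 3 = 1 := by
    have : (⟨γ, hγ⟩ : Γ) ^ Fintype.card Γ = 1 := pow_card_eq_one
    rw [h3] at this
    exact congrArg Subtype.val this
  have h3τ : γ (γ (γ τ)) = τ := by
    have : (γ ^ 3) τ = τ := by rw [hpow]; rfl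
    rw [pow_succ, pow_succ, pow_one] at this
    exact this
  set w := τ * γ τ * γ (γ τ) with hw
  have hfix : γ w = w := by
    rw [hw, map_mul, map_mul, h3τ]
    rw [mul_comm (γ τ * γ (γ τ)) τ, mul_assoc]
  have hw1 : w = 1 := by
    by_contra hne
    exact hγ1 (hfree γ hγ w hne hfix)
  have hinv : τ⁻¹ = τ := inv_eq_of_mul_eq_one_left hτ
  have h1 : τ * γ τ = (γ (γ τ))⁻¹ := eq_inv_of_mul_eq_one_left hw1
  rw [h1, ← map_inv, ← map_inv, hinv]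

/-- The orbit sum as a sum over the group. -/
theorem orbit_sum_eq (hfree : ∀ γ ∈ Γ, ∀ a : A, a ≠ 1 → γ a = a → γ = 1)
    {ψ : A →* ℂˣ} (hψ : ψ ≠ 1) (b : A) :
    ∑ᶠ ψ' ∈ {ψ' : A →* ℂˣ | dualRel Γ ψ ψ'}, ((ψ' b : ℂˣ) : ℂ) =
      ∑ γ : Γ, ((ψ ((γ : MulAut A) b) : ℂˣ) : ℂ) := by
  set g : Γ → (A →* ℂˣ) := fun γ => ψ.comp ((γ : MulAut A)).toMonoidHom with hg
  have hginj : Function.Injective g := by
    intro γ γ' h
    exact Subtype.ext (dualRel_unique hfree hψ γ.2 γ'.2 h rfl)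
  have hset : {ψ' : A →* ℂˣ | dualRel Γ ψ ψ'} = Set.range g := by
    ext ψ'
    simp only [Set.mem_setOf_eq, Set.mem_range]
    constructor
    · rintro ⟨γ, hγ, rfl⟩
      refine ⟨⟨γ⁻¹, Γ.inv_mem hγ⟩, ?_⟩
      ext a
      simp [hg]
    · rintro ⟨γ, rfl⟩
      refine ⟨(γ : MulAut A)⁻¹, Γ.inv_mem γ.2, ?_⟩
      ext a
      simp [hg]
  rw [hset, finsum_mem_range hginj, finsum_eq_sum_of_fintype]
  rfl

/-- The orbit sum at an involution satisfies `s² = 3 + 2 s`. -/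
theorem orbit_sum_sq (hfree : ∀ γ ∈ Γ, ∀ a : A, a ≠ 1 → γ a = a → γ = 1)
    (h3 : Fintype.card Γ = 3) (ψ : A →* ℂˣ) {t : A} (ht : t * t = 1) :
    (∑ γ : Γ, ((ψ ((γ : MulAut A) t) : ℂˣ) : ℂ)) ^ 2 =
      3 + 2 * ∑ γ : Γ, ((ψ ((γ : MulAut A) t) : ℂˣ) : ℂ) := by
  classical
  set S : A → ℂ := fun b => ∑ γ : Γ, ((ψ ((γ : MulAut A) b) : ℂˣ) : ℂ) with hS
  have hSinv : ∀ (γ₀ : Γ) (b : A), S ((γ₀ : MulAut A) b) = S b := by
    intro γ₀ b
    simp only [hS]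
    exact Fintype.sum_equiv (Equiv.mulRight γ₀) _ _ (fun γ => rfl)
  have hS1 : S 1 = 3 := by
    simp only [hS, map_one, Units.val_one, Finset.sum_const, Finset.card_univ, h3]
    norm_num
  have hsq : S t ^ 2 = ∑ γ₁ : Γ, S (t * (γ₁ : MulAut A) t) := by
    calc S t ^ 2 = ∑ γ : Γ, ∑ γ' : Γ, ((ψ ((γ : MulAut A) t) : ℂˣ) : ℂ) *
          ((ψ ((γ' : MulAut A) t) : ℂˣ) : ℂ) := by
          rw [sq]; exact Finset.sum_mul_sum _ _ _ _
      _ = ∑ γ : Γ, ∑ γ₁ : Γ, ((ψ ((γ : MulAut A) (t * (γ₁ : MulAut A) t)) : ℂˣ) : ℂ) := by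
          refine Finset.sum_congr rfl (fun γ _ => ?_)
          rw [← Fintype.sum_equiv (Equiv.mulLeft γ)
            (fun γ₁ : Γ => ((ψ ((γ : MulAut A) t) : ℂˣ) : ℂ) *
              ((ψ (((γ * γ₁ : Γ) : MulAut A) t) : ℂˣ) : ℂ))
            (fun γ' : Γ => ((ψ ((γ : MulAut A) t) : ℂˣ) : ℂ) *
              ((ψ ((γ' : MulAut A) t) : ℂˣ) : ℂ))
            (fun γ₁ => rfl)]
          refine Finset.sum_congr rfl (fun γ₁ _ => ?_)
          rw [map_mul (γ : MulAut A), map_mul ψ, Units.val_mul]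
          rfl
      _ = ∑ γ₁ : Γ, ∑ γ : Γ, ((ψ ((γ : MulAut A) (t * (γ₁ : MulAut A) t)) : ℂˣ) : ℂ) :=
          Finset.sum_comm
      _ = ∑ γ₁ : Γ, S (t * (γ₁ : MulAut A) t) := rfl
  have hterm : ∀ γ₁ : Γ, γ₁ ≠ 1 → S (t * (γ₁ : MulAut A) t) = S t := by
    intro γ₁ hγ₁
    have hγ₁' : (γ₁ : MulAut A) ≠ 1 := fun h => hγ₁ (Subtype.ext h)
    rw [mul_apply_eq hfree h3 γ₁.2 hγ₁' ht, hSinv, hSinv]
  show S t ^ 2 = 3 + 2 * S t
  rw [hsq, ← Finset.add_sum_erase Finset.univ _ (Finset.mem_univ (1 : Γ))]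
  have e1 : S (t * ((1 : Γ) : MulAut A) t) = 3 := by
    have : ((1 : Γ) : MulAut A) t = t := rfl
    rw [this, ht, hS1]
  rw [e1, Finset.sum_congr rfl (g := fun _ => S t)
    (fun γ₁ hγ₁ => hterm γ₁ (Finset.ne_of_mem_erase hγ₁)), Finset.sum_const,
    Finset.card_erase_of_mem (Finset.mem_univ _), Finset.card_univ, h3]
  simp only [Nat.add_one_sub_one, nsmul_eq_mul]
  norm_num

end cubic

end Cfsg.Agent.Helper66.BL
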