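import Cfsg.Agent.Helper66.BLGroup

/-!
# Local analysis: products of two `p`-elements in a centralizer with a normal `p`-complement
-/

set_option autoImplicit false
set_option linter.unusedSectionVars false
set_option linter.unusedVariables false
set_option linter.style.haveILetI false

namespace Cfsg.Agent.Helper66.BL

open Cfsg
open scoped Pointwise

section transfer

variable {H : Type*} [Group H] [Finite H] {p : ℕ} [Fact p.Prime]

/-- Sylow's theorem for a `p`-element. -/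
theorem exists_conj_mem_sylow' (Q : Sylow p H) (x : H) (hx : ∃ k, orderOf x = p ^ k) :
    ∃ g : H, g * x * g⁻¹ ∈ (Q : Subgroup H) := by
  obtain ⟨k, hk⟩ := hx
  have hZ : IsPGroup p (Subgroup.zpowers x) :=
    IsPGroup.of_card (n := k) (by rw [Nat.card_zpowers, hk])
  obtain ⟨Q', hQ'⟩ := hZ.exists_le_sylow
  obtain ⟨g, hg⟩ := MulAction.exists_smul_eq H Q' Q
  refine ⟨g, ?_⟩
  have h1 : MulAut.conj g • x ∈ MulAut.conj g • (Q' : Subgroup H) :=
    Subgroup.smul_mem_pointwise_smul _ _ _ (hQ' (Subgroup.mem_zpowers x))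
  rw [← Sylow.coe_subgroup_smul, hg] at h1
  simpa [MulAut.smul_def] using h1

/-- In a group with `N(Q) ≤ C(Q)` for a Sylow `p`-subgroup `Q`: if the product of two
`p`-elements is `y w` with `y ∈ Q` and `w` a `p'`-element, then `y` is the product of two elements
of `Q` conjugate to the given ones. -/
theorem exists_mul_eq_of_transfer (Q : Sylow p H)
    (hQ : Subgroup.normalizer ((Q : Subgroup H) : Set H) ≤
      Subgroup.centralizer ((Q : Subgroup H) : Set H))
    {t₁ t₂ y w : H} (ht₁ : ∃ k, orderOf t₁ = p ^ k) (ht₂ : ∃ k, orderOf t₂ = p ^ k)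
    (hy : y ∈ (Q : Subgroup H)) (hw : ¬ p ∣ orderOf w) (h : t₁ * t₂ = y * w) :
    ∃ τ₁ ∈ (Q : Subgroup H), ∃ τ₂ ∈ (Q : Subgroup H),
      IsConj t₁ τ₁ ∧ IsConj t₂ τ₂ ∧ τ₁ * τ₂ = y := by
  have hp : p.Prime := Fact.out
  set φ := MonoidHom.transferSylow Q hQ with hφ
  haveI : IsMulCommutative (Q : Subgroup H) :=
    ⟨⟨fun a b => Subtype.ext (hQ (Subgroup.le_normalizer b.2) a a.2)⟩⟩
  -- `φ w = 1`
  have hφw : φ w = 1 := by
    have h1 : orderOf (φ w) ∣ orderOf w := orderOf_map_dvd φ w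
    obtain ⟨j, hj⟩ := (IsPGroup.iff_orderOf.mp Q.2) (φ w)
    have hcop : Nat.Coprime (orderOf (φ w)) (orderOf w) := by
      rw [hj]
      exact Nat.Coprime.pow_left j ((Nat.Prime.coprime_iff_not_dvd hp).mpr hw)
    have : orderOf (φ w) = 1 := Nat.Coprime.eq_one_of_dvd hcop h1
    exact orderOf_eq_one_iff.mp this
  obtain ⟨g₁, hg₁⟩ := exists_conj_mem_sylow' Q t₁ ht₁
  obtain ⟨g₂, hg₂⟩ := exists_conj_mem_sylow' Q t₂ ht₂
  have hconj : ∀ g x : H, φ (g * x * g⁻¹) = φ x := by
    intro g x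
    rw [map_mul, map_mul, map_inv, mul_comm' (φ g) (φ x), mul_assoc, mul_inv_cancel, mul_one]
  refine ⟨g₁ * t₁ * g₁⁻¹, hg₁, g₂ * t₂ * g₂⁻¹, hg₂, isConj_iff.mpr ⟨g₁, rfl⟩,
    isConj_iff.mpr ⟨g₂, rfl⟩, ?_⟩
  have hker : (g₁ * t₁ * g₁⁻¹) * (g₂ * t₂ * g₂⁻¹) * y⁻¹ ∈ φ.ker := by
    rw [MonoidHom.mem_ker, map_mul, map_mul, hconj, hconj, ← map_mul, h, map_mul, hφw, mul_one,
      map_inv, mul_inv_cancel]
  have hmemQ : (g₁ * t₁ * g₁⁻¹) * (g₂ * t₂ * g₂⁻¹) * y⁻¹ ∈ (Q : Subgroup H) :=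
    Subgroup.mul_mem _ (Subgroup.mul_mem _ hg₁ hg₂) (Subgroup.inv_mem _ hy)
  have hdisj := MonoidHom.ker_transferSylow_disjoint Q hQ (Q : Subgroup H) Q.2
  have := (Subgroup.disjoint_def.mp hdisj) hker hmemQ
  exact mul_inv_eq_one.mp this

end transfer

section local_

variable {G : Type*} [Group G] [Finite G] {p : ℕ} [Fact p.Prime] (P : Sylow p G)

/-- Under the Frobenius-type hypothesis, `P` is central in its normalizer inside `C_G(y)`. -/
theorem normalizer_le_centralizer_sub (hab : IsMulCommutative P) {y : G}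
    (hy : y ∈ (P : Subgroup G))
    (hfrob : Subgroup.centralizer ({y} : Set G) ⊓ Subgroup.normalizer ((P : Subgroup G) : Set G) =
      Subgroup.centralizer ((P : Subgroup G) : Set G)) :
    Subgroup.normalizer (((P.subtype (le_centralizer_singleton P hab hy) :
        Sylow p (Subgroup.centralizer ({y} : Set G))) :
        Subgroup (Subgroup.centralizer ({y} : Set G))) : Set (Subgroup.centralizer ({y} : Set G))) ≤
      Subgroup.centralizer (((P.subtype (le_centralizer_singleton P hab hy) :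
        Sylow p (Subgroup.centralizer ({y} : Set G))) :
        Subgroup (Subgroup.centralizer ({y} : Set G))) : Set (Subgroup.centralizer ({y} : Set G))) := by
  have hPH := le_centralizer_singleton P hab hy
  intro h hh
  rw [Subgroup.mem_normalizer_iff] at hh
  have hN : (h : G) ∈ Subgroup.normalizer ((P : Subgroup G) : Set G) := by
    rw [Subgroup.mem_normalizer_iff]
    intro g
    constructor
    · intro hg
      have h1 := (hh ⟨g, hPH hg⟩).mp (by
        show (⟨g, hPH hg⟩ : Subgroup.centralizer ({y} : Set G)) ∈ (P.subtype hPH : Subgroup _)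
        rw [Sylow.coe_subtype, Subgroup.mem_subgroupOf]; exact hg)
      have h2 : ((h * ⟨g, hPH hg⟩ * h⁻¹ : Subgroup.centralizer ({y} : Set G)) : G) ∈
          (P : Subgroup G) := by
        have := h1
        rw [Sylow.coe_subtype, Subgroup.mem_subgroupOf] at this
        exact this
      simpa using h2
    · intro hg
      have hgH : g ∈ Subgroup.centralizer ({y} : Set G) := by
        have h1 : (h : G) * g * (h : G)⁻¹ ∈ Subgroup.centralizer ({y} : Set G) := hPH hg
        have h2 := Subgroup.mul_mem _ (Subgroup.mul_mem _ (Subgroup.inv_mem _ h.2) h1) h.2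
        have e : (h : G)⁻¹ * ((h : G) * g * (h : G)⁻¹) * (h : G) = g := by group
        rwa [e] at h2
      have h1 : h * ⟨g, hgH⟩ * h⁻¹ ∈ (P.subtype hPH : Subgroup _) := by
        rw [Sylow.coe_subtype, Subgroup.mem_subgroupOf]
        simpa using hg
      have h2 := (hh ⟨g, hgH⟩).mpr h1
      rw [Sylow.coe_subtype, Subgroup.mem_subgroupOf] at h2
      exact h2
  have hC : (h : G) ∈ Subgroup.centralizer ((P : Subgroup G) : Set G) := by
    rw [← hfrob]
    exact ⟨h.2, hN⟩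
  rw [Subgroup.mem_centralizer_iff]
  intro x hx
  have hx' : (x : G) ∈ (P : Subgroup G) := by
    have : x ∈ (P.subtype hPH : Subgroup _) := hx
    rw [Sylow.coe_subtype, Subgroup.mem_subgroupOf] at this
    exact this
  rw [Subgroup.mem_centralizer_iff] at hC
  exact Subtype.ext (hC (x : G) hx')

/-- If the product of two `p`-elements of `C_G(y)` is `y w` with `w` a `p'`-element of `C_G(y)`,
then `y` is the product of two elements of `P` conjugate to the given ones. -/
theorem exists_mul_eq_in_sylow (hab : IsMulCommutative P) {y : G}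
    (hy : y ∈ (P : Subgroup G))
    (hfrob : Subgroup.centralizer ({y} : Set G) ⊓ Subgroup.normalizer ((P : Subgroup G) : Set G) =
      Subgroup.centralizer ((P : Subgroup G) : Set G))
    {t₁ t₂ w : G} (ht₁ : ∃ k, orderOf t₁ = p ^ k) (ht₂ : ∃ k, orderOf t₂ = p ^ k)
    (hc₁ : t₁ ∈ Subgroup.centralizer ({y} : Set G)) (hc₂ : t₂ ∈ Subgroup.centralizer ({y} : Set G))
    (hcw : w ∈ Subgroup.centralizer ({y} : Set G)) (hw : ¬ p ∣ orderOf w)
    (h : t₁ * t₂ = y * w) :
    ∃ τ₁ ∈ (P : Subgroup G), ∃ τ₂ ∈ (P : Subgroup G),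
      IsConj t₁ τ₁ ∧ IsConj t₂ τ₂ ∧ τ₁ * τ₂ = y := by
  have hPH := le_centralizer_singleton P hab hy
  have hN := normalizer_le_centralizer_sub P hab hy hfrob
  have hyH : y ∈ Subgroup.centralizer ({y} : Set G) := hPH hy
  obtain ⟨τ₁, hτ₁, τ₂, hτ₂, hc1, hc2, hmul⟩ :=
    exists_mul_eq_of_transfer (P.subtype hPH) hN
      (t₁ := ⟨t₁, hc₁⟩) (t₂ := ⟨t₂, hc₂⟩) (y := ⟨y, hyH⟩) (w := ⟨w, hcw⟩)
      (by rw [Subgroup.orderOf_mk]; exact ht₁) (by rw [Subgroup.orderOf_mk]; exact ht₂)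
      (by rw [Sylow.coe_subtype, Subgroup.mem_subgroupOf]; exact hy)
      (by rw [Subgroup.orderOf_mk]; exact hw) (Subtype.ext h)
  rw [Sylow.coe_subtype, Subgroup.mem_subgroupOf] at hτ₁ hτ₂
  refine ⟨(τ₁ : G), hτ₁, (τ₂ : G), hτ₂, ?_, ?_, congrArg Subtype.val hmul⟩
  · obtain ⟨c, hc⟩ := isConj_iff.mp hc1
    exact isConj_iff.mpr ⟨(c : G), congrArg Subtype.val hc⟩
  · obtain ⟨c, hc⟩ := isConj_iff.mp hc2
    exact isConj_iff.mpr ⟨(c : G), congrArg Subtype.val hc⟩

end local_

end Cfsg.Agent.Helper66.BL
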