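import Cfsg.Agent.Helper66.BLThree
import Cfsg.Agent.Helper66.BLLocal
import Cfsg.Agent.Helper66.BLCubic
import Cfsg.Agent.Helper78.ColumnVanish
import Cfsg.Agent.Helper75.FTSecond
import Cfsg.Agent.Helper17.ExcChar5

/-!
# The involution part of the Brauer–Leonard theorem for `|N/C| = 3`
-/

set_option autoImplicit false
set_option linter.unusedSectionVars false
set_option linter.unusedVariables false
set_option linter.style.haveILetI false

namespace Cfsg.Agent.Helper66.BL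

open Cfsg
open scoped ComplexConjugate

section noprod

variable {G : Type*} [Group G] [Finite G] {p : ℕ} [Fact p.Prime]

set_option maxHeartbeats 800000 in
/-- No element of the `p`-section of `y ∈ P ∖ {1}` is a product of two conjugates of the
involution `t`, provided `y` is not conjugate to `t`. -/
theorem no_product (P : Sylow p G) (hab : IsMulCommutative P)
    (hCN : (Subgroup.centralizer ((P : Subgroup G) : Set G)).relIndex
      (Subgroup.normalizer ((P : Subgroup G) : Set G)) = 3)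
    (hfrob : ∀ y : G, y ∈ (P : Subgroup G) → y ≠ 1 →
      Subgroup.centralizer ({y} : Set G) ⊓ Subgroup.normalizer ((P : Subgroup G) : Set G) =
        Subgroup.centralizer ((P : Subgroup G) : Set G))
    {t y : G} (ht : orderOf t = 2) (hy : y ∈ (P : Subgroup G)) (hy1 : y ≠ 1)
    (hnc : ¬ IsConj y t) :
    ∀ g z : G, IsPPart p (t * (g * t * g⁻¹)) z → ¬ IsConj y z := by
  classical
  intro g z hz hconj
  have hp : p.Prime := Fact.out
  letI : CommGroup (P : Subgroup G) :=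
    { (inferInstance : Group (P : Subgroup G)) with mul_comm := mul_comm' }
  haveI : Fintype (P : Subgroup G) := Fintype.ofFinite _
  set Γ : Subgroup (MulAut (P : Subgroup G)) := autGroup (P : Subgroup G) with hΓ
  haveI : Fintype Γ := Fintype.ofFinite _
  have hcardΓ : Fintype.card Γ = 3 := by
    rw [← Nat.card_eq_fintype_card, card_autGroup, hCN]
  have hfree : ∀ γ ∈ Γ, ∀ w : (P : Subgroup G), w ≠ 1 → γ w = w → γ = 1 := autGroup_free P hfrob
  have ht2 : t * t = 1 := by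
    have : t ^ 2 = 1 := by rw [← ht]; exact pow_orderOf_eq_one t
    rwa [pow_two] at this
  have ht1 : t ≠ 1 := by
    intro h
    rw [h, orderOf_one] at ht
    omega
  obtain ⟨c, hc⟩ := isConj_iff.mp hconj
  obtain ⟨w, hzw, hcomm, hzord, hword⟩ := hz
  -- conjugate everything back by `c`
  obtain ⟨t₁, ht₁⟩ : ∃ t₁, t₁ = c⁻¹ * t * c := ⟨_, rfl⟩
  obtain ⟨t₂, ht₂⟩ : ∃ t₂, t₂ = c⁻¹ * (g * t * g⁻¹) * c := ⟨_, rfl⟩
  obtain ⟨w', hw'⟩ : ∃ w', w' = c⁻¹ * w * c := ⟨_, rfl⟩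
  have hyz : y = c⁻¹ * z * c := by rw [← hc]; group
  have hprod : t₁ * t₂ = y * w' := by
    rw [ht₁, ht₂, hw', hyz]
    calc c⁻¹ * t * c * (c⁻¹ * (g * t * g⁻¹) * c) = c⁻¹ * (t * (g * t * g⁻¹)) * c := by group
      _ = c⁻¹ * (z * w) * c := by rw [hzw]
      _ = c⁻¹ * z * c * (c⁻¹ * w * c) := by group
  have ht₁2 : t₁ * t₁ = 1 := by
    rw [ht₁]
    calc c⁻¹ * t * c * (c⁻¹ * t * c) = c⁻¹ * (t * t) * c := by group
      _ = 1 := by rw [ht2]; group
  have ht₂2 : t₂ * t₂ = 1 := by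
    rw [ht₂]
    calc c⁻¹ * (g * t * g⁻¹) * c * (c⁻¹ * (g * t * g⁻¹) * c)
        = c⁻¹ * g * (t * t) * g⁻¹ * c := by group
      _ = 1 := by rw [ht2]; group
  have hcomm' : Commute y w' := by
    rw [hyz, hw']
    have h := hcomm.eq
    show c⁻¹ * z * c * (c⁻¹ * w * c) = c⁻¹ * w * c * (c⁻¹ * z * c)
    calc c⁻¹ * z * c * (c⁻¹ * w * c) = c⁻¹ * (z * w) * c := by group
      _ = c⁻¹ * (w * z) * c := by rw [h]
      _ = c⁻¹ * w * c * (c⁻¹ * z * c) := by group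
  have hw'ord : ¬ p ∣ orderOf w' := by
    have : orderOf w' = orderOf w := by
      have h := MulEquiv.orderOf_eq (MulAut.conj c⁻¹) w
      rw [MulAut.conj_apply, inv_inv] at h
      rw [hw']
      exact h
    rwa [this]
  -- `t₁` inverts `y`
  have hyord : ∃ k : ℕ, orderOf y = p ^ k := exists_orderOf_eq_of_mem P hy
  have hPP : IsPPart p (y * w') y := ⟨w', rfl, hcomm', hyord, hw'ord⟩
  obtain ⟨e, he⟩ := Helper78.exists_pow_eq_of_isPPart hp hPP
  have ht₁inv : t₁⁻¹ = t₁ := inv_eq_of_mul_eq_one_left ht₁2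
  have ht₂inv : t₂⁻¹ = t₂ := inv_eq_of_mul_eq_one_left ht₂2
  have hinvh : t₁ * (y * w') * t₁⁻¹ = (y * w')⁻¹ := by
    rw [← hprod, mul_inv_rev, ht₁inv, ht₂inv, ← mul_assoc, ht₁2, one_mul]
  have hinvy : t₁ * y * t₁⁻¹ = y⁻¹ := by
    rw [← he, ← conj_pow, hinvh, inv_pow]
  have hyinv : y⁻¹ ∈ (P : Subgroup G) := Subgroup.inv_mem _ hy
  obtain ⟨n, hn, hny⟩ := exists_normalizer_conj P hab hy hyinv (isConj_iff.mpr ⟨t₁, hinvy⟩)
  set γ : MulAut (P : Subgroup G) := (P : Subgroup G).normalizerMonoidHom ⟨n, hn⟩ with hγ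
  have hγΓ : γ ∈ Γ := ⟨⟨n, hn⟩, rfl⟩
  have hŷ1 : (⟨y, hy⟩ : (P : Subgroup G)) ≠ 1 := fun h => hy1 (congrArg Subtype.val h)
  have hγy : γ ⟨y, hy⟩ = (⟨y, hy⟩ : (P : Subgroup G))⁻¹ := Subtype.ext hny
  have hγ2 : γ * γ = 1 := by
    apply hfree (γ * γ) (Γ.mul_mem hγΓ hγΓ) ⟨y, hy⟩ hŷ1
    rw [MulAut.mul_apply, hγy, map_inv, hγy, inv_inv]
  have hpow3 : ∀ γ' : MulAut (P : Subgroup G), γ' ∈ Γ → γ' ^ 3 = 1 := by
    intro γ' hγ'
    have : (⟨γ', hγ'⟩ : Γ) ^ Fintype.card Γ = 1 := pow_card_eq_one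
    rw [hcardΓ] at this
    exact congrArg Subtype.val this
  have hγ1 : γ = 1 := by
    have h3 := hpow3 γ hγΓ
    rw [pow_succ, pow_two, hγ2, one_mul] at h3
    exact h3
  have hyy : y * y = 1 := by
    have h1 : (⟨y, hy⟩ : (P : Subgroup G))⁻¹ = ⟨y, hy⟩ := by rw [← hγy, hγ1]; rfl
    have h2 : y⁻¹ = y := congrArg Subtype.val h1
    have h3 : y * y⁻¹ = 1 := mul_inv_cancel y
    rwa [h2] at h3
  -- hence `p = 2`
  have hyo : orderOf y = 2 := orderOf_eq_prime (by rw [pow_two]; exact hyy) hy1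
  have hp2 : p = 2 := by
    obtain ⟨k, hk⟩ := hyord
    rw [hyo] at hk
    have hk0 : k ≠ 0 := by
      rintro rfl
      simp at hk
    have : p ∣ 2 := by rw [hk]; exact dvd_pow_self p hk0
    exact (Nat.prime_dvd_prime_iff_eq hp Nat.prime_two).mp this
  have ht₁ne : t₁ ≠ 1 := by
    intro h
    apply ht1
    have : t = c * t₁ * c⁻¹ := by rw [ht₁]; group
    rw [this, h]; group
  have ht₂ne : t₂ ≠ 1 := by
    intro h
    apply ht1
    have : t = g⁻¹ * (c * t₂ * c⁻¹) * g := by rw [ht₂]; group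
    rw [this, h]; group
  have ht₁o : ∃ k : ℕ, orderOf t₁ = p ^ k :=
    ⟨1, by rw [hp2, pow_one]; exact orderOf_eq_prime (by rw [pow_two]; exact ht₁2) ht₁ne⟩
  have ht₂o : ∃ k : ℕ, orderOf t₂ = p ^ k :=
    ⟨1, by rw [hp2, pow_one]; exact orderOf_eq_prime (by rw [pow_two]; exact ht₂2) ht₂ne⟩
  have hyinv' : y⁻¹ = y := inv_eq_of_mul_eq_one_left hyy
  have hc₁ : t₁ ∈ Subgroup.centralizer ({y} : Set G) := by
    rw [Subgroup.mem_centralizer_singleton_iff]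
    have := hinvy
    rw [hyinv'] at this
    calc t₁ * y = t₁ * y * t₁⁻¹ * t₁ := by group
      _ = y * t₁ := by rw [this]
  have hcw : w' ∈ Subgroup.centralizer ({y} : Set G) := by
    rw [Subgroup.mem_centralizer_singleton_iff]
    exact hcomm'.eq.symm
  have hcy : y ∈ Subgroup.centralizer ({y} : Set G) := by
    rw [Subgroup.mem_centralizer_singleton_iff]
  have hc₂ : t₂ ∈ Subgroup.centralizer ({y} : Set G) := by
    have : t₂ = t₁⁻¹ * (y * w') := by rw [← hprod]; group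
    rw [this]
    exact Subgroup.mul_mem _ (Subgroup.inv_mem _ hc₁) (Subgroup.mul_mem _ hcy hcw)
  obtain ⟨τ₁, hτ₁, τ₂, hτ₂, hcj₁, hcj₂, hττ⟩ :=
    exists_mul_eq_in_sylow P hab hy (hfrob y hy hy1) ht₁o ht₂o hc₁ hc₂ hcw hw'ord hprod
  have hconj_t₁ : IsConj t t₁ := isConj_iff.mpr ⟨c⁻¹, by rw [ht₁, inv_inv]⟩
  have hconj_t₂ : IsConj t t₂ := isConj_iff.mpr ⟨c⁻¹ * g, by rw [ht₂]; group⟩
  have hconjτ : IsConj τ₁ τ₂ := (hcj₁.symm.trans hconj_t₁.symm).trans (hconj_t₂.trans hcj₂)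
  obtain ⟨n', hn', hn'τ⟩ := exists_normalizer_conj P hab hτ₁ hτ₂ hconjτ
  set γ' : MulAut (P : Subgroup G) := (P : Subgroup G).normalizerMonoidHom ⟨n', hn'⟩ with hγ'
  have hγ'Γ : γ' ∈ Γ := ⟨⟨n', hn'⟩, rfl⟩
  have hτ₁2 : τ₁ * τ₁ = 1 := by
    obtain ⟨d, hd⟩ := isConj_iff.mp hcj₁
    rw [← hd]
    calc d * t₁ * d⁻¹ * (d * t₁ * d⁻¹) = d * (t₁ * t₁) * d⁻¹ := by group
      _ = 1 := by rw [ht₁2]; group
  have hγ'τ : γ' ⟨τ₁, hτ₁⟩ = ⟨τ₂, hτ₂⟩ := Subtype.ext hn'τ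
  by_cases hγ'1 : γ' = 1
  · have : τ₂ = τ₁ := by
      have h := hγ'τ
      rw [hγ'1] at h
      exact (congrArg Subtype.val h).symm
    rw [this, hτ₁2] at hττ
    exact hy1 hττ.symm
  · have hmul := mul_apply_eq hfree hcardΓ hγ'Γ hγ'1 (τ := (⟨τ₁, hτ₁⟩ : (P : Subgroup G)))
      (Subtype.ext hτ₁2)
    rw [hγ'τ] at hmul
    have hval : τ₁ * τ₂ = n' * τ₂ * n'⁻¹ := congrArg Subtype.val hmul
    rw [hττ] at hval
    apply hnc
    have h1 : IsConj τ₂ y := isConj_iff.mpr ⟨n', hval.symm⟩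
    exact h1.symm.trans (hcj₂.symm.trans hconj_t₂.symm)

end noprod

section sums

variable {G : Type*} [Group G] [Finite G] {p : ℕ} [Fact p.Prime] {M : Ideal AlgInt}
  {P : Sylow p G} {m : ℕ} {X Y : Set (IrrCharacter G)} {a : IrrCharacter G → ℤ} {d δ : ℤ}
  {ζ : ((P : Subgroup G) →* ℂˣ) → IrrCharacter G}

/-- An involution lying in no proper normal subgroup is in the kernel of no nonprincipal
irreducible character. -/
theorem irr_ne_at_generator {t : G} (ht2 : t * t = 1)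
    (htK : ∀ K : Subgroup G, K.Normal → t ∈ K → K = ⊤) (χ : IrrCharacter G)
    (hχ : χ ≠ Helper79.principalIrr G) : (χ : G → ℂ) t ≠ (χ : G → ℂ) 1 := by
  haveI := Fintype.ofFinite G
  intro h
  apply hχ
  apply Helper75.irr_eq_principal_of_const χ
  refine Helper75.irr_const_of_const_on χ.2 (H := Subgroup.zpowers t) ?_ ?_
  · intro K hK hle
    exact htK K hK (hle (Subgroup.mem_zpowers t))
  · intro h' hh'
    obtain ⟨k, rfl⟩ := Subgroup.mem_zpowers_iff.mp hh'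
    have ht22 : t ^ (2 : ℤ) = 1 := by
      rw [zpow_ofNat, pow_two, ht2]
    obtain ⟨j, hj | hj⟩ := Int.even_or_odd' k
    · rw [hj, zpow_mul, ht22, one_zpow]
    · rw [hj, zpow_add, zpow_mul, ht22, one_zpow, one_mul, zpow_one, h]

theorem BLData.sum_block (D : BLData M P m X Y a d δ ζ) (f : IrrCharacter G → ℂ) :
    ∑ᶠ χ ∈ principalBlock M G, f χ = ∑ᶠ χ ∈ X, f χ + ∑ᶠ η ∈ Y, f η := by
  haveI : Finite (IrrCharacter G) := Helper79.irr_finite'
  rw [D.union, finsum_mem_union D.disj (Set.toFinite _) (Set.toFinite _)]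

theorem sum_X3 {X : Set (IrrCharacter G)} {χ₀ χ₁ χ₂ : IrrCharacter G} (h01 : χ₀ ≠ χ₁)
    (h02 : χ₀ ≠ χ₂) (h12 : χ₁ ≠ χ₂) (hX : X = {χ₀, χ₁, χ₂}) (f : IrrCharacter G → ℂ) :
    ∑ᶠ χ ∈ X, f χ = f χ₀ + f χ₁ + f χ₂ := by
  rw [hX, finsum_mem_insert f (by simp [h01, h02]) (Set.toFinite _), finsum_mem_pair h12]
  ring

/-- The three members of `X`. -/
theorem BLData.exists_X3 (D : BLData M P m X Y a d δ ζ) (hX3 : Nat.card X = 3) :
    ∃ χ₁ χ₂ : IrrCharacter G, χ₁ ≠ χ₂ ∧ Helper79.principalIrr G ≠ χ₁ ∧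
      Helper79.principalIrr G ≠ χ₂ ∧ X = {Helper79.principalIrr G, χ₁, χ₂} := by
  haveI : Finite (IrrCharacter G) := Helper79.irr_finite'
  rw [Nat.card_coe_set_eq] at hX3
  have h2 : (X \ {Helper79.principalIrr G}).ncard = 2 := by
    rw [Set.ncard_diff_singleton_of_mem D.one_mem, hX3]
  obtain ⟨χ₁, χ₂, h12, hXeq⟩ := Set.ncard_eq_two.mp h2
  have h1 : χ₁ ∈ X \ {Helper79.principalIrr G} := by rw [hXeq]; simp
  have h2' : χ₂ ∈ X \ {Helper79.principalIrr G} := by rw [hXeq]; simp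
  refine ⟨χ₁, χ₂, h12, fun h => h1.2 (by rw [h]; rfl), fun h => h2'.2 (by rw [h]; rfl), ?_⟩
  rw [← hXeq, Set.insert_diff_singleton, Set.insert_eq_of_mem D.one_mem]

end sums

section relations

variable {G : Type*} [Group G] [Finite G] {p : ℕ} [Fact p.Prime] {M : Ideal AlgInt}
  {P : Sylow p G} {m : ℕ} {X Y : Set (IrrCharacter G)} {a : IrrCharacter G → ℤ} {δ : ℤ}
  {ζ : ((P : Subgroup G) →* ℂˣ) → IrrCharacter G}

variable (hM : IsPModular p M) (hab : IsMulCommutative P)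
  (hfrob : ∀ y : G, y ∈ (P : Subgroup G) → y ≠ 1 →
    Subgroup.centralizer ({y} : Set G) ⊓ Subgroup.normalizer ((P : Subgroup G) : Set G) =
      Subgroup.centralizer ((P : Subgroup G) : Set G))

include hM hab hfrob

/-- The members of `Y` have the same degree. -/
theorem BLData.degree_Y (D : BLData M P m X Y a 0 δ ζ) {η η' : IrrCharacter G} (hη : η ∈ Y)
    (hη' : η' ∈ Y) : (η : G → ℂ) 1 = (η' : G → ℂ) 1 := by
  have h1reg : ¬ p ∣ orderOf (1 : G) := by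
    rw [orderOf_one]; exact (Fact.out : p.Prime).not_dvd_one
  exact D.reg_eq η hη η' hη' 1 h1reg

/-- The sum of the members of `Y` at `y ∈ P ∖ {1}`. -/
theorem BLData.sum_Y_eq (D : BLData M P m X Y a 0 δ ζ) (hm2 : m + 1 < Nat.card P) {y : G}
    (hy : y ∈ (P : Subgroup G)) (hy1 : y ≠ 1) :
    ∑ᶠ η ∈ Y, (η : G → ℂ) y = -(δ : ℂ) := by
  haveI : Finite (IrrCharacter G) := Helper79.irr_finite'
  have hp : p.Prime := Fact.out
  have h1reg : ¬ p ∣ orderOf (1 : G) := by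
    rw [orderOf_one]; exact hp.not_dvd_one
  -- a member of `Y`
  have hYne : Nonempty Y := by
    have : 0 < Nat.card Y := by have := D.two_le_cardY hm2; omega
    exact (Nat.card_pos_iff.mp this).1
  obtain ⟨⟨η₀, hη₀⟩⟩ := hYne
  have hyinv : y⁻¹ ∈ (P : Subgroup G) := Subgroup.inv_mem _ hy
  have hyinv1 : y⁻¹ ≠ 1 := fun h => hy1 (inv_eq_one.mp h)
  have hcol := principal_orth_regular hM P hab hfrob h1reg hyinv hyinv1
  rw [inv_inv, D.sum_block] at hcol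
  have hR1 := D.reg_rel η₀ hη₀ 1 h1reg
  have eX : ∑ᶠ χ ∈ X, (χ : G → ℂ) 1 * (χ : G → ℂ) y = ∑ᶠ χ ∈ X, (a χ : ℂ) * (χ : G → ℂ) 1 := by
    refine finsum_mem_congr rfl (fun χ hχ => ?_)
    rw [D.valX χ hχ y y (isPPart_self P hy) hy hy1]
    ring
  have eY : ∑ᶠ η ∈ Y, (η : G → ℂ) 1 * (η : G → ℂ) y =
      (η₀ : G → ℂ) 1 * ∑ᶠ η ∈ Y, (η : G → ℂ) y := by
    rw [mul_finsum_mem]
    refine finsum_mem_congr rfl (fun η hη => ?_)
    rw [D.degree_Y hM hab hfrob hη hη₀]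
  rw [eX, eY] at hcol
  have hx0 : (η₀ : G → ℂ) 1 ≠ 0 := by
    rw [Helper79.irr_one]
    have := Helper79.irr_charDegree_pos η₀
    exact_mod_cast this.ne'
  have : (η₀ : G → ℂ) 1 * ((δ : ℂ) + ∑ᶠ η ∈ Y, (η : G → ℂ) y) = 0 := by
    linear_combination hcol - hR1
  rcases mul_eq_zero.mp this with h | h
  · exact absurd h hx0
  · linear_combination h

omit hM hfrob in
/-- The block-restricted class multiplication relation. -/
theorem R3_general (hM : IsPModular p M)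
    (hfrob : ∀ y : G, y ∈ (P : Subgroup G) → y ≠ 1 →
      Subgroup.centralizer ({y} : Set G) ⊓ Subgroup.normalizer ((P : Subgroup G) : Set G) =
        Subgroup.centralizer ((P : Subgroup G) : Set G))
    (hCN : (Subgroup.centralizer ((P : Subgroup G) : Set G)).relIndex
      (Subgroup.normalizer ((P : Subgroup G) : Set G)) = 3)
    {t y : G} (ht : orderOf t = 2) (hy : y ∈ (P : Subgroup G)) (hy1 : y ≠ 1)
    (hnc : ¬ IsConj y t) :
    ∑ᶠ χ ∈ principalBlock M G, (χ : G → ℂ) y * ((χ : G → ℂ) t ^ 2 / (χ : G → ℂ) 1) = 0 := by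
  haveI := Fintype.ofFinite G
  haveI : Finite (IrrCharacter G) := Helper79.irr_finite'
  have ht2 : t * t = 1 := by
    have : t ^ 2 = 1 := by rw [← ht]; exact pow_orderOf_eq_one t
    rwa [pow_two] at this
  have htt : t⁻¹ = t := inv_eq_of_mul_eq_one_left ht2
  have hBf : (principalBlock M G).Finite := Set.toFinite _
  have hyo : ∃ k : ℕ, orderOf y⁻¹ = p ^ k := by
    rw [orderOf_inv]; exact exists_orderOf_eq_of_mem P hy
  have h := Helper78.sum_inv_mul_sq_div_eq_zero hM (Helper78.isPBlock_principalBlock M G) hBf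
    y⁻¹ t hyo htt (by
      intro g z hz
      rw [inv_inv]
      exact no_product P hab hCN hfrob ht hy hy1 hnc g z hz)
  rw [inv_inv] at h
  rw [finsum_mem_eq_finite_toFinset_sum _ hBf]
  exact h


omit hM hfrob in
set_option maxHeartbeats 1600000 in
/-- The involution part for odd `p`. -/
theorem involution_odd (hM : IsPModular p M)
    (hfrob : ∀ y : G, y ∈ (P : Subgroup G) → y ≠ 1 →
      Subgroup.centralizer ({y} : Set G) ⊓ Subgroup.normalizer ((P : Subgroup G) : Set G) =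
        Subgroup.centralizer ((P : Subgroup G) : Set G))
    (hCN : (Subgroup.centralizer ((P : Subgroup G) : Set G)).relIndex
      (Subgroup.normalizer ((P : Subgroup G) : Set G)) = 3)
    (hm2 : 3 + 1 < Nat.card P) (D : BLData M P 3 X Y a 0 δ ζ)
    (hpm : ∀ χ ∈ X, a χ = 1 ∨ a χ = -1) {χ₁ χ₂ : IrrCharacter G} (h12 : χ₁ ≠ χ₂)
    (h01 : Helper79.principalIrr G ≠ χ₁) (h02 : Helper79.principalIrr G ≠ χ₂)
    (hXeq : X = {Helper79.principalIrr G, χ₁, χ₂}) (hp2 : p ≠ 2) {t : G} (ht : orderOf t = 2)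
    (htK : ∀ K : Subgroup G, K.Normal → t ∈ K → K = ⊤) {η₀ : IrrCharacter G} (hη₀ : η₀ ∈ Y) :
    ((if a χ₁ = -1 then 1 else 0) + (if a χ₂ = -1 then 1 else 0) +
        (if -δ = -1 then 1 else 0) = 2) ∧
      ∃ r : ℤ, (charDegree (χ₁ : G → ℂ) : ℤ) * (charDegree (χ₂ : G → ℂ) : ℤ) *
        (charDegree (η₀ : G → ℂ) : ℤ) = r ^ 2 := by
  haveI : Finite (IrrCharacter G) := Helper79.irr_finite'
  have hp : p.Prime := Fact.out
  have ht2 : t * t = 1 := by
    have : t ^ 2 = 1 := by rw [← ht]; exact pow_orderOf_eq_one t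
    rwa [pow_two] at this
  have h1reg : ¬ p ∣ orderOf (1 : G) := by
    rw [orderOf_one]; exact hp.not_dvd_one
  have htreg : ¬ p ∣ orderOf t := by
    rw [ht]
    intro h
    exact hp2 ((Nat.prime_dvd_prime_iff_eq hp Nat.prime_two).mp h)
  -- a nonidentity element of `P`
  have hnt : Nontrivial (P : Subgroup G) := by
    rw [← Finite.one_lt_card_iff_nontrivial]
    have : 3 + 1 < Nat.card (P : Subgroup G) := hm2
    omega
  obtain ⟨ŷ, hŷ⟩ := exists_ne (1 : (P : Subgroup G))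
  set y : G := (ŷ : G) with hy_def
  have hy : y ∈ (P : Subgroup G) := ŷ.2
  have hy1 : y ≠ 1 := fun h => hŷ (Subtype.ext h)
  have hnc : ¬ IsConj y t := by
    intro hc
    have ho : orderOf y = orderOf t := by
      obtain ⟨c, hc⟩ := isConj_iff.mp hc
      rw [← hc]
      have h := MulEquiv.orderOf_eq (MulAut.conj c) y
      rw [MulAut.conj_apply] at h
      exact h.symm
    obtain ⟨k, hk⟩ := exists_orderOf_eq_of_mem P hy
    rw [ho, ht] at hk
    have hk0 : k ≠ 0 := by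
      rintro rfl
      simp at hk
    have : p ∣ 2 := by rw [hk]; exact dvd_pow_self p hk0
    exact hp2 ((Nat.prime_dvd_prime_iff_eq hp Nat.prime_two).mp this)
  have hχ₁X : χ₁ ∈ X := by rw [hXeq]; simp
  have hχ₂X : χ₂ ∈ X := by rw [hXeq]; simp
  have hη₀ne : η₀ ≠ Helper79.principalIrr G := by
    intro h
    exact (Set.disjoint_left.mp D.disj) D.one_mem (h ▸ hη₀)
  -- the integer values
  obtain ⟨u₁, hu₁⟩ := Helper17.Exc.char_involution_int (Helper74.irr_isCharacter χ₁) ht2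
  obtain ⟨u₂, hu₂⟩ := Helper17.Exc.char_involution_int (Helper74.irr_isCharacter χ₂) ht2
  obtain ⟨u₃, hu₃⟩ := Helper17.Exc.char_involution_int (Helper74.irr_isCharacter η₀) ht2
  have hx₁ := Helper79.irr_one χ₁
  have hx₂ := Helper79.irr_one χ₂
  have hx₃ := Helper79.irr_one η₀
  set x₁ := charDegree (χ₁ : G → ℂ) with hx₁d
  set x₂ := charDegree (χ₂ : G → ℂ) with hx₂d
  set x₃ := charDegree (η₀ : G → ℂ) with hx₃d
  have hx₁pos : 0 < x₁ := Helper79.irr_charDegree_pos χ₁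
  have hx₂pos : 0 < x₂ := Helper79.irr_charDegree_pos χ₂
  have hx₃pos : 0 < x₃ := Helper79.irr_charDegree_pos η₀
  have hYt : ∀ η ∈ Y, (η : G → ℂ) t = (u₃ : ℂ) := fun η hη => by
    rw [D.reg_eq η hη η₀ hη₀ t htreg, hu₃]
  have hY1 : ∀ η ∈ Y, (η : G → ℂ) 1 = (x₃ : ℂ) := fun η hη => by
    rw [D.reg_eq η hη η₀ hη₀ 1 h1reg, hx₃]
  have h1y : (Helper79.principalIrr G : G → ℂ) y = 1 := rfl
  have h1t : (Helper79.principalIrr G : G → ℂ) t = 1 := rfl
  have h11 : (Helper79.principalIrr G : G → ℂ) 1 = 1 := rfl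
  have hχ₁y : (χ₁ : G → ℂ) y = (a χ₁ : ℂ) := D.valX χ₁ hχ₁X y y (isPPart_self P hy) hy hy1
  have hχ₂y : (χ₂ : G → ℂ) y = (a χ₂ : ℂ) := D.valX χ₂ hχ₂X y y (isPPart_self P hy) hy hy1
  -- R1
  have hR1 := D.reg_rel η₀ hη₀ 1 h1reg
  rw [sum_X3 h01 h02 h12 hXeq, D.a_one, h11, hx₁, hx₂, hx₃] at hR1
  -- R2
  have hR2 := D.reg_rel η₀ hη₀ t htreg
  rw [sum_X3 h01 h02 h12 hXeq, D.a_one, h1t, hu₁, hu₂, hu₃] at hR2
  -- R3
  have hR3 := R3_general hab hM hfrob hCN ht hy hy1 hnc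
  rw [D.sum_block, sum_X3 h01 h02 h12 hXeq, h1y, h1t, h11, hχ₁y, hχ₂y, hu₁, hu₂, hx₁, hx₂] at hR3
  have eY : ∑ᶠ η ∈ Y, (η : G → ℂ) y * ((η : G → ℂ) t ^ 2 / (η : G → ℂ) 1) =
      (∑ᶠ η ∈ Y, (η : G → ℂ) y) * ((u₃ : ℂ) ^ 2 / (x₃ : ℂ)) := by
    rw [finsum_mem_mul]
    refine finsum_mem_congr rfl (fun η hη => ?_)
    rw [hYt η hη, hY1 η hη]
  rw [eY, D.sum_Y_eq hM hab hfrob hm2 hy hy1] at hR3
  -- integer forms
  have hx₁c : (x₁ : ℂ) ≠ 0 := by exact_mod_cast hx₁pos.ne'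
  have hx₂c : (x₂ : ℂ) ≠ 0 := by exact_mod_cast hx₂pos.ne'
  have hx₃c : (x₃ : ℂ) ≠ 0 := by exact_mod_cast hx₃pos.ne'
  have R1 : (1 : ℤ) + a χ₁ * x₁ + a χ₂ * x₂ + (-δ) * x₃ = 0 := by
    have : (((1 : ℤ) + a χ₁ * x₁ + a χ₂ * x₂ + (-δ) * x₃ : ℤ) : ℂ) = 0 := by
      push_cast
      push_cast at hR1
      linear_combination hR1
    exact_mod_cast this
  have R2 : (1 : ℤ) + a χ₁ * u₁ + a χ₂ * u₂ + (-δ) * u₃ = 0 := by
    have : (((1 : ℤ) + a χ₁ * u₁ + a χ₂ * u₂ + (-δ) * u₃ : ℤ) : ℂ) = 0 := by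
      push_cast
      push_cast at hR2
      linear_combination hR2
    exact_mod_cast this
  have R3 : (x₁ : ℤ) * x₂ * x₃ + a χ₁ * u₁ ^ 2 * x₂ * x₃ + a χ₂ * u₂ ^ 2 * x₁ * x₃ +
      (-δ) * u₃ ^ 2 * x₁ * x₂ = 0 := by
    have : (((x₁ : ℤ) * x₂ * x₃ + a χ₁ * u₁ ^ 2 * x₂ * x₃ + a χ₂ * u₂ ^ 2 * x₁ * x₃ +
        (-δ) * u₃ ^ 2 * x₁ * x₂ : ℤ) : ℂ) = 0 := by
      push_cast
      have h := hR3
      field_simp at h
      linear_combination h
    exact_mod_cast this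
  have hu₁' : u₁ ≠ (x₁ : ℤ) := by
    intro h
    apply irr_ne_at_generator ht2 htK χ₁ (Ne.symm h01)
    rw [hu₁, hx₁, h]
    push_cast
    rfl
  have hu₂' : u₂ ≠ (x₂ : ℤ) := by
    intro h
    apply irr_ne_at_generator ht2 htK χ₂ (Ne.symm h02)
    rw [hu₂, hx₂, h]
    push_cast
    rfl
  have hu₃' : u₃ ≠ (x₃ : ℤ) := by
    intro h
    apply irr_ne_at_generator ht2 htK η₀ hη₀ne
    rw [hu₃, hx₃, h]
    push_cast
    rfl
  have hs₃ : -δ = 1 ∨ -δ = -1 := by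
    rcases D.sign with h | h <;> rw [h] <;> norm_num
  exact arith_odd (hpm χ₁ hχ₁X) (hpm χ₂ hχ₂X) hs₃ (by exact_mod_cast hx₁pos)
    (by exact_mod_cast hx₂pos) (by exact_mod_cast hx₃pos) hu₁' hu₂' hu₃' R1 R2 R3


omit [Fact p.Prime] hM hab hfrob in
/-- Degrees of the members of `X` are congruent to `a χ` modulo `|P|`. -/
theorem BLData.degree_congr {p : ℕ} [Fact p.Prime] {P : Sylow p G}
    {ζ : ((P : Subgroup G) →* ℂˣ) → IrrCharacter G} {d : ℤ}
    (D : BLData M P m X Y a d δ ζ) {χ : IrrCharacter G} (hχ : χ ∈ X) :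
    ∃ n : ℤ, (charDegree (χ : G → ℂ) : ℤ) - a χ = n * (Nat.card P : ℤ) := by
  classical
  haveI : Fintype (P : Subgroup G) := Fintype.ofFinite _
  obtain ⟨n, hn⟩ := exists_nat_mult (P : Subgroup G) χ 1
  refine ⟨(n : ℤ) - a χ, ?_⟩
  have hsum : ∑ w : (P : Subgroup G), (χ : G → ℂ) w * conj ((((1 : (P : Subgroup G) →* ℂˣ) w : ℂˣ) : ℂ)) =
      (charDegree (χ : G → ℂ) : ℂ) + ((Nat.card P : ℂ) - 1) * (a χ : ℂ) := by
    rw [← Finset.add_sum_erase Finset.univ _ (Finset.mem_univ (1 : (P : Subgroup G)))]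
    have e1 : (χ : G → ℂ) ((1 : (P : Subgroup G)) : G) *
        conj ((((1 : (P : Subgroup G) →* ℂˣ) 1 : ℂˣ) : ℂ)) = (charDegree (χ : G → ℂ) : ℂ) := by
      rw [Subgroup.coe_one, Helper79.irr_one χ]
      simp
    rw [e1]
    congr 1
    rw [Finset.sum_congr rfl (g := fun _ => (a χ : ℂ))]
    · rw [Finset.sum_const, Finset.card_erase_of_mem (Finset.mem_univ _), Finset.card_univ,
        nsmul_eq_mul, ← Nat.card_eq_fintype_card]
      have hpos : 1 ≤ Nat.card (P : Subgroup G) := Nat.card_pos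
      rw [Nat.cast_sub hpos]
      simp
    · intro w hw
      have hw1 : w ≠ 1 := Finset.ne_of_mem_erase hw
      have hw1' : (w : G) ≠ 1 := fun h => hw1 (Subtype.ext h)
      rw [D.valX χ hχ w w (isPPart_self P w.2) w.2 hw1']
      simp
  rw [hsum] at hn
  have hPc : (Nat.card (P : Subgroup G) : ℂ) ≠ 0 := by
    have : 0 < Nat.card (P : Subgroup G) := Nat.card_pos
    exact_mod_cast this.ne'
  have : (((charDegree (χ : G → ℂ) : ℤ) - a χ : ℤ) : ℂ) =
      ((((n : ℤ) - a χ) * (Nat.card P : ℤ) : ℤ) : ℂ) := by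
    push_cast
    have h2 : (n : ℂ) * (Nat.card P : ℂ) =
        (charDegree (χ : G → ℂ) : ℂ) + ((Nat.card P : ℂ) - 1) * (a χ : ℂ) := by
      rw [hn]
      field_simp
    linear_combination -h2
  exact_mod_cast this


omit hM hab hfrob in
/-- For an involution `t ∈ P`, the members of `Y` satisfy `η(t)² = 3 + 2 δ η(t)`. -/
theorem BLData.sq_at_involution (hab : IsMulCommutative P)
    (hfrob : ∀ y : G, y ∈ (P : Subgroup G) → y ≠ 1 →
      Subgroup.centralizer ({y} : Set G) ⊓ Subgroup.normalizer ((P : Subgroup G) : Set G) =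
        Subgroup.centralizer ((P : Subgroup G) : Set G))
    (hCN : (Subgroup.centralizer ((P : Subgroup G) : Set G)).relIndex
      (Subgroup.normalizer ((P : Subgroup G) : Set G)) = 3)
    (D : BLData M P m X Y a 0 δ ζ) {t : G} (ht : t ∈ (P : Subgroup G)) (ht1 : t ≠ 1)
    (ht2 : t * t = 1) {η : IrrCharacter G} (hη : η ∈ Y) :
    (η : G → ℂ) t ^ 2 = 3 + 2 * (δ : ℂ) * (η : G → ℂ) t := by
  classical
  letI : CommGroup (P : Subgroup G) :=
    { (inferInstance : Group (P : Subgroup G)) with mul_comm := mul_comm' }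
  haveI : Fintype (P : Subgroup G) := Fintype.ofFinite _
  set Γ : Subgroup (MulAut (P : Subgroup G)) := autGroup (P : Subgroup G) with hΓ
  haveI : Fintype Γ := Fintype.ofFinite _
  have hcardΓ : Fintype.card Γ = 3 := by
    rw [← Nat.card_eq_fintype_card, card_autGroup, hCN]
  have hfree : ∀ γ ∈ Γ, ∀ w : (P : Subgroup G), w ≠ 1 → γ w = w → γ = 1 := autGroup_free P hfrob
  obtain ⟨ψ, hψ, rfl⟩ := D.zeta_surj η hη
  have hval := D.valY ψ hψ t ⟨t, ht⟩ (isPPart_self P ht) ht1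
  have hset : {ψ' : (P : Subgroup G) →* ℂˣ | Orb (P : Subgroup G) ψ ψ'} =
      {ψ' : (P : Subgroup G) →* ℂˣ | dualRel Γ ψ ψ'} := by
    ext ψ'
    exact orb_iff (P : Subgroup G) ψ ψ'
  rw [hset, orbit_sum_eq hfree hψ] at hval
  have hsq := orbit_sum_sq hfree hcardΓ ψ (t := (⟨t, ht⟩ : (P : Subgroup G))) (Subtype.ext ht2)
  have hδ2 : (δ : ℂ) * δ = 1 := by
    rcases D.sign with h | h <;> rw [h] <;> norm_num
  rw [hval]
  push_cast
  linear_combination (δ : ℂ) * δ * hsq + 3 * hδ2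

omit hM hab hfrob in
/-- An element of `P ∖ {1}` which is not conjugate to a given element of `P`. -/
theorem exists_not_conj (hab : IsMulCommutative P)
    (hCN : (Subgroup.centralizer ((P : Subgroup G) : Set G)).relIndex
      (Subgroup.normalizer ((P : Subgroup G) : Set G)) = 3)
    (hm2 : 3 + 1 < Nat.card P) {t : G} (ht : t ∈ (P : Subgroup G)) :
    ∃ y ∈ (P : Subgroup G), y ≠ 1 ∧ ¬ IsConj y t := by
  classical
  haveI : Fintype (P : Subgroup G) := Fintype.ofFinite _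
  set Γ : Subgroup (MulAut (P : Subgroup G)) := autGroup (P : Subgroup G) with hΓ
  haveI : Fintype Γ := Fintype.ofFinite _
  have hcardΓ : Fintype.card Γ = 3 := by
    rw [← Nat.card_eq_fintype_card, card_autGroup, hCN]
  set orb : Finset (P : Subgroup G) :=
    Finset.univ.image (fun γ : Γ => (γ : MulAut (P : Subgroup G)) ⟨t, ht⟩) with horb
  have h1 : orb.card ≤ 3 := by
    rw [← hcardΓ, ← Finset.card_univ]
    exact Finset.card_image_le
  have h2 : 4 ≤ (Finset.univ.erase (1 : (P : Subgroup G))).card := by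
    rw [Finset.card_erase_of_mem (Finset.mem_univ _), Finset.card_univ,
      ← Nat.card_eq_fintype_card]
    have : 3 + 1 < Nat.card (P : Subgroup G) := hm2
    omega
  obtain ⟨ŷ, hŷ1, hŷ2⟩ := Finset.exists_mem_notMem_of_card_lt_card (lt_of_le_of_lt h1 h2)
  refine ⟨(ŷ : G), ŷ.2, fun h => Finset.ne_of_mem_erase hŷ1 (Subtype.ext h), ?_⟩
  intro hc
  apply hŷ2
  obtain ⟨n, hn, hnt⟩ := exists_normalizer_conj P hab ht ŷ.2 hc.symm
  rw [horb, Finset.mem_image]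
  exact ⟨⟨(P : Subgroup G).normalizerMonoidHom ⟨n, hn⟩, ⟨⟨n, hn⟩, rfl⟩⟩, Finset.mem_univ _,
    Subtype.ext hnt⟩


omit hM hfrob in
set_option maxHeartbeats 1600000 in
/-- The involution part for `p = 2`, with `t ∈ P`: the configuration is impossible. -/
theorem involution_two_aux (hM : IsPModular p M)
    (hfrob : ∀ y : G, y ∈ (P : Subgroup G) → y ≠ 1 →
      Subgroup.centralizer ({y} : Set G) ⊓ Subgroup.normalizer ((P : Subgroup G) : Set G) =
        Subgroup.centralizer ((P : Subgroup G) : Set G))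
    (hCN : (Subgroup.centralizer ((P : Subgroup G) : Set G)).relIndex
      (Subgroup.normalizer ((P : Subgroup G) : Set G)) = 3)
    (hm2 : 3 + 1 < Nat.card P) (D : BLData M P 3 X Y a 0 δ ζ)
    (hpm : ∀ χ ∈ X, a χ = 1 ∨ a χ = -1) {χ₁ χ₂ : IrrCharacter G} (h12 : χ₁ ≠ χ₂)
    (h01 : Helper79.principalIrr G ≠ χ₁) (h02 : Helper79.principalIrr G ≠ χ₂)
    (hXeq : X = {Helper79.principalIrr G, χ₁, χ₂}) (hp2 : p = 2) {t : G} (ht : orderOf t = 2)
    (htP : t ∈ (P : Subgroup G))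
    (htK : ∀ K : Subgroup G, K.Normal → t ∈ K → K = ⊤) : False := by
  haveI : Finite (IrrCharacter G) := Helper79.irr_finite'
  have hp : p.Prime := Fact.out
  have ht2 : t * t = 1 := by
    have : t ^ 2 = 1 := by rw [← ht]; exact pow_orderOf_eq_one t
    rwa [pow_two] at this
  have ht1 : t ≠ 1 := by
    intro h
    rw [h, orderOf_one] at ht
    omega
  have htt : t⁻¹ = t := inv_eq_of_mul_eq_one_left ht2
  have h1reg : ¬ p ∣ orderOf (1 : G) := by
    rw [orderOf_one]; exact hp.not_dvd_one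
  obtain ⟨y, hy, hy1, hnc⟩ := exists_not_conj hab hCN hm2 htP
  have hYne : Nonempty Y := by
    have : 0 < Nat.card Y := by have := D.two_le_cardY hm2; omega
    exact (Nat.card_pos_iff.mp this).1
  obtain ⟨⟨η₀, hη₀⟩⟩ := hYne
  have hχ₁X : χ₁ ∈ X := by rw [hXeq]; simp
  have hχ₂X : χ₂ ∈ X := by rw [hXeq]; simp
  have hx₁ := Helper79.irr_one χ₁
  have hx₂ := Helper79.irr_one χ₂
  have hx₃ := Helper79.irr_one η₀
  set x₁ := charDegree (χ₁ : G → ℂ) with hx₁d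
  set x₂ := charDegree (χ₂ : G → ℂ) with hx₂d
  set x₃ := charDegree (η₀ : G → ℂ) with hx₃d
  have hx₁pos : 0 < x₁ := Helper79.irr_charDegree_pos χ₁
  have hx₂pos : 0 < x₂ := Helper79.irr_charDegree_pos χ₂
  have hx₃pos : 0 < x₃ := Helper79.irr_charDegree_pos η₀
  have hY1 : ∀ η ∈ Y, (η : G → ℂ) 1 = (x₃ : ℂ) := fun η hη => by
    rw [D.reg_eq η hη η₀ hη₀ 1 h1reg, hx₃]
  have h1y : (Helper79.principalIrr G : G → ℂ) y = 1 := rfl
  have h1t : (Helper79.principalIrr G : G → ℂ) t = 1 := rfl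
  have h11 : (Helper79.principalIrr G : G → ℂ) 1 = 1 := rfl
  have hχ₁y : (χ₁ : G → ℂ) y = (a χ₁ : ℂ) := D.valX χ₁ hχ₁X y y (isPPart_self P hy) hy hy1
  have hχ₂y : (χ₂ : G → ℂ) y = (a χ₂ : ℂ) := D.valX χ₂ hχ₂X y y (isPPart_self P hy) hy hy1
  have hχ₁t : (χ₁ : G → ℂ) t = (a χ₁ : ℂ) := D.valX χ₁ hχ₁X t t (isPPart_self P htP) htP ht1
  have hχ₂t : (χ₂ : G → ℂ) t = (a χ₂ : ℂ) := D.valX χ₂ hχ₂X t t (isPPart_self P htP) htP ht1
  have ha₁2 : (a χ₁ : ℂ) * a χ₁ = 1 := by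
    rcases hpm χ₁ hχ₁X with h | h <;> rw [h] <;> norm_num
  have ha₂2 : (a χ₂ : ℂ) * a χ₂ = 1 := by
    rcases hpm χ₂ hχ₂X with h | h <;> rw [h] <;> norm_num
  have hδ2 : (δ : ℂ) * δ = 1 := by
    rcases D.sign with h | h <;> rw [h] <;> norm_num
  -- R1
  have hR1 := D.reg_rel η₀ hη₀ 1 h1reg
  rw [sum_X3 h01 h02 h12 hXeq, D.a_one, h11, hx₁, hx₂, hx₃] at hR1
  -- the sums over `Y`
  have hA := D.sum_Y_eq hM hab hfrob hm2 hy hy1
  have hyinv : y⁻¹ ∈ (P : Subgroup G) := Subgroup.inv_mem _ hy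
  have hnc' : ¬ IsConj t y⁻¹ := by
    intro hc
    apply hnc
    obtain ⟨c, hc⟩ := isConj_iff.mp hc
    refine isConj_iff.mpr ⟨c⁻¹, ?_⟩
    have : y = c * t⁻¹ * c⁻¹ := by
      have h := congrArg (·⁻¹) hc
      simp only [mul_inv_rev, inv_inv] at h
      rw [← h]; group
    rw [this, htt]; group
  have hcol := principal_orth hM P hab hfrob htP hyinv hnc'
  rw [inv_inv, D.sum_block, sum_X3 h01 h02 h12 hXeq, h1t, h1y, hχ₁t, hχ₁y, hχ₂t, hχ₂y] at hcol
  have hB : ∑ᶠ η ∈ Y, (η : G → ℂ) t * (η : G → ℂ) y = -3 := by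
    linear_combination hcol - ha₁2 - ha₂2
  -- R3
  have hR3 := R3_general hab hM hfrob hCN ht hy hy1 hnc
  rw [D.sum_block, sum_X3 h01 h02 h12 hXeq, h1y, h1t, h11, hχ₁y, hχ₂y, hχ₁t, hχ₂t, hx₁, hx₂] at hR3
  have hx₃c : (x₃ : ℂ) ≠ 0 := by exact_mod_cast hx₃pos.ne'
  have hx₁c : (x₁ : ℂ) ≠ 0 := by exact_mod_cast hx₁pos.ne'
  have hx₂c : (x₂ : ℂ) ≠ 0 := by exact_mod_cast hx₂pos.ne'
  have eY : ∑ᶠ η ∈ Y, (η : G → ℂ) y * ((η : G → ℂ) t ^ 2 / (η : G → ℂ) 1) =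
      (3 / (x₃ : ℂ)) * ∑ᶠ η ∈ Y, (η : G → ℂ) y +
        (2 * (δ : ℂ) / (x₃ : ℂ)) * ∑ᶠ η ∈ Y, (η : G → ℂ) t * (η : G → ℂ) y := by
    rw [mul_finsum_mem, mul_finsum_mem, ← finsum_mem_add_distrib (Set.toFinite Y)]
    refine finsum_mem_congr rfl (fun η hη => ?_)
    rw [D.sq_at_involution hab hfrob hCN htP ht1 ht2 hη, hY1 η hη]
    field_simp
  rw [eY, hA, hB] at hR3
  -- integer forms
  have R1 : (1 : ℤ) + a χ₁ * x₁ + a χ₂ * x₂ + (-δ) * x₃ = 0 := by
    have : (((1 : ℤ) + a χ₁ * x₁ + a χ₂ * x₂ + (-δ) * x₃ : ℤ) : ℂ) = 0 := by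
      push_cast
      push_cast at hR1
      linear_combination hR1
    exact_mod_cast this
  have R3 : (x₁ : ℤ) * x₂ * x₃ + a χ₁ * x₂ * x₃ + a χ₂ * x₁ * x₃ + 9 * (-δ) * x₁ * x₂ = 0 := by
    have : (((x₁ : ℤ) * x₂ * x₃ + a χ₁ * x₂ * x₃ + a χ₂ * x₁ * x₃ + 9 * (-δ) * x₁ * x₂ : ℤ) : ℂ)
        = 0 := by
      push_cast
      have h := hR3
      rw [show ((a χ₁ : ℤ) : ℂ) ^ 2 = 1 from by rw [pow_two]; exact ha₁2,
        show ((a χ₂ : ℤ) : ℂ) ^ 2 = 1 from by rw [pow_two]; exact ha₂2] at h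
      field_simp at h
      linear_combination h
    exact_mod_cast this
  -- `|P| ≥ 16`
  have hP16 : 16 ≤ Nat.card P := by
    have hpk0 : Nat.card P = p ^ (Nat.card G).factorization p := P.card_eq_multiplicity
    obtain ⟨k, hpk⟩ : ∃ k, Nat.card P = 2 ^ k :=
      ⟨(Nat.card G).factorization p, by rw [hpk0, hp2]⟩
    have hc := D.cardY
    have hk4 : 4 ≤ k := by
      by_contra hlt
      push Not at hlt
      have : k = 0 ∨ k = 1 ∨ k = 2 ∨ k = 3 := by omega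
      rcases this with h | h | h | h <;> rw [h] at hpk <;> omega
    calc 16 = 2 ^ 4 := by norm_num
      _ ≤ 2 ^ k := Nat.pow_le_pow_right (by norm_num) hk4
      _ = Nat.card P := hpk.symm
  have hbound : ∀ χ ∈ X, a χ = -1 → (15 : ℤ) ≤ (charDegree (χ : G → ℂ) : ℤ) := by
    intro χ hχ ha
    obtain ⟨n, hn⟩ := D.degree_congr hχ
    rw [ha] at hn
    have hpos : (1 : ℤ) ≤ (charDegree (χ : G → ℂ) : ℤ) := by
      exact_mod_cast Helper79.irr_charDegree_pos χ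
    have hP16' : (16 : ℤ) ≤ (Nat.card P : ℤ) := by exact_mod_cast hP16
    have hn1 : 1 ≤ n := by
      by_contra hlt
      push Not at hlt
      have : n * (Nat.card P : ℤ) ≤ 0 := mul_nonpos_of_nonpos_of_nonneg (by omega) (by omega)
      omega
    nlinarith
  have hker : ∀ χ ∈ X, χ ≠ Helper79.principalIrr G →
      ¬ (a χ = 1 ∧ (charDegree (χ : G → ℂ) : ℤ) = 1) := by
    rintro χ hχ hne ⟨ha, hx⟩
    apply irr_ne_at_generator ht2 htK χ hne
    rw [D.valX χ hχ t t (isPPart_self P htP) htP ht1, Helper79.irr_one χ, ha]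
    have : charDegree (χ : G → ℂ) = 1 := by exact_mod_cast hx
    rw [this]
    norm_num
  have hs₃ : -δ = 1 ∨ -δ = -1 := by
    rcases D.sign with h | h <;> rw [h] <;> norm_num
  exact arith_two (hpm χ₁ hχ₁X) (hpm χ₂ hχ₂X) hs₃ (by exact_mod_cast hx₁pos)
    (by exact_mod_cast hx₂pos) (by exact_mod_cast hx₃pos) (hbound χ₁ hχ₁X) (hbound χ₂ hχ₂X)
    (hker χ₁ hχ₁X (Ne.symm h01)) (hker χ₂ hχ₂X (Ne.symm h02)) R1 R3

omit hM hfrob in
/-- The involution part for `p = 2`: the configuration is impossible. -/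
theorem involution_two (hM : IsPModular p M)
    (hfrob : ∀ y : G, y ∈ (P : Subgroup G) → y ≠ 1 →
      Subgroup.centralizer ({y} : Set G) ⊓ Subgroup.normalizer ((P : Subgroup G) : Set G) =
        Subgroup.centralizer ((P : Subgroup G) : Set G))
    (hCN : (Subgroup.centralizer ((P : Subgroup G) : Set G)).relIndex
      (Subgroup.normalizer ((P : Subgroup G) : Set G)) = 3)
    (hm2 : 3 + 1 < Nat.card P) (D : BLData M P 3 X Y a 0 δ ζ)
    (hpm : ∀ χ ∈ X, a χ = 1 ∨ a χ = -1) {χ₁ χ₂ : IrrCharacter G} (h12 : χ₁ ≠ χ₂)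
    (h01 : Helper79.principalIrr G ≠ χ₁) (h02 : Helper79.principalIrr G ≠ χ₂)
    (hXeq : X = {Helper79.principalIrr G, χ₁, χ₂}) (hp2 : p = 2) {t : G} (ht : orderOf t = 2)
    (htK : ∀ K : Subgroup G, K.Normal → t ∈ K → K = ⊤) : False := by
  obtain ⟨g, hg⟩ := exists_conj_mem_sylow' P t ⟨1, by rw [ht, hp2, pow_one]⟩
  have ht' : orderOf (g * t * g⁻¹) = 2 := by
    have h := MulEquiv.orderOf_eq (MulAut.conj g) t
    rw [MulAut.conj_apply] at h
    rw [h, ht]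
  refine involution_two_aux hab hM hfrob hCN hm2 D hpm h12 h01 h02 hXeq hp2 ht' hg ?_
  intro K hK hmem
  apply htK K hK
  have := hK.conj_mem _ hmem g⁻¹
  rw [inv_inv] at this
  have e : g⁻¹ * (g * t * g⁻¹) * g = t := by group
  rwa [e] at this


end relations

section counting

variable {G : Type*} [Group G] [Finite G]

theorem ne_one_iff (χ : IrrCharacter G) :
    (χ : G → ℂ) ≠ (fun _ => 1) ↔ χ ≠ Helper79.principalIrr G := by
  constructor
  · intro h h'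
    apply h
    rw [h']
    rfl
  · intro h h'
    apply h
    exact Subtype.ext h'

theorem set_nonprincipal {X : Set (IrrCharacter G)} {χ₁ χ₂ : IrrCharacter G}
    (h01 : Helper79.principalIrr G ≠ χ₁) (h02 : Helper79.principalIrr G ≠ χ₂)
    (hXeq : X = {Helper79.principalIrr G, χ₁, χ₂}) :
    {χ : IrrCharacter G | χ ∈ X ∧ (χ : G → ℂ) ≠ fun _ => 1} = {χ₁, χ₂} := by
  ext χ
  simp only [Set.mem_setOf_eq, Set.mem_insert_iff, Set.mem_singleton_iff, ne_one_iff, hXeq]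
  constructor
  · rintro ⟨h | h | h, hne⟩
    · exact absurd h hne
    · exact Or.inl h
    · exact Or.inr h
  · rintro (h | h)
    · exact ⟨Or.inr (Or.inl h), by rw [h]; exact Ne.symm h01⟩
    · exact ⟨Or.inr (Or.inr h), by rw [h]; exact Ne.symm h02⟩

theorem card_minus {X : Set (IrrCharacter G)} {a : IrrCharacter G → ℤ} {χ₁ χ₂ : IrrCharacter G}
    (h12 : χ₁ ≠ χ₂) (h01 : Helper79.principalIrr G ≠ χ₁) (h02 : Helper79.principalIrr G ≠ χ₂)
    (hXeq : X = {Helper79.principalIrr G, χ₁, χ₂}) (hpm₁ : a χ₁ = 1 ∨ a χ₁ = -1)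
    (hpm₂ : a χ₂ = 1 ∨ a χ₂ = -1) :
    Nat.card {χ : IrrCharacter G // χ ∈ X ∧ (χ : G → ℂ) ≠ (fun _ => 1) ∧ a χ = -1} =
      (if a χ₁ = -1 then 1 else 0) + (if a χ₂ = -1 then 1 else 0) := by
  have hset : {χ : IrrCharacter G | χ ∈ X ∧ (χ : G → ℂ) ≠ (fun _ => 1) ∧ a χ = -1} =
      {χ | χ ∈ ({χ₁, χ₂} : Set (IrrCharacter G)) ∧ a χ = -1} := by
    ext χ
    have := Set.ext_iff.mp (set_nonprincipal h01 h02 hXeq) χ
    simp only [Set.mem_setOf_eq] at this ⊢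
    rw [← and_assoc, this]
  have hcard : Nat.card {χ : IrrCharacter G // χ ∈ X ∧ (χ : G → ℂ) ≠ (fun _ => 1) ∧ a χ = -1} =
      Set.ncard {χ : IrrCharacter G | χ ∈ X ∧ (χ : G → ℂ) ≠ (fun _ => 1) ∧ a χ = -1} :=
    Nat.card_coe_set_eq _
  rw [hcard, hset]
  rcases hpm₁ with h1 | h1 <;> rcases hpm₂ with h2 | h2
  · have : {χ | χ ∈ ({χ₁, χ₂} : Set (IrrCharacter G)) ∧ a χ = -1} = ∅ := by
      ext χ
      simp only [Set.mem_setOf_eq, Set.mem_insert_iff, Set.mem_singleton_iff,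
        Set.mem_empty_iff_false, iff_false, not_and]
      rintro (rfl | rfl) <;> omega
    rw [this, h1, h2]
    simp
  · have : {χ | χ ∈ ({χ₁, χ₂} : Set (IrrCharacter G)) ∧ a χ = -1} = {χ₂} := by
      ext χ
      simp only [Set.mem_setOf_eq, Set.mem_insert_iff, Set.mem_singleton_iff]
      constructor
      · rintro ⟨rfl | rfl, h⟩
        · omega
        · rfl
      · rintro rfl
        exact ⟨Or.inr rfl, h2⟩
    rw [this, h1, h2]
    simp
  · have : {χ | χ ∈ ({χ₁, χ₂} : Set (IrrCharacter G)) ∧ a χ = -1} = {χ₁} := by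
      ext χ
      simp only [Set.mem_setOf_eq, Set.mem_insert_iff, Set.mem_singleton_iff]
      constructor
      · rintro ⟨rfl | rfl, h⟩
        · rfl
        · omega
      · rintro rfl
        exact ⟨Or.inl rfl, h1⟩
    rw [this, h1, h2]
    simp
  · have : {χ | χ ∈ ({χ₁, χ₂} : Set (IrrCharacter G)) ∧ a χ = -1} = {χ₁, χ₂} := by
      ext χ
      simp only [Set.mem_setOf_eq, Set.mem_insert_iff, Set.mem_singleton_iff]
      constructor
      · rintro ⟨h, -⟩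
        exact h
      · rintro (rfl | rfl)
        · exact ⟨Or.inl rfl, h1⟩
        · exact ⟨Or.inr rfl, h2⟩
    rw [this, h1, h2, Set.ncard_pair h12]
    simp

end counting

end Cfsg.Agent.Helper66.BL
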