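import Mathlib

/-!
# A lattice lemma for exceptional characters (Brauer–Leonard)

Integer vectors `v j` (`j : J`) with Gram matrix `m + [j ~ j']` that are all orthogonal to a
positive vector have the shape `v j = c + δ • e_{θ j}`.
-/

set_option autoImplicit false

namespace Cfsg.Agent.Helper66.BL

open Finset

section norm_two

variable {ι : Type*} [Fintype ι] [DecidableEq ι]

/-- An integer vector of squared norm 2 orthogonal to a positive vector is `e_a - e_b`. -/
theorem exists_pair_of_norm_two (u x : ι → ℤ) (hx : ∀ i, 0 < x i)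
    (h2 : ∑ i, u i ^ 2 = 2) (h0 : ∑ i, u i * x i = 0) :
    ∃ a b, a ≠ b ∧ ∀ i, u i = (if i = a then 1 else 0) - (if i = b then 1 else 0) := by
  classical
  -- every entry has absolute value at most 1
  have hle : ∀ i, u i ^ 2 ≤ 2 := by
    intro i
    rw [← h2]
    exact Finset.single_le_sum (f := fun i => u i ^ 2) (fun j _ => sq_nonneg _) (Finset.mem_univ i)
  have habs : ∀ i, u i = 0 ∨ u i = 1 ∨ u i = -1 := by
    intro i
    have h := hle i
    have h1 : -2 < u i := by nlinarith
    have h2' : u i < 2 := by nlinarith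
    omega
  have hsq : ∀ i, u i ^ 2 = if u i = 0 then 0 else 1 := by
    intro i
    rcases habs i with h | h | h <;> simp [h]
  -- the support has exactly two elements
  have hcard : (Finset.univ.filter fun i => u i ≠ 0).card = 2 := by
    have : ∑ i, u i ^ 2 = ((Finset.univ.filter fun i => u i ≠ 0).card : ℤ) := by
      rw [Finset.sum_congr rfl (fun i _ => hsq i)]
      rw [Finset.card_filter]
      push_cast
      refine Finset.sum_congr rfl (fun i _ => ?_)
      by_cases h : u i = 0 <;> simp [h]
    rw [h2] at this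
    exact_mod_cast this.symm
  obtain ⟨a, b, hab, hS⟩ := Finset.card_eq_two.mp hcard
  have hmem : ∀ i, u i ≠ 0 ↔ i = a ∨ i = b := by
    intro i
    have : i ∈ (Finset.univ.filter fun i => u i ≠ 0) ↔ i ∈ ({a, b} : Finset ι) := by rw [hS]
    simpa using this
  have hua : u a ≠ 0 := (hmem a).mpr (Or.inl rfl)
  have hub : u b ≠ 0 := (hmem b).mpr (Or.inr rfl)
  -- the orthogonality relation reduces to the two entries
  have hsum : ∑ i, u i * x i = u a * x a + u b * x b := by
    rw [← Finset.sum_subset (Finset.subset_univ ({a, b} : Finset ι))]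
    · rw [Finset.sum_pair hab]
    · intro i _ hi
      have : u i = 0 := by
        by_contra h
        exact hi (by simpa using (hmem i).mp h)
      rw [this, zero_mul]
  rw [hsum] at h0
  have hxa := hx a
  have hxb := hx b
  rcases habs a with ha | ha | ha
  · exact absurd ha hua
  · rcases habs b with hb | hb | hb
    · exact absurd hb hub
    · rw [ha, hb] at h0; omega
    · refine ⟨a, b, hab, fun i => ?_⟩
      by_cases hia : i = a
      · subst hia
        simp [ha, hab]
      · by_cases hib : i = b
        · subst hib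
          simp [hb, hia]
        · have : u i = 0 := by
            by_contra h
            rcases (hmem i).mp h with h | h
            · exact hia h
            · exact hib h
          simp [this, hia, hib]
  · rcases habs b with hb | hb | hb
    · exact absurd hb hub
    · refine ⟨b, a, hab.symm, fun i => ?_⟩
      by_cases hia : i = a
      · subst hia
        simp [ha, hab]
      · by_cases hib : i = b
        · subst hib
          simp [hb, hia]
        · have : u i = 0 := by
            by_contra h
            rcases (hmem i).mp h with h | h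
            · exact hia h
            · exact hib h
          simp [this, hia, hib]
    · rw [ha, hb] at h0; omega

end norm_two

section structure_lemma

variable {ι : Type*} [Fintype ι] [DecidableEq ι]

/-- Indicator vector. -/
def ind (a : ι) : ι → ℤ := fun i => if i = a then 1 else 0

theorem ind_apply (a i : ι) : ind a i = if i = a then 1 else 0 := rfl

theorem sum_ind_mul (a : ι) (f : ι → ℤ) : ∑ i, ind a i * f i = f a := by
  simp [ind]

theorem sum_mul_ind (a : ι) (f : ι → ℤ) : ∑ i, f i * ind a i = f a := by
  simp [ind]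

theorem sum_ind_mul_ind (a b : ι) : ∑ i, ind a i * ind b i = if a = b then 1 else 0 := by
  rw [sum_ind_mul, ind_apply]

/-- If two equivalence-like relations cover all pairs of a set, one of them is total on it. -/
theorem total_of_cover {K : Type*} (E₁ E₂ : K → K → Prop)
    (h₁s : ∀ x y, E₁ x y → E₁ y x) (h₁t : ∀ x y z, E₁ x y → E₁ y z → E₁ x z)
    (h₂s : ∀ x y, E₂ x y → E₂ y x) (h₂t : ∀ x y z, E₂ x y → E₂ y z → E₂ x z)
    (hcov : ∀ x y, E₁ x y ∨ E₂ x y) : (∀ x y, E₁ x y) ∨ (∀ x y, E₂ x y) := by
  by_cases h : ∀ x y, E₁ x y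
  · exact Or.inl h
  · right
    push_neg at h
    obtain ⟨x, y, hxy⟩ := h
    have hxy2 : E₂ x y := (hcov x y).resolve_left hxy
    have key : ∀ z, E₂ z x := by
      intro z
      rcases hcov z x with h1 | h1
      · rcases hcov z y with h2 | h2
        · exact absurd (h₁t x z y (h₁s z x h1) h2) hxy
        · exact h₂t z y x h2 (h₂s x y hxy2)
      · exact h1
    intro z w
    exact h₂t z x w (key z) (h₂s w x (key w))

open Classical in
/-- **Lattice lemma.** Integer vectors with Gram matrix `m + [j ~ j']`, all orthogonal to a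
positive vector, have the form `v j = c + δ • e_{θ j}` with `θ j = θ j' ↔ j ~ j'`, and `c` is
constant on the image of `θ`. -/
theorem lattice_structure {J : Type*} (r : J → J → Prop) (hr : Equivalence r) (m : ℤ)
    (v : J → ι → ℤ)
    (hG : ∀ j j', ∑ i, v j i * v j' i = m + (if r j j' then 1 else 0))
    (x : ι → ℤ) (hx : ∀ i, 0 < x i) (hvx : ∀ j, ∑ i, v j i * x i = 0)
    (hJ : ∃ j j', ¬ r j j') :
    ∃ (c : ι → ℤ) (δ : ℤ) (θ : J → ι), (δ = 1 ∨ δ = -1) ∧
      (∀ j i, v j i = c i + (if i = θ j then δ else 0)) ∧
      (∀ j j', θ j = θ j' ↔ r j j') ∧ ∃ d : ℤ, ∀ j, c (θ j) = -d := by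
  -- squared distance
  have hdist : ∀ j j', ∑ i, (v j i - v j' i) ^ 2 = 2 - 2 * (if r j j' then 1 else 0) := by
    intro j j'
    have e1 : ∀ i, (v j i - v j' i) ^ 2 = v j i * v j i - 2 * (v j i * v j' i) + v j' i * v j' i := by
      intro i; ring
    rw [Finset.sum_congr rfl (fun i _ => e1 i), Finset.sum_add_distrib, Finset.sum_sub_distrib,
      ← Finset.mul_sum, hG, hG, hG, if_pos (hr.refl j), if_pos (hr.refl j')]
    ring
  -- related indices give equal vectors
  have heq : ∀ j j', r j j' → v j = v j' := by
    intro j j' h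
    have h0 := hdist j j'
    rw [if_pos h] at h0
    have h0' : ∑ i, (v j i - v j' i) ^ 2 = 0 := by rw [h0]; ring
    have := (Finset.sum_eq_zero_iff_of_nonneg (fun i _ => sq_nonneg (v j i - v j' i))).mp h0'
    funext i
    have hi := this i (Finset.mem_univ i)
    have : v j i - v j' i = 0 := by
      rcases pow_eq_zero_iff (n := 2) (by norm_num) |>.mp hi with h
      exact h
    linarith
  have hne_of : ∀ j j', v j = v j' → r j j' := by
    intro j j' h
    by_contra hn
    have h0 := hdist j j'
    rw [if_neg hn, h] at h0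
    simp at h0
  -- unrelated indices differ by `e_a - e_b`
  have hpair : ∀ j j', ¬ r j j' → ∃ a b, a ≠ b ∧ ∀ i, v j i - v j' i = ind a i - ind b i := by
    intro j j' h
    have h2 : ∑ i, (v j i - v j' i) ^ 2 = 2 := by rw [hdist, if_neg h]; ring
    have h0 : ∑ i, (v j i - v j' i) * x i = 0 := by
      have : ∀ i, (v j i - v j' i) * x i = v j i * x i - v j' i * x i := fun i => by ring
      rw [Finset.sum_congr rfl (fun i _ => this i), Finset.sum_sub_distrib, hvx, hvx, sub_zero]
    exact exists_pair_of_norm_two (fun i => v j i - v j' i) x hx h2 h0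
  obtain ⟨j₁, j₀, hj⟩ := hJ
  -- choose `p j, q j` for `j` unrelated to `j₀`
  have hch : ∀ j, ∃ pq : ι × ι, ¬ r j j₀ → pq.1 ≠ pq.2 ∧
      ∀ i, v j i - v j₀ i = ind pq.1 i - ind pq.2 i := by
    intro j
    by_cases h : r j j₀
    · exact ⟨(Classical.choice ⟨(hpair j₁ j₀ hj).choose⟩, Classical.choice ⟨(hpair j₁ j₀ hj).choose⟩),
        fun hn => absurd h hn⟩
    · obtain ⟨a, b, hab, hv⟩ := hpair j j₀ h
      exact ⟨(a, b), fun _ => ⟨hab, hv⟩⟩
  choose pq hpq using hch
  set p : J → ι := fun j => (pq j).1 with hp
  set q : J → ι := fun j => (pq j).2 with hq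
  have hpq' : ∀ j, ¬ r j j₀ → p j ≠ q j ∧ ∀ i, v j i - v j₀ i = ind (p j) i - ind (q j) i := hpq
  -- inner products of differences
  have hinner : ∀ j j', ∑ i, (v j i - v j₀ i) * (v j' i - v j₀ i) =
      (if r j j' then 1 else 0) - (if r j j₀ then 1 else 0) - (if r j₀ j' then 1 else 0) + 1 := by
    intro j j'
    have e1 : ∀ i, (v j i - v j₀ i) * (v j' i - v j₀ i) =
        v j i * v j' i - v j i * v j₀ i - v j₀ i * v j' i + v j₀ i * v j₀ i := fun i => by ring
    rw [Finset.sum_congr rfl (fun i _ => e1 i), Finset.sum_add_distrib, Finset.sum_sub_distrib,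
      Finset.sum_sub_distrib, hG, hG, hG, hG, if_pos (hr.refl j₀)]
    ring
  have hindinner : ∀ a b a' b' : ι, ∑ i, (ind a i - ind b i) * (ind a' i - ind b' i) =
      (if a = a' then 1 else 0) - (if a = b' then 1 else 0) - (if b = a' then 1 else 0)
        + (if b = b' then 1 else 0) := by
    intro a b a' b'
    have e1 : ∀ i, (ind a i - ind b i) * (ind a' i - ind b' i) =
        ind a i * ind a' i - ind a i * ind b' i - ind b i * ind a' i + ind b i * ind b' i :=
      fun i => by ring
    rw [Finset.sum_congr rfl (fun i _ => e1 i), Finset.sum_add_distrib, Finset.sum_sub_distrib,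
      Finset.sum_sub_distrib, sum_ind_mul_ind, sum_ind_mul_ind, sum_ind_mul_ind, sum_ind_mul_ind]
  -- the covering property on `K = {j | ¬ r j j₀}`
  have hcov : ∀ j j', ¬ r j j₀ → ¬ r j' j₀ → p j = p j' ∨ q j = q j' := by
    intro j j' hj0 hj0'
    obtain ⟨hne, hv⟩ := hpq' j hj0
    obtain ⟨hne', hv'⟩ := hpq' j' hj0'
    have h1 := hinner j j'
    rw [Finset.sum_congr rfl (fun i _ => by rw [hv i, hv' i]), hindinner, if_neg hj0,
      if_neg (fun h => hj0' (hr.symm h))] at h1
    by_contra hcon
    push_neg at hcon
    rw [if_neg hcon.1, if_neg hcon.2] at h1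
    by_cases hrr : r j j'
    · rw [if_pos hrr] at h1
      split_ifs at h1 <;> omega
    · rw [if_neg hrr] at h1
      split_ifs at h1 <;> omega
  have htot := total_of_cover (K := {j : J // ¬ r j j₀})
    (fun a b => p a.1 = p b.1) (fun a b => q a.1 = q b.1)
    (fun _ _ h => h.symm) (fun _ _ _ h h' => h.trans h')
    (fun _ _ h => h.symm) (fun _ _ _ h h' => h.trans h')
    (fun a b => hcov a.1 b.1 a.2 b.2)
  -- build `c, δ, θ`
  have hmain : ∃ (c : ι → ℤ) (δ : ℤ) (θ : J → ι), (δ = 1 ∨ δ = -1) ∧
      (∀ j i, v j i = c i + (if i = θ j then δ else 0)) := by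
    rcases htot with hP | hQ
    · -- all `p` equal
      set a := p j₁ with ha
      refine ⟨fun i => v j₀ i + ind a i, -1, fun j => if r j j₀ then a else q j, Or.inr rfl, ?_⟩
      intro j i
      beta_reduce
      by_cases h : r j j₀
      · rw [if_pos h, heq j j₀ h, ind_apply]
        split_ifs <;> ring
      · rw [if_neg h]
        obtain ⟨_, hv⟩ := hpq' j h
        have hpa : p j = a := hP ⟨j, h⟩ ⟨j₁, hj⟩
        have := hv i
        rw [hpa] at this
        rw [ind_apply (q j)] at this
        split_ifs at this ⊢ <;> linarith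
    · -- all `q` equal
      set b := q j₁ with hb
      refine ⟨fun i => v j₀ i - ind b i, 1, fun j => if r j j₀ then b else p j, Or.inl rfl, ?_⟩
      intro j i
      beta_reduce
      by_cases h : r j j₀
      · rw [if_pos h, heq j j₀ h, ind_apply]
        split_ifs <;> ring
      · rw [if_neg h]
        obtain ⟨_, hv⟩ := hpq' j h
        have hqb : q j = b := hQ ⟨j, h⟩ ⟨j₁, hj⟩
        have := hv i
        rw [hqb] at this
        rw [ind_apply (p j)] at this
        split_ifs at this ⊢ <;> linarith
  obtain ⟨c, δ, θ, hδ, hv⟩ := hmain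
  have hδ0 : δ ≠ 0 := by rcases hδ with h | h <;> rw [h] <;> norm_num
  refine ⟨c, δ, θ, hδ, hv, ?_, ?_⟩
  · intro j j'
    constructor
    · intro h
      apply hne_of
      funext i
      rw [hv j i, hv j' i, h]
    · intro h
      have h1 := heq j j' h
      have h2 := congrFun h1 (θ j)
      rw [hv j (θ j), hv j' (θ j), if_pos rfl] at h2
      by_contra hne
      rw [if_neg hne] at h2
      apply hδ0
      linarith
  · -- `c (θ j)` is constant
    have hdiag : ∀ j, 2 * δ * c (θ j) = m - ∑ i, c i ^ 2 := by
      intro j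
      have h1 := hG j j
      rw [if_pos (hr.refl j)] at h1
      have e1 : ∀ i, v j i * v j i = c i ^ 2 + 2 * c i * (if i = θ j then δ else 0)
          + (if i = θ j then δ ^ 2 else 0) := by
        intro i
        rw [hv j i]
        split_ifs <;> ring
      rw [Finset.sum_congr rfl (fun i _ => e1 i), Finset.sum_add_distrib, Finset.sum_add_distrib] at h1
      have e2 : ∑ i, 2 * c i * (if i = θ j then δ else 0) = 2 * c (θ j) * δ := by
        simp
      have e3 : ∑ i, (if i = θ j then δ ^ 2 else 0) = δ ^ 2 := by simp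
      rw [e2, e3] at h1
      have : δ ^ 2 = 1 := by rcases hδ with h | h <;> rw [h] <;> norm_num
      rw [this] at h1
      linarith
    obtain ⟨j₁', _, _⟩ : ∃ j : J, True ∧ True := ⟨j₁, trivial, trivial⟩
    refine ⟨-c (θ j₁), fun j => ?_⟩
    have h1 := hdiag j
    have h2 := hdiag j₁
    have : 2 * δ * (c (θ j) - c (θ j₁)) = 0 := by rw [mul_sub, h1, h2]; ring
    have h3 : c (θ j) - c (θ j₁) = 0 := by
      rcases mul_eq_zero.mp this with h | h
      · exfalso
        rcases mul_eq_zero.mp h with h | h
        · norm_num at h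
        · exact hδ0 h
      · exact h
    linarith

end structure_lemma

end Cfsg.Agent.Helper66.BL
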