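import Cfsg.Agent.Helper66.BLColumns
import Cfsg.Agent.Helper66.BLAbstract
import Cfsg.Agent.Helper15.IndChar
import Cfsg.Agent.Helper80.TwoClassesSylow
import Cfsg.Agent.S0914

/-!
# Glue between the group/block layer and the abstract Brauer–Leonard theorem
-/

set_option autoImplicit false
set_option linter.unusedSectionVars false
set_option linter.unusedVariables false
set_option linter.style.haveILetI false

namespace Cfsg.Agent.Helper66.BL

open Cfsg
open scoped ComplexConjugate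

section gamma

variable {G : Type*} [Group G] (H : Subgroup G)

/-- The group of automorphisms of `H` induced by its normalizer. -/
def autGroup : Subgroup (MulAut H) := H.normalizerMonoidHom.range

theorem mem_autGroup_iff (γ : MulAut H) :
    γ ∈ autGroup H ↔ ∃ n ∈ Subgroup.normalizer (H : Set G), ∀ w : H, ((γ w : H) : G) = n * w * n⁻¹ := by
  unfold autGroup
  rw [MonoidHom.mem_range]
  constructor
  · rintro ⟨n, rfl⟩
    exact ⟨n.1, n.2, fun w => rfl⟩
  · rintro ⟨n, hn, h⟩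
    refine ⟨⟨n, hn⟩, ?_⟩
    ext w
    rw [h w]
    rfl

theorem card_autGroup :
    Nat.card (autGroup H) = (Subgroup.centralizer (H : Set G)).relIndex
      (Subgroup.normalizer (H : Set G)) := by
  unfold autGroup
  rw [← Subgroup.index_ker, Subgroup.normalizerMonoidHom_ker]
  rfl

/-- The orbit relation on linear characters of `H`, as in the statement. -/
def Orb (ψ ψ' : H →* ℂˣ) : Prop :=
  ∃ n : G, n ∈ Subgroup.normalizer (H : Set G) ∧ ∀ w w' : H, (w' : G) = n * w * n⁻¹ → ψ' w' = ψ w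

theorem orb_iff (ψ ψ' : H →* ℂˣ) :
    Orb H ψ ψ' ↔ ∃ γ ∈ autGroup H, ψ'.comp (γ : MulAut H).toMonoidHom = ψ := by
  constructor
  · rintro ⟨n, hn, h⟩
    refine ⟨H.normalizerMonoidHom ⟨n, hn⟩, ⟨⟨n, hn⟩, rfl⟩, ?_⟩
    ext w
    have := h w (H.normalizerMonoidHom ⟨n, hn⟩ w) rfl
    simp only [MonoidHom.coe_comp, MulEquiv.coe_toMonoidHom, Function.comp_apply]
    rw [this]
  · rintro ⟨γ, hγ, rfl⟩
    obtain ⟨n, hn, h⟩ := (mem_autGroup_iff H γ).mp hγ
    refine ⟨n, hn, fun w w' hw => ?_⟩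
    have : w' = γ w := Subtype.ext (by rw [hw, h w])
    rw [this]
    rfl

end gamma

section glue

variable {G : Type*} [Group G] [Finite G] {p : ℕ} [Fact p.Prime] {M : Ideal AlgInt}

/-- Multiplicities of linear characters of a subgroup in restrictions are natural numbers. -/
theorem exists_nat_mult (H : Subgroup G) [Fintype H] (χ : IrrCharacter G) (ψ : H →* ℂˣ) :
    ∃ n : ℕ, (n : ℂ) =
      (Nat.card H : ℂ)⁻¹ * ∑ w : H, (χ : G → ℂ) w * conj (((ψ w : ℂˣ) : ℂ)) := by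
  have h1 : IsCharacter H (fun w : H => (χ : G → ℂ) w) :=
    Helper74.isCharacter_restrict H (Helper74.irr_isCharacter χ)
  have h2 : IsCharacter H (fun w : H => ((ψ w : ℂˣ) : ℂ)) :=
    Helper74.isCharacter_of_isIrr (Helper80.isIrrCharacter_of_monoidHom ψ)
  obtain ⟨n, hn⟩ := Helper15.isCharacter_inner_nat h1 h2
  refine ⟨n, ?_⟩
  rw [← hn]
  rfl

variable (P : Sylow p G)

/-- The automorphisms induced by `N_G(P)` act freely on `P ∖ {1}`. -/
theorem autGroup_free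
    (hfrob : ∀ y : G, y ∈ (P : Subgroup G) → y ≠ 1 →
      Subgroup.centralizer ({y} : Set G) ⊓ Subgroup.normalizer ((P : Subgroup G) : Set G) =
        Subgroup.centralizer ((P : Subgroup G) : Set G)) :
    ∀ γ ∈ autGroup (P : Subgroup G), ∀ w : (P : Subgroup G), w ≠ 1 → γ w = w → γ = 1 := by
  intro γ hγ w hw hfix
  obtain ⟨n, hn, h⟩ := (mem_autGroup_iff _ γ).mp hγ
  have hw1 : (w : G) ≠ 1 := fun h1 => hw (Subtype.ext h1)
  have hnw : n * (w : G) * n⁻¹ = w := by rw [← h w, hfix]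
  have hnC : n ∈ Subgroup.centralizer ({(w : G)} : Set G) := by
    rw [Subgroup.mem_centralizer_singleton_iff]
    calc n * (w : G) = n * (w : G) * n⁻¹ * n := by group
      _ = (w : G) * n := by rw [hnw]
  have hnCP : n ∈ Subgroup.centralizer ((P : Subgroup G) : Set G) := by
    rw [← hfrob (w : G) w.2 hw1]
    exact ⟨hnC, hn⟩
  ext v
  rw [h v]
  have := (Subgroup.mem_centralizer_iff.mp hnCP) (v : G) v.2
  simp only [MulAut.one_apply]
  rw [← this]
  group


theorem irr_inv' (χ : IrrCharacter G) (g : G) : (χ : G → ℂ) g⁻¹ = conj ((χ : G → ℂ) g) :=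
  Helper74.char_inv (Helper74.irr_isCharacter χ) g

variable (hM : IsPModular p M) (hab : IsMulCommutative P)
  (hfrob : ∀ y : G, y ∈ (P : Subgroup G) → y ≠ 1 →
    Subgroup.centralizer ({y} : Set G) ⊓ Subgroup.normalizer ((P : Subgroup G) : Set G) =
      Subgroup.centralizer ((P : Subgroup G) : Set G))

include hM hab hfrob

open Classical in
/-- The Gram matrix of the columns of `P ∖ {1}` in the principal block. -/
theorem column_gram {w w' : G} (hw : w ∈ (P : Subgroup G)) (hw1 : w ≠ 1)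
    (hw' : w' ∈ (P : Subgroup G)) (hw'1 : w' ≠ 1) :
    ∑ᶠ χ ∈ principalBlock M G, (χ : G → ℂ) w * conj ((χ : G → ℂ) w') =
      if ∃ n ∈ Subgroup.normalizer ((P : Subgroup G) : Set G), n * w * n⁻¹ = w' then
        (Nat.card P : ℂ) else 0 := by
  haveI : Finite (IrrCharacter G) := Helper79.irr_finite'
  by_cases hc : ∃ n ∈ Subgroup.normalizer ((P : Subgroup G) : Set G), n * w * n⁻¹ = w'
  · rw [if_pos hc]
    obtain ⟨n, hn, rfl⟩ := hc
    have e1 : ∀ χ ∈ principalBlock M G, (χ : G → ℂ) w * conj ((χ : G → ℂ) (n * w * n⁻¹)) =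
        ((‖(χ : G → ℂ) w‖ ^ 2 : ℝ) : ℂ) := by
      intro χ _
      rw [Helper79.irr_isClassFunction χ w n, Complex.mul_conj, Complex.normSq_eq_norm_sq]
    rw [finsum_mem_congr rfl e1]
    have h := principal_norm_sum hM P hab hfrob hw hw1
    rw [finsum_mem_eq_finite_toFinset_sum _ (Set.toFinite _)] at h ⊢
    rw [← Complex.ofReal_sum, h]
    simp
  · rw [if_neg hc]
    have hnc : ¬ IsConj w w' := fun h => hc (exists_normalizer_conj P hab hw hw' h)
    have h := principal_orth hM P hab hfrob hw hw' hnc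
    have e1 : ∀ χ ∈ principalBlock M G, (χ : G → ℂ) w * conj ((χ : G → ℂ) w') =
        (χ : G → ℂ) w * (χ : G → ℂ) w'⁻¹ := by
      intro χ _
      rw [irr_inv']
    rw [finsum_mem_congr rfl e1, h]

/-- The degree vector is orthogonal to the columns of `P ∖ {1}`; more generally this holds for
the column of any `p`-regular element. -/
theorem column_regular {g w : G} (hg : ¬ p ∣ orderOf g) (hw : w ∈ (P : Subgroup G)) (hw1 : w ≠ 1) :
    ∑ᶠ χ ∈ principalBlock M G, (χ : G → ℂ) g * conj ((χ : G → ℂ) w) = 0 := by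
  have h := principal_orth_regular hM P hab hfrob hg hw hw1
  have e1 : ∀ χ ∈ principalBlock M G, (χ : G → ℂ) g * conj ((χ : G → ℂ) w) =
      (χ : G → ℂ) g * (χ : G → ℂ) w⁻¹ := by
    intro χ _
    rw [irr_inv']
  rw [finsum_mem_congr rfl e1, h]


omit hab hfrob in
/-- A member of the principal block cannot vanish on `P ∖ {1}`. -/
theorem principal_not_vanish (hP1 : Nat.card P ≠ 1) (χ : IrrCharacter G)
    (hχ : χ ∈ principalBlock M G)
    (hv : ∀ w ∈ (P : Subgroup G), w ≠ 1 → (χ : G → ℂ) w = 0) : False := by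
  have hp : p.Prime := Fact.out
  have hMp : M.IsPrime := Helper78.isPrime_of_isPModular hM
  have h1 : Nat.card (P : Subgroup G) ∣ charDegree (χ : G → ℂ) :=
    Helper80.IsCharacter.card_dvd_charDegree_of_vanish (Helper74.irr_isCharacter χ)
      (P : Subgroup G) hv
  have hD : charDegree (χ : G → ℂ) ∣ Nat.card G := Helper80.IsIrrCharacter.charDegree_dvd_card χ.2
  have hDpos : 0 < charDegree (χ : G → ℂ) := Helper79.irr_charDegree_pos χ
  have hPcard : Nat.card (P : Subgroup G) = p ^ (Nat.card G).factorization p :=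
    P.card_eq_multiplicity
  have h2 : ¬ p ∣ Nat.card G / charDegree (χ : G → ℂ) := by
    intro hdvd
    obtain ⟨q, hq⟩ := hD
    rw [hq, Nat.mul_div_cancel_left _ hDpos] at hdvd
    have : p ^ ((Nat.card G).factorization p + 1) ∣ Nat.card G := by
      rw [pow_succ, ← hPcard]
      conv_rhs => rw [hq]
      exact Nat.mul_dvd_mul h1 hdvd
    exact Nat.pow_succ_factorization_not_dvd (Nat.card_pos.ne') hp this
  have h3 := (Cfsg.Agent.S0914.result p M hM χ).mp h2
  have h4 : principalBlock M G = blockOf M (χ : G → ℂ) :=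
    Helper78.isPBlock_eq_blockOf_of_mem hMp (Helper78.isPBlock_principalBlock M G) hχ
  have h5 : Helper79.principalIrr G ∈ principalBlock M G :=
    Helper78.principalIrr_mem_principalBlock M hMp G
  rw [h4, h3, Set.mem_singleton_iff] at h5
  -- a nonidentity element of `P`
  have hnt : Nontrivial (P : Subgroup G) := by
    rw [← Finite.one_lt_card_iff_nontrivial]
    have : 0 < Nat.card (P : Subgroup G) := Nat.card_pos
    have : Nat.card (P : Subgroup G) ≠ 1 := hP1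
    omega
  obtain ⟨w, hw⟩ := exists_ne (1 : (P : Subgroup G))
  have hw1 : (w : G) ≠ 1 := fun h => hw (Subtype.ext h)
  have := hv w w.2 hw1
  rw [← h5] at this
  have h6 : (Helper79.principalIrr G : G → ℂ) (w : G) = 1 := rfl
  rw [h6] at this
  exact one_ne_zero this


end glue

section data

variable {G : Type*} [Group G] [Finite G] {p : ℕ} [Fact p.Prime]

theorem orb_ne_one (H : Subgroup G) {ψ ψ' : H →* ℂˣ} (hψ : ψ ≠ 1) (h : Orb H ψ ψ') : ψ' ≠ 1 := by
  rintro rfl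
  apply hψ
  obtain ⟨n, hn, h⟩ := h
  ext w
  have hmem : n * (w : G) * n⁻¹ ∈ H := ((Subgroup.mem_normalizer_iff.mp hn) (w : G)).mp w.2
  have := h w ⟨n * (w : G) * n⁻¹, hmem⟩ rfl
  rw [← this]
  simp

/-- The conclusion of the Brauer–Leonard structure theorem for the principal block. -/
structure BLData (M : Ideal AlgInt) (P : Sylow p G) (m : ℕ) (X Y : Set (IrrCharacter G))
    (a : IrrCharacter G → ℤ) (d δ : ℤ)
    (ζ : ((P : Subgroup G) →* ℂˣ) → IrrCharacter G) : Prop where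
  union : principalBlock M G = X ∪ Y
  disj : Disjoint X Y
  cardY : Nat.card Y * m = Nat.card P - 1
  one_mem : Helper79.principalIrr G ∈ X
  a_one : a (Helper79.principalIrr G) = 1
  sign : δ = 1 ∨ δ = -1
  a_ne : ∀ χ ∈ X, a χ ≠ 0
  valX : ∀ χ ∈ X, ∀ z y : G, IsPPart p z y → y ∈ (P : Subgroup G) → y ≠ 1 →
    (χ : G → ℂ) z = (a χ : ℂ)
  zeta_mem : ∀ ψ, ψ ≠ 1 → ζ ψ ∈ Y
  zeta_surj : ∀ η ∈ Y, ∃ ψ, ψ ≠ 1 ∧ ζ ψ = η
  zeta_iff : ∀ ψ ψ', ψ ≠ 1 → ψ' ≠ 1 → (ζ ψ' = ζ ψ ↔ Orb (P : Subgroup G) ψ ψ')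
  valY : ∀ ψ, ψ ≠ 1 → ∀ (z : G) (y : (P : Subgroup G)), IsPPart p z (y : G) → (y : G) ≠ 1 →
    (ζ ψ : G → ℂ) z = (d : ℂ) + (δ : ℂ) *
      ∑ᶠ ψ' ∈ {ψ' : (P : Subgroup G) →* ℂˣ | Orb (P : Subgroup G) ψ ψ'}, ((ψ' y : ℂˣ) : ℂ)
  norm : (d - δ) ^ 2 + ((Nat.card Y : ℤ) - 1) * d ^ 2 + ∑ᶠ χ ∈ X, a χ ^ 2 = (m : ℤ) + 1
  reg_eq : ∀ η ∈ Y, ∀ η' ∈ Y, ∀ g : G, ¬ p ∣ orderOf g → (η : G → ℂ) g = (η' : G → ℂ) g
  reg_rel : ∀ η ∈ Y, ∀ g : G, ¬ p ∣ orderOf g →
    ((Nat.card Y : ℂ) * d - δ) * (η : G → ℂ) g + ∑ᶠ χ ∈ X, (a χ : ℂ) * (χ : G → ℂ) g = 0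

end data

section glue2

variable {G : Type*} [Group G] [Finite G] {p : ℕ} [Fact p.Prime] {M : Ideal AlgInt}

set_option maxHeartbeats 1600000 in
/-- **Brauer–Leonard structure theorem** for the principal block. -/
theorem exists_BLData (hM : IsPModular p M) (P : Sylow p G) (hab : IsMulCommutative P)
    (hP1 : Nat.card P ≠ 1) (m : ℕ) (hm2 : m + 1 < Nat.card P)
    (hCN : (Subgroup.centralizer ((P : Subgroup G) : Set G)).relIndex
      (Subgroup.normalizer ((P : Subgroup G) : Set G)) = m)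
    (hfrob : ∀ y : G, y ∈ (P : Subgroup G) → y ≠ 1 →
      Subgroup.centralizer ({y} : Set G) ⊓ Subgroup.normalizer ((P : Subgroup G) : Set G) =
        Subgroup.centralizer ((P : Subgroup G) : Set G)) :
    ∃ (X Y : Set (IrrCharacter G)) (a : IrrCharacter G → ℤ) (d δ : ℤ)
      (ζ : ((P : Subgroup G) →* ℂˣ) → IrrCharacter G), BLData M P m X Y a d δ ζ := by
  classical
  have hMp : M.IsPrime := Helper78.isPrime_of_isPModular hM
  letI : CommGroup (P : Subgroup G) :=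
    { (inferInstance : Group (P : Subgroup G)) with mul_comm := mul_comm' }
  haveI : Fintype (P : Subgroup G) := Fintype.ofFinite _
  set Γ : Subgroup (MulAut (P : Subgroup G)) := autGroup (P : Subgroup G) with hΓ
  haveI : Fintype Γ := Fintype.ofFinite _
  haveI : Finite (IrrCharacter G) := Helper79.irr_finite'
  haveI : Fintype {χ : IrrCharacter G // χ ∈ principalBlock M G} := Fintype.ofFinite _
  have hcardΓ : Fintype.card Γ = m := by
    rw [← Nat.card_eq_fintype_card, card_autGroup, hCN]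
  have hcardP : Fintype.card (P : Subgroup G) = Nat.card P := Nat.card_eq_fintype_card.symm
  have hfree : ∀ γ ∈ Γ, ∀ w : (P : Subgroup G), w ≠ 1 → γ w = w → γ = 1 := autGroup_free P hfrob
  set F : {χ : IrrCharacter G // χ ∈ principalBlock M G} → ↥(P : Subgroup G) → ℂ :=
    fun χ w => (χ.1 : G → ℂ) (w : G) with hF
  have hsum : ∀ f : IrrCharacter G → ℂ,
      ∑ i : {χ : IrrCharacter G // χ ∈ principalBlock M G}, f i.1 =
        ∑ᶠ χ ∈ principalBlock M G, f χ := by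
    intro f
    rw [← finsum_eq_sum_of_fintype]
    exact finsum_set_coe_eq_finsum_mem (principalBlock M G)
  have hne1 : ∀ w : (P : Subgroup G), w ≠ 1 → (w : G) ≠ 1 := fun w hw h => hw (Subtype.ext h)
  have hK : ∀ w w' : (P : Subgroup G), w ≠ 1 → w' ≠ 1 → ∑ i, F i w * conj (F i w') =
      if ∃ γ ∈ Γ, γ w = w' then (Fintype.card (P : Subgroup G) : ℂ) else 0 := by
    intro w w' hw hw'
    rw [hsum (fun χ => (χ : G → ℂ) (w : G) * conj ((χ : G → ℂ) (w' : G))),
      column_gram P hM hab hfrob w.2 (hne1 w hw) w'.2 (hne1 w' hw'), hcardP]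
    have hiff : (∃ γ ∈ Γ, γ w = w') ↔
        ∃ n ∈ Subgroup.normalizer ((P : Subgroup G) : Set G), n * (w : G) * n⁻¹ = w' := by
      constructor
      · rintro ⟨γ, hγ, rfl⟩
        obtain ⟨n, hn, h⟩ := (mem_autGroup_iff _ γ).mp hγ
        exact ⟨n, hn, (h w).symm⟩
      · rintro ⟨n, hn, h⟩
        refine ⟨(P : Subgroup G).normalizerMonoidHom ⟨n, hn⟩, ⟨⟨n, hn⟩, rfl⟩, ?_⟩
        exact Subtype.ext h
    by_cases hc : ∃ γ ∈ Γ, γ w = w'
    · rw [if_pos hc, if_pos (hiff.mp hc)]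
    · rw [if_neg hc, if_neg (fun h => hc (hiff.mpr h))]
  have hint : ∀ (i : {χ : IrrCharacter G // χ ∈ principalBlock M G})
      (ψ : (P : Subgroup G) →* ℂˣ), ∃ z : ℤ, (z : ℂ) = mult (F i) ψ - mult (F i) 1 := by
    intro i ψ
    obtain ⟨n₁, h₁⟩ := exists_nat_mult (P : Subgroup G) i.1 ψ
    obtain ⟨n₂, h₂⟩ := exists_nat_mult (P : Subgroup G) i.1 1
    refine ⟨(n₁ : ℤ) - n₂, ?_⟩
    push_cast
    rw [h₁, h₂]
    unfold mult
    rw [Nat.card_eq_fintype_card]
  choose α hα using hint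
  set x : {χ : IrrCharacter G // χ ∈ principalBlock M G} → ℤ :=
    fun i => (charDegree (i.1 : G → ℂ) : ℤ) with hx_def
  have hx : ∀ i, 0 < x i := fun i => by
    have := Helper79.irr_charDegree_pos i.1
    simp only [hx_def]
    exact_mod_cast this
  have h1reg : ¬ p ∣ orderOf (1 : G) := by
    rw [orderOf_one]; exact (Fact.out : p.Prime).not_dvd_one
  have hxF : ∀ w : (P : Subgroup G), w ≠ 1 → ∑ i, (x i : ℂ) * conj (F i w) = 0 := by
    intro w hw
    have h := column_regular P hM hab hfrob h1reg w.2 (hne1 w hw)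
    rw [← hsum (fun χ => (χ : G → ℂ) 1 * conj ((χ : G → ℂ) (w : G)))] at h
    rw [← h]
    refine Finset.sum_congr rfl (fun i _ => ?_)
    simp only [hx_def, hF, Int.cast_natCast]
    rw [Helper79.irr_one i.1]
  have hcard : Fintype.card Γ + 1 < Fintype.card (P : Subgroup G) := by
    rw [hcardΓ, hcardP]; exact hm2
  obtain ⟨a, δ, d, θ, hδ, hdec, hinj, hd⟩ :=
    abstract_structure hfree F hK α (fun i ψ _ => hα i ψ) x hx hxF hcard
  have hα' : ∀ i ψ, ψ ≠ 1 → (α i ψ : ℂ) = mult (F i) ψ - mult (F i) 1 := fun i ψ _ => hα i ψ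
  -- the index sets
  set Xι : Set {χ : IrrCharacter G // χ ∈ principalBlock M G} := {i | ¬ ∃ ψ, θ ψ = i} with hXι
  set Yι : Set {χ : IrrCharacter G // χ ∈ principalBlock M G} := {i | ∃ ψ, θ ψ = i} with hYι
  set a' : IrrCharacter G → ℤ :=
    fun χ => if h : χ ∈ principalBlock M G then a ⟨χ, h⟩ else 0 with ha'
  have ha'i : ∀ i : {χ : IrrCharacter G // χ ∈ principalBlock M G}, a' i.1 = a i := by
    intro i
    simp only [ha']
    rw [dif_pos i.2]
  set ζ : ((P : Subgroup G) →* ℂˣ) → IrrCharacter G :=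
    fun ψ => if h : ψ ≠ 1 then (θ ⟨ψ, h⟩).1 else Helper79.principalIrr G with hζ
  have hζψ : ∀ ψ (h : ψ ≠ 1), ζ ψ = (θ ⟨ψ, h⟩).1 := by
    intro ψ h
    simp only [hζ]
    rw [dif_pos h]
  have hcardY : Nat.card (Subtype.val '' Yι) =
      Nat.card {i : {χ : IrrCharacter G // χ ∈ principalBlock M G} // ∃ ψ, θ ψ = i} := by
    rw [Nat.card_image_of_injective Subtype.val_injective]
    rfl
  have hsumX : ∀ f : IrrCharacter G → ℂ, ∑ᶠ χ ∈ Subtype.val '' Xι, f χ = ∑ᶠ i ∈ Xι, f i.1 :=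
    fun f => finsum_mem_image Subtype.val_injective.injOn
  have horb : ∀ ψ ψ' : (P : Subgroup G) →* ℂˣ, Orb (P : Subgroup G) ψ ψ' ↔ dualRel Γ ψ ψ' :=
    fun ψ ψ' => orb_iff (P : Subgroup G) ψ ψ'
  -- a nontrivial character
  obtain ⟨ψ₁, -, hψ₁, -, -⟩ := exists_unrelated (Γ := Γ) hcard
  set i₀ : {χ : IrrCharacter G // χ ∈ principalBlock M G} :=
    ⟨Helper79.principalIrr G, Helper78.principalIrr_mem_principalBlock M hMp G⟩ with hi₀
  have hprin := principal_not_exceptional F α hα' hδ hdec hinj hcard i₀ (fun b => rfl)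
  refine ⟨Subtype.val '' Xι, Subtype.val '' Yι, a', d, δ, ζ, ?_⟩
  refine
    { union := ?_, disj := ?_, cardY := ?_, one_mem := ?_, a_one := ?_, sign := hδ, a_ne := ?_,
      valX := ?_, zeta_mem := ?_, zeta_surj := ?_, zeta_iff := ?_, valY := ?_, norm := ?_,
      reg_eq := ?_, reg_rel := ?_ }
  · -- union
    ext χ
    constructor
    · intro h
      by_cases hc : ∃ ψ, θ ψ = ⟨χ, h⟩
      · exact Or.inr ⟨⟨χ, h⟩, hc, rfl⟩
      · exact Or.inl ⟨⟨χ, h⟩, hc, rfl⟩
    · rintro (⟨i, -, rfl⟩ | ⟨i, -, rfl⟩) <;> exact i.2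
  · -- disjoint
    rw [Set.disjoint_left]
    rintro χ ⟨i, hi, rfl⟩ ⟨j, hj, hji⟩
    have : j = i := Subtype.ext hji
    subst this
    exact hi hj
  · -- card Y
    rw [hcardY, ← hcardΓ, card_exceptional hfree hinj, hcardP]
  · exact ⟨i₀, hprin.1 |> fun h => (fun ⟨ψ, hψ⟩ => h ψ hψ), rfl⟩
  · rw [show Helper79.principalIrr G = i₀.1 from rfl, ha'i]
    exact hprin.2
  · -- a ≠ 0
    rintro χ ⟨i, hi, rfl⟩ h0
    rw [ha'i] at h0
    refine principal_not_vanish P hM hP1 i.1 i.2 (fun w hw hw1 => ?_)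
    have hw1' : (⟨w, hw⟩ : (P : Subgroup G)) ≠ 1 := fun h => hw1 (congrArg Subtype.val h)
    have := values_X F α hα' hdec i (fun ψ hψ => hi ⟨ψ, hψ⟩) hw1'
    rw [h0] at this
    simpa using this
  · -- values on X
    rintro χ ⟨i, hi, rfl⟩ z y hz hy hy1
    rw [principal_apply_of_isPPart hM P hab hfrob hy hy1 hz i.1 i.2, ha'i]
    have hy1' : (⟨y, hy⟩ : (P : Subgroup G)) ≠ 1 := fun h => hy1 (congrArg Subtype.val h)
    exact values_X F α hα' hdec i (fun ψ hψ => hi ⟨ψ, hψ⟩) hy1'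
  · -- ζ maps into Y
    intro ψ hψ
    rw [hζψ ψ hψ]
    exact ⟨θ ⟨ψ, hψ⟩, ⟨⟨ψ, hψ⟩, rfl⟩, rfl⟩
  · -- ζ is onto Y
    rintro η ⟨i, ⟨ψ, rfl⟩, rfl⟩
    exact ⟨ψ.1, ψ.2, hζψ ψ.1 ψ.2⟩
  · -- ζ and orbits
    intro ψ ψ' hψ hψ'
    rw [hζψ ψ hψ, hζψ ψ' hψ', horb, ← hinj ⟨ψ, hψ⟩ ⟨ψ', hψ'⟩]
    constructor
    · intro h
      exact (Subtype.ext h).symm
    · intro h
      rw [h]
  · -- values on Y
    intro ψ hψ z y hz hy1
    rw [hζψ ψ hψ, principal_apply_of_isPPart hM P hab hfrob y.2 hy1 hz _ (θ ⟨ψ, hψ⟩).2]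
    have hy1' : y ≠ 1 := fun h => hy1 (by rw [h]; rfl)
    have h := values_Y F α hα' hdec hinj ⟨ψ, hψ⟩ hy1'
    rw [hd] at h
    have hset : {ψ' : (P : Subgroup G) →* ℂˣ | Orb (P : Subgroup G) ψ ψ'} =
        {ψ' : (P : Subgroup G) →* ℂˣ | dualRel Γ ψ ψ'} := by
      ext ψ'
      exact horb ψ ψ'
    rw [hset]
    exact h
  · -- norm identity
    have h := norm_identity hfree F hK α hα' hδ hdec hd ⟨ψ₁, hψ₁⟩
    rw [hcardY, ← hcardΓ]
    have e : ∑ᶠ χ ∈ Subtype.val '' Xι, a' χ ^ 2 = ∑ᶠ i ∈ Xι, a i ^ 2 := by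
      rw [finsum_mem_image Subtype.val_injective.injOn]
      exact finsum_mem_congr rfl (fun i _ => by rw [ha'i])
    rw [e]
    exact h
  · -- agreement on p-regular elements
    rintro η ⟨i, ⟨ψ, rfl⟩, rfl⟩ η' ⟨i', ⟨ψ', rfl⟩, rfl⟩ g hg
    have ht : ∀ b : (P : Subgroup G), b ≠ 1 →
        ∑ i, (fun i : {χ : IrrCharacter G // χ ∈ principalBlock M G} => (i.1 : G → ℂ) g) i *
          conj (F i b) = 0 := by
      intro b hb
      have h := column_regular P hM hab hfrob hg b.2 (hne1 b hb)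
      rw [← hsum (fun χ => (χ : G → ℂ) g * conj ((χ : G → ℂ) (b : G)))] at h
      exact h
    exact (test_relation F α hα' hδ hdec hd _ ht).1 ψ ψ'
  · -- the relation on p-regular elements
    rintro η ⟨i, ⟨ψ, rfl⟩, rfl⟩ g hg
    have ht : ∀ b : (P : Subgroup G), b ≠ 1 →
        ∑ i, (fun i : {χ : IrrCharacter G // χ ∈ principalBlock M G} => (i.1 : G → ℂ) g) i *
          conj (F i b) = 0 := by
      intro b hb
      have h := column_regular P hM hab hfrob hg b.2 (hne1 b hb)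
      rw [← hsum (fun χ => (χ : G → ℂ) g * conj ((χ : G → ℂ) (b : G)))] at h
      exact h
    have h := (test_relation F α hα' hδ hdec hd _ ht).2 ψ
    rw [hcardY, hsumX (fun χ => (a' χ : ℂ) * (χ : G → ℂ) g)]
    have e : ∑ᶠ i ∈ Xι, ((a' i.1 : ℤ) : ℂ) * (i.1 : G → ℂ) g =
        ∑ᶠ i ∈ Xι, (a i : ℂ) * (i.1 : G → ℂ) g :=
      finsum_mem_congr rfl (fun i _ => by rw [ha'i])
    rw [e]
    exact h

end glue2

end Cfsg.Agent.Helper66.BL
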