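import Cfsg.Agent.Helper66.BLMain
import Cfsg.Agent.Helper66.BLArith

/-!
# The Brauer–Leonard theorem for `|N/C| = 3`: normalisation `d = 0`
-/

set_option autoImplicit false
set_option linter.unusedSectionVars false
set_option linter.unusedVariables false
set_option linter.style.haveILetI false

namespace Cfsg.Agent.Helper66.BL

open Cfsg
open scoped ComplexConjugate

section

variable {G : Type*} [Group G] [Finite G] {p : ℕ} [Fact p.Prime] {M : Ideal AlgInt}
  {P : Sylow p G} {m : ℕ} {X Y : Set (IrrCharacter G)} {a : IrrCharacter G → ℤ} {d δ : ℤ}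
  {ζ : ((P : Subgroup G) →* ℂˣ) → IrrCharacter G}

/-- If the sum of the squares is at most `3`, all `a χ` are `±1`. -/
theorem BLData.a_sq_of_le (D : BLData M P m X Y a d δ ζ) (hS : ∑ᶠ χ ∈ X, a χ ^ 2 ≤ 3) :
    (∀ χ ∈ X, a χ = 1 ∨ a χ = -1) ∧ ∑ᶠ χ ∈ X, a χ ^ 2 = (Nat.card X : ℤ) := by
  haveI : Finite (IrrCharacter G) := Helper79.irr_finite'
  have hX : X.Finite := Set.toFinite X
  have hpm : ∀ χ ∈ X, a χ = 1 ∨ a χ = -1 := by
    intro χ hχ
    have hle : a χ ^ 2 ≤ ∑ᶠ χ ∈ X, a χ ^ 2 := by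
      rw [finsum_mem_eq_finite_toFinset_sum _ hX]
      exact Finset.single_le_sum (f := fun χ => a χ ^ 2) (fun _ _ => sq_nonneg _)
        ((Set.Finite.mem_toFinset hX).mpr hχ)
    have h3 : a χ ^ 2 ≤ 3 := le_trans hle hS
    have hne := D.a_ne χ hχ
    have h1 : -2 < a χ := by nlinarith
    have h2 : a χ < 2 := by nlinarith
    omega
  refine ⟨hpm, ?_⟩
  rw [finsum_mem_eq_finite_toFinset_sum _ hX, Nat.card_coe_set_eq, Set.ncard_eq_toFinset_card X hX]
  rw [Finset.sum_congr rfl (g := fun _ => (1 : ℤ))]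
  · simp
  · intro χ hχ
    rcases hpm χ ((Set.Finite.mem_toFinset hX).mp hχ) with h | h <;> rw [h] <;> norm_num

theorem not_prime_pow_ten {q k : ℕ} (hq : q.Prime) (h : q ^ k = 10) : False := by
  have hk : k ≠ 0 := by
    rintro rfl
    simp at h
  have hdvd : q ∣ 10 := by
    rw [← h]
    exact dvd_pow_self q hk
  have h10 : (10 : ℕ) = 2 * 5 := by norm_num
  rw [h10] at hdvd
  rcases (Nat.Prime.dvd_mul hq).mp hdvd with h2 | h5
  · have hq2 : q = 2 := (Nat.prime_dvd_prime_iff_eq hq Nat.prime_two).mp h2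
    subst hq2
    have hk4 : k < 4 := by
      by_contra hc
      push Not at hc
      have : 2 ^ 4 ≤ 2 ^ k := Nat.pow_le_pow_right (by norm_num) hc
      omega
    interval_cases k <;> omega
  · have hq5 : q = 5 := (Nat.prime_dvd_prime_iff_eq hq (by norm_num)).mp h5
    subst hq5
    have hk2 : k < 2 := by
      by_contra hc
      push Not at hc
      have : 5 ^ 2 ≤ 5 ^ k := Nat.pow_le_pow_right (by norm_num) hc
      omega
    interval_cases k <;> omega

theorem BLData.one_le_excess (D : BLData M P m X Y a d δ ζ) (hm2 : m + 1 < Nat.card P) :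
    (1 : ℤ) ≤ (d - δ) ^ 2 + ((Nat.card Y : ℤ) - 1) * d ^ 2 := by
  have h3 := D.two_le_cardY hm2
  have hr : (1 : ℤ) ≤ (Nat.card Y : ℤ) - 1 := by
    have : (2 : ℤ) ≤ (Nat.card Y : ℤ) := by exact_mod_cast h3
    linarith
  by_cases hd0 : d = 0
  · rw [hd0]
    rcases D.sign with h | h <;> rw [h] <;> norm_num
  · have hd2 : 1 ≤ d ^ 2 := by
      have : 0 < d ^ 2 := by positivity
      omega
    nlinarith [sq_nonneg (d - δ)]

/-- The case analysis for `m = 3`. -/
theorem BLData.three_cases (D : BLData M P 3 X Y a d δ ζ) (hm2 : 3 + 1 < Nat.card P) :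
    (∀ χ ∈ X, a χ = 1 ∨ a χ = -1) ∧ Nat.card X = 3 ∧ (d = 0 ∨ (d = δ ∧ Nat.card Y = 2)) := by
  haveI : Finite (IrrCharacter G) := Helper79.irr_finite'
  have hp : p.Prime := Fact.out
  have hr2 := D.two_le_cardY hm2
  have hr2' : (2 : ℤ) ≤ (Nat.card Y : ℤ) := by exact_mod_cast hr2
  have hex := D.one_le_excess hm2
  have hnorm := D.norm
  have hS3 : ∑ᶠ χ ∈ X, a χ ^ 2 ≤ 3 := by push_cast at hnorm; linarith
  obtain ⟨hpm, hS⟩ := D.a_sq_of_le hS3
  rw [hS] at hnorm
  have hs1 : 1 ≤ Nat.card X := by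
    have : Nonempty X := ⟨⟨_, D.one_mem⟩⟩
    exact Nat.card_pos
  have hs1' : (1 : ℤ) ≤ (Nat.card X : ℤ) := by exact_mod_cast hs1
  have hδ2 : δ ^ 2 = 1 := by rcases D.sign with h | h <;> rw [h] <;> norm_num
  refine ⟨hpm, ?_⟩
  by_cases hd0 : d = 0
  · subst hd0
    have : (Nat.card X : ℤ) = 3 := by
      have e : ((0 : ℤ) - δ) ^ 2 = δ ^ 2 := by ring
      rw [e, hδ2] at hnorm
      push_cast at hnorm
      linarith
    exact ⟨by exact_mod_cast this, Or.inl rfl⟩
  · by_cases hdδ : d = δ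
    · subst hdδ
      have e : (d - d) ^ 2 = 0 := by ring
      rw [e, hδ2] at hnorm
      push_cast at hnorm
      -- r + s = 5
      have hsum : (Nat.card Y : ℤ) + (Nat.card X : ℤ) = 5 := by linarith
      have hsum' : Nat.card Y + Nat.card X = 5 := by exact_mod_cast hsum
      have hrcases : Nat.card Y = 2 ∨ Nat.card Y = 3 ∨ Nat.card Y = 4 := by omega
      rcases hrcases with hr | hr | hr
      · exact ⟨by omega, Or.inr ⟨rfl, hr⟩⟩
      · -- |P| = 10
        exfalso
        have hc := D.cardY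
        rw [hr] at hc
        have hP10 : Nat.card P = 10 := by omega
        have hpk : Nat.card P = p ^ (Nat.card G).factorization p := P.card_eq_multiplicity
        rw [hP10] at hpk
        exact not_prime_pow_ten hp hpk.symm
      · -- X = {1}: the degree relation is impossible
        exfalso
        have hsX : Nat.card X = 1 := by omega
        have hXeq : X = {Helper79.principalIrr G} := by
          rw [Nat.card_coe_set_eq] at hsX
          obtain ⟨χ₀, hχ₀⟩ := Set.ncard_eq_one.mp hsX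
          have := D.one_mem
          rw [hχ₀, Set.mem_singleton_iff] at this
          rw [hχ₀, this]
        have hYne : Nonempty Y := by
          have : 0 < Nat.card Y := by omega
          exact (Nat.card_pos_iff.mp this).1
        obtain ⟨⟨η, hη⟩⟩ := hYne
        have h1reg : ¬ p ∣ orderOf (1 : G) := by
          rw [orderOf_one]; exact hp.not_dvd_one
        have hrel := D.reg_rel η hη 1 h1reg
        rw [hXeq, finsum_mem_singleton, D.a_one, hr, Helper79.irr_one η] at hrel
        have h1 : (Helper79.principalIrr G : G → ℂ) 1 = 1 := rfl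
        rw [h1] at hrel
        have hpos := Helper79.irr_charDegree_pos η
        have hZ : ((4 : ℤ) * d - d) * (charDegree (η : G → ℂ) : ℤ) + 1 = 0 := by
          have : ((((4 : ℤ) * d - d) * (charDegree (η : G → ℂ) : ℤ) + 1 : ℤ) : ℂ) = 0 := by
            push_cast
            linear_combination hrel
          exact_mod_cast this
        have hpos' : (1 : ℤ) ≤ (charDegree (η : G → ℂ) : ℤ) := by exact_mod_cast hpos
        rcases D.sign with h | h <;> rw [h] at hZ <;> nlinarith
    · exfalso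
      -- d ≠ 0, d ≠ δ
      have hd2 : 1 ≤ d ^ 2 := by
        have : 0 < d ^ 2 := by positivity
        omega
      have hle : (d - δ) ^ 2 + ((Nat.card Y : ℤ) - 1) * d ^ 2 ≤ 3 := by
        push_cast at hnorm; linarith
      by_cases hd1 : d ^ 2 = 1
      · -- d = -δ
        have hdd : d = 1 ∨ d = -1 := by
          have h1 : -2 < d := by nlinarith
          have h2 : d < 2 := by nlinarith
          have : d ≠ 0 := hd0
          omega
        have : d = -δ := by
          rcases hdd with h | h <;> rcases D.sign with h' | h' <;> omega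
        rw [this] at hle
        have e : (-δ - δ) ^ 2 = 4 * δ ^ 2 := by ring
        rw [e, hδ2] at hle
        have : (0 : ℤ) ≤ ((Nat.card Y : ℤ) - 1) * (-δ) ^ 2 :=
          mul_nonneg (by linarith) (sq_nonneg _)
        linarith
      · have hd4 : 4 ≤ d ^ 2 := by
          have h2 : 2 ≤ d ^ 2 := by omega
          by_contra hc
          push Not at hc
          have h1 : -2 < d := by nlinarith
          have h2' : d < 2 := by nlinarith
          have : d = 1 ∨ d = -1 ∨ d = 0 := by omega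
          rcases this with h | h | h <;> rw [h] at h2 <;> norm_num at h2
        nlinarith [sq_nonneg (d - δ)]

/-- The nontrivial linear characters of `P` sum to `-1` at a nonidentity element. -/
theorem finsum_nontrivial (P : Sylow p G) (hab : IsMulCommutative P) (y : (P : Subgroup G))
    (hy : y ≠ 1) :
    ∑ᶠ ψ ∈ {ψ : (P : Subgroup G) →* ℂˣ | ψ ≠ 1}, ((ψ y : ℂˣ) : ℂ) = -1 := by
  classical
  letI : CommGroup (P : Subgroup G) :=
    { (inferInstance : Group (P : Subgroup G)) with mul_comm := mul_comm' }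
  haveI : Fintype (P : Subgroup G) := Fintype.ofFinite _
  haveI : Finite ((P : Subgroup G) →* ℂˣ) := finite_hom
  haveI : Fintype ((P : Subgroup G) →* ℂˣ) := Fintype.ofFinite _
  rw [finsum_mem_def, finsum_eq_sum_of_fintype, ← sum_nontrivial_hom hy]
  refine Finset.sum_congr rfl (fun ψ _ => ?_)
  rw [Set.indicator_apply]
  by_cases h : ψ = 1
  · rw [if_pos h, if_neg]
    simpa using h
  · rw [if_neg h, if_pos]
    exact h

theorem finite_hom_P (P : Sylow p G) (hab : IsMulCommutative P) :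
    Finite ((P : Subgroup G) →* ℂˣ) := by
  letI : CommGroup (P : Subgroup G) :=
    { (inferInstance : Group (P : Subgroup G)) with mul_comm := mul_comm' }
  exact finite_hom

/-- The relabelling in the case `d = δ`, `|Y| = 2`. -/
theorem BLData.relabel (hab : IsMulCommutative P) (D : BLData M P 3 X Y a δ δ ζ)
    (hY2 : Nat.card Y = 2) :
    ∃ ζ' : ((P : Subgroup G) →* ℂˣ) → IrrCharacter G, BLData M P 3 X Y a 0 (-δ) ζ' := by
  classical
  haveI : Finite ((P : Subgroup G) →* ℂˣ) := finite_hom_P P hab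
  rw [Nat.card_coe_set_eq] at hY2
  obtain ⟨η₁, η₂, hne, hYeq⟩ := Set.ncard_eq_two.mp hY2
  have hmemY : ∀ η, η ∈ Y ↔ η = η₁ ∨ η = η₂ := by
    intro η
    rw [hYeq]
    simp
  set swap : IrrCharacter G → IrrCharacter G := fun η => if η = η₁ then η₂ else η₁ with hswap
  have hsw1 : swap η₁ = η₂ := by simp [hswap]
  have hsw2 : swap η₂ = η₁ := by
    simp only [hswap]
    rw [if_neg (Ne.symm hne)]
  have hswY : ∀ η ∈ Y, swap η ∈ Y := by
    intro η hη
    rcases (hmemY η).mp hη with rfl | rfl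
    · rw [hsw1]; exact (hmemY _).mpr (Or.inr rfl)
    · rw [hsw2]; exact (hmemY _).mpr (Or.inl rfl)
  have hswsw : ∀ η ∈ Y, swap (swap η) = η := by
    intro η hη
    rcases (hmemY η).mp hη with rfl | rfl
    · rw [hsw1, hsw2]
    · rw [hsw2, hsw1]
  have hswne : ∀ η ∈ Y, swap η ≠ η := by
    intro η hη
    rcases (hmemY η).mp hη with rfl | rfl
    · rw [hsw1]; exact Ne.symm hne
    · rw [hsw2]; exact hne
  have hswinj : ∀ η ∈ Y, ∀ η' ∈ Y, (swap η' = swap η ↔ η' = η) := by
    intro η hη η' hη'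
    constructor
    · intro h
      rw [← hswsw η hη, ← hswsw η' hη', h]
    · rintro rfl; rfl
  have hδ2 : δ ^ 2 = 1 := by rcases D.sign with h | h <;> rw [h] <;> norm_num
  have hcardY : (Nat.card Y : ℤ) = 2 := by
    rw [Nat.card_coe_set_eq, hY2]; rfl
  have hcardYc : (Nat.card Y : ℂ) = 2 := by
    rw [Nat.card_coe_set_eq, hY2]; norm_num
  refine ⟨fun ψ => swap (ζ ψ), ?_⟩
  refine
    { union := D.union, disj := D.disj, cardY := D.cardY, one_mem := D.one_mem, a_one := D.a_one,
      sign := ?_, a_ne := D.a_ne, valX := D.valX, zeta_mem := ?_, zeta_surj := ?_,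
      zeta_iff := ?_, valY := ?_, norm := ?_, reg_eq := D.reg_eq, reg_rel := ?_ }
  · rcases D.sign with h | h
    · right; rw [h]
    · left; rw [h]; norm_num
  · intro ψ hψ
    exact hswY _ (D.zeta_mem ψ hψ)
  · intro η hη
    obtain ⟨ψ, hψ, hζ⟩ := D.zeta_surj (swap η) (hswY η hη)
    exact ⟨ψ, hψ, by rw [hζ, hswsw η hη]⟩
  · intro ψ ψ' hψ hψ'
    rw [hswinj _ (D.zeta_mem ψ hψ) _ (D.zeta_mem ψ' hψ')]
    exact D.zeta_iff ψ ψ' hψ hψ'
  · intro ψ hψ z y hz hy1
    have hη := D.zeta_mem ψ hψ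
    obtain ⟨ψ₂, hψ₂, hζ₂⟩ := D.zeta_surj (swap (ζ ψ)) (hswY _ hη)
    show (swap (ζ ψ) : G → ℂ) z = _
    rw [← hζ₂, D.valY ψ₂ hψ₂ z y hz hy1]
    have hy1' : y ≠ 1 := fun h => hy1 (by rw [h]; rfl)
    have hunion : {ψ' : (P : Subgroup G) →* ℂˣ | ψ' ≠ 1} =
        {ψ' | Orb (P : Subgroup G) ψ ψ'} ∪ {ψ' | Orb (P : Subgroup G) ψ₂ ψ'} := by
      ext ψ'
      simp only [Set.mem_setOf_eq, Set.mem_union]
      constructor
      · intro h'
        have hmem := D.zeta_mem ψ' h'
        by_cases hc : ζ ψ' = ζ ψ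
        · exact Or.inl ((D.zeta_iff ψ ψ' hψ h').mp hc)
        · right
          refine (D.zeta_iff ψ₂ ψ' hψ₂ h').mp ?_
          rw [hζ₂]
          rcases (hmemY _).mp hmem with h1 | h1 <;> rcases (hmemY _).mp hη with h2 | h2
          · exact absurd (h1.trans h2.symm) hc
          · rw [h1, h2, hsw2]
          · rw [h1, h2, hsw1]
          · exact absurd (h1.trans h2.symm) hc
      · rintro (h' | h')
        · exact orb_ne_one _ hψ h'
        · exact orb_ne_one _ hψ₂ h'
    have hdisj : Disjoint {ψ' : (P : Subgroup G) →* ℂˣ | Orb (P : Subgroup G) ψ ψ'}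
        {ψ' | Orb (P : Subgroup G) ψ₂ ψ'} := by
      rw [Set.disjoint_left]
      intro ψ' h1 h2
      have hψ' : ψ' ≠ 1 := orb_ne_one _ hψ h1
      have e1 := (D.zeta_iff ψ ψ' hψ hψ').mpr h1
      have e2 := (D.zeta_iff ψ₂ ψ' hψ₂ hψ').mpr h2
      rw [hζ₂] at e2
      exact hswne _ hη (e2.symm.trans e1)
    have hsum := finsum_nontrivial P hab y hy1'
    rw [hunion, finsum_mem_union hdisj (Set.toFinite _) (Set.toFinite _)] at hsum
    push_cast
    linear_combination (δ : ℂ) * hsum
  · have h := D.norm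
    rw [hcardY] at h ⊢
    push_cast at h ⊢
    linear_combination h
  · intro η hη g hg
    have h := D.reg_rel η hη g hg
    rw [hcardYc] at h ⊢
    push_cast
    linear_combination h

/-- **Brauer–Leonard for `|N/C| = 3`**, normalised so that `d = 0`. -/
theorem exists_BLData_three (hM : IsPModular p M) (P : Sylow p G) (hab : IsMulCommutative P)
    (hP1 : Nat.card P ≠ 1) (hm2 : 3 + 1 < Nat.card P)
    (hCN : (Subgroup.centralizer ((P : Subgroup G) : Set G)).relIndex
      (Subgroup.normalizer ((P : Subgroup G) : Set G)) = 3)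
    (hfrob : ∀ y : G, y ∈ (P : Subgroup G) → y ≠ 1 →
      Subgroup.centralizer ({y} : Set G) ⊓ Subgroup.normalizer ((P : Subgroup G) : Set G) =
        Subgroup.centralizer ((P : Subgroup G) : Set G)) :
    ∃ (X Y : Set (IrrCharacter G)) (a : IrrCharacter G → ℤ) (δ : ℤ)
      (ζ : ((P : Subgroup G) →* ℂˣ) → IrrCharacter G),
      BLData M P 3 X Y a 0 δ ζ ∧ Nat.card X = 3 ∧ ∀ χ ∈ X, a χ = 1 ∨ a χ = -1 := by
  obtain ⟨X, Y, a, d, δ, ζ, D⟩ := exists_BLData hM P hab hP1 3 hm2 hCN hfrob
  obtain ⟨hpm, hX3, hcase⟩ := D.three_cases hm2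
  rcases hcase with rfl | ⟨rfl, hY2⟩
  · exact ⟨X, Y, a, δ, ζ, D, hX3, hpm⟩
  · obtain ⟨ζ', D'⟩ := D.relabel hab hY2
    exact ⟨X, Y, a, -d, ζ', D', hX3, hpm⟩

end

end Cfsg.Agent.Helper66.BL
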