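import Cfsg.Agent.Helper54.BT.Defs
import Cfsg.Agent.Helper63.BTBS
import Cfsg.Agent.Helper70.BTFC
import Cfsg.Agent.Helper89.BTDP
import Cfsg.Agent.Helper65.BTNO
import Cfsg.Agent.Helper57.BH.Pieces
import Cfsg.Agent.S4731
import Cfsg.Agent.S4503

/-!
# (C9) for helper16 (S0997): the number of Sylow `p`-subgroups is `1 (mod p)`
-/

set_option autoImplicit false

namespace Cfsg.Agent.Helper66.BT97

open Cfsg Cfsg.Agent.Helper16 Cfsg.Agent.Helper16.DefOne Cfsg.Agent.Helper82.DefOne
  Cfsg.Agent.Helper77.DefOne Cfsg.Agent.Helper16.Brauer43 Cfsg.Agent.Helper54.BT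
open scoped ComplexConjugate

universe u

variable {G : Type u} [Group G] [Fintype G] {p : ℕ} [Fact p.Prime]
  (P : Sylow p G) [Fintype (P : Subgroup G)] (D : L0Data P)

/-- (C9) the number of Sylow `p`-subgroups is `1 (mod p)` -/
theorem index_nor_modEq (hP : Nat.card P = p) : (nor P).index ≡ 1 [MOD p] := by
  rw [nor_eq_normalizer P hP]
  have h := Sylow.card_eq_index_normalizer P
  have h2 := card_sylow_modEq_one p G
  rw [h] at h2
  exact h2

end Cfsg.Agent.Helper66.BT97
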