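import Mathlib

set_option autoImplicit false

namespace Cfsg.Agent.Helper66

open scoped commutatorElement

universe u v w

section Divisible

/-- Homomorphisms from a subgroup of an abelian group into a divisible abelian group extend. -/
theorem exists_extension_of_divisible {B : Type u} {D : Type v} [CommGroup B] [CommGroup D]
    (hD : ∀ n : ℕ, n ≠ 0 → Function.Surjective (fun d : D => d ^ n)) (N : Subgroup B)
    (ν : N →* D) : ∃ μ : B →* D, ∀ x : N, μ x = ν x := by
  haveI : DivisibleBy (Additive D) ℤ := by
    apply divisibleByOfSMulRightSurj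
    intro n hn a
    have hn' : n.natAbs ≠ 0 := Int.natAbs_ne_zero.mpr hn
    obtain ⟨b, hb⟩ := hD n.natAbs hn' (Additive.toMul a)
    rcases Int.natAbs_eq n with h | h
    · refine ⟨Additive.ofMul b, ?_⟩
      show n • Additive.ofMul b = a
      rw [h, natCast_zsmul]
      show Additive.ofMul (b ^ n.natAbs) = a
      have hb' : b ^ n.natAbs = Additive.toMul a := hb
      rw [hb']; rfl
    · refine ⟨Additive.ofMul b⁻¹, ?_⟩
      show n • Additive.ofMul b⁻¹ = a
      rw [h, neg_smul, natCast_zsmul]
      show -(Additive.ofMul (b⁻¹ ^ n.natAbs)) = a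
      have hb' : b ^ n.natAbs = Additive.toMul a := hb
      rw [inv_pow, hb']
      show Additive.ofMul ((Additive.toMul a)⁻¹)⁻¹ = a
      rw [inv_inv]; rfl
  have hbaer : Module.Baer ℤ (Additive D) := Module.Baer.of_divisible (Additive D)
  let f : Additive N →+ Additive B := MonoidHom.toAdditive N.subtype
  have hf : Function.Injective f := fun a b h => Subtype.ext h
  let g : Additive N →+ Additive D := MonoidHom.toAdditive ν
  obtain ⟨h, hh⟩ := hbaer.extension_property_addMonoidHom f hf g
  refine ⟨MonoidHom.toAdditive.symm h, ?_⟩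
  intro x
  have := congrArg (fun k => k (Additive.ofMul x)) hh
  exact this

/-- Homomorphisms into a divisible abelian group from a subgroup meeting the commutator subgroup
trivially extend to the whole group. -/
theorem exists_extension_of_inf_commutator_eq_bot {H : Type u} {D : Type v} [Group H] [CommGroup D]
    (hD : ∀ n : ℕ, n ≠ 0 → Function.Surjective (fun d : D => d ^ n)) (N : Subgroup H)
    (hN : N ⊓ commutator H = ⊥) (ν : N →* D) : ∃ μ : H →* D, ∀ x : N, μ x = ν x := by
  let f : N →* Abelianization H := Abelianization.of.comp N.subtype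
  have hf : Function.Injective f := by
    rw [← MonoidHom.ker_eq_bot_iff, eq_bot_iff]
    intro x hx
    have hx' : (x : H) ∈ commutator H := by
      rw [← Abelianization.ker_of]
      exact hx
    have : (x : H) ∈ N ⊓ commutator H := ⟨x.2, hx'⟩
    rw [hN, Subgroup.mem_bot] at this
    rw [Subgroup.mem_bot]
    exact Subtype.ext this
  let e : N ≃* f.range := MonoidHom.ofInjective hf
  obtain ⟨μ, hμ⟩ := exists_extension_of_divisible hD f.range (ν.comp e.symm.toMonoidHom)
  refine ⟨μ.comp Abelianization.of, fun x => ?_⟩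
  have h1 := hμ (e x)
  have h2 : ((e x : f.range) : Abelianization H) = Abelianization.of (x : H) := rfl
  rw [h2] at h1
  show μ (Abelianization.of (x : H)) = ν x
  rw [h1]
  show ν (e.symm (e x)) = ν x
  rw [MulEquiv.symm_apply_apply]

/-- Variant of `exists_extension_of_inf_commutator_eq_bot` with commutativity of the target as a
hypothesis. -/
theorem exists_extension_of_inf_commutator_eq_bot' {H : Type u} {D : Type v} [Group H]
    [inst : Group D] (hcomm : ∀ a b : D, a * b = b * a)
    (hD : ∀ n : ℕ, n ≠ 0 → Function.Surjective (fun d : D => d ^ n)) (N : Subgroup H)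
    (hN : N ⊓ commutator H = ⊥) (ν : N →* D) : ∃ μ : H →* D, ∀ x : N, μ x = ν x := by
  letI : CommGroup D := { inst with mul_comm := hcomm }
  exact exists_extension_of_inf_commutator_eq_bot hD N hN ν

end Divisible

section GenLin

/-- The centre of `GL n ℂ` is divisible. -/
theorem center_GL_divisible (n : ℕ) (k : ℕ) (hk : k ≠ 0) :
    Function.Surjective (fun d : Subgroup.center (GL (Fin n) ℂ) => d ^ k) := by
  rintro ⟨d, hd⟩
  have hd' := hd
  rw [Matrix.GeneralLinearGroup.center_eq_range_scalar] at hd'
  obtain ⟨c, rfl⟩ := hd'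
  obtain ⟨b, hb⟩ := IsAlgClosed.exists_pow_nat_eq (c : ℂ) (Nat.pos_of_ne_zero hk)
  have hb0 : b ≠ 0 := by
    rintro rfl
    rw [zero_pow hk] at hb
    exact c.ne_zero hb.symm
  let bu : ℂˣ := Units.mk0 b hb0
  have hbu : bu ^ k = c := by
    apply Units.ext
    simp [bu, hb]
  have hmem : Matrix.GeneralLinearGroup.scalar (Fin n) bu ∈ Subgroup.center (GL (Fin n) ℂ) := by
    rw [Matrix.GeneralLinearGroup.center_eq_range_scalar]
    exact ⟨bu, rfl⟩
  refine ⟨⟨_, hmem⟩, ?_⟩
  apply Subtype.ext
  show (Matrix.GeneralLinearGroup.scalar (Fin n) bu) ^ k = Matrix.GeneralLinearGroup.scalar (Fin n) c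
  rw [← map_pow, hbu]

end GenLin

end Cfsg.Agent.Helper66
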