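import Mathlib

set_option autoImplicit false

namespace Cfsg.Agent.Helper66

universe u v

section Monomial

variable {G : Type u} {Q : Type v} [Group G] [Group Q] (σ : G →* Q) (hσ : Function.Surjective σ)
  (χ : σ.ker →* ℂˣ)

/-- A section of a surjection. -/
noncomputable def monoSec (hσ : Function.Surjective σ) : Q → G := Function.surjInv hσ

theorem σ_monoSec (q : Q) : σ (monoSec σ hσ q) = q := Function.surjInv_eq hσ q

/-- The cocycle describing the action on the section. -/
noncomputable def monoCoc (q : Q) (g : G) : σ.ker :=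
  ⟨monoSec σ hσ q * g * (monoSec σ hσ (q * σ g))⁻¹, by
    rw [MonoidHom.mem_ker, map_mul, map_mul, map_inv, σ_monoSec, σ_monoSec]
    group⟩

theorem monoCoc_mul (q : Q) (g h : G) :
    monoCoc σ hσ q (g * h) = monoCoc σ hσ q g * monoCoc σ hσ (q * σ g) h := by
  apply Subtype.ext
  show monoSec σ hσ q * (g * h) * (monoSec σ hσ (q * σ (g * h)))⁻¹ =
    (monoSec σ hσ q * g * (monoSec σ hσ (q * σ g))⁻¹) *
      (monoSec σ hσ (q * σ g) * h * (monoSec σ hσ (q * σ g * σ h))⁻¹)
  rw [map_mul, ← mul_assoc q]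
  group

theorem monoCoc_one (q : Q) : monoCoc σ hσ q 1 = 1 := by
  apply Subtype.ext
  show monoSec σ hσ q * 1 * (monoSec σ hσ (q * σ 1))⁻¹ = 1
  rw [map_one, mul_one, mul_one, mul_inv_cancel]

theorem monoCoc_of_mem_center (q : Q) (z : σ.ker) (hz : (z : G) ∈ Subgroup.center G) :
    monoCoc σ hσ q z = z := by
  apply Subtype.ext
  show monoSec σ hσ q * z * (monoSec σ hσ (q * σ z))⁻¹ = z
  have : σ (z : G) = 1 := z.2
  rw [this, mul_one, Subgroup.mem_center_iff.mp hz, mul_assoc, mul_inv_cancel, mul_one]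

/-- The induced (monomial) representation, as endomorphisms of the function space. -/
noncomputable def monoEnd : G →* Module.End ℂ (Q → ℂ) where
  toFun g :=
    { toFun := fun v q => ((χ (monoCoc σ hσ q g) : ℂˣ) : ℂ) * v (q * σ g)
      map_add' := fun v w => by
        funext q
        simp only [Pi.add_apply]
        ring
      map_smul' := fun c v => by
        funext q
        simp only [Pi.smul_apply, smul_eq_mul, RingHom.id_apply]
        ring }
  map_one' := by
    apply LinearMap.ext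
    intro v
    funext q
    show ((χ (monoCoc σ hσ q 1) : ℂˣ) : ℂ) * v (q * σ 1) = v q
    rw [monoCoc_one, map_one, map_one, mul_one, Units.val_one, one_mul]
  map_mul' g h := by
    apply LinearMap.ext
    intro v
    funext q
    show ((χ (monoCoc σ hσ q (g * h)) : ℂˣ) : ℂ) * v (q * σ (g * h)) =
      ((χ (monoCoc σ hσ q g) : ℂˣ) : ℂ) *
        (((χ (monoCoc σ hσ (q * σ g) h) : ℂˣ) : ℂ) * v (q * σ g * σ h))
    rw [monoCoc_mul, map_mul, Units.val_mul, map_mul, mul_assoc, mul_assoc]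

theorem monoEnd_apply (g : G) (v : Q → ℂ) (q : Q) :
    monoEnd σ hσ χ g v q = ((χ (monoCoc σ hσ q g) : ℂˣ) : ℂ) * v (q * σ g) := rfl

theorem monoEnd_of_mem_center (z : σ.ker) (hz : (z : G) ∈ Subgroup.center G) :
    monoEnd σ hσ χ z = ((χ z : ℂˣ) : ℂ) • (1 : Module.End ℂ (Q → ℂ)) := by
  apply LinearMap.ext
  intro v
  funext q
  rw [monoEnd_apply, monoCoc_of_mem_center σ hσ q z hz]
  have : σ (z : G) = 1 := z.2
  rw [this, mul_one]
  rfl

end Monomial

section Matrices

variable {G : Type u} {Q : Type v} [Group G] [Group Q] [Finite Q]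

/-- A central extension of a finite group with a character of the kernel has a matrix
representation in which the kernel acts by scalars via the character. -/
theorem exists_rep_of_central_character (σ : G →* Q) (hσ : Function.Surjective σ)
    (hc : σ.ker ≤ Subgroup.center G) (χ : σ.ker →* ℂˣ) :
    ∃ (n : ℕ) (ρ : G →* GL (Fin n) ℂ),
      (∀ z : σ.ker, ρ z ∈ Subgroup.center (GL (Fin n) ℂ)) ∧ (∀ z : σ.ker, ρ z = 1 → χ z = 1) := by
  classical
  haveI : Fintype Q := Fintype.ofFinite Q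
  let n := Fintype.card Q
  let e : Q ≃ Fin n := Fintype.equivFin Q
  let Φ : Module.End ℂ (Q → ℂ) ≃ₐ[ℂ] Matrix (Fin n) (Fin n) ℂ :=
    LinearMap.toMatrixAlgEquiv'.trans (Matrix.reindexAlgEquiv ℂ ℂ e)
  let ρ : G →* GL (Fin n) ℂ :=
    (Units.map (Φ : Module.End ℂ (Q → ℂ) →* Matrix (Fin n) (Fin n) ℂ)).comp
      (monoEnd σ hσ χ).toHomUnits
  have hρ : ∀ g, ((ρ g : GL (Fin n) ℂ) : Matrix (Fin n) (Fin n) ℂ) = Φ (monoEnd σ hσ χ g) :=
    fun g => rfl
  refine ⟨n, ρ, ?_, ?_⟩
  · intro z
    have h1 : ((ρ z : GL (Fin n) ℂ) : Matrix (Fin n) (Fin n) ℂ) =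
        ((χ z : ℂˣ) : ℂ) • (1 : Matrix (Fin n) (Fin n) ℂ) := by
      rw [hρ, monoEnd_of_mem_center σ hσ χ z (hc z.2), map_smul, map_one]
    rw [Subgroup.mem_center_iff]
    intro g
    apply Units.ext
    rw [Units.val_mul, Units.val_mul, h1, Matrix.mul_smul, Matrix.smul_mul, mul_one, one_mul]
  · intro z hz
    have h1 : Φ (monoEnd σ hσ χ z) = Φ 1 := by
      rw [← hρ, hz, map_one]; rfl
    have h2 : monoEnd σ hσ χ z = 1 := Φ.injective h1
    rw [monoEnd_of_mem_center σ hσ χ z (hc z.2)] at h2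
    have h3 := congrArg (fun f : Module.End ℂ (Q → ℂ) => f (fun _ => (1 : ℂ)) 1) h2
    simp only [LinearMap.smul_apply, Module.End.one_apply, Pi.smul_apply, smul_eq_mul,
      mul_one] at h3
    exact Units.ext h3

end Matrices

end Cfsg.Agent.Helper66
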