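import Mathlib
import Cfsg.Agent.Helper66.SchurCover

set_option autoImplicit false

namespace Cfsg.Agent.Helper66

open scoped commutatorElement

section

variable {H : Type*} {X : Type*} {Q : Type*} [Group H] [Group X] [Group Q]

/-- Two homomorphisms from a perfect group that agree modulo a central subgroup are equal. -/
theorem eq_of_comp_eq_of_isPerfect (hH : Group.IsPerfect H) (ξ : X →* Q)
    (hξ : ξ.ker ≤ Subgroup.center X) (η₁ η₂ : H →* X) (h : ξ.comp η₁ = ξ.comp η₂) : η₁ = η₂ := by
  have hz : ∀ a : H, (η₂ a)⁻¹ * η₁ a ∈ Subgroup.center X := by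
    intro a
    apply hξ
    rw [MonoidHom.mem_ker, map_mul, map_inv]
    have : ξ (η₁ a) = ξ (η₂ a) := by
      have := congrArg (fun f => f a) h
      simpa using this
    rw [this]; group
  have hle : commutator H ≤ η₁.eqLocus η₂ := by
    rw [commutator_eq_closure, Subgroup.closure_le]
    rintro _ ⟨a, b, rfl⟩
    show η₁ ⁅a, b⁆ = η₂ ⁅a, b⁆
    rw [map_commutatorElement, map_commutatorElement]
    have e1 : η₁ a = η₂ a * ((η₂ a)⁻¹ * η₁ a) := by group
    have e2 : η₁ b = η₂ b * ((η₂ b)⁻¹ * η₁ b) := by group
    rw [e1, e2]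
    exact commutatorElement_mul_central _ _ _ _ (hz a) (hz b)
  rw [hH.commutator_eq_top] at hle
  exact MonoidHom.eq_of_eqOn_top (fun x _ => hle (Subgroup.mem_top x))

/-- Over a perfect group `Q`, the commutator subgroup of a central extension maps onto `Q` and the
extension is the product of the commutator subgroup and the kernel. -/
theorem exists_mem_commutator_mul_ker (hQ : Group.IsPerfect Q) (ρ : H →* Q)
    (hρ : Function.Surjective ρ) (h : H) :
    ∃ h' ∈ commutator H, ∃ z ∈ ρ.ker, h = h' * z := by
  have hmap : (commutator H).map ρ = ⊤ := by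
    rw [commutator_def, Subgroup.map_commutator, ← MonoidHom.range_eq_map,
      MonoidHom.range_eq_top.mpr hρ, ← commutator_def, hQ.commutator_eq_top]
  have : ρ h ∈ (commutator H).map ρ := by rw [hmap]; exact Subgroup.mem_top _
  obtain ⟨h', hh', he⟩ := this
  refine ⟨h', hh', h'⁻¹ * h, ?_, by group⟩
  rw [MonoidHom.mem_ker, map_mul, map_inv, he]
  group

/-- The commutator subgroup of a central extension of a perfect group is perfect. -/
theorem isPerfect_commutator_of_central (hQ : Group.IsPerfect Q) (ρ : H →* Q)
    (hρ : Function.Surjective ρ) (hc : ρ.ker ≤ Subgroup.center H) :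
    Group.IsPerfect (commutator H) := by
  rw [Subgroup.isPerfect_iff]
  apply le_antisymm
  · rw [Subgroup.commutator_le]
    intro a ha b hb
    exact (commutator H).mul_mem ((commutator H).mul_mem ((commutator H).mul_mem ha hb)
      ((commutator H).inv_mem ha)) ((commutator H).inv_mem hb)
  · conv_lhs => rw [commutator_eq_closure]
    rw [Subgroup.closure_le]
    rintro _ ⟨a, b, rfl⟩
    obtain ⟨a', ha', z, hz, rfl⟩ := exists_mem_commutator_mul_ker hQ ρ hρ a
    obtain ⟨b', hb', w, hw, rfl⟩ := exists_mem_commutator_mul_ker hQ ρ hρ b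
    rw [commutatorElement_mul_central _ _ _ _ (hc hz) (hc hw)]
    exact Subgroup.commutator_mem_commutator ha' hb'

end

end Cfsg.Agent.Helper66
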