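import Mathlib
import Cfsg.Agent.Helper66.PerfectCover
import Cfsg.Agent.Helper66.SchurMult2

set_option autoImplicit false

namespace Cfsg.Agent.Helper66

open scoped commutatorElement

universe u v w

section

variable {Γ : Type u} [Group Γ]

/-- In a perfect group, an element all of whose commutators are central is central. -/
theorem mem_center_of_forall_commutator_mem_center (hΓ : Group.IsPerfect Γ) (x : Γ)
    (h : ∀ y, ⁅x, y⁆ ∈ Subgroup.center Γ) : x ∈ Subgroup.center Γ := by
  let f : Γ →* Subgroup.center Γ :=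
    { toFun := fun y => ⟨⁅x, y⁆, h y⟩
      map_one' := by apply Subtype.ext; simp
      map_mul' := fun y z => by
        apply Subtype.ext
        show ⁅x, y * z⁆ = ⁅x, y⁆ * ⁅x, z⁆
        have hz := Subgroup.mem_center_iff.mp (h z) y
        have : ⁅x, y * z⁆ = ⁅x, y⁆ * (y * ⁅x, z⁆ * y⁻¹) := by
          simp only [commutatorElement_def]; group
        rw [this, hz]; group }
  have hker : commutator Γ ≤ f.ker := by
    rw [commutator_eq_closure, Subgroup.closure_le]
    rintro _ ⟨a, b, rfl⟩
    show f ⁅a, b⁆ = 1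
    rw [map_commutatorElement, commutatorElement_eq_one_iff_mul_comm]
    apply Subtype.ext
    exact (Subgroup.mem_center_iff.mp (f a).2 (f b).1).symm
  rw [hΓ.commutator_eq_top] at hker
  rw [Subgroup.mem_center_iff]
  intro y
  have hy : f y = 1 := MonoidHom.mem_ker.mp (hker (Subgroup.mem_top y))
  have hy' : ⁅x, y⁆ = 1 := congrArg Subtype.val hy
  rw [commutatorElement_eq_one_iff_mul_comm] at hy'
  exact hy'.symm

/-- A stem extension of a perfect group is perfect. -/
theorem isPerfect_of_isStemExtension {G : Type v} [Group G] (hG : Group.IsPerfect G) (σ : Γ →* G)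
    (hσ : Cfsg.IsStemExtension σ) : Group.IsPerfect Γ := by
  obtain ⟨hs, _, hd⟩ := hσ
  constructor
  rw [eq_top_iff]
  intro x _
  obtain ⟨h', hh', z, hz, rfl⟩ := exists_mem_commutator_mul_ker hG σ hs x
  exact Subgroup.mul_mem _ hh' (hd hz)

/-- If `σ : Γ →* G` is a stem extension of a perfect group and `π : G →* Q` has central kernel,
the composite has central kernel. -/
theorem ker_comp_le_center_of_isStemExtension {G : Type v} {Q : Type w} [Group G] [Group Q]
    (hG : Group.IsPerfect G) (σ : Γ →* G) (hσ : Cfsg.IsStemExtension σ) (π : G →* Q)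
    (hπ : π.ker ≤ Subgroup.center G) : (π.comp σ).ker ≤ Subgroup.center Γ := by
  have hΓ := isPerfect_of_isStemExtension hG σ hσ
  obtain ⟨_, hc, _⟩ := hσ
  intro x hx
  apply mem_center_of_forall_commutator_mem_center hΓ
  intro y
  apply hc
  rw [MonoidHom.mem_ker, map_commutatorElement]
  have hx' : σ x ∈ Subgroup.center G := hπ (by
    rw [MonoidHom.mem_ker] at hx ⊢; exact hx)
  rw [commutatorElement_eq_one_iff_mul_comm]
  exact (Subgroup.mem_center_iff.mp hx' (σ y)).symm

end

section Pullback

variable {G : Type u} {X : Type v} {Q : Type w} [Group G] [Group X] [Group Q]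

/-- The pullback of two homomorphisms. -/
def pullback (π : G →* Q) (ξ : X →* Q) : Subgroup (G × X) :=
  (π.comp (MonoidHom.fst G X)).eqLocus (ξ.comp (MonoidHom.snd G X))

theorem mem_pullback (π : G →* Q) (ξ : X →* Q) (p : G × X) :
    p ∈ pullback π ξ ↔ π p.1 = ξ p.2 := Iff.rfl

/-- First projection of the pullback. -/
def pullbackFst (π : G →* Q) (ξ : X →* Q) : pullback π ξ →* G :=
  (MonoidHom.fst G X).comp (pullback π ξ).subtype

/-- Second projection of the pullback. -/
def pullbackSnd (π : G →* Q) (ξ : X →* Q) : pullback π ξ →* X :=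
  (MonoidHom.snd G X).comp (pullback π ξ).subtype

theorem pullback_comm (π : G →* Q) (ξ : X →* Q) :
    π.comp (pullbackFst π ξ) = ξ.comp (pullbackSnd π ξ) := by
  ext p
  exact p.2

theorem pullbackFst_surjective (π : G →* Q) (ξ : X →* Q) (hξ : Function.Surjective ξ) :
    Function.Surjective (pullbackFst π ξ) := by
  intro g
  obtain ⟨x, hx⟩ := hξ (π g)
  exact ⟨⟨(g, x), hx.symm⟩, rfl⟩

theorem ker_pullbackFst_le_center (π : G →* Q) (ξ : X →* Q) (hξ : ξ.ker ≤ Subgroup.center X) :
    (pullbackFst π ξ).ker ≤ Subgroup.center (pullback π ξ) := by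
  rintro ⟨⟨g, x⟩, hp⟩ hk
  have hg : g = 1 := hk
  subst hg
  have hx : x ∈ Subgroup.center X := by
    apply hξ
    rw [MonoidHom.mem_ker]
    have : π 1 = ξ x := hp
    rw [← this, map_one]
  rw [Subgroup.mem_center_iff]
  rintro ⟨⟨g', x'⟩, hp'⟩
  apply Subtype.ext
  show (g' * 1, x' * x) = (1 * g', x * x')
  rw [Subgroup.mem_center_iff.mp hx x', mul_one, one_mul]

end Pullback

end Cfsg.Agent.Helper66
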