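import Mathlib
import Cfsg.Agent.Helper66.CharExt
import Cfsg.Agent.Helper66.PerfectCover2

set_option autoImplicit false

namespace Cfsg.Agent.Helper66

open scoped commutatorElement

universe u v w

section Lift

variable {Q : Type u} [Group Q] [Finite Q] {Γ : Type v} [Group Γ] {X : Type w} [Group X]

/-- For a Schur cover, the lift from `F / [F, R]` has kernel meeting the commutator subgroup
trivially. -/
theorem ker_lift_inf_commutator_eq_bot (σ : Γ →* Q) (hσ : Cfsg.IsStemExtension σ)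
    (hcard : Nat.card σ.ker = Nat.card (schurT Q)) (ψσ : SchurH Q →* Γ)
    (hψσ : σ.comp ψσ = schurRho Q) : ψσ.ker ⊓ commutator (SchurH Q) = ⊥ := by
  obtain ⟨hs, hc, hd⟩ := hσ
  have hmap := map_ker_inf_commutator (schurRho Q) (schurRho_surjective Q) σ hc ψσ hψσ
  rw [inf_eq_left.mpr hd] at hmap
  have hmem : ∀ t : schurT Q, ψσ t ∈ σ.ker := fun t => by
    rw [← hmap]; exact ⟨t, t.2, rfl⟩
  let θ : schurT Q →* σ.ker :=
    { toFun := fun t => ⟨ψσ t, hmem t⟩
      map_one' := by apply Subtype.ext; simp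
      map_mul' := fun a b => by apply Subtype.ext; simp }
  have hθs : Function.Surjective θ := by
    rintro ⟨y, hy⟩
    rw [← hmap] at hy
    obtain ⟨t, ht, rfl⟩ := hy
    exact ⟨⟨t, ht⟩, rfl⟩
  haveI : Finite σ.ker := by
    apply Nat.finite_of_card_ne_zero
    rw [hcard]
    exact Nat.card_pos.ne'
  have hθb : Function.Bijective θ :=
    (Nat.bijective_iff_surjective_and_card θ).mpr ⟨hθs, hcard.symm⟩
  rw [eq_bot_iff]
  intro x hx
  have hxk : ψσ x = 1 := hx.1
  have hxT : x ∈ schurT Q := by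
    refine ⟨?_, hx.2⟩
    show schurRho Q x = 1
    rw [← hψσ, MonoidHom.comp_apply, hxk, map_one]
  have h1 : θ ⟨x, hxT⟩ = θ 1 := by
    apply Subtype.ext
    show ψσ x = ((θ 1 : σ.ker) : Γ)
    rw [map_one, hxk]; rfl
  have h2 := hθb.1 h1
  rw [Subgroup.mem_bot]
  exact congrArg Subtype.val h2

/-- Over a Schur cover, every homomorphism to the central quotient of a group with divisible centre
lifts. -/
theorem exists_lift_of_cover (σ : Γ →* Q) (hσ : Cfsg.IsStemExtension σ)
    (hcard : Nat.card σ.ker = Nat.card (schurT Q))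
    (hX : ∀ k : ℕ, k ≠ 0 → Function.Surjective (fun d : Subgroup.center X => d ^ k))
    (γ : Q →* X ⧸ Subgroup.center X) :
    ∃ ρ : Γ →* X, (QuotientGroup.mk' (Subgroup.center X)).comp ρ = γ.comp σ := by
  have hσ' := hσ
  obtain ⟨hs, hc, hd⟩ := hσ
  -- the pullback central extension of `Q`
  let mk := QuotientGroup.mk' (Subgroup.center X)
  have hmks : Function.Surjective mk := QuotientGroup.mk'_surjective _
  have hmkk : mk.ker ≤ Subgroup.center X := by
    rw [QuotientGroup.ker_mk']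
  obtain ⟨ψ, hψ, -⟩ := exists_schur_lift (pullbackFst γ mk) (pullbackFst_surjective γ mk hmks)
    (ker_pullbackFst_le_center γ mk hmkk)
  let ρH : SchurH Q →* X := (pullbackSnd γ mk).comp ψ
  have hρH : ∀ h, mk (ρH h) = γ (schurRho Q h) := by
    intro h
    have h1 := congrArg (fun f => f (ψ h)) (pullback_comm γ mk)
    have h2 := congrArg (fun f => f h) hψ
    simp only [MonoidHom.comp_apply] at h1 h2
    show mk (pullbackSnd γ mk (ψ h)) = _
    rw [← h1, h2]
  -- the lift to `Γ`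
  obtain ⟨ψσ, hψσ, -⟩ := exists_schur_lift σ hs hc
  have hψσs : Function.Surjective ψσ :=
    surjective_of_stem (schurRho Q) (schurRho_surjective Q) σ hc hd ψσ hψσ
  have hN := ker_lift_inf_commutator_eq_bot σ hσ' hcard ψσ hψσ
  have hNR : ∀ x ∈ ψσ.ker, schurRho Q x = 1 := by
    intro x hx
    rw [← hψσ, MonoidHom.comp_apply, MonoidHom.mem_ker.mp hx, map_one]
  have hνmem : ∀ x : ψσ.ker, ρH x ∈ Subgroup.center X := by
    intro x
    have : mk (ρH x) = 1 := by rw [hρH, hNR x x.2, map_one]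
    exact (QuotientGroup.eq_one_iff _).mp this
  let ν : ψσ.ker →* Subgroup.center X :=
    { toFun := fun x => ⟨ρH x, hνmem x⟩
      map_one' := by apply Subtype.ext; simp
      map_mul' := fun a b => by apply Subtype.ext; simp }
  have hcomm : ∀ a b : Subgroup.center X, a * b = b * a := fun a b => by
    apply Subtype.ext
    exact (Subgroup.mem_center_iff.mp a.2 b.1).symm
  obtain ⟨μ, hμ⟩ := exists_extension_of_inf_commutator_eq_bot' hcomm hX ψσ.ker hN ν
  let ρH' : SchurH Q →* X :=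
    { toFun := fun h => ρH h * ((μ h : X))⁻¹
      map_one' := by simp
      map_mul' := fun a b => by
        have hcen := Subgroup.mem_center_iff.mp (Subgroup.inv_mem _ (μ a).2) (ρH b)
        rw [map_mul, map_mul, Subgroup.coe_mul, mul_inv_rev]
        calc ρH a * ρH b * ((μ b : X)⁻¹ * (μ a : X)⁻¹)
            = ρH a * (ρH b * (μ a : X)⁻¹) * (μ b : X)⁻¹ := by
              have hcen2 := Subgroup.mem_center_iff.mp (Subgroup.inv_mem _ (μ a).2) ((μ b : X)⁻¹)
              rw [mul_assoc, mul_assoc, mul_assoc, ← hcen2]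
          _ = ρH a * ((μ a : X)⁻¹ * ρH b) * (μ b : X)⁻¹ := by rw [hcen]
          _ = ρH a * (μ a : X)⁻¹ * (ρH b * (μ b : X)⁻¹) := by
              simp only [mul_assoc] }
  have hle : ψσ.ker ≤ ρH'.ker := by
    intro x hx
    rw [MonoidHom.mem_ker]
    show ρH x * ((μ x : X))⁻¹ = 1
    have := hμ ⟨x, hx⟩
    have h3 : (μ x : X) = ρH x := congrArg Subtype.val this
    rw [h3, mul_inv_cancel]
  let ρ : Γ →* X := ψσ.liftOfSurjective hψσs ⟨ρH', hle⟩
  have hρ : ∀ h, ρ (ψσ h) = ρH' h := fun h =>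
    MonoidHom.liftOfRightInverse_comp_apply _ _ _ _ h
  refine ⟨ρ, ?_⟩
  ext g
  obtain ⟨h, rfl⟩ := hψσs g
  show mk (ρ (ψσ h)) = γ (σ (ψσ h))
  rw [hρ]
  show mk (ρH h * ((μ h : X))⁻¹) = _
  have h4 : mk ((μ h : X))⁻¹ = 1 :=
    (QuotientGroup.eq_one_iff _).mpr (Subgroup.inv_mem _ (μ h).2)
  rw [map_mul, h4, mul_one, hρH]
  congr 1
  have := congrArg (fun f => f h) hψσ
  exact this.symm

end Lift

end Cfsg.Agent.Helper66
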