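import Mathlib
import Cfsg.Agent.Helper66.SchurMult2

set_option autoImplicit false

namespace Cfsg.Agent.Helper66

open scoped commutatorElement

universe u v w

variable (Q : Type u) [Group Q]

/-- **Existence of Schur covers**, with the complement property: there is a normal subgroup `S` of
the kernel of `F / [F, R] → Q` meeting the multiplier trivially such that `H ⧸ S` is a finite stem
extension with kernel isomorphic to the multiplier. -/
theorem exists_cover_inf_eq_bot [Finite Q] :
    ∃ (S : Subgroup (SchurH Q)) (_ : S.Normal) (hS : S ≤ (schurRho Q).ker), S ⊓ schurT Q = ⊥ ∧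
      Finite (SchurH Q ⧸ S) ∧
      Cfsg.IsStemExtension (QuotientGroup.lift S (schurRho Q) hS) ∧
      Nonempty ((QuotientGroup.lift S (schurRho Q) hS).ker ≃* schurT Q) := by
  haveI : (schurRho Q).ker.FiniteIndex := finiteIndex_ker_rho _ (stdPres_surjective Q)
  obtain ⟨S, hSN, hST, hNS⟩ :=
    exists_complement_le (stdPres Q) (stdPres_surjective Q) (schurRho Q).ker le_rfl
  have hS : S ≤ (schurRho Q).ker := hSN
  have hSn : S.Normal := normal_of_le_center S (hS.trans (ker_schurRho_le_center Q))
  have hsup : (schurRho Q).ker ≤ S ⊔ ((schurRho Q).ker ⊓ commutator (SchurH Q)) := hNS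
  have hstem := isStemExtension_lift (schurRho Q) (schurRho_surjective Q) (ker_schurRho_le_center Q)
    S hS hsup
  have hker := nonempty_ker_lift_mulEquiv (schurRho Q) S hS hST hsup
  refine ⟨S, hSn, hS, hST, ?_, hstem, hker⟩
  rw [MonoidHom.finite_iff_finite_ker_range (QuotientGroup.lift S (schurRho Q) hS)]
  obtain ⟨e⟩ := hker
  haveI : Finite ↥((schurRho Q).ker ⊓ commutator (SchurH Q)) := schurT_finite Q
  exact ⟨Finite.of_equiv _ e.symm.toEquiv, inferInstance⟩

end Cfsg.Agent.Helper66
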