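import Mathlib
import Cfsg.Agent.Helper66.ProjLift
import Cfsg.Agent.Helper66.MonomialRep
import Cfsg.Agent.Helper66.SchurMult3

set_option autoImplicit false

namespace Cfsg.Agent.Helper66

open scoped commutatorElement

universe u v w

/-- Two homomorphisms that agree modulo a central subgroup agree on the commutator subgroup. -/
theorem eqOn_commutator_of_comp_eq {H : Type*} {X : Type*} {Q' : Type*} [Group H] [Group X]
    [Group Q'] (ξ : X →* Q') (hξ : ξ.ker ≤ Subgroup.center X) (η₁ η₂ : H →* X)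
    (h : ξ.comp η₁ = ξ.comp η₂) : ∀ x ∈ commutator H, η₁ x = η₂ x := by
  have hz : ∀ a : H, (η₂ a)⁻¹ * η₁ a ∈ Subgroup.center X := by
    intro a
    apply hξ
    rw [MonoidHom.mem_ker, map_mul, map_inv]
    have : ξ (η₁ a) = ξ (η₂ a) := by
      have := congrArg (fun f => f a) h
      simpa using this
    rw [this]; group
  have hle : commutator H ≤ η₁.eqLocus η₂ := by
    rw [commutator_eq_closure, Subgroup.closure_le]
    rintro _ ⟨a, b, rfl⟩
    show η₁ ⁅a, b⁆ = η₂ ⁅a, b⁆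
    rw [map_commutatorElement, map_commutatorElement]
    have e1 : η₁ a = η₂ a * ((η₂ a)⁻¹ * η₁ a) := by group
    have e2 : η₁ b = η₂ b * ((η₂ b)⁻¹ * η₁ b) := by group
    rw [e1, e2]
    exact commutatorElement_mul_central _ _ _ _ (hz a) (hz b)
  exact fun x hx => hle hx

section Converse

variable {Q : Type u} [Group Q] [Finite Q] {Γ : Type v} [Group Γ]

/-- If all projective representations of `Q` lift to the central extension `Γ`, the lift of
`F / [F, R]` to `Γ` is injective on the multiplier. -/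
theorem ker_inf_schurT_eq_bot_of_lifts (σ : Γ →* Q)
    (hlift : ∀ (n : ℕ) (γ : Q →* (GL (Fin n) ℂ ⧸ Subgroup.center (GL (Fin n) ℂ))),
      ∃ ρ : Γ →* GL (Fin n) ℂ,
        (QuotientGroup.mk' (Subgroup.center (GL (Fin n) ℂ))).comp ρ = γ.comp σ)
    (ψσ : SchurH Q →* Γ) (hψσ : σ.comp ψσ = schurRho Q) : ψσ.ker ⊓ schurT Q = ⊥ := by
  rw [eq_bot_iff]
  intro t ht
  rw [Subgroup.mem_bot]
  by_contra hne
  obtain ⟨S, hSn, hS, hST, hfin, hstem, ⟨e⟩⟩ := exists_cover_inf_eq_bot Q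
  have hmk : (QuotientGroup.mk t : SchurH Q ⧸ S) ∈ (QuotientGroup.lift S (schurRho Q) hS).ker := by
    rw [MonoidHom.mem_ker]
    show schurRho Q t = 1
    exact ht.2.1
  have hmk1 : (⟨QuotientGroup.mk t, hmk⟩ : (QuotientGroup.lift S (schurRho Q) hS).ker) ≠ 1 := by
    intro h
    have h1 : (QuotientGroup.mk t : SchurH Q ⧸ S) = 1 := congrArg Subtype.val h
    rw [QuotientGroup.eq_one_iff] at h1
    have : t ∈ S ⊓ schurT Q := ⟨h1, ht.2⟩
    rw [hST, Subgroup.mem_bot] at this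
    exact hne this
  have hne2 : e ⟨QuotientGroup.mk t, hmk⟩ ≠ 1 := by
    intro h
    exact hmk1 ((MulEquiv.map_eq_one_iff e).mp h)
  haveI : NeZero (Monoid.exponent (schurT Q)) := ⟨Monoid.exponent_ne_zero_of_finite⟩
  obtain ⟨χ', hχ'⟩ := CommGroup.exists_apply_ne_one_of_hasEnoughRootsOfUnity (schurT Q) ℂ hne2
  obtain ⟨n, ρc, hρc1, hρc2⟩ := exists_rep_of_central_character
    (QuotientGroup.lift S (schurRho Q) hS) hstem.1 hstem.2.1 (χ'.comp e.toMonoidHom)
  have hle : (QuotientGroup.lift S (schurRho Q) hS).ker ≤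
      ((QuotientGroup.mk' (Subgroup.center (GL (Fin n) ℂ))).comp ρc).ker := by
    intro z hz
    rw [MonoidHom.mem_ker, MonoidHom.comp_apply]
    exact (QuotientGroup.eq_one_iff _).mpr (hρc1 ⟨z, hz⟩)
  let γ : Q →* (GL (Fin n) ℂ ⧸ Subgroup.center (GL (Fin n) ℂ)) :=
    (QuotientGroup.lift S (schurRho Q) hS).liftOfSurjective hstem.1
      ⟨(QuotientGroup.mk' (Subgroup.center (GL (Fin n) ℂ))).comp ρc, hle⟩
  have hγ : ∀ g, γ (QuotientGroup.lift S (schurRho Q) hS g) =
      QuotientGroup.mk' (Subgroup.center (GL (Fin n) ℂ)) (ρc g) := fun g =>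
    MonoidHom.liftOfRightInverse_comp_apply _ _ _ _ g
  obtain ⟨ρ, hρ⟩ := hlift n γ
  have hcomp : (QuotientGroup.mk' (Subgroup.center (GL (Fin n) ℂ))).comp (ρ.comp ψσ) =
      (QuotientGroup.mk' (Subgroup.center (GL (Fin n) ℂ))).comp
        (ρc.comp (QuotientGroup.mk' S)) := by
    apply MonoidHom.ext
    intro h
    have h1 := congrArg (fun f => f (ψσ h)) hρ
    have h2 := congrArg (fun f => f h) hψσ
    simp only [MonoidHom.comp_apply] at h1 h2
    show QuotientGroup.mk' (Subgroup.center (GL (Fin n) ℂ)) (ρ (ψσ h)) =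
      QuotientGroup.mk' (Subgroup.center (GL (Fin n) ℂ)) (ρc (QuotientGroup.mk' S h))
    rw [h1, h2, ← hγ]
    rfl
  have hkk : (QuotientGroup.mk' (Subgroup.center (GL (Fin n) ℂ))).ker ≤
      Subgroup.center (GL (Fin n) ℂ) := by
    rw [QuotientGroup.ker_mk']
  have h3 := eqOn_commutator_of_comp_eq _ hkk _ _ hcomp t ht.2.2
  have h4 : ρ (ψσ t) = 1 := by
    rw [MonoidHom.mem_ker.mp ht.1, map_one]
  have h5 : ρc (QuotientGroup.mk t : SchurH Q ⧸ S) = 1 := by
    have : (ρ.comp ψσ) t = (ρc.comp (QuotientGroup.mk' S)) t := h3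
    rw [MonoidHom.comp_apply, h4] at this
    exact this.symm
  exact hχ' (hρc2 ⟨QuotientGroup.mk t, hmk⟩ h5)

/-- If all projective representations of `Q` lift to the stem extension `Γ`, then its kernel maps
onto the kernel of every finite stem extension. -/
theorem exists_surjective_ker_of_lifts (σ : Γ →* Q) (hσ : Cfsg.IsStemExtension σ)
    (hlift : ∀ (n : ℕ) (γ : Q →* (GL (Fin n) ℂ ⧸ Subgroup.center (GL (Fin n) ℂ))),
      ∃ ρ : Γ →* GL (Fin n) ℂ,
        (QuotientGroup.mk' (Subgroup.center (GL (Fin n) ℂ))).comp ρ = γ.comp σ)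
    {Δ : Type w} [Group Δ] (τ : Δ →* Q) (hτ : Cfsg.IsStemExtension τ) :
    ∃ π : σ.ker →* τ.ker, Function.Surjective π := by
  obtain ⟨θ, hθ⟩ := exists_surjective_schurT_ker τ hτ
  obtain ⟨hs, hc, hd⟩ := hσ
  obtain ⟨ψσ, hψσ, hmap⟩ := exists_schur_lift σ hs hc
  rw [inf_eq_left.mpr hd] at hmap
  have hinj := ker_inf_schurT_eq_bot_of_lifts σ hlift ψσ hψσ
  have hmem : ∀ t : schurT Q, ψσ t ∈ σ.ker := fun t => by
    rw [← hmap]; exact ⟨t, t.2, rfl⟩
  let θσ : schurT Q →* σ.ker :=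
    { toFun := fun t => ⟨ψσ t, hmem t⟩
      map_one' := by apply Subtype.ext; simp
      map_mul' := fun a b => by apply Subtype.ext; simp }
  have hθσs : Function.Surjective θσ := by
    rintro ⟨y, hy⟩
    rw [← hmap] at hy
    obtain ⟨t, ht, rfl⟩ := hy
    exact ⟨⟨t, ht⟩, rfl⟩
  have hθσi : Function.Injective θσ := by
    rw [← MonoidHom.ker_eq_bot_iff, eq_bot_iff]
    rintro ⟨t, ht⟩ hk
    have hk' : ψσ t = 1 := congrArg Subtype.val (MonoidHom.mem_ker.mp hk)
    have : t ∈ ψσ.ker ⊓ schurT Q := ⟨hk', ht⟩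
    rw [hinj, Subgroup.mem_bot] at this
    rw [Subgroup.mem_bot]
    exact Subtype.ext this
  let eσ : schurT Q ≃* σ.ker := MulEquiv.ofBijective θσ ⟨hθσi, hθσs⟩
  exact ⟨θ.comp eσ.symm.toMonoidHom, hθ.comp eσ.symm.surjective⟩

end Converse

end Cfsg.Agent.Helper66
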