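import Mathlib
import Cfsg.Agent.Helper66.ProjLift2

set_option autoImplicit false

namespace Cfsg.Agent.Helper66

open scoped commutatorElement

universe u v w

section CoprimeExt

/-- Extension of homomorphisms into a finite abelian group of order coprime to `m`, from a subgroup
`N` avoiding the commutator subgroup such that all `m`-th powers lie in `N` modulo commutators. -/
theorem exists_extension_of_coprime {H : Type u} {Z : Type v} [Group H] [CommGroup Z] [Finite Z]
    (N : Subgroup H) (hN : N ⊓ commutator H = ⊥) (m : ℕ)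
    (hm : ∀ h : H, ∃ n ∈ N, ∃ c ∈ commutator H, h ^ m = n * c)
    (hcop : m.Coprime (Nat.card Z)) (χ : N →* Z) : ∃ μ : H →* Z, ∀ x : N, μ x = χ x := by
  rcases Nat.lt_or_ge 1 (Nat.card Z) with hZ | hZ
  · let f : N →* Abelianization H := Abelianization.of.comp N.subtype
    have hf : Function.Injective f := by
      rw [← MonoidHom.ker_eq_bot_iff, eq_bot_iff]
      intro x hx
      have hx' : (x : H) ∈ commutator H := by
        rw [← Abelianization.ker_of]
        exact hx
      have : (x : H) ∈ N ⊓ commutator H := ⟨x.2, hx'⟩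
      rw [hN, Subgroup.mem_bot] at this
      rw [Subgroup.mem_bot]
      exact Subtype.ext this
    let e : N ≃* f.range := MonoidHom.ofInjective hf
    have hpow : ∀ x : Abelianization H, x ^ m ∈ f.range := by
      intro x
      obtain ⟨h, rfl⟩ := QuotientGroup.mk_surjective x
      show (Abelianization.of h) ^ m ∈ f.range
      obtain ⟨n, hn, c, hc, hnc⟩ := hm h
      refine ⟨⟨n, hn⟩, ?_⟩
      show Abelianization.of n = (Abelianization.of h) ^ m
      rw [← map_pow, hnc, map_mul]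
      have : Abelianization.of c = 1 := by
        rw [← MonoidHom.mem_ker, Abelianization.ker_of]; exact hc
      rw [this, mul_one]
    let g : Abelianization H →* f.range :=
      { toFun := fun x => ⟨x ^ m, hpow x⟩
        map_one' := by apply Subtype.ext; simp
        map_mul' := fun a b => by apply Subtype.ext; simp [mul_pow] }
    obtain ⟨m', -, hm'⟩ := Nat.exists_mul_mod_eq_one_of_coprime hcop hZ
    have hz : ∀ z : Z, (z ^ m) ^ m' = z := by
      intro z
      rw [← pow_mul, ← pow_mod_natCard, hm', pow_one]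
    let μ : H →* Z :=
      ((powMonoidHom m').comp (χ.comp (e.symm.toMonoidHom.comp g))).comp Abelianization.of
    refine ⟨μ, fun x => ?_⟩
    show (χ (e.symm (g (Abelianization.of (x : H))))) ^ m' = χ x
    have h1 : g (Abelianization.of (x : H)) = e (x ^ m) := by
      apply Subtype.ext
      show (Abelianization.of (x : H)) ^ m = Abelianization.of ((x ^ m : N) : H)
      rw [Subgroup.coe_pow, map_pow]
    rw [h1, MulEquiv.symm_apply_apply, map_pow, hz]
  · haveI : Subsingleton Z := by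
      have hpos : 0 < Nat.card Z := Nat.card_pos
      have h1 : Nat.card Z = 1 := by omega
      exact (Nat.card_eq_one_iff_unique.mp h1).1
    exact ⟨1, fun x => Subsingleton.elim _ _⟩

end CoprimeExt

section Twist

variable {H : Type u} {X : Type v} [Group H] [Group X]

/-- Divide a homomorphism by a homomorphism with central values. -/
def divCentral (f : H →* X) (μ : H →* Subgroup.center X) : H →* X where
  toFun h := f h * ((μ h : X))⁻¹
  map_one' := by simp
  map_mul' a b := by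
    have hcen := Subgroup.mem_center_iff.mp (Subgroup.inv_mem _ (μ a).2) (f b)
    rw [map_mul, map_mul, Subgroup.coe_mul, mul_inv_rev]
    calc f a * f b * ((μ b : X)⁻¹ * (μ a : X)⁻¹)
        = f a * (f b * (μ a : X)⁻¹) * (μ b : X)⁻¹ := by
          have hcen2 := Subgroup.mem_center_iff.mp (Subgroup.inv_mem _ (μ a).2) ((μ b : X)⁻¹)
          rw [mul_assoc, mul_assoc, mul_assoc, ← hcen2]
      _ = f a * ((μ a : X)⁻¹ * f b) * (μ b : X)⁻¹ := by rw [hcen]
      _ = f a * (μ a : X)⁻¹ * (f b * (μ b : X)⁻¹) := by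
          simp only [mul_assoc]

theorem divCentral_apply (f : H →* X) (μ : H →* Subgroup.center X) (h : H) :
    divCentral f μ h = f h * ((μ h : X))⁻¹ := rfl

end Twist

section Card

/-- The order of a group is the product of the orders of the kernel and the image of a
surjection. -/
theorem card_eq_card_ker_mul_card {G : Type u} {Q : Type v} [Group G] [Group Q] (σ : G →* Q)
    (hσ : Function.Surjective σ) : Nat.card G = Nat.card Q * Nat.card σ.ker := by
  rw [Subgroup.card_eq_card_quotient_mul_card_subgroup σ.ker,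
    Nat.card_congr (QuotientGroup.quotientKerEquivOfSurjective σ hσ).toEquiv]

end Card

section Unique

variable {Q : Type u} [Group Q] [Finite Q]

/-- The kernel of `F / [F, R] → Q` is generated by the kernel of a lift to a stem extension and
the multiplier. -/
theorem ker_le_ker_lift_sup_schurT {Γ : Type v} [Group Γ] (σ : Γ →* Q)
    (hσ : Cfsg.IsStemExtension σ) (ψ : SchurH Q →* Γ) (hψ : σ.comp ψ = schurRho Q) :
    (schurRho Q).ker ≤ ψ.ker ⊔ schurT Q := by
  obtain ⟨hs, hc, hd⟩ := hσ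
  have hmap := map_ker_inf_commutator (schurRho Q) (schurRho_surjective Q) σ hc ψ hψ
  rw [inf_eq_left.mpr hd] at hmap
  intro x hx
  have hx' : ψ x ∈ σ.ker := by
    rw [MonoidHom.mem_ker] at hx ⊢
    rw [← hx, ← hψ, MonoidHom.comp_apply]
  rw [← hmap] at hx'
  obtain ⟨t, ht, hte⟩ := hx'
  have h1 : x * t⁻¹ ∈ ψ.ker := by
    rw [MonoidHom.mem_ker, map_mul, map_inv, hte, mul_inv_cancel]
  have : x = (x * t⁻¹) * t := by group
  rw [this]
  exact Subgroup.mul_mem _ (Subgroup.mem_sup_left h1) (Subgroup.mem_sup_right ht)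

/-- Powers by the order of the commutator quotient lie in the kernel of a lift to a stem
extension, modulo commutators. -/
theorem pow_card_abelianization_mem {Γ : Type v} [Group Γ] (σ : Γ →* Q)
    (hσ : Cfsg.IsStemExtension σ) (ψ : SchurH Q →* Γ) (hψ : σ.comp ψ = schurRho Q)
    (h : SchurH Q) : ∃ n ∈ ψ.ker, ∃ c ∈ commutator (SchurH Q),
      h ^ Nat.card (Abelianization Q) = n * c := by
  have h1 : schurRho Q (h ^ Nat.card (Abelianization Q)) ∈ commutator Q := by
    rw [← Abelianization.ker_of, MonoidHom.mem_ker, map_pow, map_pow, pow_card_eq_one']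
  rw [← map_commutator_of_surjective (schurRho Q) (schurRho_surjective Q)] at h1
  obtain ⟨c, hc, hce⟩ := h1
  have h2 : h ^ Nat.card (Abelianization Q) * c⁻¹ ∈ (schurRho Q).ker := by
    rw [MonoidHom.mem_ker, map_mul, map_inv, hce, mul_inv_cancel]
  have h3 := ker_le_ker_lift_sup_schurT σ hσ ψ hψ h2
  haveI : ψ.ker.Normal := MonoidHom.normal_ker ψ
  obtain ⟨n, hn, t, ht, hnt⟩ := exists_mul_of_mem_sup ψ.ker (schurT Q) _ h3
  refine ⟨n, hn, t * c, Subgroup.mul_mem _ ht.2 hc, ?_⟩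
  rw [← mul_assoc, hnt]
  group

/-- **Uniqueness of Schur covers** when the orders of the commutator quotient and of the
multiplier are coprime. -/
theorem exists_mulEquiv_of_coprime {Γ₁ : Type v} {Γ₂ : Type w} [Group Γ₁] [Group Γ₂]
    (σ₁ : Γ₁ →* Q) (σ₂ : Γ₂ →* Q) (hσ₁ : Cfsg.IsStemExtension σ₁) (hσ₂ : Cfsg.IsStemExtension σ₂)
    (hcard₁ : Nat.card σ₁.ker = Nat.card (schurT Q)) (hcard₂ : Nat.card σ₂.ker = Nat.card (schurT Q))
    (hcop : Nat.Coprime (Nat.card (Abelianization Q)) (Nat.card (schurT Q))) :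
    ∃ e : Γ₁ ≃* Γ₂, σ₂.comp e.toMonoidHom = σ₁ := by
  have hσ₁' := hσ₁
  have hσ₂' := hσ₂
  obtain ⟨hs₁, hc₁, hd₁⟩ := hσ₁
  obtain ⟨hs₂, hc₂, hd₂⟩ := hσ₂
  obtain ⟨ψ₁, hψ₁, -⟩ := exists_schur_lift σ₁ hs₁ hc₁
  obtain ⟨ψ₂, hψ₂, hmap₂⟩ := exists_schur_lift σ₂ hs₂ hc₂
  rw [inf_eq_left.mpr hd₂] at hmap₂
  have hψ₁s : Function.Surjective ψ₁ :=
    surjective_of_stem (schurRho Q) (schurRho_surjective Q) σ₁ hc₁ hd₁ ψ₁ hψ₁
  have hN := ker_lift_inf_commutator_eq_bot σ₁ hσ₁' hcard₁ ψ₁ hψ₁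
  -- the bijection `schurT Q ≃ σ₂.ker` induced by `ψ₂`
  have hmem : ∀ t : schurT Q, ψ₂ t ∈ σ₂.ker := fun t => by
    rw [← hmap₂]; exact ⟨t, t.2, rfl⟩
  let θ : schurT Q →* σ₂.ker :=
    { toFun := fun t => ⟨ψ₂ t, hmem t⟩
      map_one' := by apply Subtype.ext; simp
      map_mul' := fun a b => by apply Subtype.ext; simp }
  have hθs : Function.Surjective θ := by
    rintro ⟨y, hy⟩
    rw [← hmap₂] at hy
    obtain ⟨t, ht, rfl⟩ := hy
    exact ⟨⟨t, ht⟩, rfl⟩
  haveI : Finite σ₂.ker := by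
    apply Nat.finite_of_card_ne_zero
    rw [hcard₂]
    exact Nat.card_pos.ne'
  have hθb : Function.Bijective θ :=
    (Nat.bijective_iff_surjective_and_card θ).mpr ⟨hθs, hcard₂.symm⟩
  let eθ : schurT Q ≃* σ₂.ker := MulEquiv.ofBijective θ hθb
  -- the homomorphism `χ : ψ₁.ker →* schurT Q`
  have hχmem : ∀ x : ψ₁.ker, ψ₂ x ∈ σ₂.ker := by
    intro x
    rw [MonoidHom.mem_ker]
    have h1 := congrArg (fun f => f (x : SchurH Q)) hψ₂
    have h2 := congrArg (fun f => f (x : SchurH Q)) hψ₁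
    simp only [MonoidHom.comp_apply] at h1 h2
    rw [h1, ← h2, MonoidHom.mem_ker.mp x.2, map_one]
  let χ₀ : ψ₁.ker →* σ₂.ker :=
    { toFun := fun x => ⟨ψ₂ x, hχmem x⟩
      map_one' := by apply Subtype.ext; simp
      map_mul' := fun a b => by apply Subtype.ext; simp }
  obtain ⟨μ, hμ⟩ := exists_extension_of_coprime ψ₁.ker hN (Nat.card (Abelianization Q))
    (pow_card_abelianization_mem σ₁ hσ₁' ψ₁ hψ₁) hcop (eθ.symm.toMonoidHom.comp χ₀)
  let μ' : SchurH Q →* Subgroup.center Γ₂ :=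
    (Subgroup.inclusion hc₂).comp (eθ.toMonoidHom.comp μ)
  have hμ' : ∀ x : ψ₁.ker, ((μ' x : Subgroup.center Γ₂) : Γ₂) = ψ₂ x := by
    intro x
    show ((eθ (μ x) : σ₂.ker) : Γ₂) = ψ₂ x
    rw [hμ x]
    show ((eθ (eθ.symm (χ₀ x)) : σ₂.ker) : Γ₂) = ψ₂ x
    rw [MulEquiv.apply_symm_apply]
    rfl
  have hμk : ∀ h, σ₂ ((μ' h : Subgroup.center Γ₂) : Γ₂) = 1 := by
    intro h
    exact (eθ (μ h)).2
  let ψ₂' := divCentral ψ₂ μ'
  have hle : ψ₁.ker ≤ ψ₂'.ker := by
    intro x hx
    rw [MonoidHom.mem_ker]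
    show ψ₂ x * ((μ' x : Γ₂))⁻¹ = 1
    rw [hμ' ⟨x, hx⟩, mul_inv_cancel]
  let β : Γ₁ →* Γ₂ := ψ₁.liftOfSurjective hψ₁s ⟨ψ₂', hle⟩
  have hβ : ∀ h, β (ψ₁ h) = ψ₂' h := fun h =>
    MonoidHom.liftOfRightInverse_comp_apply _ _ _ _ h
  have hcomp : σ₂.comp β = σ₁ := by
    apply MonoidHom.ext
    intro g
    obtain ⟨h, rfl⟩ := hψ₁s g
    show σ₂ (β (ψ₁ h)) = σ₁ (ψ₁ h)
    rw [hβ]
    show σ₂ (ψ₂ h * ((μ' h : Γ₂))⁻¹) = _
    rw [map_mul, map_inv, hμk, inv_one, mul_one]
    have h1 := congrArg (fun f => f h) hψ₂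
    have h2 := congrArg (fun f => f h) hψ₁
    simp only [MonoidHom.comp_apply] at h1 h2
    rw [h1, h2]
  have hβs : Function.Surjective β := surjective_of_stem σ₁ hs₁ σ₂ hc₂ hd₂ β hcomp
  haveI : Finite σ₁.ker := by
    apply Nat.finite_of_card_ne_zero
    rw [hcard₁]
    exact Nat.card_pos.ne'
  haveI : Finite Γ₁ := by
    rw [MonoidHom.finite_iff_finite_ker_range σ₁]
    exact ⟨inferInstance, inferInstance⟩
  haveI : Finite Γ₂ := by
    rw [MonoidHom.finite_iff_finite_ker_range σ₂]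
    exact ⟨inferInstance, inferInstance⟩
  have hcardΓ : Nat.card Γ₁ = Nat.card Γ₂ := by
    rw [card_eq_card_ker_mul_card σ₁ hs₁, card_eq_card_ker_mul_card σ₂ hs₂, hcard₁, hcard₂]
  have hβb : Function.Bijective β :=
    (Nat.bijective_iff_surjective_and_card β).mpr ⟨hβs, hcardΓ⟩
  refine ⟨MulEquiv.ofBijective β hβb, ?_⟩
  rw [← hcomp]
  rfl

end Unique

end Cfsg.Agent.Helper66
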