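import Mathlib
import Cfsg.Agent.Helper66.CoverUnique

set_option autoImplicit false

namespace Cfsg.Agent.Helper66

open scoped commutatorElement

universe u v w

section General

/-- A homomorphism to a group with commutative multiplication kills the commutator subgroup. -/
theorem commutator_le_ker_of_comm {H : Type*} {C : Type*} [Group H] [Group C] (f : H →* C)
    (hC : ∀ a b : C, a * b = b * a) : commutator H ≤ f.ker := by
  rw [commutator_eq_closure, Subgroup.closure_le]
  rintro _ ⟨a, b, rfl⟩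
  show f ⁅a, b⁆ = 1
  rw [map_commutatorElement, commutatorElement_eq_one_iff_mul_comm]
  exact hC _ _

/-- In a finite abelian group of order divisible by `p` some element is not a `p`-th power. -/
theorem exists_not_pow {T : Type*} [Group T] [Finite T] (p : ℕ) [hp : Fact p.Prime]
    (hdvd : p ∣ Nat.card T) : ∃ g : T, ∀ u : T, u ^ p ≠ g := by
  by_contra hcon
  simp only [not_exists, not_forall, not_not] at hcon
  have hsurj : Function.Surjective (fun u : T => u ^ p) := fun g => hcon g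
  have hinj : Function.Injective (fun u : T => u ^ p) := Finite.injective_iff_surjective.mpr hsurj
  obtain ⟨x, hx⟩ := exists_prime_orderOf_dvd_card' p hdvd
  have h1 : x ^ p = (1 : T) ^ p := by
    rw [one_pow, ← hx, pow_orderOf_eq_one]
  have h2 : x = 1 := hinj h1
  rw [h2, orderOf_one] at hx
  exact hp.out.one_lt.ne hx

/-- If `g ^ k` is a `p`-th power in a commutative group with `p ∤ k`, then `g` is a `p`-th power. -/
theorem exists_pow_eq_of_zpow {T : Type*} [Group T] (hT : ∀ a b : T, a * b = b * a) (p : ℕ)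
    [hp : Fact p.Prime] (g u : T) (k : ℤ) (hk : ¬ (p : ℤ) ∣ k) (h : g ^ k = u ^ p) :
    ∃ w : T, w ^ p = g := by
  have hcop : IsCoprime k (p : ℤ) := by
    rw [Int.isCoprime_iff_gcd_eq_one]
    have h1 : Int.gcd k (p : ℤ) ∣ p := Int.natCast_dvd_natCast.mp (Int.gcd_dvd_right k (p : ℤ))
    rcases (Nat.dvd_prime hp.out).mp h1 with h2 | h2
    · exact h2
    · exfalso
      apply hk
      have := Int.gcd_dvd_left k (p : ℤ)
      rw [h2] at this
      exact this
  obtain ⟨a, b, hab⟩ := hcop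
  refine ⟨u ^ a * g ^ b, ?_⟩
  have hcomm : Commute (u ^ a) (g ^ b) := hT _ _
  rw [hcomm.mul_pow]
  have e1 : (u ^ a) ^ p = (g ^ k) ^ a := by
    rw [h, ← zpow_natCast (u ^ a) p, ← zpow_mul, ← zpow_natCast u p, ← zpow_mul, mul_comm]
  have e2 : (g ^ b) ^ p = g ^ (b * p) := by
    rw [← zpow_natCast (g ^ b) p, ← zpow_mul]
  rw [e1, e2, ← zpow_mul, ← zpow_add, mul_comm k a, hab, zpow_one]

/-- A finitely generated torsion-free abelian group has a homomorphism to the integers whose value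
at a given non-`p`-th power is not divisible by `p`. -/
theorem exists_hom_int_not_dvd {A : Type*} [inst : Group A] (hcomm : ∀ a b : A, a * b = b * a)
    [Group.FG A] (htf : ∀ a : A, IsOfFinOrder a → a = 1) (p : ℕ) (a₀ : A)
    (h : ∀ y : A, y ^ p ≠ a₀) :
    ∃ f : A →* Multiplicative ℤ, ¬ (p : ℤ) ∣ Multiplicative.toAdd (f a₀) := by
  letI : CommGroup A := { inst with mul_comm := hcomm }
  obtain ⟨ι, j, _, _, q, hq, e, ⟨E⟩⟩ := CommGroup.equiv_free_prod_prod_multiplicative_zmod A
  have h2 : ∀ a : A, (E a).2 = 1 := by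
    intro a
    have hfin : IsOfFinOrder ((1, (E a).2) :
        (j → Multiplicative ℤ) × ((i : ι) → Multiplicative (ZMod (q i ^ e i)))) := by
      haveI : ∀ i, NeZero (q i ^ e i) := fun i => ⟨(pow_pos (hq i).pos _).ne'⟩
      have h1 : IsOfFinOrder ((E a).2) := isOfFinOrder_of_finite _
      obtain ⟨k, hk, hpow⟩ := isOfFinOrder_iff_pow_eq_one.mp h1
      exact isOfFinOrder_iff_pow_eq_one.mpr ⟨k, hk, by ext <;> simp [hpow]⟩
    have h3 : IsOfFinOrder (E.symm (1, (E a).2)) := E.symm.toMonoidHom.isOfFinOrder hfin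
    have h4 := htf _ h3
    have h5 : E (E.symm (1, (E a).2)) = E 1 := by rw [h4]
    rw [E.apply_symm_apply, map_one] at h5
    exact congrArg Prod.snd h5
  by_contra hcon
  simp only [not_exists, not_not] at hcon
  have hdiv : ∀ i : j, (p : ℤ) ∣ Multiplicative.toAdd ((E a₀).1 i) := by
    intro i
    exact hcon ((Pi.evalMonoidHom _ i).comp ((MonoidHom.fst _ _).comp E.toMonoidHom))
  let y : A := E.symm (fun i => Multiplicative.ofAdd (Multiplicative.toAdd ((E a₀).1 i) / (p : ℤ)), 1)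
  apply h y
  apply E.injective
  rw [map_pow, E.apply_symm_apply]
  apply Prod.ext
  · funext i
    show (Multiplicative.ofAdd (Multiplicative.toAdd ((E a₀).1 i) / (p : ℤ))) ^ p = (E a₀).1 i
    apply Multiplicative.toAdd.injective
    rw [toAdd_pow, toAdd_ofAdd, nsmul_eq_mul]
    exact Int.mul_ediv_cancel' (hdiv i)
  · show (1 : (i : ι) → Multiplicative (ZMod (q i ^ e i))) ^ p = (E a₀).2
    rw [one_pow, h2]

end General

section TorsionFree

variable {X : Type u} {Q : Type v} [Group Q]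

/-- The commutator quotient of `F / [F, R]` is torsion free. -/
theorem mem_commutator_coverH_of_pow (φ : FreeGroup X →* Q) (h : CoverH φ) (k : ℕ) (hk : k ≠ 0)
    (hh : h ^ k ∈ commutator (CoverH φ)) : h ∈ commutator (CoverH φ) := by
  obtain ⟨f, rfl⟩ := QuotientGroup.mk_surjective h
  have hmap : commutator (CoverH φ) = (commutator (FreeGroup X)).map (QuotientGroup.mk' (relComm φ)) :=
    (map_commutator_of_surjective (QuotientGroup.mk' (relComm φ))
      (QuotientGroup.mk'_surjective _)).symm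
  rw [hmap] at hh ⊢
  obtain ⟨c, hc, hce⟩ := hh
  have hle : relComm φ ≤ commutator (FreeGroup X) := by
    unfold relComm
    rw [commutator_def]
    exact Subgroup.commutator_mono le_rfl le_top
  have h1 : c⁻¹ * f ^ k ∈ relComm φ := by
    rw [← QuotientGroup.eq]
    exact hce
  have h2 : f ^ k ∈ commutator (FreeGroup X) := by
    have : f ^ k = c * (c⁻¹ * f ^ k) := by group
    rw [this]
    exact Subgroup.mul_mem _ hc (hle h1)
  exact ⟨f, mem_commutator_freeGroup_of_pow f k hk h2, rfl⟩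

end TorsionFree

section Complements

variable (Q : Type u) [Group Q] [Finite Q]

/-- Every complement of the multiplier in the kernel of `F / [F, R] → Q` gives a Schur cover. -/
theorem cover_of_complement (S : Subgroup (SchurH Q)) (hS : S ≤ (schurRho Q).ker)
    (hST : S ⊓ schurT Q = ⊥) (hsup : (schurRho Q).ker ≤ S ⊔ schurT Q) :
    ∃ (_ : S.Normal), Finite (SchurH Q ⧸ S) ∧
      Cfsg.IsStemExtension (QuotientGroup.lift S (schurRho Q) hS) ∧
      Nonempty ((QuotientGroup.lift S (schurRho Q) hS).ker ≃* schurT Q) := by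
  have hSn : S.Normal := normal_of_le_center S (hS.trans (ker_schurRho_le_center Q))
  have hstem := isStemExtension_lift (schurRho Q) (schurRho_surjective Q) (ker_schurRho_le_center Q)
    S hS hsup
  have hker := nonempty_ker_lift_mulEquiv (schurRho Q) S hS hST hsup
  refine ⟨hSn, ?_, hstem, hker⟩
  rw [MonoidHom.finite_iff_finite_ker_range (QuotientGroup.lift S (schurRho Q) hS)]
  obtain ⟨e⟩ := hker
  haveI : Finite ↥((schurRho Q).ker ⊓ commutator (SchurH Q)) := schurT_finite Q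
  exact ⟨Finite.of_equiv _ e.symm.toEquiv, inferInstance⟩

variable {Q}

/-- The twist of a complement by a homomorphism to the multiplier. -/
def twistHom (S : Subgroup (SchurH Q)) (χ : S →* schurT Q) : S →* SchurH Q where
  toFun s := (s : SchurH Q) * (χ s : SchurH Q)
  map_one' := by simp
  map_mul' a b := by
    have hcen := Subgroup.mem_center_iff.mp (schurT_le_center Q (χ a).2) (b : SchurH Q)
    rw [map_mul, Subgroup.coe_mul, Subgroup.coe_mul]
    calc (a : SchurH Q) * b * ((χ a : SchurH Q) * (χ b : SchurH Q))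
        = a * (b * (χ a : SchurH Q)) * (χ b : SchurH Q) := by simp only [mul_assoc]
      _ = a * ((χ a : SchurH Q) * b) * (χ b : SchurH Q) := by rw [hcen]
      _ = a * (χ a : SchurH Q) * (b * (χ b : SchurH Q)) := by simp only [mul_assoc]

theorem twist_le_ker (S : Subgroup (SchurH Q)) (hS : S ≤ (schurRho Q).ker) (χ : S →* schurT Q) :
    (twistHom S χ).range ≤ (schurRho Q).ker := by
  rintro _ ⟨s, rfl⟩
  show schurRho Q ((s : SchurH Q) * (χ s : SchurH Q)) = 1
  rw [map_mul, MonoidHom.mem_ker.mp (hS s.2), MonoidHom.mem_ker.mp (χ s).2.1, mul_one]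

theorem twist_inf_eq_bot (S : Subgroup (SchurH Q)) (hST : S ⊓ schurT Q = ⊥) (χ : S →* schurT Q) :
    (twistHom S χ).range ⊓ schurT Q = ⊥ := by
  rw [eq_bot_iff]
  rintro _ ⟨⟨s, rfl⟩, ht⟩
  have hs : (s : SchurH Q) ∈ schurT Q := by
    have h1 : (s : SchurH Q) = ((s : SchurH Q) * (χ s : SchurH Q)) * (χ s : SchurH Q)⁻¹ := by group
    rw [h1]
    exact Subgroup.mul_mem _ ht (Subgroup.inv_mem _ (χ s).2)
  have h2 : (s : SchurH Q) ∈ S ⊓ schurT Q := ⟨s.2, hs⟩
  rw [hST, Subgroup.mem_bot] at h2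
  have h3 : s = 1 := Subtype.ext h2
  rw [Subgroup.mem_bot, h3, map_one]

theorem le_twist_sup (S : Subgroup (SchurH Q)) (hS : S ≤ (schurRho Q).ker)
    (hsup : (schurRho Q).ker ≤ S ⊔ schurT Q) (χ : S →* schurT Q) :
    (schurRho Q).ker ≤ (twistHom S χ).range ⊔ schurT Q := by
  intro x hx
  haveI : S.Normal := normal_of_le_center S (hS.trans (ker_schurRho_le_center Q))
  obtain ⟨s, hs, t, ht, rfl⟩ := exists_mul_of_mem_sup S (schurT Q) x (hsup hx)
  have h1 : s * t = (s * (χ ⟨s, hs⟩ : SchurH Q)) * ((χ ⟨s, hs⟩ : SchurH Q)⁻¹ * t) := by group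
  rw [h1]
  exact Subgroup.mul_mem _ (Subgroup.mem_sup_left ⟨⟨s, hs⟩, rfl⟩)
    (Subgroup.mem_sup_right (Subgroup.mul_mem _ (Subgroup.inv_mem _ (χ ⟨s, hs⟩).2) ht))

/-- If the covers belonging to a complement `S` and its twist by `χ` are isomorphic over `Q`, then
for every `x` with `x ^ p = s₀ * c`, `s₀ ∈ S`, `c` a product of commutators, `χ s₀` is a `p`-th
power. -/
theorem exists_pow_eq_of_mulEquiv (S : Subgroup (SchurH Q)) (hS : S ≤ (schurRho Q).ker)
    (hST : S ⊓ schurT Q = ⊥) (hsup : (schurRho Q).ker ≤ S ⊔ schurT Q) (χ : S →* schurT Q)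
    [S.Normal] [(twistHom S χ).range.Normal]
    (e : (SchurH Q ⧸ S) ≃* (SchurH Q ⧸ (twistHom S χ).range))
    (he : (QuotientGroup.lift (twistHom S χ).range (schurRho Q) (twist_le_ker S hS χ)).comp
      e.toMonoidHom = QuotientGroup.lift S (schurRho Q) hS)
    (p : ℕ) (x : SchurH Q) (s₀ : S) (c : SchurH Q) (hc : c ∈ commutator (SchurH Q))
    (hx : x ^ p = (s₀ : SchurH Q) * c) : ∃ u : schurT Q, u ^ p = χ s₀ := by
  let S' := (twistHom S χ).range
  have hS' : S' ≤ (schurRho Q).ker := twist_le_ker S hS χ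
  have hS'T : S' ⊓ schurT Q = ⊥ := twist_inf_eq_bot S hST χ
  have hS'sup : (schurRho Q).ker ≤ S' ⊔ schurT Q := le_twist_sup S hS hsup χ
  let σ' := QuotientGroup.lift S' (schurRho Q) hS'
  have hσ'c : σ'.ker ≤ Subgroup.center (SchurH Q ⧸ S') :=
    (isStemExtension_lift (schurRho Q) (schurRho_surjective Q) (ker_schurRho_le_center Q)
      S' hS' hS'sup).2.1
  have hee : ∀ h : SchurH Q, σ' (e (QuotientGroup.mk h)) = schurRho Q h := by
    intro h
    have := congrArg (fun f => f (QuotientGroup.mk h : SchurH Q ⧸ S)) he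
    exact this
  -- the difference homomorphism
  have hdmem : ∀ h : SchurH Q, e (QuotientGroup.mk h) * (QuotientGroup.mk h : SchurH Q ⧸ S')⁻¹ ∈
      Subgroup.center (SchurH Q ⧸ S') := by
    intro h
    apply hσ'c
    rw [MonoidHom.mem_ker, map_mul, map_inv, hee]
    show schurRho Q h * (schurRho Q h)⁻¹ = 1
    rw [mul_inv_cancel]
  let d : SchurH Q →* Subgroup.center (SchurH Q ⧸ S') :=
    { toFun := fun h => ⟨e (QuotientGroup.mk h) * (QuotientGroup.mk h : SchurH Q ⧸ S')⁻¹, hdmem h⟩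
      map_one' := by
        apply Subtype.ext
        show e (QuotientGroup.mk (1 : SchurH Q)) * (QuotientGroup.mk (1 : SchurH Q) : SchurH Q ⧸ S')⁻¹ = 1
        rw [QuotientGroup.mk_one, QuotientGroup.mk_one, map_one, inv_one, mul_one]
      map_mul' := fun a b => by
        apply Subtype.ext
        show e (QuotientGroup.mk (a * b)) * (QuotientGroup.mk (a * b) : SchurH Q ⧸ S')⁻¹ =
          (e (QuotientGroup.mk a) * (QuotientGroup.mk a : SchurH Q ⧸ S')⁻¹) *
            (e (QuotientGroup.mk b) * (QuotientGroup.mk b : SchurH Q ⧸ S')⁻¹)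
        have hcen := Subgroup.mem_center_iff.mp (hdmem b) ((QuotientGroup.mk a : SchurH Q ⧸ S')⁻¹)
        rw [QuotientGroup.mk_mul, QuotientGroup.mk_mul, map_mul, mul_inv_rev]
        calc e (QuotientGroup.mk a) * e (QuotientGroup.mk b) *
              ((QuotientGroup.mk b : SchurH Q ⧸ S')⁻¹ * (QuotientGroup.mk a : SchurH Q ⧸ S')⁻¹)
            = e (QuotientGroup.mk a) * ((e (QuotientGroup.mk b) *
                (QuotientGroup.mk b : SchurH Q ⧸ S')⁻¹) *
                  (QuotientGroup.mk a : SchurH Q ⧸ S')⁻¹) := by simp only [mul_assoc]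
          _ = e (QuotientGroup.mk a) * ((QuotientGroup.mk a : SchurH Q ⧸ S')⁻¹ *
                (e (QuotientGroup.mk b) * (QuotientGroup.mk b : SchurH Q ⧸ S')⁻¹)) := by
              rw [hcen]
          _ = _ := by simp only [mul_assoc] }
  have hdval : ∀ h, ((d h : Subgroup.center (SchurH Q ⧸ S')) : SchurH Q ⧸ S') =
      e (QuotientGroup.mk h) * (QuotientGroup.mk h : SchurH Q ⧸ S')⁻¹ := fun h => rfl
  have hdcomm : ∀ a b : Subgroup.center (SchurH Q ⧸ S'), a * b = b * a := fun a b => by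
    apply Subtype.ext
    exact (Subgroup.mem_center_iff.mp a.2 b.1).symm
  have hdc : d c = 1 := MonoidHom.mem_ker.mp (commutator_le_ker_of_comm d hdcomm hc)
  -- value on `s₀`
  have hds₀ : ((d (s₀ : SchurH Q) : Subgroup.center (SchurH Q ⧸ S')) : SchurH Q ⧸ S') =
      QuotientGroup.mk ((χ s₀ : schurT Q) : SchurH Q) := by
    rw [hdval]
    have h1 : (QuotientGroup.mk (s₀ : SchurH Q) : SchurH Q ⧸ S) = 1 :=
      (QuotientGroup.eq_one_iff _).mpr s₀.2
    have h2 : (QuotientGroup.mk ((s₀ : SchurH Q) * ((χ s₀ : schurT Q) : SchurH Q)) :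
        SchurH Q ⧸ S') = 1 := (QuotientGroup.eq_one_iff _).mpr ⟨s₀, rfl⟩
    rw [QuotientGroup.mk_mul] at h2
    rw [h1, map_one, one_mul]
    exact inv_eq_of_mul_eq_one_right h2
  -- `d x` comes from the multiplier
  have hdx : ∃ t' : schurT Q, ((d x : Subgroup.center (SchurH Q ⧸ S')) : SchurH Q ⧸ S') =
      QuotientGroup.mk (t' : SchurH Q) := by
    obtain ⟨r, hr⟩ := QuotientGroup.mk_surjective ((d x : Subgroup.center (SchurH Q ⧸ S')) :
      SchurH Q ⧸ S')
    have hrk : r ∈ (schurRho Q).ker := by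
      rw [MonoidHom.mem_ker]
      have h1 : σ' (QuotientGroup.mk r) = schurRho Q r := rfl
      rw [← h1, hr, hdval, map_mul, map_inv, hee]
      show schurRho Q x * (schurRho Q x)⁻¹ = 1
      rw [mul_inv_cancel]
    haveI : S'.Normal := ‹(twistHom S χ).range.Normal›
    obtain ⟨s', hs', t', ht', hst⟩ := exists_mul_of_mem_sup S' (schurT Q) r (hS'sup hrk)
    refine ⟨⟨t', ht'⟩, ?_⟩
    rw [← hr, ← hst, QuotientGroup.mk_mul, (QuotientGroup.eq_one_iff _).mpr hs', one_mul]
  obtain ⟨t', ht'⟩ := hdx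
  refine ⟨t', ?_⟩
  -- compare
  have h1 : d x ^ p = d (s₀ : SchurH Q) := by
    rw [← map_pow, hx, map_mul, hdc, mul_one]
  have h2 : (QuotientGroup.mk ((t' : SchurH Q) ^ p) : SchurH Q ⧸ S') =
      QuotientGroup.mk ((χ s₀ : schurT Q) : SchurH Q) := by
    rw [QuotientGroup.mk_pow, ← ht', ← hds₀, ← h1]
    rfl
  rw [QuotientGroup.eq] at h2
  have h3 : ((t' : SchurH Q) ^ p)⁻¹ * ((χ s₀ : schurT Q) : SchurH Q) ∈ S' ⊓ schurT Q :=
    ⟨h2, Subgroup.mul_mem _ (Subgroup.inv_mem _ (Subgroup.pow_mem _ t'.2 p)) (χ s₀).2⟩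
  rw [hS'T, Subgroup.mem_bot] at h3
  apply Subtype.ext
  rw [Subgroup.coe_pow]
  exact (inv_mul_eq_one.mp h3)

/-- If any two Schur covers of `Q` are isomorphic over `Q`, then the orders of the commutator
quotient and of the multiplier are coprime. -/
theorem coprime_of_unique_cover
    (huniq : ∀ (Γ₁ Γ₂ : Type u) [Group Γ₁] [Finite Γ₁] [Group Γ₂] [Finite Γ₂] (σ₁ : Γ₁ →* Q)
      (σ₂ : Γ₂ →* Q), Cfsg.IsStemExtension σ₁ → Cfsg.IsStemExtension σ₂ →
      Nonempty (σ₁.ker ≃* schurT Q) → Nonempty (σ₂.ker ≃* schurT Q) →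
      ∃ e : Γ₁ ≃* Γ₂, σ₂.comp e.toMonoidHom = σ₁) :
    Nat.Coprime (Nat.card (Abelianization Q)) (Nat.card (schurT Q)) := by
  by_contra hnc
  obtain ⟨p, hp, hp1, hp2⟩ := Nat.Prime.not_coprime_iff_dvd.mp hnc
  haveI : Fact p.Prime := ⟨hp⟩
  haveI : (schurRho Q).ker.FiniteIndex := finiteIndex_ker_rho _ (stdPres_surjective Q)
  obtain ⟨S, hS, hST, hsup⟩ :=
    exists_complement_le (stdPres Q) (stdPres_surjective Q) (schurRho Q).ker le_rfl
  have hST' : S ⊓ schurT Q = ⊥ := hST
  have hsup' : (schurRho Q).ker ≤ S ⊔ schurT Q := hsup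
  -- an element of order `p` in the commutator quotient
  obtain ⟨abar, habar⟩ := exists_prime_orderOf_dvd_card' p hp1
  obtain ⟨q, rfl⟩ := QuotientGroup.mk_surjective abar
  obtain ⟨x, rfl⟩ := schurRho_surjective Q q
  have habar' : orderOf (Abelianization.of (schurRho Q x)) = p := habar
  have h1 : schurRho Q (x ^ p) ∈ commutator Q := by
    rw [← Abelianization.ker_of, MonoidHom.mem_ker, map_pow, map_pow, ← habar',
      pow_orderOf_eq_one]
  rw [← map_commutator_of_surjective (schurRho Q) (schurRho_surjective Q)] at h1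
  obtain ⟨c, hc, hce⟩ := h1
  have h2 : x ^ p * c⁻¹ ∈ (schurRho Q).ker := by
    rw [MonoidHom.mem_ker, map_mul, map_inv, hce, mul_inv_cancel]
  have hSn : S.Normal := normal_of_le_center S (hS.trans (ker_schurRho_le_center Q))
  obtain ⟨s₀, hs₀, t, ht, hst⟩ := exists_mul_of_mem_sup S (schurT Q) _ (hsup' h2)
  have hx : x ^ p = s₀ * (t * c) := by
    rw [← mul_assoc, hst]; group
  have htc : t * c ∈ commutator (SchurH Q) := Subgroup.mul_mem _ ht.2 hc
  -- `s₀` is not a `p`-th power in `S`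
  have hnp : ∀ y : S, y ^ p ≠ ⟨s₀, hs₀⟩ := by
    intro y hy
    have hy' : (y : SchurH Q) ^ p = s₀ := by
      have := congrArg Subtype.val hy
      rwa [Subgroup.coe_pow] at this
    have hycen : (y : SchurH Q) ∈ Subgroup.center (SchurH Q) :=
      ker_schurRho_le_center Q (hS y.2)
    have hcomm : Commute x (y : SchurH Q)⁻¹ :=
      (Subgroup.mem_center_iff.mp (Subgroup.inv_mem _ hycen) x)
    have h3 : (x * (y : SchurH Q)⁻¹) ^ p = t * c := by
      have hs₀cen := Subgroup.mem_center_iff.mp (ker_schurRho_le_center Q (hS hs₀)) (t * c)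
      rw [hcomm.mul_pow, inv_pow, hy', hx, ← hs₀cen, mul_assoc, mul_inv_cancel, mul_one]
    have hxy : x * (y : SchurH Q)⁻¹ ∈ commutator (SchurH Q) :=
      mem_commutator_coverH_of_pow (stdPres Q) _ p hp.ne_zero (h3 ▸ htc)
    have h4 : schurRho Q (x * (y : SchurH Q)⁻¹) ∈ (commutator (SchurH Q)).map (schurRho Q) :=
      ⟨_, hxy, rfl⟩
    rw [map_commutator_of_surjective (schurRho Q) (schurRho_surjective Q), map_mul, map_inv,
      MonoidHom.mem_ker.mp (hS y.2), inv_one, mul_one] at h4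
    have h5 : Abelianization.of (schurRho Q x) = 1 := by
      rw [← MonoidHom.mem_ker, Abelianization.ker_of]; exact h4
    rw [h5, orderOf_one] at habar'
    exact hp.one_lt.ne habar'
  -- the covers
  obtain ⟨_, hfin, hstem, ⟨eK⟩⟩ := cover_of_complement Q S hS hST' hsup'
  -- `S` is finitely generated, torsion free and commutative
  haveI : S.FiniteIndex := Subgroup.finiteIndex_of_finite_quotient
  haveI : Group.FG S := Subgroup.fg_of_index_ne_zero S
  have hcommS : ∀ a b : S, a * b = b * a := by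
    intro a b
    apply Subtype.ext
    exact (Subgroup.mem_center_iff.mp (ker_schurRho_le_center Q (hS b.2)) a)
  have htf : ∀ a : S, IsOfFinOrder a → a = 1 := by
    intro a ha
    have ha' : IsOfFinOrder (a : SchurH Q) := by
      obtain ⟨k, hk, hpow⟩ := isOfFinOrder_iff_pow_eq_one.mp ha
      refine isOfFinOrder_iff_pow_eq_one.mpr ⟨k, hk, ?_⟩
      have := congrArg Subtype.val hpow
      rwa [Subgroup.coe_pow] at this
    have h3 := mem_commutator_of_isOfFinOrder (stdPres Q) (a : SchurH Q) ha'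
    have h4 : (a : SchurH Q) ∈ S ⊓ schurT Q := ⟨a.2, hS a.2, h3⟩
    rw [hST', Subgroup.mem_bot] at h4
    exact Subtype.ext h4
  obtain ⟨f, hf⟩ := exists_hom_int_not_dvd hcommS htf p ⟨s₀, hs₀⟩ hnp
  obtain ⟨g, hg⟩ := exists_not_pow (T := schurT Q) p hp2
  let χ : S →* schurT Q := (zpowersHom (schurT Q) g).comp f
  have hχ : ∀ u : schurT Q, u ^ p ≠ χ ⟨s₀, hs₀⟩ := by
    intro u hu
    have h3 : χ ⟨s₀, hs₀⟩ = g ^ (Multiplicative.toAdd (f ⟨s₀, hs₀⟩)) := rfl
    rw [h3] at hu
    obtain ⟨w, hw⟩ := exists_pow_eq_of_zpow (fun a b => mul_comm a b) p g u _ hf hu.symm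
    exact hg w hw
  obtain ⟨hSn', hfin', hstem', ⟨eK'⟩⟩ := cover_of_complement Q (twistHom S χ).range
    (twist_le_ker S hS χ) (twist_inf_eq_bot S hST' χ) (le_twist_sup S hS hsup' χ)
  obtain ⟨e, he⟩ := huniq (SchurH Q ⧸ S) (SchurH Q ⧸ (twistHom S χ).range)
    (QuotientGroup.lift S (schurRho Q) hS)
    (QuotientGroup.lift (twistHom S χ).range (schurRho Q) (twist_le_ker S hS χ))
    hstem hstem' ⟨eK⟩ ⟨eK'⟩
  obtain ⟨u, hu⟩ := exists_pow_eq_of_mulEquiv S hS hST' hsup' χ e he p x ⟨s₀, hs₀⟩ (t * c) htc hx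
  exact hχ u hu

end Complements

end Cfsg.Agent.Helper66
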