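import Cfsg.Agent.Helper16.DT.Defs

set_option autoImplicit false
set_option linter.unusedSectionVars false
set_option linter.unusedVariables false

/-!
# DT farm (helper16), piece (DEN): the density theorem (helper66)

Pairwise inequivalent irreducible matrix representations `ρ i` of a finite group over an
algebraically closed field: every tuple of matrices `(A i)` is the action of one element of the
group algebra.  Route: `V = Π i, (Fin (d i) → K)` as a module over `K[G]`
(`Representation.asModule`), semisimple as a finite product of simple modules; by Schur's lemma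
(Mathlib, module version) and inequivalence every `K[G]`-endomorphism of `V` acts on the `i`-th
factor by a scalar, so `(A i)_i` commutes with `End_{K[G]} V`; Mathlib's `jacobson_density`
applied to the standard basis vectors gives the element of the group algebra.
-/

namespace Cfsg.Agent.Helper66.DT

open Cfsg Cfsg.Agent.Helper16 Cfsg.Agent.Helper16.DT Polynomial Matrix

universe u v w

section FieldK

variable {K : Type v} [Field K] {G : Type u} [Group G]

/-- the representation on `Fin n → K` of a matrix representation -/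
noncomputable def DEN_rep {n : ℕ} (ρ : G →* Matrix (Fin n) (Fin n) K) :
    Representation K G (Fin n → K) where
  toFun g := Matrix.toLin' (ρ g)
  map_one' := by rw [map_one, Matrix.toLin'_one]; rfl
  map_mul' g h := by rw [map_mul, Matrix.toLin'_mul]; rfl

theorem DEN_rep_apply {n : ℕ} (ρ : G →* Matrix (Fin n) (Fin n) K) (g : G) (v : Fin n → K) :
    DEN_rep ρ g v = (ρ g).mulVec v := rfl

/-- an irreducible matrix representation gives an irreducible representation -/
theorem DEN_isIrreducible {n : ℕ} (ρ : G →* Matrix (Fin n) (Fin n) K) (h : IsIrredMat ρ) :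
    (DEN_rep ρ).IsIrreducible := by
  obtain ⟨hne, hW⟩ := h
  refine { exists_pair_ne := ?_, eq_bot_or_eq_top := ?_ }
  · refine ⟨⊥, ⊤, ?_⟩
    intro hbt
    have h1 : (⊥ : Subrepresentation (DEN_rep ρ)).toSubmodule =
        (⊤ : Subrepresentation (DEN_rep ρ)).toSubmodule := congrArg _ hbt
    have h2 : (⊥ : Submodule K (Fin n → K)) = ⊤ := h1
    obtain ⟨a⟩ := hne
    have h3 : (Pi.single a 1 : Fin n → K) ∈ (⊥ : Submodule K (Fin n → K)) := by
      rw [h2]; exact Submodule.mem_top
    rw [Submodule.mem_bot] at h3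
    have h4 := congrFun h3 a
    rw [Pi.single_eq_same, Pi.zero_apply] at h4
    exact one_ne_zero h4
  · intro W
    rcases hW W.toSubmodule (fun g w hw => W.apply_mem_toSubmodule g hw) with h | h
    · left; exact Subrepresentation.toSubmodule_injective h
    · right; exact Subrepresentation.toSubmodule_injective h

/-- the action of `single g 1` -/
theorem DEN_single_smul {n : ℕ} (ρ : G →* Matrix (Fin n) (Fin n) K) (g : G)
    (v : (DEN_rep ρ).asModule) :
    MonoidAlgebra.single g (1 : K) • v =
      (DEN_rep ρ).asModuleEquiv.symm ((ρ g).mulVec ((DEN_rep ρ).asModuleEquiv v)) := by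
  rw [Representation.single_smul, one_smul]
  rfl

/-- Schur's lemma for two irreducible matrix representations: a nonzero homomorphism of
`K[G]`-modules gives an equivalence -/
theorem DEN_matEquiv_of_ne_zero {n m : ℕ} (ρ : G →* Matrix (Fin n) (Fin n) K)
    (σ : G →* Matrix (Fin m) (Fin m) K) (hρ : IsIrredMat ρ) (hσ : IsIrredMat σ)
    (e : (DEN_rep σ).asModule →ₗ[MonoidAlgebra K G] (DEN_rep ρ).asModule) (he : e ≠ 0) :
    MatEquiv ρ σ := by
  have iρ := DEN_isIrreducible ρ hρ
  have iσ := DEN_isIrreducible σ hσ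
  have hbij : Function.Bijective e := (LinearMap.bijective_or_eq_zero e).resolve_right he
  -- the underlying `K`-linear map
  let eK : (Fin m → K) →ₗ[K] (Fin n → K) :=
    (DEN_rep ρ).asModuleEquiv.toLinearMap ∘ₗ (e.restrictScalars K) ∘ₗ
      (DEN_rep σ).asModuleEquiv.symm.toLinearMap
  have hbK : Function.Bijective eK := hbij
  have hint : ∀ g v, eK ((σ g).mulVec v) = (ρ g).mulVec (eK v) := by
    intro g v
    have h1 := e.map_smul (MonoidAlgebra.single g (1 : K)) ((DEN_rep σ).asModuleEquiv.symm v)
    rw [DEN_single_smul, DEN_single_smul] at h1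
    exact h1
  let E : (Fin m → K) ≃ₗ[K] (Fin n → K) := LinearEquiv.ofBijective eK hbK
  have hE : ∀ v, E v = eK v := fun v => rfl
  have h2 : LinearMap.toMatrix' eK * LinearMap.toMatrix' E.symm.toLinearMap = 1 := by
    rw [← LinearMap.toMatrix'_comp, ← LinearMap.toMatrix'_id]
    congr 1
    refine LinearMap.ext fun v => ?_
    rw [LinearMap.comp_apply, LinearEquiv.coe_coe, ← hE, LinearEquiv.apply_symm_apply,
      LinearMap.id_apply]
  have h3 : LinearMap.toMatrix' E.symm.toLinearMap * LinearMap.toMatrix' eK = 1 := by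
    rw [← LinearMap.toMatrix'_comp, ← LinearMap.toMatrix'_id]
    congr 1
    refine LinearMap.ext fun v => ?_
    rw [LinearMap.comp_apply, LinearEquiv.coe_coe, ← hE, LinearEquiv.symm_apply_apply,
      LinearMap.id_apply]
  refine ⟨LinearMap.toMatrix' eK, LinearMap.toMatrix' E.symm.toLinearMap, h2, h3, ?_⟩
  intro g
  have h1 : LinearMap.toMatrix' eK * σ g = ρ g * LinearMap.toMatrix' eK := by
    apply Matrix.toLin'.injective
    rw [Matrix.toLin'_mul, Matrix.toLin'_mul, Matrix.toLin'_toMatrix']
    refine LinearMap.ext fun v => ?_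
    exact hint g v
  rw [h1, Matrix.mul_assoc, h2, Matrix.mul_one]

/-- Schur's lemma over an algebraically closed field: an endomorphism of the `K[G]`-module of an
irreducible matrix representation is a scalar -/
theorem DEN_end_scalar [IsAlgClosed K] {n : ℕ} (ρ : G →* Matrix (Fin n) (Fin n) K)
    (hρ : IsIrredMat ρ)
    (e : (DEN_rep ρ).asModule →ₗ[MonoidAlgebra K G] (DEN_rep ρ).asModule) :
    ∃ c : K, ∀ v, e v = c • v := by
  have iρ := DEN_isIrreducible ρ hρ
  obtain ⟨c, hc⟩ := (IsSimpleModule.algebraMap_end_bijective_of_isAlgClosed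
    (A := MonoidAlgebra K G) (V := (DEN_rep ρ).asModule) K).2 e
  refine ⟨c, fun v => ?_⟩
  rw [← hc, Module.algebraMap_end_apply]

/-- the action of an element of the group algebra is `gaAct` -/
theorem DEN_asAlgebraHom [Fintype G] {n : ℕ} (ρ : G →* Matrix (Fin n) (Fin n) K)
    (x : MonoidAlgebra K G) :
    (DEN_rep ρ).asAlgebraHom x = Matrix.toLin' (gaAct ρ (fun g => x.coeff g)) := by
  rw [Representation.asAlgebraHom_def, MonoidAlgebra.lift_apply,
    Finsupp.sum_fintype x.coeff (fun a b => b • (DEN_rep ρ) a) (fun g => zero_smul _ _)]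
  unfold gaAct
  rw [map_sum]
  refine Finset.sum_congr rfl fun g _ => ?_
  rw [map_smul]
  rfl

theorem DEN_smul_eq [Fintype G] {n : ℕ} (ρ : G →* Matrix (Fin n) (Fin n) K)
    (x : MonoidAlgebra K G) (v : (DEN_rep ρ).asModule) :
    (DEN_rep ρ).asModuleEquiv (x • v) =
      (gaAct ρ (fun g => x.coeff g)).mulVec ((DEN_rep ρ).asModuleEquiv v) := by
  rw [Representation.asModuleEquiv_map_smul, DEN_asAlgebraHom]
  rfl

/-- the `K[G]`-module of the `i`-th representation -/
abbrev DEN_V {r : ℕ} {d : Fin r → ℕ} (ρ : ∀ i, G →* Matrix (Fin (d i)) (Fin (d i)) K)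
    (i : Fin r) : Type v := (DEN_rep (ρ i)).asModule

/-- every endomorphism of the product module acts by a scalar on each factor -/
theorem DEN_end_prod [IsAlgClosed K] {r : ℕ} {d : Fin r → ℕ}
    (ρ : ∀ i, G →* Matrix (Fin (d i)) (Fin (d i)) K) (hirr : ∀ i, IsIrredMat (ρ i))
    (hne : ∀ i j, i ≠ j → ¬ MatEquiv (ρ i) (ρ j))
    (φ : Module.End (MonoidAlgebra K G) (∀ i, DEN_V ρ i)) :
    ∃ c : Fin r → K, ∀ (m : ∀ i, DEN_V ρ i) (i : Fin r), φ m i = c i • m i := by
  classical
  let comp : ∀ i j, DEN_V ρ j →ₗ[MonoidAlgebra K G] DEN_V ρ i := fun i j =>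
    (LinearMap.proj i) ∘ₗ φ ∘ₗ (LinearMap.single (MonoidAlgebra K G) (DEN_V ρ) j)
  have hcomp : ∀ i j (v : DEN_V ρ j), comp i j v = φ (Pi.single j v) i := fun i j v => rfl
  have h0 : ∀ i j, i ≠ j → comp i j = 0 := by
    intro i j hij
    by_contra hne0
    exact hne i j hij (DEN_matEquiv_of_ne_zero (ρ i) (ρ j) (hirr i) (hirr j) (comp i j) hne0)
  choose c hc using fun i => DEN_end_scalar (ρ i) (hirr i) (comp i i)
  refine ⟨c, fun m i => ?_⟩
  have hm : m = ∑ j, Pi.single j (m j) := (Finset.univ_sum_single m).symm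
  calc φ m i = φ (∑ j, Pi.single j (m j)) i := by rw [← hm]
    _ = ∑ j, φ (Pi.single j (m j)) i := by rw [map_sum, Finset.sum_apply]
    _ = ∑ j, comp i j (m j) := rfl
    _ = comp i i (m i) := by
        refine Finset.sum_eq_single i (fun j _ hji => ?_) (fun h => absurd (Finset.mem_univ i) h)
        rw [h0 i j (Ne.symm hji)]
        rfl
    _ = c i • m i := hc i (m i)

/-- (DEN) the density theorem for pairwise inequivalent irreducible matrix representations over an
algebraically closed field. -/
theorem density [IsAlgClosed K] [Fintype G] {r : ℕ} (d : Fin r → ℕ)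
    (ρ : ∀ i, G →* Matrix (Fin (d i)) (Fin (d i)) K) (hirr : ∀ i, IsIrredMat (ρ i))
    (hne : ∀ i j, i ≠ j → ¬ MatEquiv (ρ i) (ρ j))
    (A : ∀ i, Matrix (Fin (d i)) (Fin (d i)) K) : ∃ x : G → K, ∀ i, gaAct (ρ i) x = A i := by
  classical
  have iV : ∀ i, (DEN_rep (ρ i)).IsIrreducible := fun i => DEN_isIrreducible (ρ i) (hirr i)
  -- the map given by the `A i`
  let F : (∀ i, DEN_V ρ i) → (∀ i, DEN_V ρ i) := fun m i =>
    (DEN_rep (ρ i)).asModuleEquiv.symm ((A i).mulVec ((DEN_rep (ρ i)).asModuleEquiv (m i)))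
  have hF : ∀ m i, F m i = (A i).mulVec (m i) := fun m i => rfl
  let f : Module.End (Module.End (MonoidAlgebra K G) (∀ i, DEN_V ρ i)) (∀ i, DEN_V ρ i) :=
    { toFun := F
      map_add' := by
        intro m m'
        funext i
        show (A i).mulVec (m i + m' i) = (A i).mulVec (m i) + (A i).mulVec (m' i)
        exact Matrix.mulVec_add _ _ _
      map_smul' := by
        intro φ m
        obtain ⟨c, hc⟩ := DEN_end_prod ρ hirr hne φ
        funext i
        show F (φ m) i = φ (F m) i
        rw [hc (F m) i]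
        show (A i).mulVec (φ m i) = c i • (A i).mulVec (m i)
        rw [hc m i]
        exact Matrix.mulVec_smul _ _ _ }
  have hf : ∀ m, f m = F m := fun m => rfl
  -- the standard basis
  let s : Finset (∀ i, DEN_V ρ i) := Finset.univ.image
    (fun p : (Σ i, Fin (d i)) => (Pi.single p.1
      ((DEN_rep (ρ p.1)).asModuleEquiv.symm (Pi.single p.2 (1 : K))) : ∀ i, DEN_V ρ i))
  obtain ⟨x, hx⟩ := jacobson_density f s
  refine ⟨fun g => x.coeff g, fun i => ?_⟩
  ext a b
  have hmem : (Pi.single i ((DEN_rep (ρ i)).asModuleEquiv.symm (Pi.single b (1 : K))) :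
      ∀ i, DEN_V ρ i) ∈ s :=
    Finset.mem_image.mpr ⟨⟨i, b⟩, Finset.mem_univ _, rfl⟩
  have h1 := congrFun (hx _ hmem) i
  rw [hf, hF, Pi.smul_apply, Pi.single_eq_same] at h1
  have h2 := DEN_smul_eq (ρ i) x ((DEN_rep (ρ i)).asModuleEquiv.symm (Pi.single b (1 : K)))
  have h3 : (A i).mulVec (Pi.single b (1 : K)) =
      (gaAct (ρ i) (fun g => x.coeff g)).mulVec (Pi.single b (1 : K)) := h1.trans h2
  rw [Matrix.mulVec_single_one, Matrix.mulVec_single_one] at h3
  exact (congrFun h3 a).symm

end FieldK

end Cfsg.Agent.Helper66.DT
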