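import Mathlib
import Cfsg.Agent.Helper66.DZFiber
import Cfsg.Agent.Helper79.ClassMult
import Cfsg.Agent.Helper78.Residue
import Cfsg.Agent.Helper74.DefectZero
import Cfsg.Agent.Helper74.DegP
import Cfsg.Agent.Helper81.GlaubP2

/-!
# Characters of `2`-defect zero and elements of order three (helper66)

If `x₁, …, x_r` represent the classes of elements of order three normalising no nontrivial
`2`-subgroup, then modulo a maximal ideal over `2`

  `δ_{ij} ≡ #{(g, h) : x_i^g x_i^h = x_j⁻¹} = ∑_χ (|G| / χ(1)) χ(x_i)² χ(x_j)`,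

and only the characters of `2`-defect zero contribute on the right.  So the identity matrix of size
`r` factors through a space of dimension the number of such characters.
-/

set_option autoImplicit false

namespace Cfsg.Agent.Helper66.DZ

open Cfsg Cfsg.Agent.Helper78
open scoped ComplexConjugate

section group

variable {G : Type*} [Group G] [Finite G]

theorem odd_card_centralizer {x : G}
    (hno : ∀ Q : Subgroup G, IsPGroup 2 ↥Q → x ∈ Subgroup.normalizer (Q : Set G) → Q = ⊥) :
    ¬ 2 ∣ Nat.card (Subgroup.centralizer ({x} : Set G)) := by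
  intro h2
  haveI : Fact (Nat.Prime 2) := ⟨Nat.prime_two⟩
  obtain ⟨t, ht⟩ := exists_prime_orderOf_dvd_card' 2 h2
  have htt : (t : G) * (t : G) = 1 := by
    have h := pow_orderOf_eq_one t
    rw [ht, pow_two] at h
    exact congrArg Subtype.val h
  have hcomm : Commute x (t : G) := by
    have h := t.2
    rw [Subgroup.mem_centralizer_singleton_iff] at h
    exact h.symm
  have hQ := hno (Subgroup.zpowers (t : G)) (isPGroup_two_zpowers htt)
    (mem_normalizer_zpowers_of_commute hcomm)
  have hmem : (t : G) ∈ (⊥ : Subgroup G) := hQ ▸ Subgroup.mem_zpowers _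
  have ht1 : t = 1 := Subtype.ext (Subgroup.mem_bot.1 hmem)
  rw [ht1, orderOf_one] at ht
  exact absurd ht (by norm_num)

omit [Finite G] in
theorem braid_class {x : G} (hx : x * x * x = 1)
    (hno : ∀ Q : Subgroup G, IsPGroup 2 ↥Q → x ∈ Subgroup.normalizer (Q : Set G) → Q = ⊥) :
    ∀ u v : G, IsConj x u → IsConj x v → u * v * u = v * u * v → u = v := by
  intro u v hu hv hbr
  obtain ⟨g, hg⟩ := isConj_iff.1 hu
  have hv3 := cube_of_isConj hx hv
  have hv'3 : (g⁻¹ * v * g) * (g⁻¹ * v * g) * (g⁻¹ * v * g) = 1 := by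
    calc (g⁻¹ * v * g) * (g⁻¹ * v * g) * (g⁻¹ * v * g) = g⁻¹ * (v * v * v) * g := by group
      _ = 1 := by rw [hv3]; group
  have hbr' : x * (g⁻¹ * v * g) * x = (g⁻¹ * v * g) * x * (g⁻¹ * v * g) := by
    have hxu : x = g⁻¹ * u * g := by rw [← hg]; group
    calc x * (g⁻¹ * v * g) * x = g⁻¹ * (u * v * u) * g := by rw [hxu]; group
      _ = g⁻¹ * (v * u * v) * g := by rw [hbr]
      _ = (g⁻¹ * v * g) * x * (g⁻¹ * v * g) := by rw [hxu]; group
  have h := eq_of_braid hx hv'3 hbr' hno
  rw [← hg, h]
  group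

end group

theorem natCast_eq_of_zmod_two {F : Type*} [Ring F] [CharP F 2] {n b : ℕ}
    (h : (n : ZMod 2) = (b : ZMod 2)) : (n : F) = (b : F) := by
  rw [ZMod.natCast_eq_natCast_iff] at h
  exact (CharP.natCast_eq_natCast F 2).2 h

section key

variable {G : Type*} [Group G] [Fintype G] [Fintype (IrrCharacter G)]

open Classical in
/-- The key congruence. -/
theorem key_identity (M : Ideal AlgInt) (hM : IsPModular 2 M) [hMp : M.IsPrime] (x y : G)
    (hx3 : x * x * x = 1) (hy3 : y * y * y = 1)
    (hno : ∀ Q : Subgroup G, IsPGroup 2 ↥Q → x ∈ Subgroup.normalizer (Q : Set G) → Q = ⊥) :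
    ∑ χ : IrrCharacter G,
      resMap M (((Nat.card G / charDegree (χ : G → ℂ) : ℕ) : ℂ) *
        ((χ : G → ℂ) x * (χ : G → ℂ) x)) * resMap M ((χ : G → ℂ) y) =
      if IsConj x y then 1 else 0 := by
  haveI : CharP (ResField M) 2 := resField_charP hM
  set T : ℕ := (Finset.univ.filter
    (fun ab : G × G => ab.1 * x * ab.1⁻¹ * (ab.2 * x * ab.2⁻¹) = y⁻¹)).card with hT
  -- parity of `T`
  have hc3 : y⁻¹ * y⁻¹ * y⁻¹ = 1 := by
    calc y⁻¹ * y⁻¹ * y⁻¹ = (y * y * y)⁻¹ := by group
      _ = 1 := by rw [hy3, inv_one]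
  have hpar : ((T : ℕ) : ZMod 2) = if IsConj x y then 1 else 0 := by
    rw [hT, card_conjugator_pairs_parity x y⁻¹ (odd_card_centralizer hno),
      card_Sol_parity x y⁻¹ hx3 hc3 (braid_class hx3 hno), inv_inv]
  have hTF : ((T : ℕ) : ResField M) = if IsConj x y then 1 else 0 := by
    by_cases hxy : IsConj x y
    · rw [if_pos hxy] at hpar ⊢
      have := natCast_eq_of_zmod_two (F := ResField M) (n := T) (b := 1) (by rw [hpar]; simp)
      simpa using this
    · rw [if_neg hxy] at hpar ⊢
      have := natCast_eq_of_zmod_two (F := ResField M) (n := T) (b := 0) (by rw [hpar]; simp)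
      simpa using this
  -- the character formula
  have hform : ((T : ℕ) : ℂ) = ∑ χ : IrrCharacter G,
      ((Nat.card G / charDegree (χ : G → ℂ) : ℕ) : ℂ) *
        ((χ : G → ℂ) x * (χ : G → ℂ) x) * (χ : G → ℂ) y := by
    rw [hT, Helper79.card_conj_mul_conj_eq x x y⁻¹, Finset.mul_sum]
    refine Finset.sum_congr rfl (fun χ _ => ?_)
    have hd : charDegree (χ : G → ℂ) ∣ Nat.card G := Helper74.charDegree_dvd_card χ
    have h1 : (χ : G → ℂ) 1 = (charDegree (χ : G → ℂ) : ℂ) := Helper79.irr_one χ
    have h1ne : (charDegree (χ : G → ℂ) : ℂ) ≠ 0 := by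
      rw [← h1]; exact Helper79.irr_one_ne_zero χ
    have hG : (Nat.card G : ℂ) =
        ((Nat.card G / charDegree (χ : G → ℂ) : ℕ) : ℂ) * (charDegree (χ : G → ℂ) : ℂ) := by
      rw [← Nat.cast_mul, Nat.div_mul_cancel hd]
    have hinv : conj ((χ : G → ℂ) y⁻¹) = (χ : G → ℂ) y := by
      rw [Helper79.irr_inv, Complex.conj_conj]
    rw [hinv, h1, hG]
    field_simp
  -- reduce modulo `M`
  have hint : ∀ (χ : IrrCharacter G) (g : G), MemLocalRing M ((χ : G → ℂ) g) := fun χ g =>
    memLocalRing_of_isIntegral hMp (Helper81.irr_isIntegral χ g)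
  have hint2 : ∀ χ : IrrCharacter G, MemLocalRing M
      (((Nat.card G / charDegree (χ : G → ℂ) : ℕ) : ℂ) * ((χ : G → ℂ) x * (χ : G → ℂ) x)) :=
    fun χ => memLocalRing_mul hMp (memLocalRing_natCast hMp _)
      (memLocalRing_mul hMp (hint χ x) (hint χ x))
  have hres := congrArg (resMap M) hform
  rw [resMap_natCast, resMap_sum] at hres
  · rw [← hTF, hres]
    refine Finset.sum_congr rfl (fun χ _ => ?_)
    exact (resMap_mul (hint2 χ) (hint χ y)).symm
  · intro χ _
    exact memLocalRing_mul hMp (hint2 χ) (hint χ y)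

end key


section final

variable {G : Type*} [Group G] [Finite G]

theorem two_dvd_div_of_factorization_ne {n d : ℕ} (hn : n ≠ 0) (hd : d ∣ n)
    (hne : d.factorization 2 ≠ n.factorization 2) : 2 ∣ n / d := by
  have hd0 : d ≠ 0 := fun h => hn (by rw [h] at hd; exact zero_dvd_iff.1 hd)
  have hle : d.factorization 2 ≤ n.factorization 2 :=
    (Nat.factorization_le_iff_dvd hd0 hn).2 hd 2
  have hlt : d.factorization 2 < n.factorization 2 := lt_of_le_of_ne hle hne
  apply Nat.dvd_of_factorization_pos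
  rw [Nat.factorization_div hd]
  simp only [Finsupp.coe_tsub, Pi.sub_apply]
  omega

/-- **Defect zero characters and elements of order three** (the statement of `S4737` without the
superfluous hypothesis `6 ∣ |G|`). -/
theorem card_classes_le_card_defect_zero :
    Nat.card {C : ConjClasses G // ∃ g ∈ C.carrier, orderOf g = 3 ∧
      ∀ Q : Subgroup G, IsPGroup 2 ↥Q → g ∈ Subgroup.normalizer (Q : Set G) → Q = ⊥} ≤
    Nat.card {χ : IrrCharacter G //
      (charDegree (χ : G → ℂ)).factorization 2 = (Nat.card G).factorization 2} := by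
  classical
  haveI : Fintype G := Fintype.ofFinite G
  haveI : Finite (IrrCharacter G) := Helper79.irr_finite'
  haveI : Fintype (IrrCharacter G) := Fintype.ofFinite _
  obtain ⟨M, hM⟩ := Helper74.exists_isPModular 2 Nat.prime_two
  haveI hMp : M.IsPrime := isPrime_of_isPModular hM
  haveI : CharP (ResField M) 2 := resField_charP hM
  haveI : Fintype {C : ConjClasses G // ∃ g ∈ C.carrier, orderOf g = 3 ∧
      ∀ Q : Subgroup G, IsPGroup 2 ↥Q → g ∈ Subgroup.normalizer (Q : Set G) → Q = ⊥} :=
    Fintype.ofFinite _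
  haveI : Fintype {χ : IrrCharacter G //
      (charDegree (χ : G → ℂ)).factorization 2 = (Nat.card G).factorization 2} :=
    Fintype.ofFinite _
  rw [Nat.card_eq_fintype_card, Nat.card_eq_fintype_card]
  choose rep hrep using (fun i : {C : ConjClasses G // ∃ g ∈ C.carrier, orderOf g = 3 ∧
      ∀ Q : Subgroup G, IsPGroup 2 ↥Q → g ∈ Subgroup.normalizer (Q : Set G) → Q = ⊥} => i.2)
  have hconj : ∀ i j, IsConj (rep i) (rep j) ↔ i = j := by
    intro i j
    have hi := (hrep i).1
    have hj := (hrep j).1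
    rw [ConjClasses.mem_carrier_iff_mk_eq] at hi hj
    constructor
    · intro h
      apply Subtype.ext
      rw [← hi, ← hj]
      exact ConjClasses.mk_eq_mk_iff_isConj.2 h
    · rintro rfl
      exact IsConj.refl _
  have hcube : ∀ i, rep i * rep i * rep i = 1 := by
    intro i
    have h := pow_orderOf_eq_one (rep i)
    rw [(hrep i).2.1, pow_succ, pow_two] at h
    exact h
  set A : Matrix {C : ConjClasses G // ∃ g ∈ C.carrier, orderOf g = 3 ∧
      ∀ Q : Subgroup G, IsPGroup 2 ↥Q → g ∈ Subgroup.normalizer (Q : Set G) → Q = ⊥}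
      {χ : IrrCharacter G //
        (charDegree (χ : G → ℂ)).factorization 2 = (Nat.card G).factorization 2}
      (ResField M) := fun i s =>
    resMap M (((Nat.card G / charDegree (s.1 : G → ℂ) : ℕ) : ℂ) *
      ((s.1 : G → ℂ) (rep i) * (s.1 : G → ℂ) (rep i))) with hA
  set B : Matrix {χ : IrrCharacter G //
        (charDegree (χ : G → ℂ)).factorization 2 = (Nat.card G).factorization 2}
      {C : ConjClasses G // ∃ g ∈ C.carrier, orderOf g = 3 ∧
      ∀ Q : Subgroup G, IsPGroup 2 ↥Q → g ∈ Subgroup.normalizer (Q : Set G) → Q = ⊥}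
      (ResField M) := fun s j => resMap M ((s.1 : G → ℂ) (rep j)) with hB
  have hAB : A * B = 1 := by
    ext i j
    rw [Matrix.mul_apply, Matrix.one_apply]
    have key := key_identity M hM (rep i) (rep j) (hcube i) (hcube j) (hrep i).2.2
    simp only [hconj] at key
    rw [← key]
    rw [← Finset.sum_subtype (Finset.univ.filter (fun χ : IrrCharacter G =>
      (charDegree (χ : G → ℂ)).factorization 2 = (Nat.card G).factorization 2))
      (fun χ => by simp)
      (fun χ => resMap M (((Nat.card G / charDegree (χ : G → ℂ) : ℕ) : ℂ) *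
        ((χ : G → ℂ) (rep i) * (χ : G → ℂ) (rep i))) * resMap M ((χ : G → ℂ) (rep j)))]
    rw [Finset.sum_filter]
    refine Finset.sum_congr rfl (fun χ _ => ?_)
    split_ifs with hχ
    · rfl
    · have h2 : 2 ∣ Nat.card G / charDegree (χ : G → ℂ) :=
        two_dvd_div_of_factorization_ne Nat.card_pos.ne' (Helper74.charDegree_dvd_card χ) hχ
      have hint : ∀ g : G, MemLocalRing M ((χ : G → ℂ) g) := fun g =>
        memLocalRing_of_isIntegral hMp (Helper81.irr_isIntegral χ g)
      rw [resMap_mul (memLocalRing_natCast hMp _) (memLocalRing_mul hMp (hint _) (hint _)),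
        resMap_natCast, (resMap_natCast_eq_zero_iff hM _).2 h2, zero_mul, zero_mul]
  calc Fintype.card {C : ConjClasses G // ∃ g ∈ C.carrier, orderOf g = 3 ∧
      ∀ Q : Subgroup G, IsPGroup 2 ↥Q → g ∈ Subgroup.normalizer (Q : Set G) → Q = ⊥}
      = (1 : Matrix _ _ (ResField M)).rank := Matrix.rank_one.symm
    _ = (A * B).rank := by rw [hAB]
    _ ≤ A.rank := Matrix.rank_mul_le_left A B
    _ ≤ Fintype.card {χ : IrrCharacter G //
        (charDegree (χ : G → ℂ)).factorization 2 = (Nat.card G).factorization 2} :=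
      Matrix.rank_le_card_width A

end final

end Cfsg.Agent.Helper66.DZ
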