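import Mathlib
import Cfsg.Prelude.Def_SporadicB
import Cfsg.Agent.S0891
import Cfsg.Agent.Helper66.SchurCover

/-!
# A non-split double cover of `Alt(8)` with two involutions (S0447, part 2)
-/

set_option autoImplicit false

namespace Cfsg.Agent.Helper66

open Subgroup
open scoped commutatorElement

theorem anticomm_of_sq {Γ : Type*} [Group Γ] {z s t : Γ} (hzc : z ∈ center Γ) (hzz : z * z = 1)
    (hs : s * s = z) (ht : t * t = z) (hst : (s * t) * (s * t) = z) : t * s = z * (s * t) := by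
  have h1 : t * s * t = s := by
    have : s * (t * s * t) = s * s := by
      rw [hs, ← hst]; group
    exact mul_left_cancel this
  have h2 : t * s * z = s * t := by
    rw [← ht, ← mul_assoc, h1]
  have hzinv : z⁻¹ = z := inv_eq_of_mul_eq_one_right hzz
  have h3 : t * s = s * t * z := by
    rw [← h2, mul_assoc, hzz, mul_one]
  rw [h3]
  exact mem_center_iff.mp hzc (s * t)

theorem mem_zpowers_of_orderOf_two {Γ : Type*} [Group Γ] {z x : Γ} (hz : orderOf z = 2)
    (hx : x ∈ zpowers z) : x = 1 ∨ x = z := by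
  obtain ⟨k, rfl⟩ := mem_zpowers_iff.mp hx
  rw [← zpow_mod_orderOf, hz]
  have h1 : (0 : ℤ) ≤ k % 2 := Int.emod_nonneg k (by norm_num)
  have h2 : k % 2 < 2 := Int.emod_lt_of_pos k (by norm_num)
  have h3 : k % ((2 : ℕ) : ℤ) = 0 ∨ k % ((2 : ℕ) : ℤ) = 1 := by
    push_cast
    omega
  rcases h3 with h | h
  · left; rw [h, zpow_zero]
  · right; rw [h, zpow_one]

/-- A central extension by a group of order two of a group containing an elementary abelian subgroup
of order eight has a non-central involution. -/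
theorem exists_involution_ne {Γ Q : Type*} [Group Γ] [Group Q] (π : Γ →* Q)
    (hπ : Function.Surjective π) (z : Γ) (hz : orderOf z = 2) (hzc : z ∈ center Γ)
    (hker : π.ker = zpowers z) (u v w : Q) (hu : u * u = 1) (hv : v * v = 1) (hw : w * w = 1)
    (huv : u * v = v * u) (huw : u * w = w * u) (hvw : v * w = w * v)
    (hu1 : u ≠ 1) (hv1 : v ≠ 1) (hw1 : w ≠ 1) (huv' : u ≠ v) (huw' : u ≠ w) (hvw' : v ≠ w)
    (huvw : u ≠ v * w) : ∃ x : Γ, orderOf x = 2 ∧ x ≠ z := by
  by_contra hcon
  have huniq : ∀ x : Γ, orderOf x = 2 → x = z := by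
    intro x hx
    by_contra hne
    exact hcon ⟨x, hx, hne⟩
  have hzz : z * z = 1 := by rw [← pow_two, ← hz, pow_orderOf_eq_one]
  have hz1 : z ≠ 1 := by
    intro h
    rw [h, orderOf_one] at hz
    norm_num at hz
  have hπz : π z = 1 := by
    rw [← MonoidHom.mem_ker, hker]
    exact mem_zpowers z
  have hlift : ∀ t : Q, t ≠ 1 → t * t = 1 → ∀ t' : Γ, π t' = t → t' * t' = z := by
    intro t ht1 htt t' ht'
    have hmem : t' * t' ∈ zpowers z := by
      rw [← hker, MonoidHom.mem_ker, map_mul, ht', htt]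
    rcases mem_zpowers_of_orderOf_two hz hmem with h | h
    · exfalso
      have ht'1 : t' ≠ 1 := by
        intro h1
        rw [h1, map_one] at ht'
        exact ht1 ht'.symm
      have : Fact (Nat.Prime 2) := ⟨Nat.prime_two⟩
      have ho : orderOf t' = 2 := orderOf_eq_prime (by rw [pow_two]; exact h) ht'1
      have := huniq t' ho
      rw [this, hπz] at ht'
      exact ht1 ht'.symm
    · exact h
  obtain ⟨u', rfl⟩ := hπ u
  obtain ⟨v', rfl⟩ := hπ v
  obtain ⟨w', rfl⟩ := hπ w
  have hu2 := hlift _ hu1 hu u' rfl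
  have hv2 := hlift _ hv1 hv v' rfl
  have hw2 := hlift _ hw1 hw w' rfl
  -- products of two distinct commuting involutions are involutions
  have prod_inv : ∀ a b : Q, a * a = 1 → b * b = 1 → a * b = b * a → (a * b) * (a * b) = 1 := by
    intro a b ha hb hab
    calc a * b * (a * b) = a * (b * a) * b := by group
      _ = a * (a * b) * b := by rw [hab]
      _ = (a * a) * (b * b) := by group
      _ = 1 := by rw [ha, hb, one_mul]
  have prod_ne : ∀ a b : Q, b * b = 1 → a ≠ b → a * b ≠ 1 := by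
    intro a b hb hab h
    apply hab
    calc a = a * (b * b) := by rw [hb, mul_one]
      _ = (a * b) * b := by group
      _ = b := by rw [h, one_mul]
  have huv2 : (u' * v') * (u' * v') = z :=
    hlift _ (prod_ne _ _ hv huv') (prod_inv _ _ hu hv huv) (u' * v') (map_mul _ _ _)
  have huw2 : (u' * w') * (u' * w') = z :=
    hlift _ (prod_ne _ _ hw huw') (prod_inv _ _ hu hw huw) (u' * w') (map_mul _ _ _)
  have hvw2 : (v' * w') * (v' * w') = z :=
    hlift _ (prod_ne _ _ hw hvw') (prod_inv _ _ hv hw hvw) (v' * w') (map_mul _ _ _)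
  have hcomm_uvw : π u' * (π v' * π w') = (π v' * π w') * π u' := by
    calc π u' * (π v' * π w') = (π u' * π v') * π w' := by group
      _ = (π v' * π u') * π w' := by rw [huv]
      _ = π v' * (π u' * π w') := by group
      _ = π v' * (π w' * π u') := by rw [huw]
      _ = (π v' * π w') * π u' := by group
  have hvwvw : (π v' * π w') * (π v' * π w') = 1 := prod_inv _ _ hv hw hvw
  have hu_vw2 : (u' * (v' * w')) * (u' * (v' * w')) = z := by
    refine hlift _ (prod_ne _ _ hvwvw huvw) (prod_inv _ _ hu hvwvw hcomm_uvw) _ ?_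
    rw [map_mul, map_mul]
  -- anticommutation relations
  have a1 : v' * u' = z * (u' * v') := anticomm_of_sq hzc hzz hu2 hv2 huv2
  have a2 : w' * u' = z * (u' * w') := anticomm_of_sq hzc hzz hu2 hw2 huw2
  have a3 : (v' * w') * u' = z * (u' * (v' * w')) := anticomm_of_sq hzc hzz hu2 hvw2 hu_vw2
  have hzcomm : ∀ g : Γ, g * z = z * g := fun g => mem_center_iff.mp hzc g
  have a4 : (v' * w') * u' = u' * (v' * w') := by
    calc v' * w' * u' = v' * (w' * u') := by group
      _ = v' * (z * (u' * w')) := by rw [a2]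
      _ = z * ((v' * u') * w') := by rw [← mul_assoc, hzcomm v']; group
      _ = z * ((z * (u' * v')) * w') := by rw [a1]
      _ = (z * z) * (u' * (v' * w')) := by group
      _ = u' * (v' * w') := by rw [hzz, one_mul]
  rw [a4] at a3
  have : z = 1 := by
    exact mul_right_cancel (b := u' * (v' * w')) (by rw [one_mul]; exact a3.symm)
  exact hz1 this

/-! ### three commuting involutions in `Alt(8)` -/

namespace A8Data

def up : Equiv.Perm (Fin 8) := Equiv.swap 0 1 * Equiv.swap 2 3
def vp : Equiv.Perm (Fin 8) := Equiv.swap 0 2 * Equiv.swap 1 3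
def wp : Equiv.Perm (Fin 8) := Equiv.swap 4 5 * Equiv.swap 6 7

theorem up_mem : up ∈ alternatingGroup (Fin 8) := by
  rw [Equiv.Perm.mem_alternatingGroup]
  unfold up
  rw [Equiv.Perm.sign_mul, Equiv.Perm.sign_swap (by decide), Equiv.Perm.sign_swap (by decide)]
  rfl

theorem vp_mem : vp ∈ alternatingGroup (Fin 8) := by
  rw [Equiv.Perm.mem_alternatingGroup]
  unfold vp
  rw [Equiv.Perm.sign_mul, Equiv.Perm.sign_swap (by decide), Equiv.Perm.sign_swap (by decide)]
  rfl

theorem wp_mem : wp ∈ alternatingGroup (Fin 8) := by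
  rw [Equiv.Perm.mem_alternatingGroup]
  unfold wp
  rw [Equiv.Perm.sign_mul, Equiv.Perm.sign_swap (by decide), Equiv.Perm.sign_swap (by decide)]
  rfl

def u : alternatingGroup (Fin 8) := ⟨up, up_mem⟩
def v : alternatingGroup (Fin 8) := ⟨vp, vp_mem⟩
def w : alternatingGroup (Fin 8) := ⟨wp, wp_mem⟩

theorem facts : u * u = 1 ∧ v * v = 1 ∧ w * w = 1 ∧ u * v = v * u ∧ u * w = w * u ∧ v * w = w * v ∧
    u ≠ 1 ∧ v ≠ 1 ∧ w ≠ 1 ∧ u ≠ v ∧ u ≠ w ∧ v ≠ w ∧ u ≠ v * w := by decide +kernel

end A8Data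

/-- Part 2 of S0447: a non-split double cover of `Alt(8)` with two distinct involutions. -/
theorem exists_nonsplit_double_cover_A8 : ∃ (H : Type) (_ : Group H) (_ : Finite H),
    Cfsg.IsNonsplitDoubleCover H (alternatingGroup (Fin 8)) ∧
      ∃ x y : H, x ≠ y ∧ orderOf x = 2 ∧ orderOf y = 2 := by
  obtain ⟨Γ, hG, hF, z, hz, hz2, hzc, hN, ⟨e⟩⟩ := Cfsg.Agent.S0891.result 8 (by norm_num)
  let π : Γ →* alternatingGroup (Fin 8) := e.toMonoidHom.comp (QuotientGroup.mk' (zpowers z))
  have hπ : Function.Surjective π := e.surjective.comp (QuotientGroup.mk'_surjective _)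
  have hker : π.ker = zpowers z := by
    ext g
    rw [MonoidHom.mem_ker, MonoidHom.comp_apply]
    show e (QuotientGroup.mk' (zpowers z) g) = 1 ↔ _
    rw [e.map_eq_one_iff, QuotientGroup.mk'_apply, QuotientGroup.eq_one_iff]
  have hcenter : center Γ = zpowers z := by
    apply le_antisymm
    · intro g hg
      rw [← hker, MonoidHom.mem_ker]
      have h1 : π g ∈ center (alternatingGroup (Fin 8)) := by
        rw [mem_center_iff]
        intro q
        obtain ⟨q', rfl⟩ := hπ q
        rw [← map_mul, ← map_mul, mem_center_iff.mp hg q']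
      rw [alternatingGroup.center_eq_bot (by simp), mem_bot] at h1
      exact h1
    · rw [zpowers_le]
      exact hz
  refine ⟨Γ, hG, hF, ⟨?_, ⟨(QuotientGroup.quotientMulEquivOfEq hcenter).trans e⟩, ?_⟩, ?_⟩
  · rw [hcenter, Nat.card_zpowers, hz2]
  · -- no complement, since `z` is a product of commutators
    intro L hL
    have hcomm : commutator Γ ≤ L := by
      rw [commutator_def, commutator_le]
      intro g₁ _ g₂ _
      obtain ⟨⟨⟨k₁, hk₁⟩, ⟨l₁, hl₁⟩⟩, rfl⟩ := hL.2 g₁
      obtain ⟨⟨⟨k₂, hk₂⟩, ⟨l₂, hl₂⟩⟩, rfl⟩ := hL.2 g₂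
      show ⁅k₁ * l₁, k₂ * l₂⁆ ∈ L
      rw [← mem_center_iff.mp hk₁ l₁, ← mem_center_iff.mp hk₂ l₂,
        commutatorElement_mul_central l₁ l₂ k₁ k₂ hk₁ hk₂]
      exact commutator_mem_commutator hl₁ hl₂ |> fun h => (commutator_le_self L) h
    have hzL : z ∈ L := hcomm hzc
    have hzK : z ∈ center Γ := hz
    have hdisj := hL.disjoint
    have : z ∈ (center Γ ⊓ L : Subgroup Γ) := ⟨hzK, hzL⟩
    rw [disjoint_iff.mp hdisj, mem_bot] at this
    rw [this, orderOf_one] at hz2
    norm_num at hz2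
  · -- two involutions
    obtain ⟨h1, h2, h3, h4, h5, h6, h7, h8, h9, h10, h11, h12, h13⟩ := A8Data.facts
    obtain ⟨x, hx2, hxz⟩ := exists_involution_ne π hπ z hz2 hz hker A8Data.u A8Data.v A8Data.w
      h1 h2 h3 h4 h5 h6 h7 h8 h9 h10 h11 h12 h13
    exact ⟨x, z, hxz, hx2, hz2⟩

end Cfsg.Agent.Helper66
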