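import Cfsg.Agent.Helper36.E8Odd.Defs2
import Cfsg.Agent.Helper12.E8Inv_RootInj

/-!
S4281 (helper36's E8INV-2 farm), piece (DS) (helper66): representatives of different elements of `W(E₈)` are different
modulo `H`.  Port of `Helper10/F4OddDS.lean`; `rootInjOK chevE8` is helper12's `E8Inv_RootInj`.
-/

set_option autoImplicit false
set_option maxRecDepth 100000

namespace Cfsg.Agent.Helper66.E8Inv2

open Cfsg Cfsg.Lie Cfsg.Agent.Helper18 Cfsg.Agent.Helper18.E8Odd Cfsg.Agent.Helper19.Cox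
  Cfsg.Agent.Helper19.Twist Cfsg.Agent.Helper36.E8Odd

variable {F : Type*} [Field F]

/-- (DS) representatives of different elements of `W` are different modulo `H`. Port of `Helper10/F4OddDS.lean`. -/
theorem nW_dist (w w' : List ℕ) (hw : ∀ i ∈ w, i < 8) (hw' : ∀ i ∈ w', i < 8)
    (h : (nW (F := F) w)⁻¹ * nW w' ∈ chevE8.diagonalSubgroup F) : ∀ x < 240, aW w x = aW w' x := by
  intro x hx
  obtain ⟨c, hc⟩ := (mem_diagonal_iff _).1 h
  have hw'eq : nW (F := F) w' = nW w * tor c := by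
    rw [← hc]
    group
  obtain ⟨hlt, η, hη, hconj⟩ := nW_conj (F := F) w hw x hx
  obtain ⟨hlt', η', hη', hconj'⟩ := nW_conj (F := F) w' hw' x hx
  have e1 : nW (F := F) w' * X x 1 * (nW w')⁻¹ =
      X (rho chevE8 w x) (η * ((chr x c : Fˣ) * 1)) := by
    rw [hw'eq]
    have e : nW w * tor c * X x 1 * (nW w * tor c)⁻¹ =
        nW w * (tor c * X x (1 : F) * (tor c)⁻¹) * (nW w)⁻¹ := by group
    rw [e, tor_conj c x hx, hconj]
  have e2 := hconj' 1
  rw [e1] at e2
  have hη0 : η * (((chr x c : Fˣ) : F) * 1) ≠ 0 := by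
    have h1 : η ≠ 0 := by
      rcases hη with rfl | rfl
      · exact one_ne_zero
      · exact neg_ne_zero.mpr one_ne_zero
    exact mul_ne_zero h1 (mul_ne_zero (Units.ne_zero _) one_ne_zero)
  have hroot : rho chevE8 w x = rho chevE8 w' x :=
    xGL_root_inj chevE8 _ (triOK_of_mem chevE8 hE8) Cfsg.Agent.Helper12.E8Inv.rootInjOK_E8 _ _ hlt hlt' _ _
      hη0 e2
  rw [(aW_eq_rho w hw x hx).1, (aW_eq_rho w' hw' x hx).1, hroot]

end Cfsg.Agent.Helper66.E8Inv2
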