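import Cfsg.Agent.Helper36.E8Odd.Defs2
import Cfsg.Agent.Helper19.Twist.OrdProd

/-!
S4281 (helper36's E8INV-2 farm), piece (PU) (helper66): `U` is generated by the positive root subgroups.
-/

set_option autoImplicit false
set_option maxRecDepth 100000

namespace Cfsg.Agent.Helper66.E8Inv2

open Cfsg Cfsg.Lie Cfsg.Agent.Helper18 Cfsg.Agent.Helper18.E8Odd Cfsg.Agent.Helper19.Cox
  Cfsg.Agent.Helper19.Twist Cfsg.Agent.Helper36.E8Odd

variable {F : Type*} [Field F]

/-- (PU) `U` is generated by the positive root subgroups. Port of `Helper50/F4OddUL.lean`. -/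
theorem pos_eq_list : chevE8.posUnipotent F = listSubgroup chevE8 F chevE8.posRoots := by
  unfold ChevalleyDatum.posUnipotent listSubgroup
  congr 1
  ext g
  constructor
  · rintro ⟨r, t, hr, hg⟩
    refine ⟨r, t, ?_, hg⟩
    unfold ChevalleyDatum.posRoots
    rw [List.mem_filter, List.mem_range]
    exact ⟨hr.1, decide_eq_true hr⟩
  · rintro ⟨r, t, hr, hg⟩
    refine ⟨r, t, ?_, hg⟩
    unfold ChevalleyDatum.posRoots at hr
    rw [List.mem_filter] at hr
    exact of_decide_eq_true hr.2

end Cfsg.Agent.Helper66.E8Inv2
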