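import Cfsg.Agent.Helper36.F4Odd.Defs2

/-!
# S4280 pieces (T1), (T8) for helper36 (#12203): common lemmas

`wcode w` packs the images of the four fundamental roots under the word `w`; a table of words whose codes are pairwise
different consists of words with pairwise different actions.  `sum_pow_eq` turns the sum of `q ^ k` over a list of
exponents into a polynomial with the multiplicities as coefficients.
-/

set_option autoImplicit false
set_option maxRecDepth 100000

namespace Cfsg.Agent.Helper66.F4Odd

open Cfsg Cfsg.Lie Cfsg.Agent.Helper18 Cfsg.Agent.Helper36.F4Odd Cfsg.Agent.Helper19.Twist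

/-- the images of the four fundamental roots `33, 27, 25, 24`, packed -/
def wcode (w : List ℕ) : ℕ := aW w 33 + 48 * (aW w 27 + 48 * (aW w 25 + 48 * aW w 24))

theorem distinct_of_nodup (L : List (List ℕ)) (h : (L.map wcode).Nodup) :
    ∀ i < L.length, ∀ j < L.length,
      (∀ x < 48, aW (L.getD i []) x = aW (L.getD j []) x) → i = j := by
  intro i hi j hj hx
  have hc : wcode (L.getD i []) = wcode (L.getD j []) := by
    unfold wcode
    rw [hx 33 (by norm_num), hx 27 (by norm_num), hx 25 (by norm_num), hx 24 (by norm_num)]
  have hi' : i < (L.map wcode).length := by rw [List.length_map]; exact hi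
  have hj' : j < (L.map wcode).length := by rw [List.length_map]; exact hj
  refine (List.Nodup.getElem_inj_iff h (hi := hi') (hj := hj')).mp ?_
  rw [List.getElem_map, List.getElem_map]
  rw [List.getD_eq_getElem _ _ hi, List.getD_eq_getElem _ _ hj] at hc
  exact hc

theorem sum_pow_eq (L : List ℕ) (n : ℕ) (hL : ∀ k ∈ L, k < n) (q : ℕ) :
    (L.map fun k => q ^ k).sum = ∑ k ∈ Finset.range n, L.count k * q ^ k := by
  rw [Finset.sum_list_map_count]
  simp only [smul_eq_mul]
  apply Finset.sum_subset
  · intro k hk
    rw [List.mem_toFinset] at hk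
    exact Finset.mem_range.mpr (hL k hk)
  · intro k _ hk
    rw [List.mem_toFinset] at hk
    rw [List.count_eq_zero_of_not_mem hk, zero_mul]

end Cfsg.Agent.Helper66.F4Odd
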