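import Mathlib
import Cfsg.Prelude.Def_KGroupFacts

/-!
# Gluing sections of a stem extension over a rank 2 double coset decomposition

Let `σ : Γ → G` be a central extension, `H ≤ G` a subgroup over which `σ` splits (by a section `S`),
`t ∉ H` with `t² ∈ H`, `G = H ∪ H t H`, and `K = H ∩ H^t` with `H = K ∪ K h K`.  If the relation
`t h t = h₁ t h₂` can be read inside a conjugate `H^u` of `H`, `u = h' t`, then the kernel of `σ` is
contained in `E · η(K)`, where `E` is generated by `S(H)` and a lift of `t`, and `η : K → ker σ` is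
the homomorphism measuring the failure of `S` to commute with conjugation by `t`.  In particular for
a stem extension `ker σ = η(K)` is a quotient of `K / K'`.
-/

set_option autoImplicit false

namespace Cfsg.Agent.Helper66

open Subgroup

/-- the data for the gluing argument -/
structure GlueData {Γ G : Type*} [Group Γ] [Group G] (σ : Γ →* G) where
  H : Subgroup G
  S : G → Γ
  sec : ∀ x ∈ H, σ (S x) = x
  S_mul : ∀ x ∈ H, ∀ y ∈ H, S (x * y) = S x * S y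
  t : G
  T : Γ
  σT : σ T = t
  t_nmem : t ∉ H
  tt_mem : t * t ∈ H
  h' : G
  h'_mem : h' ∈ H
  h : G
  h1 : G
  h2 : G
  h_mem : h ∈ H
  h1_mem : h1 ∈ H
  h2_mem : h2 ∈ H
  t_memu : (h' * t)⁻¹ * t * (h' * t) ∈ H
  h_memu : (h' * t)⁻¹ * h * (h' * t) ∈ H
  h1_memu : (h' * t)⁻¹ * h1 * (h' * t) ∈ H
  h2_memu : (h' * t)⁻¹ * h2 * (h' * t) ∈ H
  rel : t * h * t = h1 * t * h2
  decompH : ∀ x ∈ H, t⁻¹ * x * t ∈ H ∨
    ∃ k1 k2, k1 ∈ H ∧ t⁻¹ * k1 * t ∈ H ∧ k2 ∈ H ∧ t⁻¹ * k2 * t ∈ H ∧ x = k1 * h * k2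
  decompG : ∀ g : G, g ∈ H ∨ ∃ x y, x ∈ H ∧ y ∈ H ∧ g = x * t * y

namespace GlueData

variable {Γ G : Type*} [Group Γ] [Group G] {σ : Γ →* G} (D : GlueData σ)

/-- `K = H ∩ t H t⁻¹` -/
def K : Subgroup G where
  carrier := {x | x ∈ D.H ∧ D.t⁻¹ * x * D.t ∈ D.H}
  one_mem' := ⟨D.H.one_mem, by simp [D.H.one_mem]⟩
  mul_mem' := by
    rintro a b ⟨ha, ha'⟩ ⟨hb, hb'⟩
    refine ⟨D.H.mul_mem ha hb, ?_⟩
    have : D.t⁻¹ * (a * b) * D.t = (D.t⁻¹ * a * D.t) * (D.t⁻¹ * b * D.t) := by group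
    rw [this]; exact D.H.mul_mem ha' hb'
  inv_mem' := by
    rintro a ⟨ha, ha'⟩
    refine ⟨D.H.inv_mem ha, ?_⟩
    have : D.t⁻¹ * a⁻¹ * D.t = (D.t⁻¹ * a * D.t)⁻¹ := by group
    rw [this]; exact D.H.inv_mem ha'

theorem mem_K {x : G} : x ∈ D.K ↔ x ∈ D.H ∧ D.t⁻¹ * x * D.t ∈ D.H := Iff.rfl

theorem K_le : D.K ≤ D.H := fun _ hx => hx.1

theorem conj_mem_K {x : G} (hx : x ∈ D.K) : D.t⁻¹ * x * D.t ∈ D.K := by
  refine ⟨hx.2, ?_⟩
  have : D.t⁻¹ * (D.t⁻¹ * x * D.t) * D.t = (D.t * D.t)⁻¹ * x * (D.t * D.t) := by group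
  rw [this]
  exact D.H.mul_mem (D.H.mul_mem (D.H.inv_mem D.tt_mem) hx.1) D.tt_mem

theorem conj_mem_K' {x : G} (hx : x ∈ D.K) : D.t * x * D.t⁻¹ ∈ D.K := by
  have h1 : D.t * x * D.t⁻¹ ∈ D.H := by
    have : D.t * x * D.t⁻¹ = (D.t * D.t) * (D.t⁻¹ * x * D.t) * (D.t * D.t)⁻¹ := by group
    rw [this]
    exact D.H.mul_mem (D.H.mul_mem D.tt_mem hx.2) (D.H.inv_mem D.tt_mem)
  refine ⟨h1, ?_⟩
  have : D.t⁻¹ * (D.t * x * D.t⁻¹) * D.t = x := by group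
  rw [this]; exact hx.1

theorem S_one : D.S 1 = 1 := by
  have := D.S_mul 1 D.H.one_mem 1 D.H.one_mem
  rw [mul_one] at this
  exact (left_eq_mul.mp this)

theorem S_inv {x : G} (hx : x ∈ D.H) : D.S x⁻¹ = (D.S x)⁻¹ := by
  have := D.S_mul x hx x⁻¹ (D.H.inv_mem hx)
  rw [mul_inv_cancel, D.S_one] at this
  exact (eq_inv_of_mul_eq_one_right this.symm)

/-- the obstruction `η(x) = S(x)⁻¹ · T S(x^t) T⁻¹` -/
def eta (x : G) : Γ := (D.S x)⁻¹ * D.T * D.S (D.t⁻¹ * x * D.t) * D.T⁻¹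

theorem eta_mem_ker {x : G} (hx : x ∈ D.K) : D.eta x ∈ σ.ker := by
  rw [MonoidHom.mem_ker, eta]
  simp only [map_mul, map_inv, D.sec _ hx.1, D.sec _ hx.2, D.σT]
  group

theorem conj_S {x : G} : D.T * D.S (D.t⁻¹ * x * D.t) * D.T⁻¹ = D.S x * D.eta x := by
  rw [eta]; group

theorem conj_S' {k : G} : D.T * D.S k * D.T⁻¹ = D.S (D.t * k * D.t⁻¹) * D.eta (D.t * k * D.t⁻¹) := by
  rw [← D.conj_S]
  have : D.t⁻¹ * (D.t * k * D.t⁻¹) * D.t = k := by group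
  rw [this]


theorem eta_one : D.eta 1 = 1 := by
  rw [eta]
  have : D.t⁻¹ * 1 * D.t = 1 := by group
  rw [this, D.S_one]; group

theorem eta_comm (hc : σ.ker ≤ center Γ) {x : G} (hx : x ∈ D.K) (g : Γ) :
    g * D.eta x = D.eta x * g :=
  Subgroup.mem_center_iff.mp (hc (D.eta_mem_ker hx)) g

theorem eta_mul (hc : σ.ker ≤ center Γ) {x y : G} (hx : x ∈ D.K) (hy : y ∈ D.K) :
    D.eta (x * y) = D.eta x * D.eta y := by
  have h1 : D.S (x * y) * D.eta (x * y) = D.S (x * y) * (D.eta x * D.eta y) := by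
    rw [← D.conj_S]
    have e1 : D.t⁻¹ * (x * y) * D.t = (D.t⁻¹ * x * D.t) * (D.t⁻¹ * y * D.t) := by group
    rw [e1, D.S_mul _ hx.2 _ hy.2, D.S_mul _ hx.1 _ hy.1]
    have e2 : D.T * (D.S (D.t⁻¹ * x * D.t) * D.S (D.t⁻¹ * y * D.t)) * D.T⁻¹ =
        (D.T * D.S (D.t⁻¹ * x * D.t) * D.T⁻¹) * (D.T * D.S (D.t⁻¹ * y * D.t) * D.T⁻¹) := by group
    rw [e2, D.conj_S, D.conj_S]
    calc D.S x * D.eta x * (D.S y * D.eta y) = D.S x * (D.eta x * D.S y) * D.eta y := by group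
      _ = D.S x * (D.S y * D.eta x) * D.eta y := by rw [D.eta_comm hc hx (D.S y)]
      _ = D.S x * D.S y * (D.eta x * D.eta y) := by group
  exact mul_left_cancel h1

theorem eta_inv (hc : σ.ker ≤ center Γ) {x : G} (hx : x ∈ D.K) : D.eta x⁻¹ = (D.eta x)⁻¹ := by
  have := D.eta_mul hc hx (D.K.inv_mem hx)
  rw [mul_inv_cancel, D.eta_one] at this
  exact eq_inv_of_mul_eq_one_right this.symm

/-- the image of `η` -/
def N (hc : σ.ker ≤ center Γ) : Subgroup Γ where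
  carrier := {z | ∃ x ∈ D.K, z = D.eta x}
  one_mem' := ⟨1, D.K.one_mem, D.eta_one.symm⟩
  mul_mem' := by
    rintro _ _ ⟨x, hx, rfl⟩ ⟨y, hy, rfl⟩
    exact ⟨x * y, D.K.mul_mem hx hy, (D.eta_mul hc hx hy).symm⟩
  inv_mem' := by
    rintro _ ⟨x, hx, rfl⟩
    exact ⟨x⁻¹, D.K.inv_mem hx, (D.eta_inv hc hx).symm⟩

theorem eta_mem_N (hc : σ.ker ≤ center Γ) {x : G} (hx : x ∈ D.K) : D.eta x ∈ D.N hc :=
  ⟨x, hx, rfl⟩

theorem N_le_ker (hc : σ.ker ≤ center Γ) : D.N hc ≤ σ.ker := by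
  rintro _ ⟨x, hx, rfl⟩
  exact D.eta_mem_ker hx

theorem N_comm (hc : σ.ker ≤ center Γ) {n : Γ} (hn : n ∈ D.N hc) (g : Γ) : g * n = n * g :=
  Subgroup.mem_center_iff.mp (hc (D.N_le_ker hc hn)) g

/-- `T⁻¹ S(k) T = S(k^t) η(k)⁻¹` -/
theorem conj_S_inv (hc : σ.ker ≤ center Γ) {k : G} (hk : k ∈ D.K) :
    D.T⁻¹ * D.S k * D.T = D.S (D.t⁻¹ * k * D.t) * (D.eta k)⁻¹ := by
  have h1 := D.conj_S (x := k)
  have h2 : D.S (D.t⁻¹ * k * D.t) = D.T⁻¹ * (D.S k * D.eta k) * D.T := by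
    rw [← h1]; group
  rw [h2]
  calc D.T⁻¹ * D.S k * D.T = D.T⁻¹ * D.S k * (D.T * D.eta k) * (D.eta k)⁻¹ := by group
    _ = D.T⁻¹ * D.S k * (D.eta k * D.T) * (D.eta k)⁻¹ := by rw [D.eta_comm hc hk D.T]
    _ = D.T⁻¹ * (D.S k * D.eta k) * D.T * (D.eta k)⁻¹ := by group

/-- the conjugate section, on `u H u⁻¹`, `u = h' t` -/
def Su (x : G) : Γ :=
  (D.S D.h' * D.T) * D.S ((D.h' * D.t)⁻¹ * x * (D.h' * D.t)) * (D.S D.h' * D.T)⁻¹

theorem Su_mul {x y : G} (hx : (D.h' * D.t)⁻¹ * x * (D.h' * D.t) ∈ D.H)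
    (hy : (D.h' * D.t)⁻¹ * y * (D.h' * D.t) ∈ D.H) : D.Su (x * y) = D.Su x * D.Su y := by
  rw [Su, Su, Su]
  have e1 : (D.h' * D.t)⁻¹ * (x * y) * (D.h' * D.t) =
      ((D.h' * D.t)⁻¹ * x * (D.h' * D.t)) * ((D.h' * D.t)⁻¹ * y * (D.h' * D.t)) := by group
  rw [e1, D.S_mul _ hx _ hy]
  group

theorem σ_Su {x : G} (hx : (D.h' * D.t)⁻¹ * x * (D.h' * D.t) ∈ D.H) : σ (D.Su x) = x := by
  rw [Su]
  simp only [map_mul, map_inv, D.sec _ hx, D.sec _ D.h'_mem, D.σT]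
  group

theorem Su_eq (hc : σ.ker ≤ center Γ) {x : G} (hx : x ∈ D.H)
    (hxu : (D.h' * D.t)⁻¹ * x * (D.h' * D.t) ∈ D.H) :
    D.Su x = D.S x * D.eta (D.h'⁻¹ * x * D.h') := by
  have hy : D.h'⁻¹ * x * D.h' ∈ D.H :=
    D.H.mul_mem (D.H.mul_mem (D.H.inv_mem D.h'_mem) hx) D.h'_mem
  have e1 : (D.h' * D.t)⁻¹ * x * (D.h' * D.t) = D.t⁻¹ * (D.h'⁻¹ * x * D.h') * D.t := by group
  have hyK : D.h'⁻¹ * x * D.h' ∈ D.K := ⟨hy, by rw [← e1]; exact hxu⟩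
  rw [Su, e1]
  calc D.S D.h' * D.T * D.S (D.t⁻¹ * (D.h'⁻¹ * x * D.h') * D.t) * (D.S D.h' * D.T)⁻¹
      = D.S D.h' * (D.T * D.S (D.t⁻¹ * (D.h'⁻¹ * x * D.h') * D.t) * D.T⁻¹) * (D.S D.h')⁻¹ := by
        group
    _ = D.S D.h' * (D.S (D.h'⁻¹ * x * D.h') * D.eta (D.h'⁻¹ * x * D.h')) * (D.S D.h')⁻¹ := by
        rw [D.conj_S]
    _ = D.S D.h' * D.S (D.h'⁻¹ * x * D.h') * (D.eta (D.h'⁻¹ * x * D.h') * (D.S D.h')⁻¹) := by
        group
    _ = D.S D.h' * D.S (D.h'⁻¹ * x * D.h') * ((D.S D.h')⁻¹ * D.eta (D.h'⁻¹ * x * D.h')) := by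
        rw [D.eta_comm hc hyK]
    _ = (D.S D.h' * D.S (D.h'⁻¹ * x * D.h') * D.S D.h'⁻¹) * D.eta (D.h'⁻¹ * x * D.h') := by
        rw [D.S_inv D.h'_mem]; group
    _ = D.S x * D.eta (D.h'⁻¹ * x * D.h') := by
        rw [← D.S_mul _ D.h'_mem _ hy, ← D.S_mul _ (D.H.mul_mem D.h'_mem hy) _
          (D.H.inv_mem D.h'_mem)]
        have : D.h' * (D.h'⁻¹ * x * D.h') * D.h'⁻¹ = x := by group
        rw [this]


/-- the lift of `t` read in the conjugate section -/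
def that : Γ := D.Su D.t

theorem σ_that : σ D.that = D.t := D.σ_Su D.t_memu

theorem that_eq (hc : σ.ker ≤ center Γ) : ∃ c ∈ center Γ, D.that = D.T * c := by
  refine ⟨D.T⁻¹ * D.that, hc ?_, by group⟩
  rw [MonoidHom.mem_ker, map_mul, map_inv, D.σ_that, D.σT, inv_mul_cancel]

theorem that_conj (hc : σ.ker ≤ center Γ) (a : Γ) :
    D.that * a * D.that⁻¹ = D.T * a * D.T⁻¹ := by
  obtain ⟨c, hcc, hcT⟩ := D.that_eq hc
  rw [hcT]
  have := Subgroup.mem_center_iff.mp hcc a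
  calc D.T * c * a * (D.T * c)⁻¹ = D.T * (c * a) * c⁻¹ * D.T⁻¹ := by group
    _ = D.T * (a * c) * c⁻¹ * D.T⁻¹ := by rw [this]
    _ = D.T * a * D.T⁻¹ := by group

theorem that_conj' (hc : σ.ker ≤ center Γ) (a : Γ) :
    D.that⁻¹ * a * D.that = D.T⁻¹ * a * D.T := by
  obtain ⟨c, hcc, hcT⟩ := D.that_eq hc
  rw [hcT]
  have := Subgroup.mem_center_iff.mp hcc (a * D.T)
  calc (D.T * c)⁻¹ * a * (D.T * c) = c⁻¹ * D.T⁻¹ * (a * D.T * c) := by group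
    _ = c⁻¹ * D.T⁻¹ * (c * (a * D.T)) := by rw [this]
    _ = c⁻¹ * (D.T⁻¹ * c) * (a * D.T) := by group
    _ = c⁻¹ * (c * D.T⁻¹) * (a * D.T) := by rw [Subgroup.mem_center_iff.mp hcc D.T⁻¹]
    _ = D.T⁻¹ * a * D.T := by group

theorem tt_memu : (D.h' * D.t)⁻¹ * (D.t * D.t) * (D.h' * D.t) ∈ D.H := by
  have : (D.h' * D.t)⁻¹ * (D.t * D.t) * (D.h' * D.t) =
      ((D.h' * D.t)⁻¹ * D.t * (D.h' * D.t)) * ((D.h' * D.t)⁻¹ * D.t * (D.h' * D.t)) := by group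
  rw [this]
  exact D.H.mul_mem D.t_memu D.t_memu

/-- `t̂² ∈ S(H) N` -/
theorem that_sq (hc : σ.ker ≤ center Γ) :
    ∃ n ∈ D.N hc, D.that * D.that = D.S (D.t * D.t) * n := by
  have h1 : D.that * D.that = D.Su (D.t * D.t) := (D.Su_mul D.t_memu D.t_memu).symm
  rw [h1, D.Su_eq hc D.tt_mem D.tt_memu]
  refine ⟨_, ⟨_, ?_, rfl⟩, rfl⟩
  have hy : D.h'⁻¹ * (D.t * D.t) * D.h' ∈ D.H :=
    D.H.mul_mem (D.H.mul_mem (D.H.inv_mem D.h'_mem) D.tt_mem) D.h'_mem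
  refine ⟨hy, ?_⟩
  have e1 : D.t⁻¹ * (D.h'⁻¹ * (D.t * D.t) * D.h') * D.t =
      (D.h' * D.t)⁻¹ * (D.t * D.t) * (D.h' * D.t) := by group
  rw [e1]
  exact D.tt_memu

/-- membership in `K` of the `h'`-conjugate of an element of `H ∩ H^u` -/
theorem conj_h'_mem_K {x : G} (hx : x ∈ D.H) (hxu : (D.h' * D.t)⁻¹ * x * (D.h' * D.t) ∈ D.H) :
    D.h'⁻¹ * x * D.h' ∈ D.K := by
  refine ⟨D.H.mul_mem (D.H.mul_mem (D.H.inv_mem D.h'_mem) hx) D.h'_mem, ?_⟩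
  have e1 : D.t⁻¹ * (D.h'⁻¹ * x * D.h') * D.t = (D.h' * D.t)⁻¹ * x * (D.h' * D.t) := by group
  rw [e1]
  exact hxu

/-- the relation `t̂ S(h) t̂ = S(h₁) t̂ S(h₂) n` -/
theorem that_rel (hc : σ.ker ≤ center Γ) :
    ∃ n ∈ D.N hc, D.that * D.S D.h * D.that = D.S D.h1 * D.that * D.S D.h2 * n := by
  have hth : (D.h' * D.t)⁻¹ * (D.t * D.h) * (D.h' * D.t) ∈ D.H := by
    have : (D.h' * D.t)⁻¹ * (D.t * D.h) * (D.h' * D.t) =
      ((D.h' * D.t)⁻¹ * D.t * (D.h' * D.t)) * ((D.h' * D.t)⁻¹ * D.h * (D.h' * D.t)) := by group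
    rw [this]
    exact D.H.mul_mem D.t_memu D.h_memu
  have hh1t : (D.h' * D.t)⁻¹ * (D.h1 * D.t) * (D.h' * D.t) ∈ D.H := by
    have : (D.h' * D.t)⁻¹ * (D.h1 * D.t) * (D.h' * D.t) =
      ((D.h' * D.t)⁻¹ * D.h1 * (D.h' * D.t)) * ((D.h' * D.t)⁻¹ * D.t * (D.h' * D.t)) := by group
    rw [this]
    exact D.H.mul_mem D.h1_memu D.t_memu
  have e1 : D.Su (D.t * D.h * D.t) = D.that * D.Su D.h * D.that := by
    rw [D.Su_mul hth D.t_memu, D.Su_mul D.t_memu D.h_memu]; rfl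
  have e2 : D.Su (D.h1 * D.t * D.h2) = D.Su D.h1 * D.that * D.Su D.h2 := by
    rw [D.Su_mul hh1t D.h2_memu, D.Su_mul D.h1_memu D.t_memu]; rfl
  rw [D.rel, e2, D.Su_eq hc D.h_mem D.h_memu, D.Su_eq hc D.h1_mem D.h1_memu,
    D.Su_eq hc D.h2_mem D.h2_memu] at e1
  have k0 := D.conj_h'_mem_K D.h_mem D.h_memu
  have k1 := D.conj_h'_mem_K D.h1_mem D.h1_memu
  have k2 := D.conj_h'_mem_K D.h2_mem D.h2_memu
  set n0 := D.eta (D.h'⁻¹ * D.h * D.h') with hn0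
  set n1 := D.eta (D.h'⁻¹ * D.h1 * D.h') with hn1
  set n2 := D.eta (D.h'⁻¹ * D.h2 * D.h') with hn2
  refine ⟨n1 * n2 * n0⁻¹, (D.N hc).mul_mem ((D.N hc).mul_mem (D.eta_mem_N hc k1)
    (D.eta_mem_N hc k2)) ((D.N hc).inv_mem (D.eta_mem_N hc k0)), ?_⟩
  have c0 := D.eta_comm hc k0
  have c1 := D.eta_comm hc k1
  have c2 := D.eta_comm hc k2
  rw [← hn0] at c0
  rw [← hn1] at c1
  rw [← hn2] at c2
  -- e1 : S h1 * n1 * that * (S h2 * n2) = that * (S h * n0) * that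
  have e3 : D.that * D.S D.h * D.that * n0 = D.S D.h1 * D.that * D.S D.h2 * (n1 * n2) := by
    calc D.that * D.S D.h * D.that * n0 = D.that * D.S D.h * (D.that * n0) := by group
      _ = D.that * D.S D.h * (n0 * D.that) := by rw [c0]
      _ = D.that * (D.S D.h * n0) * D.that := by group
      _ = D.S D.h1 * n1 * D.that * (D.S D.h2 * n2) := e1.symm
      _ = D.S D.h1 * (n1 * (D.that * D.S D.h2)) * n2 := by group
      _ = D.S D.h1 * ((D.that * D.S D.h2) * n1) * n2 := by rw [← c1]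
      _ = D.S D.h1 * D.that * D.S D.h2 * (n1 * n2) := by group
  calc D.that * D.S D.h * D.that = D.that * D.S D.h * D.that * n0 * n0⁻¹ := by group
    _ = D.S D.h1 * D.that * D.S D.h2 * (n1 * n2) * n0⁻¹ := by rw [e3]
    _ = D.S D.h1 * D.that * D.S D.h2 * (n1 * n2 * n0⁻¹) := by group


/-- the set `S(H) N ∪ S(H) t̂ S(H) N` -/
def X (hc : σ.ker ≤ center Γ) : Set Γ :=
  {γ | (∃ x ∈ D.H, ∃ n ∈ D.N hc, γ = D.S x * n) ∨
    (∃ x ∈ D.H, ∃ y ∈ D.H, ∃ n ∈ D.N hc, γ = D.S x * D.that * D.S y * n)}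

theorem one_mem_X (hc : σ.ker ≤ center Γ) : (1 : Γ) ∈ D.X hc :=
  Or.inl ⟨1, D.H.one_mem, 1, (D.N hc).one_mem, by rw [D.S_one, mul_one]⟩

theorem X_mul_N (hc : σ.ker ≤ center Γ) {γ n : Γ} (hγ : γ ∈ D.X hc) (hn : n ∈ D.N hc) :
    γ * n ∈ D.X hc := by
  rcases hγ with ⟨x, hx, m, hm, rfl⟩ | ⟨x, hx, y, hy, m, hm, rfl⟩
  · exact Or.inl ⟨x, hx, m * n, (D.N hc).mul_mem hm hn, by group⟩
  · exact Or.inr ⟨x, hx, y, hy, m * n, (D.N hc).mul_mem hm hn, by group⟩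

theorem X_mul_S (hc : σ.ker ≤ center Γ) {γ : Γ} {z : G} (hγ : γ ∈ D.X hc) (hz : z ∈ D.H) :
    γ * D.S z ∈ D.X hc := by
  rcases hγ with ⟨x, hx, m, hm, rfl⟩ | ⟨x, hx, y, hy, m, hm, rfl⟩
  · refine Or.inl ⟨x * z, D.H.mul_mem hx hz, m, hm, ?_⟩
    rw [D.S_mul _ hx _ hz, mul_assoc, ← D.N_comm hc hm, mul_assoc]
  · refine Or.inr ⟨x, hx, y * z, D.H.mul_mem hy hz, m, hm, ?_⟩
    rw [D.S_mul _ hy _ hz, mul_assoc _ m, ← D.N_comm hc hm]
    group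

theorem S_mul_X (hc : σ.ker ≤ center Γ) {γ : Γ} {z : G} (hγ : γ ∈ D.X hc) (hz : z ∈ D.H) :
    D.S z * γ ∈ D.X hc := by
  rcases hγ with ⟨x, hx, m, hm, rfl⟩ | ⟨x, hx, y, hy, m, hm, rfl⟩
  · refine Or.inl ⟨z * x, D.H.mul_mem hz hx, m, hm, ?_⟩
    rw [D.S_mul _ hz _ hx, mul_assoc]
  · refine Or.inr ⟨z * x, D.H.mul_mem hz hx, y, hy, m, hm, ?_⟩
    rw [D.S_mul _ hz _ hx]
    group

/-- `t̂ S(k) t̂⁻¹ ∈ S(H) N` for `k ∈ K` -/
theorem that_conj_S (hc : σ.ker ≤ center Γ) {k : G} (hk : k ∈ D.K) :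
    ∃ a ∈ D.H, ∃ n ∈ D.N hc, D.that * D.S k * D.that⁻¹ = D.S a * n := by
  rw [D.that_conj hc, D.conj_S']
  exact ⟨_, (D.conj_mem_K' hk).1, _, D.eta_mem_N hc (D.conj_mem_K' hk), rfl⟩

/-- `t̂⁻¹ S(k) t̂ ∈ S(H) N` for `k ∈ K` -/
theorem that_conj_S' (hc : σ.ker ≤ center Γ) {k : G} (hk : k ∈ D.K) :
    ∃ a ∈ D.H, ∃ n ∈ D.N hc, D.that⁻¹ * D.S k * D.that = D.S a * n := by
  rw [D.that_conj' hc, D.conj_S_inv hc hk]
  exact ⟨_, hk.2, _, (D.N hc).inv_mem (D.eta_mem_N hc hk), rfl⟩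

theorem that_S_that (hc : σ.ker ≤ center Γ) {y : G} (hy : y ∈ D.H) :
    D.that * D.S y * D.that ∈ D.X hc := by
  obtain ⟨n0, hn0, hsq⟩ := D.that_sq hc
  rcases D.decompH y hy with hyK | ⟨k1, k2, hk1, hk1', hk2, hk2', rfl⟩
  · obtain ⟨a, ha, n, hn, e⟩ := D.that_conj_S hc (k := y) ⟨hy, hyK⟩
    have : D.that * D.S y * D.that = (D.that * D.S y * D.that⁻¹) * (D.that * D.that) := by group
    rw [this, e, hsq]
    refine Or.inl ⟨a * (D.t * D.t), D.H.mul_mem ha D.tt_mem, n * n0, (D.N hc).mul_mem hn hn0, ?_⟩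
    rw [D.S_mul _ ha _ D.tt_mem]
    calc D.S a * n * (D.S (D.t * D.t) * n0) = D.S a * (n * D.S (D.t * D.t)) * n0 := by group
      _ = D.S a * (D.S (D.t * D.t) * n) * n0 := by rw [← D.N_comm hc hn]
      _ = D.S a * D.S (D.t * D.t) * (n * n0) := by group
  · obtain ⟨a, ha, n, hn, e⟩ := D.that_conj_S hc (k := k1) ⟨hk1, hk1'⟩
    obtain ⟨b, hb, m, hm, e'⟩ := D.that_conj_S' hc (k := k2) ⟨hk2, hk2'⟩
    obtain ⟨r, hr, erel⟩ := D.that_rel hc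
    rw [D.S_mul _ (D.H.mul_mem hk1 D.h_mem) _ hk2, D.S_mul _ hk1 _ D.h_mem]
    have : D.that * (D.S k1 * D.S D.h * D.S k2) * D.that =
        (D.that * D.S k1 * D.that⁻¹) * (D.that * D.S D.h * D.that) *
          (D.that⁻¹ * D.S k2 * D.that) := by group
    rw [this, e, e', erel]
    refine Or.inr ⟨a * D.h1, D.H.mul_mem ha D.h1_mem, D.h2 * b, D.H.mul_mem D.h2_mem hb,
      n * r * m, (D.N hc).mul_mem ((D.N hc).mul_mem hn hr) hm, ?_⟩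
    rw [D.S_mul _ ha _ D.h1_mem, D.S_mul _ D.h2_mem _ hb]
    calc D.S a * n * (D.S D.h1 * D.that * D.S D.h2 * r) * (D.S b * m)
        = D.S a * (n * (D.S D.h1 * D.that * D.S D.h2)) * (r * D.S b) * m := by group
      _ = D.S a * ((D.S D.h1 * D.that * D.S D.h2) * n) * (D.S b * r) * m := by
          rw [← D.N_comm hc hn, ← D.N_comm hc hr]
      _ = D.S a * D.S D.h1 * D.that * D.S D.h2 * (n * D.S b) * r * m := by group
      _ = D.S a * D.S D.h1 * D.that * D.S D.h2 * (D.S b * n) * r * m := by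
          rw [← D.N_comm hc hn]
      _ = D.S a * D.S D.h1 * D.that * (D.S D.h2 * D.S b) * (n * r * m) := by group

theorem X_mul_that (hc : σ.ker ≤ center Γ) {γ : Γ} (hγ : γ ∈ D.X hc) :
    γ * D.that ∈ D.X hc := by
  rcases hγ with ⟨x, hx, m, hm, rfl⟩ | ⟨x, hx, y, hy, m, hm, rfl⟩
  · refine Or.inr ⟨x, hx, 1, D.H.one_mem, m, hm, ?_⟩
    rw [D.S_one, mul_one, mul_assoc, ← D.N_comm hc hm, mul_assoc]
  · have h1 := D.X_mul_N hc (D.S_mul_X hc (D.that_S_that hc hy) hx) hm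
    have : D.S x * D.that * D.S y * m * D.that = D.S x * (D.that * D.S y * D.that) * m := by
      calc D.S x * D.that * D.S y * m * D.that = D.S x * D.that * D.S y * (m * D.that) := by group
        _ = D.S x * D.that * D.S y * (D.that * m) := by rw [D.N_comm hc hm]
        _ = D.S x * (D.that * D.S y * D.that) * m := by group
    rw [this]
    exact h1

theorem X_mul_that_inv (hc : σ.ker ≤ center Γ) {γ : Γ} (hγ : γ ∈ D.X hc) :
    γ * D.that⁻¹ ∈ D.X hc := by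
  obtain ⟨n0, hn0, hsq⟩ := D.that_sq hc
  have e : D.that⁻¹ = D.that * D.S (D.t * D.t)⁻¹ * n0⁻¹ := by
    have h1 : D.that⁻¹ = D.that * (D.that * D.that)⁻¹ := by group
    rw [h1, hsq, mul_inv_rev, D.S_inv D.tt_mem]
    rw [← D.N_comm hc ((D.N hc).inv_mem hn0), mul_assoc]
  rw [e, ← mul_assoc, ← mul_assoc]
  exact D.X_mul_N hc (D.X_mul_S hc (D.X_mul_that hc hγ) (D.H.inv_mem D.tt_mem))
    ((D.N hc).inv_mem hn0)

/-- the subgroup generated by `S(H)` and `t̂` -/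
def E : Subgroup Γ := Subgroup.closure (D.S '' (D.H : Set G) ∪ {D.that})

theorem E_subset_X (hc : σ.ker ≤ center Γ) : (D.E : Set Γ) ⊆ D.X hc := by
  intro γ hγ
  induction hγ using Subgroup.closure_induction_right with
  | one => exact D.one_mem_X hc
  | mul_right g _ s hs ih =>
    rcases hs with ⟨x, hx, rfl⟩ | hs
    · exact D.X_mul_S hc ih hx
    · rw [Set.mem_singleton_iff] at hs
      rw [hs]
      exact D.X_mul_that hc ih
  | mul_inv_cancel g _ s hs ih =>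
    rcases hs with ⟨x, hx, rfl⟩ | hs
    · rw [← D.S_inv hx]
      exact D.X_mul_S hc ih (D.H.inv_mem hx)
    · rw [Set.mem_singleton_iff] at hs
      rw [hs]
      exact D.X_mul_that_inv hc ih


theorem S_mem_E {x : G} (hx : x ∈ D.H) : D.S x ∈ D.E :=
  Subgroup.subset_closure (Or.inl ⟨x, hx, rfl⟩)

theorem that_mem_E : D.that ∈ D.E :=
  Subgroup.subset_closure (Or.inr rfl)

/-- every element of `Γ` is a product of an element of `E` and an element of the kernel -/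
theorem exists_E_mul_ker (γ : Γ) : ∃ e ∈ D.E, ∃ z ∈ σ.ker, γ = z * e := by
  have key : ∃ e ∈ D.E, σ e = σ γ := by
    rcases D.decompG (σ γ) with hH | ⟨x, y, hx, hy, e⟩
    · exact ⟨D.S (σ γ), D.S_mem_E hH, D.sec _ hH⟩
    · refine ⟨D.S x * D.that * D.S y,
        D.E.mul_mem (D.E.mul_mem (D.S_mem_E hx) D.that_mem_E) (D.S_mem_E hy), ?_⟩
      rw [map_mul, map_mul, D.sec _ hx, D.sec _ hy, D.σ_that, e]
  obtain ⟨e, he, hσe⟩ := key
  refine ⟨e, he, γ * e⁻¹, ?_, by group⟩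
  rw [MonoidHom.mem_ker, map_mul, map_inv, hσe, mul_inv_cancel]

open scoped commutatorElement in
theorem commutator_le_E (hc : σ.ker ≤ center Γ) : commutator Γ ≤ D.E := by
  rw [commutator_def, Subgroup.commutator_le]
  intro a _ b _
  obtain ⟨e, he, z, hz, rfl⟩ := D.exists_E_mul_ker a
  obtain ⟨e', he', z', hz', rfl⟩ := D.exists_E_mul_ker b
  have hz1 := Subgroup.mem_center_iff.mp (hc hz)
  have hz2 := Subgroup.mem_center_iff.mp (hc hz')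
  have : ⁅z * e, z' * e'⁆ = ⁅e, e'⁆ := by
    rw [commutatorElement_def, commutatorElement_def]
    calc z * e * (z' * e') * (z * e)⁻¹ * (z' * e')⁻¹
        = z * (e * z') * e' * e⁻¹ * z⁻¹ * e'⁻¹ * z'⁻¹ := by group
      _ = z * (z' * e) * e' * e⁻¹ * z⁻¹ * e'⁻¹ * z'⁻¹ := by rw [hz2 e]
      _ = z * z' * (e * e' * e⁻¹ * z⁻¹ * e'⁻¹) * z'⁻¹ := by group
      _ = z * ((e * e' * e⁻¹ * z⁻¹ * e'⁻¹) * z') * z'⁻¹ := by
          rw [hz2 (e * e' * e⁻¹ * z⁻¹ * e'⁻¹)]; group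
      _ = z * (e * e' * e⁻¹ * z⁻¹) * e'⁻¹ := by group
      _ = (e * e' * e⁻¹ * z⁻¹) * z * e'⁻¹ := by rw [hz1 (e * e' * e⁻¹ * z⁻¹)]
      _ = e * e' * e⁻¹ * e'⁻¹ := by group
  rw [this]
  exact D.E.mul_mem (D.E.mul_mem (D.E.mul_mem he he') (D.E.inv_mem he)) (D.E.inv_mem he')

/-- **The gluing lemma**: the kernel of a stem extension is the image of `η`. -/
theorem ker_le_N (hσ : Cfsg.IsStemExtension σ) : σ.ker ≤ D.N hσ.2.1 := by
  have hc := hσ.2.1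
  intro z hz
  have hzE : z ∈ D.E := D.commutator_le_E hc (hσ.2.2 hz)
  rcases D.E_subset_X hc hzE with ⟨x, hx, n, hn, e⟩ | ⟨x, hx, y, hy, n, hn, e⟩
  · have h1 : σ z = x := by
      rw [e, map_mul, D.sec _ hx, MonoidHom.mem_ker.mp (D.N_le_ker hc hn), mul_one]
    rw [MonoidHom.mem_ker.mp hz] at h1
    rw [e, ← h1, D.S_one, one_mul]
    exact hn
  · exfalso
    have h1 : σ z = x * D.t * y := by
      rw [e, map_mul, map_mul, map_mul, D.sec _ hx, D.sec _ hy, D.σ_that,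
        MonoidHom.mem_ker.mp (D.N_le_ker hc hn), mul_one]
    rw [MonoidHom.mem_ker.mp hz] at h1
    apply D.t_nmem
    have : D.t = x⁻¹ * y⁻¹ := by
      calc D.t = x⁻¹ * (x * D.t * y) * y⁻¹ := by group
        _ = x⁻¹ * y⁻¹ := by rw [← h1]; group
    rw [this]
    exact D.H.mul_mem (D.H.inv_mem hx) (D.H.inv_mem hy)

theorem exists_eta_eq (hσ : Cfsg.IsStemExtension σ) {z : Γ} (hz : z ∈ σ.ker) :
    ∃ x ∈ D.K, z = D.eta x := D.ker_le_N hσ hz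

open scoped commutatorElement in
/-- `η` kills commutators of `K` -/
theorem eta_commutator (hc : σ.ker ≤ center Γ) {a b : G} (ha : a ∈ D.K) (hb : b ∈ D.K) :
    D.eta ⁅a, b⁆ = 1 := by
  rw [commutatorElement_def, D.eta_mul hc (D.K.mul_mem (D.K.mul_mem ha hb) (D.K.inv_mem ha))
    (D.K.inv_mem hb), D.eta_mul hc (D.K.mul_mem ha hb) (D.K.inv_mem ha), D.eta_mul hc ha hb,
    D.eta_inv hc ha, D.eta_inv hc hb]
  have := D.eta_comm hc ha (D.eta b)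
  calc D.eta a * D.eta b * (D.eta a)⁻¹ * (D.eta b)⁻¹
      = (D.eta a * D.eta b) * (D.eta a)⁻¹ * (D.eta b)⁻¹ := by group
    _ = (D.eta b * D.eta a) * (D.eta a)⁻¹ * (D.eta b)⁻¹ := by rw [this]
    _ = 1 := by group

open scoped commutatorElement in
/-- If `K` is generated modulo its commutators by one element `k₀` with `k₀² ∈ K'`, in the strong
form that every element is `[a, b]` or `k₀ [a, b]`, then the kernel has order at most 2. -/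
theorem card_ker_le_two (hσ : Cfsg.IsStemExtension σ) (k0 : G) (hk0 : k0 ∈ D.K)
    (hK : ∀ k ∈ D.K, ∃ a ∈ D.K, ∃ b ∈ D.K, k = ⁅a, b⁆ ∨ k = k0 * ⁅a, b⁆) :
    Nat.card σ.ker ≤ 2 := by
  have hc := hσ.2.1
  have key : ∀ z : σ.ker, z = 1 ∨ z = ⟨D.eta k0, D.eta_mem_ker hk0⟩ := by
    rintro ⟨z, hz⟩
    obtain ⟨x, hx, rfl⟩ := D.exists_eta_eq hσ hz
    obtain ⟨a, ha, b, hb, e | e⟩ := hK x hx
    · left
      apply Subtype.ext
      show D.eta x = 1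
      rw [e]
      exact D.eta_commutator hc ha hb
    · right
      apply Subtype.ext
      show D.eta x = D.eta k0
      have hab : ⁅a, b⁆ ∈ D.K := by
        rw [commutatorElement_def]
        exact D.K.mul_mem (D.K.mul_mem (D.K.mul_mem ha hb) (D.K.inv_mem ha)) (D.K.inv_mem hb)
      rw [e, D.eta_mul hc hk0 hab, D.eta_commutator hc ha hb, mul_one]
  have hsub : (Set.univ : Set σ.ker) ⊆ {1, ⟨D.eta k0, D.eta_mem_ker hk0⟩} := by
    intro z _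
    rcases key z with h | h
    · left; exact h
    · right; exact h
  calc Nat.card σ.ker = Nat.card (Set.univ : Set σ.ker) := (Nat.card_congr (Equiv.Set.univ _)).symm
    _ ≤ Nat.card ({1, ⟨D.eta k0, D.eta_mem_ker hk0⟩} : Set σ.ker) :=
        Nat.card_mono (Set.toFinite _) hsub
    _ ≤ 2 := by
        rw [Nat.card_coe_set_eq]
        exact (Set.ncard_insert_le _ _).trans (by rw [Set.ncard_singleton])

end GlueData

end Cfsg.Agent.Helper66
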