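import Mathlib
import Cfsg.Agent.Helper66.GlueStem

/-!
# The gluing lemma when `K = H ∩ H^t` is perfect: the stem extension is trivial
-/

set_option autoImplicit false

namespace Cfsg.Agent.Helper66

open Subgroup

namespace GlueData

variable {Γ G : Type*} [Group Γ] [Group G] {σ : Γ →* G} (D : GlueData σ)

/-- the kernel of `η` -/
def etaKer (hc : σ.ker ≤ center Γ) : Subgroup G where
  carrier := {k | k ∈ D.K ∧ D.eta k = 1}
  one_mem' := ⟨D.K.one_mem, D.eta_one⟩
  mul_mem' := by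
    rintro a b ⟨ha, ha'⟩ ⟨hb, hb'⟩
    exact ⟨D.K.mul_mem ha hb, by rw [D.eta_mul hc ha hb, ha', hb', mul_one]⟩
  inv_mem' := by
    rintro a ⟨ha, ha'⟩
    exact ⟨D.K.inv_mem ha, by rw [D.eta_inv hc ha, ha', inv_one]⟩

/-- If `K` is perfect, a stem extension admitting gluing data is an isomorphism. -/
theorem ker_eq_bot_of_isPerfect (hσ : Cfsg.IsStemExtension σ) (hK : Group.IsPerfect D.K) :
    σ.ker = ⊥ := by
  have hc := hσ.2.1
  have hle : ⁅D.K, D.K⁆ ≤ D.etaKer hc := by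
    rw [Subgroup.commutator_le]
    intro a ha b hb
    refine ⟨?_, D.eta_commutator hc ha hb⟩
    rw [commutatorElement_def]
    exact D.K.mul_mem (D.K.mul_mem (D.K.mul_mem ha hb) (D.K.inv_mem ha)) (D.K.inv_mem hb)
  rw [Subgroup.isPerfect_iff.mp hK] at hle
  rw [eq_bot_iff]
  intro z hz
  obtain ⟨x, hx, rfl⟩ := D.exists_eta_eq hσ hz
  rw [Subgroup.mem_bot]
  exact (hle hx).2

end GlueData

end Cfsg.Agent.Helper66
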