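import Mathlib
import Cfsg.Agent.Helper66.PerfectCover

/-!
# Sections of central extensions over perfect subgroups with trivial multiplier
-/

set_option autoImplicit false

namespace Cfsg.Agent.Helper66

open Subgroup

universe u v

/-- a finite simple group of non-prime order is perfect -/
theorem isPerfect_of_isSimpleGroup_of_not_prime {G : Type*} [Group G] [Finite G]
    [IsSimpleGroup G] (h : ¬ (Nat.card G).Prime) : Group.IsPerfect G := by
  rw [Group.isPerfect_def]
  rcases (inferInstance : (commutator G).Normal).eq_bot_or_eq_top with hb | ht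
  · exfalso
    rw [commutator_def, Subgroup.commutator_eq_bot_iff_le_centralizer] at hb
    have hcomm : ∀ a b : G, a * b = b * a := fun a b => by
      have := hb (Subgroup.mem_top a)
      rw [Subgroup.mem_centralizer_iff] at this
      exact (this b (Subgroup.mem_top b)).symm
    letI : CommGroup G := { (inferInstance : Group G) with mul_comm := hcomm }
    exact h IsSimpleGroup.prime_card
  · exact ht

/-- A central extension of `G` splits over every perfect subgroup `H` all of whose finite stem
extensions are trivial; the section is multiplicative on `H`. -/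
theorem exists_section_of_perfect {Γ : Type u} {G : Type v} [Group Γ] [Group G] [Finite Γ]
    (σ : Γ →* G) (hs : Function.Surjective σ) (hc : σ.ker ≤ center Γ) (H : Subgroup G)
    (hperf : Group.IsPerfect H)
    (htriv : ∀ (Δ : Type u) [Group Δ] [Finite Δ] (τ : Δ →* H), Cfsg.IsStemExtension τ →
      τ.ker = ⊥) :
    ∃ S : G → Γ, (∀ x ∈ H, σ (S x) = x) ∧ ∀ x ∈ H, ∀ y ∈ H, S (x * y) = S x * S y := by
  classical
  let ρ : H.comap σ →* H := σ.subgroupComap H
  have hρ : Function.Surjective ρ := σ.subgroupComap_surjective_of_surjective H hs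
  have hρc : ρ.ker ≤ center (H.comap σ) := by
    intro z hz
    rw [Subgroup.mem_center_iff]
    intro g
    apply Subtype.ext
    have hz1 : σ z.1 = 1 := congrArg Subtype.val (MonoidHom.mem_ker.mp hz)
    have := Subgroup.mem_center_iff.mp (hc (MonoidHom.mem_ker.mpr hz1)) g.1
    simpa using this
  have hQ : Group.IsPerfect (commutator (H.comap σ)) :=
    isPerfect_commutator_of_central hperf ρ hρ hρc
  let τ : commutator (H.comap σ) →* H := ρ.comp (commutator (H.comap σ)).subtype
  have hτs : Function.Surjective τ := by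
    intro x
    obtain ⟨p, hp⟩ := hρ x
    obtain ⟨q, hq, z, hz, rfl⟩ := exists_mem_commutator_mul_ker hperf ρ hρ p
    refine ⟨⟨q, hq⟩, ?_⟩
    rw [← hp, map_mul, MonoidHom.mem_ker.mp hz, mul_one]
    rfl
  have hτ : Cfsg.IsStemExtension τ := by
    refine ⟨hτs, ?_, ?_⟩
    · intro z hz
      rw [Subgroup.mem_center_iff]
      intro g
      apply Subtype.ext
      have hz' : z.1 ∈ ρ.ker := by
        rw [MonoidHom.mem_ker]
        exact MonoidHom.mem_ker.mp hz
      have := Subgroup.mem_center_iff.mp (hρc hz') g.1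
      simpa using this
    · rw [hQ.commutator_eq_top]
      exact le_top
  have hker := htriv _ τ hτ
  have hinj : Function.Injective τ := (MonoidHom.ker_eq_bot_iff τ).mp hker
  let e : commutator (H.comap σ) ≃* H := MulEquiv.ofBijective τ ⟨hinj, hτs⟩
  refine ⟨fun x => if hx : x ∈ H then ((e.symm ⟨x, hx⟩ : commutator (H.comap σ)) : Γ) else 1,
    fun x hx => ?_, fun x hx y hy => ?_⟩
  · show σ (if hx : x ∈ H then ((e.symm ⟨x, hx⟩ : commutator (H.comap σ)) : Γ) else 1) = x
    rw [dif_pos hx]
    have h1 : e (e.symm ⟨x, hx⟩) = ⟨x, hx⟩ := e.apply_symm_apply _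
    have h2 := congrArg Subtype.val h1
    exact h2
  · show (if hxy : x * y ∈ H then ((e.symm ⟨x * y, hxy⟩ : commutator (H.comap σ)) : Γ) else 1) =
      (if hx : x ∈ H then ((e.symm ⟨x, hx⟩ : commutator (H.comap σ)) : Γ) else 1) *
      (if hy : y ∈ H then ((e.symm ⟨y, hy⟩ : commutator (H.comap σ)) : Γ) else 1)
    rw [dif_pos hx, dif_pos hy, dif_pos (H.mul_mem hx hy)]
    have : (⟨x * y, H.mul_mem hx hy⟩ : H) = ⟨x, hx⟩ * ⟨y, hy⟩ := rfl
    rw [this, map_mul]
    rfl

end Cfsg.Agent.Helper66
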