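import Cfsg.Agent.Helper77.KW.Defs
import Cfsg.Agent.Helper16.PrincipalNorm
import Cfsg.Agent.Helper16.Height
import Cfsg.Agent.S4441
import Cfsg.Agent.S4513
import Cfsg.Agent.S4428
import Cfsg.Agent.S0936
import Cfsg.Agent.S4431

/-!
# (C3) for helper77 (S4588): a class function seen by some PIM-type function is seen by two
test functions
-/

set_option autoImplicit false

namespace Cfsg.Agent.Helper66.KW

open Cfsg Cfsg.Agent.Helper77.KW
open scoped ComplexConjugate
open Cfsg.Agent.S4426 (cut)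

universe u

/-- a finitely supported sequence with `a 0 = a (e+1) = 0` and some nonzero term has two
nonzero consecutive differences -/
theorem exists_two_diff_ne_zero (e : ℕ) (a : ℕ → ℂ) (h0 : a 0 = 0) (he : a (e + 1) = 0)
    (h : ∃ i, i < e ∧ a (i + 1) ≠ 0) :
    ∃ j₁ j₂ : ℕ, j₁ ≤ e ∧ j₂ ≤ e ∧ j₁ ≠ j₂ ∧ a (j₁ + 1) - a j₁ ≠ 0 ∧ a (j₂ + 1) - a j₂ ≠ 0 := by
  classical
  obtain ⟨i, hi, hai⟩ := h
  have hex : ∃ m, a m ≠ 0 := ⟨i + 1, hai⟩
  have hm1 : a (Nat.find hex) ≠ 0 := Nat.find_spec hex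
  have hmin : ∀ m, m < Nat.find hex → a m = 0 := fun m hm => by
    by_contra hne
    exact Nat.find_min hex hm hne
  have hm1pos : Nat.find hex ≠ 0 := by
    intro h'
    rw [h'] at hm1
    exact hm1 h0
  have hm1le : Nat.find hex ≤ i + 1 := Nat.find_min' hex hai
  have hm2 : a (Nat.findGreatest (fun m => a m ≠ 0) e) ≠ 0 :=
    Nat.findGreatest_spec (P := fun m => a m ≠ 0) (Nat.succ_le_of_lt hi) hai
  have hm2ge : i + 1 ≤ Nat.findGreatest (fun m => a m ≠ 0) e :=
    Nat.le_findGreatest (P := fun m => a m ≠ 0) (Nat.succ_le_of_lt hi) hai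
  have hm2le : Nat.findGreatest (fun m => a m ≠ 0) e ≤ e := Nat.findGreatest_le e
  have hm2succ : a (Nat.findGreatest (fun m => a m ≠ 0) e + 1) = 0 := by
    by_cases hlt : Nat.findGreatest (fun m => a m ≠ 0) e + 1 ≤ e
    · by_contra hne
      exact Nat.findGreatest_is_greatest (P := fun m => a m ≠ 0) (Nat.lt_succ_self _) hlt hne
    · have : Nat.findGreatest (fun m => a m ≠ 0) e = e := by omega
      rw [this]; exact he
  refine ⟨Nat.find hex - 1, Nat.findGreatest (fun m => a m ≠ 0) e, by omega, hm2le, by omega,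
    ?_, ?_⟩
  · have h1 : Nat.find hex - 1 + 1 = Nat.find hex := by omega
    rw [h1, hmin (Nat.find hex - 1) (by omega), sub_zero]
    exact hm1
  · rw [hm2succ, zero_sub]
    exact neg_ne_zero.2 hm2

section L

variable {H : Type u} [Group H] [Fintype H] {p : ℕ} [Fact p.Prime] {M : Ideal AlgInt}
  (z : H) [(Subgroup.zpowers z).Normal] (n : ℕ) (D : PimData p M (H ⧸ Subgroup.zpowers z))

theorem cut_zero' : cut p 1 (0 : H → ℂ) = 0 := by
  funext x
  unfold cut
  simp

theorem cut_sub' (f g : H → ℂ) : cut p 1 (f - g) = cut p 1 f - cut p 1 g := by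
  funext x
  unfold cut
  by_cases hx : p ∣ orderOf x
  · simp [hx]
  · simp [hx]

theorem classInner_zero_left' (F : H → ℂ) : classInner (0 : H → ℂ) F = 0 := by
  unfold classInner
  simp

theorem classInner_sub_left' (f g F : H → ℂ) :
    classInner (f - g) F = classInner f F - classInner g F := by
  unfold classInner
  rw [← mul_sub, ← Finset.sum_sub_distrib]
  congr 1
  refine Finset.sum_congr rfl fun x _ => ?_
  simp only [Pi.sub_apply]
  ring

theorem pad_zero' : pad z n D 0 = 0 := by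
  unfold pad
  rw [dif_neg]
  intro h
  exact absurd h.1 (lt_irrefl 0)

theorem pad_last' : pad z n D (D.e + 1) = 0 := by
  unfold pad
  rw [dif_neg]
  intro h
  have := h.2
  simp at this

theorem pad_succ' (i : Fin D.e) : pad z n D ((i : ℕ) + 1) = lift z n D i := by
  unfold pad
  rw [dif_pos ⟨Nat.succ_pos _, by simp⟩]
  congr 1

/-- (C3) a class function seen by some PIM-type function is seen by two test functions -/
theorem exists_two_test_ne_zero (F : H → ℂ)
    (h : ∃ i : Fin D.e, classInner (cut p 1 (lift z n D i)) F ≠ 0) :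
    ∃ j₁ j₂ : Fin (D.e + 1), j₁ ≠ j₂ ∧ classInner (cut p 1 (test z n D j₁)) F ≠ 0 ∧
      classInner (cut p 1 (test z n D j₂)) F ≠ 0 := by
  obtain ⟨i, hi⟩ := h
  have key : ∀ j : Fin (D.e + 1), classInner (cut p 1 (test z n D j)) F =
      classInner (cut p 1 (pad z n D ((j : ℕ) + 1))) F -
        classInner (cut p 1 (pad z n D (j : ℕ))) F := by
    intro j
    unfold test
    rw [cut_sub', classInner_sub_left']
  obtain ⟨j₁, j₂, h1, h2, hne, hd1, hd2⟩ := exists_two_diff_ne_zero D.e
    (fun m => classInner (cut p 1 (pad z n D m)) F)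
    (by simp only [pad_zero', cut_zero', classInner_zero_left'])
    (by simp only [pad_last', cut_zero', classInner_zero_left'])
    ⟨(i : ℕ), i.2, by simp only [pad_succ']; exact hi⟩
  refine ⟨⟨j₁, Nat.lt_succ_of_le h1⟩, ⟨j₂, Nat.lt_succ_of_le h2⟩, ?_, ?_, ?_⟩
  · intro h'
    exact hne (congrArg Fin.val h')
  · rw [key]; exact hd1
  · rw [key]; exact hd2

end L

end Cfsg.Agent.Helper66.KW
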