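import Cfsg.Agent.Helper77.KW.Defs
import Cfsg.Agent.Helper16.PrincipalNorm
import Cfsg.Agent.Helper16.Height
import Cfsg.Agent.S4441
import Cfsg.Agent.S4513
import Cfsg.Agent.S4428
import Cfsg.Agent.S0936
import Cfsg.Agent.S4431

/-!
# (R1) for helper77 (S4588): choice of the section
-/

set_option autoImplicit false

namespace Cfsg.Agent.Helper66.KW

open Cfsg Cfsg.Agent.Helper77.KW
open scoped ComplexConjugate
open Cfsg.Agent.S4426 (cut)

universe u

section R

variable {G : Type u} [Group G] [Fintype G]

theorem factorization_card_subgroup_le (p : ℕ) (K : Subgroup G) :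
    (Nat.card K).factorization p ≤ (Nat.card G).factorization p := by
  have hd : Nat.card K ∣ Nat.card G := Subgroup.card_subgroup_dvd_card K
  exact (Nat.factorization_le_iff_dvd Nat.card_pos.ne' Nat.card_pos.ne').2 hd p

/-- (R1) choice of the section -/
theorem exists_section (p : ℕ) [Fact p.Prime]
    (hx : ∃ x : G, (∃ k : ℕ, orderOf x = p ^ k) ∧
      (Nat.card (Subgroup.centralizer ({x} : Set G))).factorization p ≤ 2) :
    ∃ (y : G) (n : ℕ), orderOf y = p ^ n ∧
      (Nat.card (Subgroup.centralizer ({y} : Set G))).factorization p ≤ n + 1 ∧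
      (Nat.card (Subgroup.centralizer ({y} : Set G))).factorization p ≤ 2 := by
  have hp := (Fact.out : p.Prime)
  obtain ⟨x, ⟨k, hk⟩, hν⟩ := hx
  rcases Nat.eq_zero_or_pos k with h0 | hpos
  · -- `x = 1`
    rw [h0, pow_zero, orderOf_eq_one_iff] at hk
    subst hk
    have htop : Subgroup.centralizer ({(1 : G)} : Set G) = ⊤ := by
      ext g
      simp [Subgroup.mem_centralizer_iff]
    rw [htop, Subgroup.card_top] at hν
    by_cases h2 : (Nat.card G).factorization p ≤ 1
    · refine ⟨1, 0, by simp, ?_, ?_⟩
      · rw [htop, Subgroup.card_top]; omega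
      · rw [htop, Subgroup.card_top]; exact hν
    · have hpd : p ∣ Nat.card G := by
        by_contra hnd
        rw [Nat.factorization_eq_zero_of_not_dvd hnd] at h2
        omega
      obtain ⟨y, hy⟩ := exists_prime_orderOf_dvd_card' p hpd
      refine ⟨y, 1, by rw [hy, pow_one], ?_, ?_⟩
      · exact (factorization_card_subgroup_le p _).trans (by omega)
      · exact (factorization_card_subgroup_le p _).trans hν
  · exact ⟨x, k, hk, by omega, hν⟩

end R

end Cfsg.Agent.Helper66.KW
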