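import Cfsg.Agent.Helper77.KW.Defs
import Cfsg.Agent.Helper16.PrincipalNorm
import Cfsg.Agent.Helper16.Height
import Cfsg.Agent.S4441
import Cfsg.Agent.S4513
import Cfsg.Agent.S4428
import Cfsg.Agent.S0936
import Cfsg.Agent.S4431

/-!
# (R5) for helper77 (S4588): Sylow subgroups of order at most `p^2` are abelian
-/

set_option autoImplicit false

namespace Cfsg.Agent.Helper66.KW

open Cfsg Cfsg.Agent.Helper77.KW
open scoped ComplexConjugate
open Cfsg.Agent.S4426 (cut)

universe u

/-- (R5) Sylow subgroups of order at most `p^2` are abelian -/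
theorem sylow_comm_of_factorization_le_two {H : Type u} [Group H] [Fintype H] (p : ℕ)
    [Fact p.Prime] (h : (Nat.card H).factorization p ≤ 2) (Q : Sylow p H) (a b : H)
    (ha : a ∈ (Q : Subgroup H)) (hb : b ∈ (Q : Subgroup H)) : a * b = b * a := by
  have hcard : Nat.card Q = p ^ (Nat.card H).factorization p := Q.card_eq_multiplicity
  have hcomm : ∀ x y : (Q : Subgroup H), x * y = y * x := by
    have hν : (Nat.card H).factorization p = 0 ∨ (Nat.card H).factorization p = 1 ∨
        (Nat.card H).factorization p = 2 := by omega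
    rcases hν with h0 | h1 | h2
    · rw [h0, pow_zero] at hcard
      have : Subsingleton (Q : Subgroup H) := (Nat.card_eq_one_iff_unique.1 hcard).1
      intro x y
      rw [Subsingleton.elim x 1, Subsingleton.elim y 1]
    · rw [h1, pow_one] at hcard
      have hc : IsCyclic (Q : Subgroup H) := isCyclic_of_prime_card hcard
      intro x y
      obtain ⟨g, hg⟩ := hc.exists_generator
      obtain ⟨i, rfl⟩ := Subgroup.mem_zpowers_iff.1 (hg x)
      obtain ⟨j, rfl⟩ := Subgroup.mem_zpowers_iff.1 (hg y)
      rw [← zpow_add, ← zpow_add, add_comm]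
    · rw [h2] at hcard
      exact (IsPGroup.isMulCommutative_of_card_eq_prime_sq hcard).is_comm.comm
  have := hcomm ⟨a, ha⟩ ⟨b, hb⟩
  exact congrArg Subtype.val this

end Cfsg.Agent.Helper66.KW
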