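import Mathlib

/-!
# S2088 piece (K2) for helper96 (#11317): faithful image forces `a ^ 12 = 1`, `b ^ 4 = 1`
-/

set_option autoImplicit false

namespace Cfsg.Agent.Helper66.L34

theorem pow_eq_one_of_faithful {E P : Type*} [Group E] [Group P] (ψ : E →* P) (K : Subgroup E)
    [Finite K]
    (hK : Nat.card K ≤ 48) (a b : E) (ha : a ∈ Subgroup.center E) (haK : a ∈ K) (hbK : b ∈ K)
    (ha12 : ψ a ^ 12 = 1) (hb4 : ψ b ^ 4 = 1)
    (hinj : ∀ m < 12, ∀ k < 4, ψ a ^ m * ψ b ^ k = 1 → m = 0 ∧ k = 0) :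
    a ^ 12 = 1 ∧ b ^ 4 = 1 := by
  classical
  have hab : a * b = b * a := (Subgroup.mem_center_iff.mp ha b).symm
  have hcomm : Commute (ψ a) (ψ b) := by
    show ψ a * ψ b = ψ b * ψ a
    rw [← map_mul, ← map_mul, hab]
  have hAB : ∀ m k n l : ℕ,
      (ψ a ^ m * ψ b ^ k) * (ψ a ^ n * ψ b ^ l) = ψ a ^ (m + n) * ψ b ^ (k + l) := by
    intro m k n l
    have hc : Commute (ψ b ^ k) (ψ a ^ n) := (hcomm.pow_pow n k).symm
    rw [pow_add, pow_add]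
    calc ψ a ^ m * ψ b ^ k * (ψ a ^ n * ψ b ^ l)
        = ψ a ^ m * (ψ b ^ k * ψ a ^ n) * ψ b ^ l := by simp only [mul_assoc]
      _ = ψ a ^ m * (ψ a ^ n * ψ b ^ k) * ψ b ^ l := by rw [hc.eq]
      _ = ψ a ^ m * ψ a ^ n * (ψ b ^ k * ψ b ^ l) := by simp only [mul_assoc]
  have key : ∀ m < 12, ∀ m' < 12, ∀ k < 4, ∀ k' < 4,
      ψ a ^ m * ψ b ^ k = ψ a ^ m' * ψ b ^ k' → m = m' ∧ k = k' := by
    intro m hm m' hm' k hk k' hk' h
    have h1 : ψ a ^ (m + (12 - m')) * ψ b ^ (k + (4 - k')) = 1 := by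
      rw [← hAB, h, hAB, show m' + (12 - m') = 12 by omega, show k' + (4 - k') = 4 by omega,
        ha12, hb4, one_mul]
    rw [pow_eq_pow_mod (m + (12 - m')) ha12, pow_eq_pow_mod (k + (4 - k')) hb4] at h1
    obtain ⟨e1, e2⟩ := hinj _ (Nat.mod_lt _ (by norm_num)) _ (Nat.mod_lt _ (by norm_num)) h1
    constructor <;> omega
  let f : Fin 12 × Fin 4 → K := fun x =>
    ⟨a ^ (x.1 : ℕ) * b ^ (x.2 : ℕ), K.mul_mem (K.pow_mem haK _) (K.pow_mem hbK _)⟩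
  have hf : Function.Injective f := by
    rintro ⟨m, k⟩ ⟨m', k'⟩ h
    have h' : a ^ (m : ℕ) * b ^ (k : ℕ) = a ^ (m' : ℕ) * b ^ (k' : ℕ) := congrArg Subtype.val h
    have h'' : ψ a ^ (m : ℕ) * ψ b ^ (k : ℕ) = ψ a ^ (m' : ℕ) * ψ b ^ (k' : ℕ) := by
      rw [← map_pow, ← map_pow, ← map_pow, ← map_pow, ← map_mul, ← map_mul, h']
    obtain ⟨e1, e2⟩ := key m m.2 m' m'.2 k k.2 k' k'.2 h''
    exact Prod.ext (Fin.ext e1) (Fin.ext e2)
  have hcard : Nat.card K ≤ Nat.card (Fin 12 × Fin 4) := by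
    rw [Nat.card_prod, Nat.card_fin, Nat.card_fin]
    exact hK
  have hbij : Function.Bijective f := hf.bijective_of_nat_card_le hcard
  have hgen : ∀ x : E, x ∈ K → ψ x = 1 → x = 1 := by
    intro x hx hx1
    obtain ⟨⟨m, k⟩, hmk⟩ := hbij.2 ⟨x, hx⟩
    have h' : a ^ (m : ℕ) * b ^ (k : ℕ) = x := congrArg Subtype.val hmk
    have h'' : ψ a ^ (m : ℕ) * ψ b ^ (k : ℕ) = 1 := by
      rw [← map_pow, ← map_pow, ← map_mul, h', hx1]
    obtain ⟨e1, e2⟩ := hinj m m.2 k k.2 h''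
    rw [← h', e1, e2, pow_zero, pow_zero, one_mul]
  constructor
  · exact hgen _ (K.pow_mem haK 12) (by rw [map_pow, ha12])
  · exact hgen _ (K.pow_mem hbK 4) (by rw [map_pow, hb4])

end Cfsg.Agent.Helper66.L34
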