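import Cfsg.Agent.Helper66.GlueStem
import Cfsg.Agent.Helper66.GlueSection
import Cfsg.Agent.Helper66.M10Ab
import Cfsg.Agent.Helper66.SchurBounds
import Cfsg.Agent.Helper96.StemMEleven
import Cfsg.Agent.Helper7.M11Simple
import Cfsg.Agent.Helper7.M12Sharp

/-!
# The kernel of a finite stem extension of `M₁₂` has order at most 2

The point stabiliser `M₁₁` has trivial multiplier (helper96), so a stem extension splits over it;
the gluing lemma then bounds the kernel by the abelianisation of the two-point stabiliser `M₁₀`.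
-/

set_option autoImplicit false

namespace Cfsg.Agent.Helper66.M12Glue

open Cfsg Cfsg.Agent.Helper7 Subgroup
open scoped commutatorElement

abbrev G12 := ↥M12

/-- the stabiliser of the point `0` -/
def HM : Subgroup G12 := (fixG M12 [0]).subgroupOf M12

theorem mem_HM {x : G12} : x ∈ HM ↔ x.1 (pt 0) = pt 0 := by
  rw [HM, Subgroup.mem_subgroupOf, mem_fixG]
  constructor
  · intro h
    exact h.2 0 (by simp)
  · intro h
    refine ⟨x.2, fun i hi => ?_⟩
    rw [List.mem_singleton] at hi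
    subst hi
    exact h

theorem coe_conj (u x : G12) : (u⁻¹ * x * u).1 = u.1⁻¹ * x.1 * u.1 := rfl

theorem conj_mem_HM {u x : G12} : u⁻¹ * x * u ∈ HM ↔ x.1 (u.1 (pt 0)) = u.1 (pt 0) := by
  rw [mem_HM, coe_conj, Equiv.Perm.mul_apply, Equiv.Perm.mul_apply, Equiv.Perm.inv_eq_iff_eq]

theorem pt_mem_d0F {i : ℕ} (hi : i < 24) (h : d0.testBit i = true) : pt i ∈ d0F := by
  rw [mem_d0F_iff, idx_pt hi]
  exact h

theorem pt0_mem : pt 0 ∈ d0F := pt_mem_d0F (by norm_num) (by decide)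
theorem pt1_mem : pt 1 ∈ d0F := pt_mem_d0F (by norm_num) (by decide)
theorem pt2_mem : pt 2 ∈ d0F := pt_mem_d0F (by norm_num) (by decide)
theorem pt3_mem : pt 3 ∈ d0F := pt_mem_d0F (by norm_num) (by decide)

theorem pt_ne {i j : ℕ} (hi : i < 24) (hj : j < 24) (h : i ≠ j) : pt i ≠ pt j :=
  fun he => h (pt_injOn hi hj he)

theorem apply_mem_d0F (g : G12) {p : GolayPt} (hp : p ∈ d0F) : g.1 p ∈ d0F := by
  rw [mem_d0F_iff] at hp ⊢
  exact M12_inv g.1 g.2 p hp

theorem exists_elt2 {a b : GolayPt} (hab : a ≠ b) (ha : a ∈ d0F) (hb : b ∈ d0F) :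
    ∃ g : G12, g.1 (pt 0) = a ∧ g.1 (pt 1) = b := by
  obtain ⟨g, hg, h⟩ := m12_exists_of_list [a, b] (by simp [hab])
    (by simp [ha, hb]) (by simp)
  simp only [List.length_cons, List.length_nil, List.take, List.forall₂_cons,
    List.forall₂_nil_right_iff] at h
  exact ⟨⟨g, hg⟩, h.1, h.2.1⟩

theorem exists_elt3 {a b c : GolayPt} (hab : a ≠ b) (hac : a ≠ c) (hbc : b ≠ c) (ha : a ∈ d0F)
    (hb : b ∈ d0F) (hc : c ∈ d0F) :
    ∃ g : G12, g.1 (pt 0) = a ∧ g.1 (pt 1) = b ∧ g.1 (pt 2) = c := by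
  obtain ⟨g, hg, h⟩ := m12_exists_of_list [a, b, c] (by simp [hab, hac, hbc])
    (by simp [ha, hb, hc]) (by simp)
  simp only [List.length_cons, List.length_nil, List.take, List.forall₂_cons,
    List.forall₂_nil_right_iff] at h
  exact ⟨⟨g, hg⟩, h.1, h.2.1, h.2.2.1⟩

theorem exists_elt4 {a b c d : GolayPt} (hab : a ≠ b) (hac : a ≠ c) (had : a ≠ d) (hbc : b ≠ c)
    (hbd : b ≠ d) (hcd : c ≠ d) (ha : a ∈ d0F)
    (hb : b ∈ d0F) (hc : c ∈ d0F) (hd : d ∈ d0F) :
    ∃ g : G12, g.1 (pt 0) = a ∧ g.1 (pt 1) = b ∧ g.1 (pt 2) = c ∧ g.1 (pt 3) = d := by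
  obtain ⟨g, hg, h⟩ := m12_exists_of_list [a, b, c, d] (by simp [hab, hac, had, hbc, hbd, hcd])
    (by simp [ha, hb, hc, hd]) (by simp)
  simp only [List.length_cons, List.length_nil, List.take, List.forall₂_cons,
    List.forall₂_nil_right_iff] at h
  exact ⟨⟨g, hg⟩, h.1, h.2.1, h.2.2.1, h.2.2.2.1⟩

instance : IsSimpleGroup ↥(fixG M12 [0]) := m11_simple

theorem isPerfect_m11 : Group.IsPerfect ↥(fixG M12 [0]) :=
  isPerfect_of_isSimpleGroup_of_not_prime (by rw [card_fixG_m12_1]; norm_num)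

/-- the isomorphism of `HM` with helper7's `M₁₁` -/
noncomputable def eHM : HM ≃* ↥(fixG M12 [0]) := Subgroup.subgroupOfEquivOfLe (fixG_le M12 [0])

theorem isPerfect_HM : Group.IsPerfect HM := by
  haveI := isPerfect_m11
  exact Group.IsPerfect.ofSurjective (f := eHM.symm.toMonoidHom) eHM.symm.surjective

/-- a finite stem extension of `M₁₂` splits over the point stabiliser -/
theorem exists_section {Γ : Type} [Group Γ] [Finite Γ] (σ : Γ →* G12)
    (hσ : IsStemExtension σ) :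
    ∃ S : G12 → Γ, (∀ x ∈ HM, σ (S x) = x) ∧ ∀ x ∈ HM, ∀ y ∈ HM, S (x * y) = S x * S y := by
  apply exists_section_of_perfect σ hσ.1 hσ.2.1 HM isPerfect_HM
  intro Δ _ _ τ hτ
  have h1 := Cfsg.Agent.Helper96.StemMEleven.ker_eq_bot (eHM.toMonoidHom.comp τ)
    (isStemExtension_mulEquiv_comp' τ hτ eHM)
  rwa [ker_mulEquiv_comp'] at h1


theorem coe_mul3 (a b c : G12) : (a * b * c).1 = a.1 * b.1 * c.1 := rfl

/-- **Upper bound**: the kernel of a finite stem extension of `M₁₂` has order at most 2. -/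
theorem card_ker_le_two {Γ : Type} [Group Γ] [Finite Γ] (σ : Γ →* G12)
    (hσ : IsStemExtension σ) : Nat.card σ.ker ≤ 2 := by
  obtain ⟨S, hS1, hS2⟩ := exists_section σ hσ
  have n01 : pt 0 ≠ pt 1 := pt_ne (by norm_num) (by norm_num) (by norm_num)
  have n02 : pt 0 ≠ pt 2 := pt_ne (by norm_num) (by norm_num) (by norm_num)
  have n03 : pt 0 ≠ pt 3 := pt_ne (by norm_num) (by norm_num) (by norm_num)
  have n12 : pt 1 ≠ pt 2 := pt_ne (by norm_num) (by norm_num) (by norm_num)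
  have n13 : pt 1 ≠ pt 3 := pt_ne (by norm_num) (by norm_num) (by norm_num)
  have n23 : pt 2 ≠ pt 3 := pt_ne (by norm_num) (by norm_num) (by norm_num)
  obtain ⟨t, t0, t1, t2, t3⟩ := exists_elt4 n01.symm n12 n13 n02 n03 n23 pt1_mem pt0_mem
    pt2_mem pt3_mem
  obtain ⟨h', h'0, h'1⟩ := exists_elt2 n03 pt0_mem pt3_mem
  obtain ⟨h, h0, h1, h2, h3⟩ := exists_elt4 n02 n01 n03 n12.symm n23 n13 pt0_mem pt2_mem
    pt1_mem pt3_mem
  obtain ⟨T, hT⟩ := hσ.1 t
  -- the point `u (pt 0)`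
  have hu0 : (h' * t).1 (pt 0) = pt 3 := by
    show h'.1 (t.1 (pt 0)) = pt 3
    rw [t0, h'1]
  have hht0 : (h * t).1 (pt 0) = pt 2 := by
    show h.1 (t.1 (pt 0)) = pt 2
    rw [t0, h1]
  have hht3 : (h * t).1 (pt 3) = pt 3 := by
    show h.1 (t.1 (pt 3)) = pt 3
    rw [t3, h3]
  have htht0 : (t * h * t).1 (pt 0) = pt 2 := by
    show t.1 (h.1 (t.1 (pt 0))) = pt 2
    rw [t0, h1, t2]
  have htht3 : (t * h * t).1 (pt 3) = pt 3 := by
    show t.1 (h.1 (t.1 (pt 3))) = pt 3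
    rw [t3, h3, t3]
  have hh2_0 : ((h * t)⁻¹ * (t * h * t)).1 (pt 0) = pt 0 := by
    show (h * t).1⁻¹ ((t * h * t).1 (pt 0)) = pt 0
    rw [htht0, Equiv.Perm.inv_eq_iff_eq, hht0]
  have hh2_3 : ((h * t)⁻¹ * (t * h * t)).1 (pt 3) = pt 3 := by
    show (h * t).1⁻¹ ((t * h * t).1 (pt 3)) = pt 3
    rw [htht3, Equiv.Perm.inv_eq_iff_eq, hht3]
  let D : GlueData σ :=
    { H := HM
      S := S
      sec := hS1
      S_mul := hS2
      t := t
      T := T
      σT := hT
      t_nmem := by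
        rw [mem_HM, t0]
        exact n01.symm
      tt_mem := by
        rw [mem_HM]
        show t.1 (t.1 (pt 0)) = pt 0
        rw [t0, t1]
      h' := h'
      h'_mem := mem_HM.mpr h'0
      h := h
      h1 := h
      h2 := (h * t)⁻¹ * (t * h * t)
      h_mem := mem_HM.mpr h0
      h1_mem := mem_HM.mpr h0
      h2_mem := mem_HM.mpr hh2_0
      t_memu := by rw [conj_mem_HM, hu0, t3]
      h_memu := by rw [conj_mem_HM, hu0, h3]
      h1_memu := by rw [conj_mem_HM, hu0, h3]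
      h2_memu := by rw [conj_mem_HM, hu0, hh2_3]
      rel := by group
      decompH := by
        intro x hx
        rw [mem_HM] at hx
        by_cases hx1 : x.1 (pt 1) = pt 1
        · left
          rw [conj_mem_HM, t0, hx1]
        · right
          have hq0 : pt 0 ≠ x.1 (pt 1) := by
            intro he
            rw [← hx] at he
            exact n01 (x.1.injective he)
          obtain ⟨k1, k10, k11, k12⟩ := exists_elt3 n01 hq0 (Ne.symm hx1) pt0_mem pt1_mem
            (apply_mem_d0F x pt1_mem)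
          have hk1h0 : (k1 * h).1 (pt 0) = pt 0 := by
            show k1.1 (h.1 (pt 0)) = pt 0
            rw [h0, k10]
          have hk1h1 : (k1 * h).1 (pt 1) = x.1 (pt 1) := by
            show k1.1 (h.1 (pt 1)) = x.1 (pt 1)
            rw [h1, k12]
          refine ⟨k1, (k1 * h)⁻¹ * x, mem_HM.mpr k10, ?_, ?_, ?_, by group⟩
          · rw [conj_mem_HM, t0, k11]
          · rw [mem_HM]
            show (k1 * h).1⁻¹ (x.1 (pt 0)) = pt 0
            rw [hx, Equiv.Perm.inv_eq_iff_eq, hk1h0]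
          · rw [conj_mem_HM, t0]
            show (k1 * h).1⁻¹ (x.1 (pt 1)) = pt 1
            rw [Equiv.Perm.inv_eq_iff_eq, hk1h1]
      decompG := by
        intro g
        by_cases hg : g.1 (pt 0) = pt 0
        · left
          exact mem_HM.mpr hg
        · right
          obtain ⟨x, x0, x1⟩ := exists_elt2 (Ne.symm hg) pt0_mem (apply_mem_d0F g pt0_mem)
          have hxt : (x * t).1 (pt 0) = g.1 (pt 0) := by
            show x.1 (t.1 (pt 0)) = g.1 (pt 0)
            rw [t0, x1]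
          refine ⟨x, (x * t)⁻¹ * g, mem_HM.mpr x0, ?_, by group⟩
          rw [mem_HM]
          show (x * t).1⁻¹ (g.1 (pt 0)) = pt 0
          rw [Equiv.Perm.inv_eq_iff_eq, hxt] }
  have hK_iff : ∀ k : G12, k ∈ D.K ↔ k.1 ∈ fixG M12 [1, 0] := by
    intro k
    rw [D.mem_K]
    show k ∈ HM ∧ t⁻¹ * k * t ∈ HM ↔ _
    rw [mem_HM, conj_mem_HM, t0, mem_fixG]
    constructor
    · rintro ⟨h0, h1⟩
      refine ⟨k.2, fun i hi => ?_⟩
      simp only [List.mem_cons, List.not_mem_nil, or_false] at hi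
      rcases hi with rfl | rfl
      · exact h1
      · exact h0
    · rintro ⟨-, hF⟩
      exact ⟨hF 0 (by simp), hF 1 (by simp)⟩
  obtain ⟨k0, hk0, hcomm⟩ := M10Ab.exists_comm
  have hle : fixG M12 [1, 0] ≤ M12 := fixG_le M12 [1, 0]
  refine D.card_ker_le_two hσ ⟨k0, hle hk0⟩ ((hK_iff _).mpr hk0) ?_
  intro k hk
  obtain ⟨a, ha, b, hb, hab⟩ := hcomm k.1 ((hK_iff k).mp hk)
  refine ⟨⟨a, hle ha⟩, (hK_iff _).mpr ha, ⟨b, hle hb⟩, (hK_iff _).mpr hb, ?_⟩
  rcases hab with hab | hab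
  · left
    exact Subtype.ext hab
  · right
    exact Subtype.ext hab

end Cfsg.Agent.Helper66.M12Glue
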