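import Cfsg.Agent.Helper66.SpinPin
import Cfsg.Agent.Helper66.PerfectCover2
import Cfsg.Agent.Helper66.SchurBounds
import Cfsg.Agent.Helper7.QStab
import Cfsg.Agent.Helper7.M12Trans

/-!
# A central extension of `M₁₂` in which a nontrivial central element is a commutator

`M₁₂` acts on the twelve points of the dodecad; pulling back the pin cover of the symmetric group of
degree 12 gives a central extension.  Two commuting involutions of `M₁₂` generating a four-group
with three regular orbits on the dodecad have anticommuting lifts.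
-/

set_option autoImplicit false

namespace Cfsg.Agent.Helper66.M12Spin

open Cfsg Cfsg.Agent.Helper7 Equiv
open scoped commutatorElement

/-- the indices of the points of the standard dodecad -/
def Dl : List ℕ := [0, 1, 2, 3, 4, 6, 8, 9, 12, 13, 16, 18]

/-- the `i`-th point of the dodecad -/
def dpt (i : Fin 12) : GolayPt := pt (Dl.getD i 0)

/-- the position of a point in the dodecad -/
def dix (p : GolayPt) : Fin 12 := Fin.ofNat 12 (Dl.idxOf (idx p))

theorem dix_dpt : ∀ i : Fin 12, dix (dpt i) = i := by decide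

theorem dpt_dix : ∀ p : GolayPt, d0.testBit (idx p) = true → dpt (dix p) = p := by decide

theorem dpt_mem : ∀ i : Fin 12, d0.testBit (idx (dpt i)) = true := by decide

/-- the action on positions -/
def rhoFun (g : Perm GolayPt) (i : Fin 12) : Fin 12 := dix (g (dpt i))

theorem rhoFun_mul (g g' : Perm GolayPt) (hg' : g' ∈ M12) (i : Fin 12) :
    rhoFun g (rhoFun g' i) = rhoFun (g * g') i := by
  unfold rhoFun
  rw [dpt_dix _ (M12_inv g' hg' _ (dpt_mem i))]
  rfl

theorem rhoFun_one (i : Fin 12) : rhoFun 1 i = i := by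
  unfold rhoFun
  rw [Perm.one_apply, dix_dpt]

/-- the action of `M₁₂` on the twelve points of the dodecad -/
def rho : ↥M12 →* Perm (Fin 12) where
  toFun g :=
    { toFun := rhoFun g.1
      invFun := rhoFun g.1⁻¹
      left_inv := fun i => by rw [rhoFun_mul _ _ g.2, inv_mul_cancel, rhoFun_one]
      right_inv := fun i => by rw [rhoFun_mul _ _ (M12.inv_mem g.2), mul_inv_cancel, rhoFun_one] }
  map_one' := by
    ext i
    show ((rhoFun (1 : Perm GolayPt) i : Fin 12) : ℕ) = i
    rw [rhoFun_one]
  map_mul' g g' := by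
    ext i
    show ((rhoFun (g.1 * g'.1) i : Fin 12) : ℕ) = rhoFun g.1 (rhoFun g'.1 i)
    rw [rhoFun_mul _ _ g'.2]

theorem rho_apply (g : ↥M12) (i : Fin 12) : rho g i = dix (g.1 (dpt i)) := rfl

theorem rho_apply_of_isTable {g : ↥M12} {l : List ℕ} (h : IsTable l g.1) (i : Fin 12) :
    rho g i = dix (pt (l.getD (idx (dpt i)) 0)) := by
  rw [rho_apply, h.apply]

/-- table of the involution `x` -/
def xT : List ℕ := [1, 0, 4, 18, 2, 10, 16, 19, 13, 12, 5, 15, 9, 8, 23, 11, 6, 21, 3, 7, 22, 17, 20, 14]

/-- table of the involution `y` -/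
def yT : List ℕ := [2, 4, 0, 8, 1, 22, 12, 14, 3, 16, 20, 17, 6, 18, 7, 21, 9, 11, 13, 23, 10, 15, 5, 19]

theorem xT_eq : prodAt m12Levels [1, 5, 0, 4, 2] = xT := by decide +kernel

theorem yT_eq : prodAt m12Levels [2, 3, 4, 4, 1] = yT := by decide +kernel

theorem tabled_xT : Tabled M12 xT := by
  rw [← xT_eq]
  exact tabled_prodAt m12Levels tabled_m12Levels _

theorem tabled_yT : Tabled M12 yT := by
  rw [← yT_eq]
  exact tabled_prodAt m12Levels tabled_m12Levels _

/-- the involution `x` -/
noncomputable def xE : ↥M12 := ⟨tabled_xT.choose, tabled_xT.choose_spec.1⟩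

/-- the involution `y` -/
noncomputable def yE : ↥M12 := ⟨tabled_yT.choose, tabled_yT.choose_spec.1⟩

theorem xE_tab : IsTable xT xE.1 := tabled_xT.choose_spec.2

theorem yE_tab : IsTable yT yE.1 := tabled_yT.choose_spec.2

theorem xy_comm : xE * yE = yE * xE := by
  apply Subtype.ext
  have h1 : IsTable (compT xT yT) (xE * yE).1 := xE_tab.mul yE_tab
  have h2 : IsTable (compT yT xT) (yE * xE).1 := yE_tab.mul xE_tab
  have h3 : compT xT yT = compT yT xT := by decide +kernel
  rw [h3] at h1
  exact h1.inj h2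

/-- the positions of the three blocks `(i, x i, y i, x y i)` -/
def blkF : Fin 12 → Fin 12 := ![0, 1, 2, 4, 3, 11, 6, 9, 5, 10, 8, 7]

theorem blkF_injective : Function.Injective blkF := by decide

/-- the Clifford algebra generators -/
noncomputable abbrev eC : Fin 12 → CliffordAlgebra (sumSqForm 12) := spinE 12

theorem heC : IsCliffGen eC := spinE_isCliffGen 12

theorem rho_xE : rho xE = (kleinX heC blkF blkF_injective).1.2 := by
  rw [kleinX_perm]
  ext i
  rw [rho_apply_of_isTable xE_tab]
  revert i
  decide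

theorem rho_yE : rho yE = (kleinY heC blkF blkF_injective).1.2 := by
  rw [kleinY_perm]
  ext i
  rw [rho_apply_of_isTable yE_tab]
  revert i
  decide


/-- the pulled back pin cover -/
noncomputable abbrev E12 : Subgroup (↥M12 × ↥(pinSub eC)) := pullback rho (pinHom eC)

/-- the projection to `M₁₂` -/
noncomputable abbrev pi12 : ↥E12 →* ↥M12 := pullbackFst rho (pinHom eC)

theorem pi12_surjective : Function.Surjective pi12 :=
  pullbackFst_surjective rho (pinHom eC) (pinHom_surjective heC)

theorem ker_pi12_le_center : pi12.ker ≤ Subgroup.center ↥E12 :=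
  ker_pullbackFst_le_center rho (pinHom eC) (pinHom_ker_le_center heC)

/-- the lift of `x` to the pin group -/
noncomputable def xP : ↥(pinSub eC) :=
  ⟨(kleinX heC blkF blkF_injective).1, (Subgroup.mem_inf.mp (kleinX heC blkF blkF_injective).2).1⟩

/-- the lift of `y` to the pin group -/
noncomputable def yP : ↥(pinSub eC) :=
  ⟨(kleinY heC blkF blkF_injective).1, (Subgroup.mem_inf.mp (kleinY heC blkF blkF_injective).2).1⟩

/-- the lift of `x` to the extension -/
noncomputable def xL : ↥E12 := ⟨(xE, xP), rho_xE⟩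

/-- the lift of `y` to the extension -/
noncomputable def yL : ↥E12 := ⟨(yE, yP), rho_yE⟩

theorem comm_mem_ker : ⁅xL, yL⁆ ∈ pi12.ker := by
  rw [MonoidHom.mem_ker, map_commutatorElement]
  show ⁅xE, yE⁆ = 1
  rw [commutatorElement_eq_one_iff_mul_comm]
  exact xy_comm

theorem comm_mem_commutator : ⁅xL, yL⁆ ∈ commutator ↥E12 :=
  Subgroup.commutator_mem_commutator (Subgroup.mem_top _) (Subgroup.mem_top _)

theorem comm_ne_one : ⁅xL, yL⁆ ≠ 1 := by
  intro h
  have h1 : ((⁅xL, yL⁆ : ↥E12).1.2.1.1 : (CliffordAlgebra (sumSqForm 12))ˣ) = -1 :=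
    klein_commutator heC blkF blkF_injective
  rw [h] at h1
  have h2 : ((1 : (CliffordAlgebra (sumSqForm 12))ˣ) : CliffordAlgebra (sumSqForm 12)) =
      ((-1 : (CliffordAlgebra (sumSqForm 12))ˣ) : CliffordAlgebra (sumSqForm 12)) :=
    congrArg Units.val h1
  rw [Units.val_one, Units.val_neg, Units.val_one] at h2
  exact heC.ne h2

/-- **Lower bound**: the multiplier of `M₁₂` is not trivial. -/
theorem card_schurT_ne_one : Nat.card (schurT ↥M12) ≠ 1 := by
  intro h
  have h1 := orderOf_dvd_card_schurT pi12 pi12_surjective ker_pi12_le_center _ comm_mem_ker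
    comm_mem_commutator
  rw [h, Nat.dvd_one, orderOf_eq_one_iff] at h1
  exact comm_ne_one h1

end Cfsg.Agent.Helper66.M12Spin
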