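import Cfsg.Agent.Helper66.GluePerfect
import Cfsg.Agent.Helper66.GlueSection
import Cfsg.Agent.Helper66.SchurBounds
import Cfsg.Agent.Helper66.SchurBasic
import Cfsg.Agent.Helper7.M22Simple
import Cfsg.Agent.Helper7.M23Simple
import Cfsg.Agent.Helper7.M24Stab

/-!
# The multiplier of `M₂₄` is trivial if the multiplier of `M₂₃` is

The point stabiliser `M₂₃ = fixG M24 [0]` is perfect; if all its finite stem extensions are trivial,
a stem extension of `M₂₄` splits over it, and the gluing lemma with the perfect two-point stabiliser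
`M₂₂` shows that the stem extension is trivial.
-/

set_option autoImplicit false

namespace Cfsg.Agent.Helper66.M24Glue

open Cfsg Cfsg.Agent.Helper7 Subgroup
open scoped commutatorElement

abbrev G24 := ↥M24

/-- the stabiliser of the point `0` -/
def HM : Subgroup G24 := (fixG M24 [0]).subgroupOf M24

/-- the stabiliser of the points `0, 1` -/
def KM : Subgroup G24 := (fixG M24 [1, 0]).subgroupOf M24

theorem mem_HM {x : G24} : x ∈ HM ↔ x.1 (pt 0) = pt 0 := by
  rw [HM, Subgroup.mem_subgroupOf, mem_fixG]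
  constructor
  · intro h
    exact h.2 0 (by simp)
  · intro h
    refine ⟨x.2, fun i hi => ?_⟩
    rw [List.mem_singleton] at hi
    subst hi
    exact h

theorem mem_KM {x : G24} : x ∈ KM ↔ x.1 (pt 0) = pt 0 ∧ x.1 (pt 1) = pt 1 := by
  rw [KM, Subgroup.mem_subgroupOf, mem_fixG]
  constructor
  · intro h
    exact ⟨h.2 0 (by simp), h.2 1 (by simp)⟩
  · intro h
    refine ⟨x.2, fun i hi => ?_⟩
    simp only [List.mem_cons, List.not_mem_nil, or_false] at hi
    rcases hi with rfl | rfl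
    · exact h.2
    · exact h.1

theorem coe_conj (u x : G24) : (u⁻¹ * x * u).1 = u.1⁻¹ * x.1 * u.1 := rfl

theorem conj_mem_HM {u x : G24} : u⁻¹ * x * u ∈ HM ↔ x.1 (u.1 (pt 0)) = u.1 (pt 0) := by
  rw [mem_HM, coe_conj, Equiv.Perm.mul_apply, Equiv.Perm.mul_apply, Equiv.Perm.inv_eq_iff_eq]

theorem pt_ne {i j : ℕ} (hi : i < 24) (hj : j < 24) (h : i ≠ j) : pt i ≠ pt j :=
  fun he => h (pt_injOn hi hj he)

theorem exists_elt2 {a b : GolayPt} (hab : a ≠ b) :
    ∃ g : G24, g.1 (pt 0) = a ∧ g.1 (pt 1) = b := by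
  obtain ⟨g, hg, h⟩ := m24_exists_map₂ hab
  exact ⟨⟨g, hg⟩, h⟩

theorem exists_elt3 {a b c : GolayPt} (hab : a ≠ b) (hac : a ≠ c) (hbc : b ≠ c) :
    ∃ g : G24, g.1 (pt 0) = a ∧ g.1 (pt 1) = b ∧ g.1 (pt 2) = c := by
  obtain ⟨g, hg, h⟩ := m24_exists_map₃ hab hac hbc
  exact ⟨⟨g, hg⟩, h⟩

theorem exists_elt4 {a b c d : GolayPt} (hab : a ≠ b) (hac : a ≠ c) (had : a ≠ d) (hbc : b ≠ c)
    (hbd : b ≠ d) (hcd : c ≠ d) :
    ∃ g : G24, g.1 (pt 0) = a ∧ g.1 (pt 1) = b ∧ g.1 (pt 2) = c ∧ g.1 (pt 3) = d := by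
  obtain ⟨g, hg, h⟩ := m24_exists_map 4 (by norm_num) ⟨![a, b, c, d], by
    intro i j hij
    fin_cases i <;> fin_cases j <;> simp_all [Ne.symm]⟩
  exact ⟨⟨g, hg⟩, h 0, h 1, h 2, h 3⟩

instance : IsSimpleGroup ↥(fixG M24 [0]) := m23_simple

instance : IsSimpleGroup ↥(fixG M24 [1, 0]) := m22_simple

theorem isPerfect_m23 : Group.IsPerfect ↥(fixG M24 [0]) :=
  isPerfect_of_isSimpleGroup_of_not_prime (by rw [card_fixG_m24_1]; norm_num)

theorem isPerfect_m22 : Group.IsPerfect ↥(fixG M24 [1, 0]) :=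
  isPerfect_of_isSimpleGroup_of_not_prime (by rw [card_fixG_m24_2]; norm_num)

/-- the isomorphism of `HM` with helper7's `M₂₃` -/
noncomputable def eHM : HM ≃* ↥(fixG M24 [0]) := Subgroup.subgroupOfEquivOfLe (fixG_le M24 [0])

/-- the isomorphism of `KM` with helper7's `M₂₂` -/
noncomputable def eKM : KM ≃* ↥(fixG M24 [1, 0]) :=
  Subgroup.subgroupOfEquivOfLe (fixG_le M24 [1, 0])

theorem isPerfect_HM : Group.IsPerfect HM := by
  haveI := isPerfect_m23
  exact Group.IsPerfect.ofSurjective (f := eHM.symm.toMonoidHom) eHM.symm.surjective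

theorem isPerfect_KM : Group.IsPerfect KM := by
  haveI := isPerfect_m22
  exact Group.IsPerfect.ofSurjective (f := eKM.symm.toMonoidHom) eKM.symm.surjective

/-- a finite stem extension of `M₂₄` splits over the point stabiliser, if `M₂₃` has trivial
multiplier -/
theorem exists_section
    (h23 : ∀ (Δ : Type) [Group Δ] [Finite Δ] (τ : Δ →* ↥(fixG M24 [0])),
      IsStemExtension τ → τ.ker = ⊥)
    {Γ : Type} [Group Γ] [Finite Γ] (σ : Γ →* G24) (hσ : IsStemExtension σ) :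
    ∃ S : G24 → Γ, (∀ x ∈ HM, σ (S x) = x) ∧ ∀ x ∈ HM, ∀ y ∈ HM, S (x * y) = S x * S y := by
  apply exists_section_of_perfect σ hσ.1 hσ.2.1 HM isPerfect_HM
  intro Δ _ _ τ hτ
  have h1 := h23 Δ (eHM.toMonoidHom.comp τ) (isStemExtension_mulEquiv_comp' τ hτ eHM)
  rwa [ker_mulEquiv_comp'] at h1

/-- **`M(M₂₄) = 1` from `M(M₂₃) = 1`**: every finite stem extension of `M₂₄` is an isomorphism. -/
theorem ker_eq_bot
    (h23 : ∀ (Δ : Type) [Group Δ] [Finite Δ] (τ : Δ →* ↥(fixG M24 [0])),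
      IsStemExtension τ → τ.ker = ⊥)
    {Γ : Type} [Group Γ] [Finite Γ] (σ : Γ →* G24) (hσ : IsStemExtension σ) : σ.ker = ⊥ := by
  obtain ⟨S, hS1, hS2⟩ := exists_section h23 σ hσ
  have n01 : pt 0 ≠ pt 1 := pt_ne (by norm_num) (by norm_num) (by norm_num)
  have n02 : pt 0 ≠ pt 2 := pt_ne (by norm_num) (by norm_num) (by norm_num)
  have n03 : pt 0 ≠ pt 3 := pt_ne (by norm_num) (by norm_num) (by norm_num)
  have n12 : pt 1 ≠ pt 2 := pt_ne (by norm_num) (by norm_num) (by norm_num)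
  have n13 : pt 1 ≠ pt 3 := pt_ne (by norm_num) (by norm_num) (by norm_num)
  have n23 : pt 2 ≠ pt 3 := pt_ne (by norm_num) (by norm_num) (by norm_num)
  obtain ⟨t, t0, t1, t2, t3⟩ := exists_elt4 n01.symm n12 n13 n02 n03 n23
  obtain ⟨h', h'0, h'1⟩ := exists_elt2 n03
  obtain ⟨h, h0, h1, h2, h3⟩ := exists_elt4 n02 n01 n03 n12.symm n23 n13
  obtain ⟨T, hT⟩ := hσ.1 t
  have hu0 : (h' * t).1 (pt 0) = pt 3 := by
    show h'.1 (t.1 (pt 0)) = pt 3
    rw [t0, h'1]
  have hht0 : (h * t).1 (pt 0) = pt 2 := by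
    show h.1 (t.1 (pt 0)) = pt 2
    rw [t0, h1]
  have hht3 : (h * t).1 (pt 3) = pt 3 := by
    show h.1 (t.1 (pt 3)) = pt 3
    rw [t3, h3]
  have htht0 : (t * h * t).1 (pt 0) = pt 2 := by
    show t.1 (h.1 (t.1 (pt 0))) = pt 2
    rw [t0, h1, t2]
  have htht3 : (t * h * t).1 (pt 3) = pt 3 := by
    show t.1 (h.1 (t.1 (pt 3))) = pt 3
    rw [t3, h3, t3]
  have hh2_0 : ((h * t)⁻¹ * (t * h * t)).1 (pt 0) = pt 0 := by
    show (h * t).1⁻¹ ((t * h * t).1 (pt 0)) = pt 0
    rw [htht0, Equiv.Perm.inv_eq_iff_eq, hht0]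
  have hh2_3 : ((h * t)⁻¹ * (t * h * t)).1 (pt 3) = pt 3 := by
    show (h * t).1⁻¹ ((t * h * t).1 (pt 3)) = pt 3
    rw [htht3, Equiv.Perm.inv_eq_iff_eq, hht3]
  let D : GlueData σ :=
    { H := HM
      S := S
      sec := hS1
      S_mul := hS2
      t := t
      T := T
      σT := hT
      t_nmem := by
        rw [mem_HM, t0]
        exact n01.symm
      tt_mem := by
        rw [mem_HM]
        show t.1 (t.1 (pt 0)) = pt 0
        rw [t0, t1]
      h' := h'
      h'_mem := mem_HM.mpr h'0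
      h := h
      h1 := h
      h2 := (h * t)⁻¹ * (t * h * t)
      h_mem := mem_HM.mpr h0
      h1_mem := mem_HM.mpr h0
      h2_mem := mem_HM.mpr hh2_0
      t_memu := by rw [conj_mem_HM, hu0, t3]
      h_memu := by rw [conj_mem_HM, hu0, h3]
      h1_memu := by rw [conj_mem_HM, hu0, h3]
      h2_memu := by rw [conj_mem_HM, hu0, hh2_3]
      rel := by group
      decompH := by
        intro x hx
        rw [mem_HM] at hx
        by_cases hx1 : x.1 (pt 1) = pt 1
        · left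
          rw [conj_mem_HM, t0, hx1]
        · right
          have hq0 : pt 0 ≠ x.1 (pt 1) := by
            intro he
            rw [← hx] at he
            exact n01 (x.1.injective he)
          obtain ⟨k1, k10, k11, k12⟩ := exists_elt3 n01 hq0 (Ne.symm hx1)
          have hk1h0 : (k1 * h).1 (pt 0) = pt 0 := by
            show k1.1 (h.1 (pt 0)) = pt 0
            rw [h0, k10]
          have hk1h1 : (k1 * h).1 (pt 1) = x.1 (pt 1) := by
            show k1.1 (h.1 (pt 1)) = x.1 (pt 1)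
            rw [h1, k12]
          refine ⟨k1, (k1 * h)⁻¹ * x, mem_HM.mpr k10, ?_, ?_, ?_, by group⟩
          · rw [conj_mem_HM, t0, k11]
          · rw [mem_HM]
            show (k1 * h).1⁻¹ (x.1 (pt 0)) = pt 0
            rw [hx, Equiv.Perm.inv_eq_iff_eq, hk1h0]
          · rw [conj_mem_HM, t0]
            show (k1 * h).1⁻¹ (x.1 (pt 1)) = pt 1
            rw [Equiv.Perm.inv_eq_iff_eq, hk1h1]
      decompG := by
        intro g
        by_cases hg : g.1 (pt 0) = pt 0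
        · left
          exact mem_HM.mpr hg
        · right
          obtain ⟨x, x0, x1⟩ := exists_elt2 (Ne.symm hg)
          have hxt : (x * t).1 (pt 0) = g.1 (pt 0) := by
            show x.1 (t.1 (pt 0)) = g.1 (pt 0)
            rw [t0, x1]
          refine ⟨x, (x * t)⁻¹ * g, mem_HM.mpr x0, ?_, by group⟩
          rw [mem_HM]
          show (x * t).1⁻¹ (g.1 (pt 0)) = pt 0
          rw [Equiv.Perm.inv_eq_iff_eq, hxt] }
  have hK : D.K = KM := by
    ext k
    rw [D.mem_K, mem_KM]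
    show k ∈ HM ∧ t⁻¹ * k * t ∈ HM ↔ _
    rw [mem_HM, conj_mem_HM, t0]
  have hKperf : Group.IsPerfect D.K := by
    rw [hK]
    exact isPerfect_KM
  exact D.ker_eq_bot_of_isPerfect hσ hKperf

/-- **S2038 modulo S2037.** -/
theorem hasCyclicSchurMultiplier_one
    (h23 : ∀ (Δ : Type) [Group Δ] [Finite Δ] (τ : Δ →* ↥(fixG M24 [0])),
      IsStemExtension τ → τ.ker = ⊥) :
    Cfsg.HasCyclicSchurMultiplier ↥Cfsg.M24 1 :=
  hasCyclicSchurMultiplier_one_of_forall (fun Γ _ _ σ hσ => ker_eq_bot h23 σ hσ)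

end Cfsg.Agent.Helper66.M24Glue
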