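import Mathlib

set_option autoImplicit false

namespace Cfsg.Agent.Helper66

/-! # Arithmetic and relations for the metacyclic multiplier -/

theorem meta_geom (r n : ℕ) (hr : 0 < r) : (r - 1) * (∑ i ∈ Finset.range n, r ^ i) + 1 = r ^ n := by
  obtain ⟨k, rfl⟩ : ∃ k, r = k + 1 := ⟨r - 1, by omega⟩
  simp only [Nat.add_sub_cancel]
  induction n with
  | zero => simp
  | succ n ih =>
    rw [Finset.sum_range_succ, mul_add, pow_succ]
    have : k * ∑ i ∈ Finset.range n, (k + 1) ^ i = (k + 1) ^ n - 1 := by omega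
    have h1 : 1 ≤ (k + 1) ^ n := Nat.one_le_pow _ _ (by omega)
    rw [this]
    have h2 : (k + 1) ^ n * (k + 1) = k * (k + 1) ^ n + (k + 1) ^ n := by ring
    omega

theorem meta_arith (m n r : ℕ) (hm : 0 < m) (hr : 0 < r) (hrn : r ^ n ≡ 1 [MOD m]) :
    ∃ u d v s' q : ℕ, 0 < u ∧ 0 < d ∧ m = u * d ∧ r - 1 = v * d ∧ Nat.Coprime u v ∧
      (∑ i ∈ Finset.range n, r ^ i) = u * s' ∧ r ^ n = 1 + m * q ∧ v * s' = q ∧
      (∀ l, m * l / Nat.gcd m (r - 1) = u * l) ∧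
      Nat.gcd m (r - 1) * Nat.gcd m (∑ i ∈ Finset.range n, r ^ i) / m = Nat.gcd d s' := by
  set s := ∑ i ∈ Finset.range n, r ^ i with hs
  set d := Nat.gcd m (r - 1) with hd
  have hdpos : 0 < d := Nat.gcd_pos_of_pos_left _ hm
  have hmd : m = m / d * d := (Nat.div_mul_cancel (Nat.gcd_dvd_left m (r - 1))).symm
  have hrd : r - 1 = (r - 1) / d * d := (Nat.div_mul_cancel (Nat.gcd_dvd_right m (r - 1))).symm
  have hcop : Nat.Coprime (m / d) ((r - 1) / d) := Nat.coprime_div_gcd_div_gcd hdpos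
  set u := m / d with hu
  set v := (r - 1) / d with hv
  have hupos : 0 < u := by
    rcases Nat.eq_zero_or_pos u with h | h
    · rw [h, zero_mul] at hmd; omega
    · exact h
  have h1 : 1 ≤ r ^ n := Nat.one_le_pow _ _ hr
  have hdvd : m ∣ r ^ n - 1 := (Nat.modEq_iff_dvd' h1).mp hrn.symm
  obtain ⟨q, hq⟩ := hdvd
  have hq' : r ^ n = 1 + m * q := by omega
  have hgeom : (r - 1) * s + 1 = r ^ n := meta_geom r n hr
  have h2 : (r - 1) * s = m * q := by omega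
  have h3 : v * s = u * q := by
    have : d * (v * s) = d * (u * q) := by
      calc d * (v * s) = (v * d) * s := by ring
        _ = (r - 1) * s := by rw [← hrd]
        _ = m * q := h2
        _ = (u * d) * q := by rw [← hmd]
        _ = d * (u * q) := by ring
    exact Nat.eq_of_mul_eq_mul_left hdpos this
  have hus : u ∣ s := by
    have : u ∣ v * s := ⟨q, h3⟩
    exact hcop.dvd_of_dvd_mul_left this
  obtain ⟨s', hs'⟩ := hus
  have h4 : v * s' = q := by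
    have : u * (v * s') = u * q := by
      calc u * (v * s') = v * (u * s') := by ring
        _ = v * s := by rw [← hs']
        _ = u * q := h3
    exact Nat.eq_of_mul_eq_mul_left hupos this
  refine ⟨u, d, v, s', q, hupos, hdpos, hmd, hrd, hcop, hs', hq', h4, ?_, ?_⟩
  · intro l
    have : m * l = u * l * d := by rw [hmd]; ring
    rw [this, Nat.mul_div_cancel _ hdpos]
  · have hg : Nat.gcd m s = u * Nat.gcd d s' := by
      rw [hmd, hs', Nat.gcd_mul_left]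
    rw [hg]
    have : d * (u * Nat.gcd d s') = Nat.gcd d s' * m := by rw [hmd]; ring
    rw [this, Nat.mul_div_cancel _ hm]

section Rel

variable {H : Type*} [Group H] {α β z₁ z₂ z₃ : H} {m n r t : ℕ}

theorem meta_conj_pow (hz₁ : z₁ ∈ Subgroup.center H) (h1 : β * α * β⁻¹ = z₁ * α ^ r) (k : ℕ) :
    β * α ^ k * β⁻¹ = z₁ ^ k * α ^ (r * k) := by
  have hc : Commute z₁ (α ^ r) := (Subgroup.mem_center_iff.mp hz₁ (α ^ r)).symm
  rw [← conj_pow, h1, hc.mul_pow, ← pow_mul]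

theorem meta_R1 (hz₁ : z₁ ∈ Subgroup.center H) (hz₂ : z₂ ∈ Subgroup.center H)
    (h1 : β * α * β⁻¹ = z₁ * α ^ r) (h2 : α ^ m = z₂) (hr : 0 < r) :
    z₁ ^ m * z₂ ^ (r - 1) = 1 := by
  have h := meta_conj_pow hz₁ h1 m
  rw [h2, pow_mul', h2] at h
  have hc : β * z₂ * β⁻¹ = z₂ := by
    rw [Subgroup.mem_center_iff.mp hz₂ β, mul_inv_cancel_right]
  rw [hc] at h
  obtain ⟨k, rfl⟩ : ∃ k, r = k + 1 := ⟨r - 1, by omega⟩
  rw [pow_succ, ← mul_assoc] at h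
  simp only [Nat.add_sub_cancel]
  exact (right_eq_mul.mp h)

theorem meta_conj_iter (hz₁ : z₁ ∈ Subgroup.center H) (h1 : β * α * β⁻¹ = z₁ * α ^ r) (j : ℕ) :
    β ^ j * α * (β ^ j)⁻¹ = z₁ ^ (∑ i ∈ Finset.range j, r ^ i) * α ^ (r ^ j) := by
  induction j with
  | zero => simp
  | succ j ih =>
    have : β ^ (j + 1) * α * (β ^ (j + 1))⁻¹ = β * (β ^ j * α * (β ^ j)⁻¹) * β⁻¹ := by
      rw [pow_succ']; group
    rw [this, ih]
    have hc := Subgroup.mem_center_iff.mp (Subgroup.pow_mem _ hz₁ (∑ i ∈ Finset.range j, r ^ i)) β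
    rw [← mul_assoc, hc, mul_assoc, mul_assoc, ← mul_assoc β, meta_conj_pow hz₁ h1,
      Finset.sum_range_succ, pow_add, pow_succ', mul_assoc]

theorem meta_R2 (hz₁ : z₁ ∈ Subgroup.center H) (hz₂ : z₂ ∈ Subgroup.center H)
    (hz₃ : z₃ ∈ Subgroup.center H)
    (h1 : β * α * β⁻¹ = z₁ * α ^ r) (h2 : α ^ m = z₂) (h3 : β ^ n = z₃ * α ^ t)
    (q : ℕ) (hq : r ^ n = 1 + m * q) :
    z₁ ^ (∑ i ∈ Finset.range n, r ^ i) * z₂ ^ q = 1 := by
  have h := meta_conj_iter hz₁ h1 n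
  have hcomm : Commute (z₃ * α ^ t) α :=
    Commute.mul_left (Subgroup.mem_center_iff.mp hz₃ α).symm (Commute.pow_left (Commute.refl α) t)
  rw [h3, hcomm.eq, mul_inv_cancel_right, hq, pow_add, pow_one, pow_mul, h2] at h
  have hc := Subgroup.mem_center_iff.mp (Subgroup.pow_mem _ hz₂ q) α
  rw [hc, ← mul_assoc] at h
  exact (right_eq_mul.mp h)

theorem meta_R3 (hz₁ : z₁ ∈ Subgroup.center H) (hz₂ : z₂ ∈ Subgroup.center H)
    (hz₃ : z₃ ∈ Subgroup.center H)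
    (h1 : β * α * β⁻¹ = z₁ * α ^ r) (h2 : α ^ m = z₂) (h3 : β ^ n = z₃ * α ^ t)
    (p : ℕ) (hp : (r - 1) * t = m * p) (hr : 0 < r) :
    z₁ ^ t * z₂ ^ p = 1 := by
  have h := meta_conj_pow hz₁ h1 t
  have hb : β * (β ^ n) * β⁻¹ = β ^ n := by
    rw [← pow_succ', pow_succ, mul_inv_cancel_right]
  rw [h3] at hb
  have hc3 := Subgroup.mem_center_iff.mp hz₃ β
  rw [← mul_assoc, hc3, mul_assoc, mul_assoc, mul_right_inj, ← mul_assoc] at hb
  rw [hb] at h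
  have hrt : r * t = t + m * p := by
    obtain ⟨k, rfl⟩ : ∃ k, r = k + 1 := ⟨r - 1, by omega⟩
    simp only [Nat.add_sub_cancel] at hp
    rw [← hp]; ring
  rw [hrt, pow_add, pow_mul, h2] at h
  have hc := Subgroup.mem_center_iff.mp (Subgroup.pow_mem _ hz₂ p) (α ^ t)
  rw [hc, ← mul_assoc] at h
  exact (right_eq_mul.mp h)

theorem meta_w_pow (hz₁ : z₁ ∈ Subgroup.center H) (u v k : ℕ) :
    (z₁ ^ u * z₂ ^ v) ^ k = z₁ ^ (u * k) * z₂ ^ (v * k) := by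
  have hc : Commute (z₁ ^ u) (z₂ ^ v) :=
    (Subgroup.mem_center_iff.mp (Subgroup.pow_mem _ hz₁ u) (z₂ ^ v)).symm
  rw [hc.mul_pow, ← pow_mul, ← pow_mul]

/-- The element `w = z₁ ^ u * z₂ ^ v` has order dividing `gcd l (gcd d s')`. -/
theorem meta_w_pow_eq_one (hz₁ : z₁ ∈ Subgroup.center H) (hz₂ : z₂ ∈ Subgroup.center H)
    (hz₃ : z₃ ∈ Subgroup.center H)
    (h1 : β * α * β⁻¹ = z₁ * α ^ r) (h2 : α ^ m = z₂) (h3 : β ^ n = z₃ * α ^ t) (hr : 0 < r)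
    (u d v s' q l : ℕ) (hmd : m = u * d) (hrd : r - 1 = v * d)
    (hs' : (∑ i ∈ Finset.range n, r ^ i) = u * s') (hq : r ^ n = 1 + m * q) (hvs : v * s' = q)
    (ht : t = u * l) :
    (z₁ ^ u * z₂ ^ v) ^ (Nat.gcd l (Nat.gcd d s')) = 1 := by
  rw [← orderOf_dvd_iff_pow_eq_one]
  apply Nat.dvd_gcd
  · rw [orderOf_dvd_iff_pow_eq_one, meta_w_pow hz₁, ← ht]
    apply meta_R3 hz₁ hz₂ hz₃ h1 h2 h3 (v * l) _ hr
    rw [hrd, ht, hmd]; ring
  · apply Nat.dvd_gcd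
    · rw [orderOf_dvd_iff_pow_eq_one, meta_w_pow hz₁, ← hmd, ← hrd]
      exact meta_R1 hz₁ hz₂ h1 h2 hr
    · rw [orderOf_dvd_iff_pow_eq_one, meta_w_pow hz₁, ← hs', hvs]
      exact meta_R2 hz₁ hz₂ hz₃ h1 h2 h3 q hq

open scoped commutatorElement in
/-- The element `w` is a power of a commutator. -/
theorem meta_w_eq_commutator_pow (hz₁ : z₁ ∈ Subgroup.center H)
    (h1 : β * α * β⁻¹ = z₁ * α ^ r) (h2 : α ^ m = z₂) (hr : 0 < r)
    (u d v : ℕ) (hmd : m = u * d) (hrd : r - 1 = v * d) :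
    z₁ ^ u * z₂ ^ v = ⁅β, α⁆ ^ u := by
  have hcomm : ⁅β, α⁆ = z₁ * α ^ (r - 1) := by
    rw [commutatorElement_def, h1]
    obtain ⟨k, rfl⟩ : ∃ k, r = k + 1 := ⟨r - 1, by omega⟩
    simp only [Nat.add_sub_cancel]
    rw [pow_succ, mul_assoc, mul_assoc, mul_inv_cancel, mul_one]
  have hc : Commute z₁ (α ^ (r - 1)) := (Subgroup.mem_center_iff.mp hz₁ _).symm
  rw [hcomm, hc.mul_pow, ← pow_mul, hrd, ← h2, ← pow_mul, hmd]
  congr 2
  ring

end Rel

end Cfsg.Agent.Helper66
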