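import Mathlib
import Cfsg.Agent.Helper66.SchurMult3

set_option autoImplicit false

namespace Cfsg.Agent.Helper66

open scoped commutatorElement

universe u v w

section Pres

variable {X : Type u} {Q : Type u} [Group Q] (φ : FreeGroup X →* Q)

/-- The multiplier computed from an arbitrary free presentation (Hopf's formula): the subgroup
`R/[F,R] ∩ F'/[F,R]` of `F/[F,R]`. -/
def presT : Subgroup (CoverH φ) := (rho φ).ker ⊓ commutator (CoverH φ)

theorem presT_le_center : presT φ ≤ Subgroup.center (CoverH φ) :=
  inf_le_left.trans (ker_rho_le_center φ)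

noncomputable instance presT_commGroup : CommGroup (presT φ) :=
  { (inferInstance : Group (presT φ)) with
    mul_comm := fun a b => by
      apply Subtype.ext
      exact (Subgroup.mem_center_iff.mp (presT_le_center φ b.2) a) }

theorem presT_finite [Finite Q] (hφ : Function.Surjective φ) : Finite (presT φ) := by
  haveI := finite_commutator_coverH φ hφ
  exact Finite.of_injective (fun t : presT φ => (⟨t.1, t.2.2⟩ : commutator (CoverH φ)))
    (fun a b h => Subtype.ext (congrArg (fun x : commutator (CoverH φ) => (x : CoverH φ)) h))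

/-- **Hopf's formula**: the multiplier of a finite group can be computed from any finite free
presentation. -/
theorem hasSchurMultiplier_presT [Finite X] [Finite Q] (hφ : Function.Surjective φ) :
    Cfsg.HasSchurMultiplier Q (presT φ) := by
  constructor
  · haveI : (rho φ).ker.FiniteIndex := finiteIndex_ker_rho φ hφ
    obtain ⟨S, hS, hST, hsup⟩ := exists_complement_le φ hφ (rho φ).ker le_rfl
    haveI hSn : S.Normal := normal_of_le_center S (hS.trans (ker_rho_le_center φ))
    have hstem := isStemExtension_lift (rho φ) (rho_surjective φ hφ) (ker_rho_le_center φ) S hS hsup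
    have hker := nonempty_ker_lift_mulEquiv (rho φ) S hS hST hsup
    refine ⟨CoverH φ ⧸ S, inferInstance, ?_, QuotientGroup.lift S (rho φ) hS, hstem, hker⟩
    rw [MonoidHom.finite_iff_finite_ker_range (QuotientGroup.lift S (rho φ) hS)]
    obtain ⟨e⟩ := hker
    haveI : Finite ↥((rho φ).ker ⊓ commutator (CoverH φ)) := presT_finite φ hφ
    exact ⟨Finite.of_equiv _ e.symm.toEquiv, inferInstance⟩
  · intro Γ _ _ σ hσ
    obtain ⟨hs, hc, hd⟩ := hσ
    obtain ⟨ψ, hψ⟩ := exists_lift φ σ hs hc
    have hmap := map_ker_inf_commutator (rho φ) (rho_surjective φ hφ) σ hc ψ hψ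
    rw [inf_eq_left.mpr hd] at hmap
    have hmem : ∀ t : presT φ, ψ t ∈ σ.ker := fun t => by
      rw [← hmap]; exact ⟨t, t.2, rfl⟩
    refine ⟨{ toFun := fun t => ⟨ψ t, hmem t⟩
              map_one' := by apply Subtype.ext; simp
              map_mul' := fun a b => by apply Subtype.ext; simp }, ?_⟩
    rintro ⟨y, hy⟩
    rw [← hmap] at hy
    obtain ⟨t, ht, rfl⟩ := hy
    exact ⟨⟨t, ht⟩, rfl⟩

end Pres

section Kappa

variable {X : Type u} {Q : Type v} [Group Q] (φ : FreeGroup X →* Q)

theorem relComm_le_commutator : relComm φ ≤ commutator (FreeGroup X) := by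
  unfold relComm
  rw [commutator_def]
  exact Subgroup.commutator_mono le_rfl le_top

/-- The map from `F / [F, R]` to the commutator quotient of `F`. -/
def kappa : CoverH φ →* Abelianization (FreeGroup X) :=
  QuotientGroup.lift (relComm φ) Abelianization.of (by
    rw [Abelianization.ker_of]
    exact relComm_le_commutator φ)

@[simp] theorem kappa_mk (f : FreeGroup X) : kappa φ (f : CoverH φ) = Abelianization.of f := rfl

theorem ker_kappa : (kappa φ).ker = commutator (CoverH φ) := by
  apply le_antisymm
  · intro x hx
    obtain ⟨f, rfl⟩ := QuotientGroup.mk_surjective x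
    rw [MonoidHom.mem_ker, kappa_mk, ← MonoidHom.mem_ker, Abelianization.ker_of] at hx
    rw [← map_commutator_of_surjective (QuotientGroup.mk' (relComm φ))
      (QuotientGroup.mk'_surjective _)]
    exact ⟨f, hx, rfl⟩
  · exact Abelianization.commutator_subset_ker (kappa φ)

end Kappa

end Cfsg.Agent.Helper66
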