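import Mathlib
import Cfsg.Agent.Helper66.SchurPres

set_option autoImplicit false

namespace Cfsg.Agent.Helper66

open scoped commutatorElement

universe u v

section KerComm

variable {X : Type u} {Q : Type v} [Group Q] (φ : FreeGroup X →* Q)

noncomputable instance kerRho_commGroup : CommGroup (rho φ).ker :=
  { (inferInstance : Group (rho φ).ker) with
    mul_comm := fun a b => by
      apply Subtype.ext
      exact (Subgroup.mem_center_iff.mp (ker_rho_le_center φ b.2) a) }

variable (rels : Finset (FreeGroup X)) (hker : φ.ker = Subgroup.normalClosure (rels : Set (FreeGroup X)))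

theorem mk_rel_mem_ker (hker : φ.ker = Subgroup.normalClosure (rels : Set (FreeGroup X)))
    (i : rels) : ((i : FreeGroup X) : CoverH φ) ∈ (rho φ).ker := by
  rw [MonoidHom.mem_ker, rho_mk, ← MonoidHom.mem_ker, hker]
  exact Subgroup.subset_normalClosure i.2

/-- The generators of the kernel coming from the relators. -/
def relVec (hker : φ.ker = Subgroup.normalClosure (rels : Set (FreeGroup X))) :
    rels → Additive (rho φ).ker :=
  fun i => Additive.ofMul ⟨((i : FreeGroup X) : CoverH φ), mk_rel_mem_ker φ rels hker i⟩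

/-- The kernel of `F / [F, R] → Q` is generated by the images of the relators. -/
theorem span_relVec (hker : φ.ker = Subgroup.normalClosure (rels : Set (FreeGroup X))) :
    Submodule.span ℤ (Set.range (relVec φ rels hker)) = ⊤ := by
  rw [eq_top_iff]
  intro x _
  -- the subgroup of `F` of elements mapping into the span
  let N : Subgroup (FreeGroup X) :=
    { carrier := {f | ∃ h : ((f : FreeGroup X) : CoverH φ) ∈ (rho φ).ker,
        Additive.ofMul (⟨(f : CoverH φ), h⟩ : (rho φ).ker) ∈
          Submodule.span ℤ (Set.range (relVec φ rels hker))}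
      one_mem' := ⟨Subgroup.one_mem _, by
        have : Additive.ofMul (⟨((1 : FreeGroup X) : CoverH φ), Subgroup.one_mem _⟩ : (rho φ).ker) = 0 :=
          rfl
        rw [this]
        exact Submodule.zero_mem _⟩
      mul_mem' := by
        rintro a b ⟨ha, ha'⟩ ⟨hb, hb'⟩
        refine ⟨by rw [QuotientGroup.mk_mul]; exact Subgroup.mul_mem _ ha hb, ?_⟩
        have : Additive.ofMul (⟨((a * b : FreeGroup X) : CoverH φ),
            by rw [QuotientGroup.mk_mul]; exact Subgroup.mul_mem _ ha hb⟩ : (rho φ).ker) =
            Additive.ofMul (⟨(a : CoverH φ), ha⟩ : (rho φ).ker) +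
              Additive.ofMul (⟨(b : CoverH φ), hb⟩ : (rho φ).ker) := rfl
        rw [this]
        exact Submodule.add_mem _ ha' hb'
      inv_mem' := by
        rintro a ⟨ha, ha'⟩
        refine ⟨by rw [QuotientGroup.mk_inv]; exact Subgroup.inv_mem _ ha, ?_⟩
        have : Additive.ofMul (⟨((a⁻¹ : FreeGroup X) : CoverH φ),
            by rw [QuotientGroup.mk_inv]; exact Subgroup.inv_mem _ ha⟩ : (rho φ).ker) =
            -Additive.ofMul (⟨(a : CoverH φ), ha⟩ : (rho φ).ker) := rfl
        rw [this]
        exact Submodule.neg_mem _ ha' }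
  haveI : N.Normal := by
    constructor
    rintro a ⟨ha, ha'⟩ g
    have hconj : ((g * a * g⁻¹ : FreeGroup X) : CoverH φ) = (a : CoverH φ) := by
      rw [QuotientGroup.mk_mul, QuotientGroup.mk_mul, QuotientGroup.mk_inv]
      have := Subgroup.mem_center_iff.mp (ker_rho_le_center φ ha) (g : CoverH φ)
      rw [this, mul_assoc, mul_inv_cancel, mul_one]
    refine ⟨by rw [hconj]; exact ha, ?_⟩
    have : (⟨((g * a * g⁻¹ : FreeGroup X) : CoverH φ), by rw [hconj]; exact ha⟩ : (rho φ).ker) =
        ⟨(a : CoverH φ), ha⟩ := Subtype.ext hconj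
    rw [this]
    exact ha'
  have hsub : (rels : Set (FreeGroup X)) ⊆ N := by
    intro r hr
    exact ⟨mk_rel_mem_ker φ rels hker ⟨r, hr⟩,
      Submodule.subset_span ⟨⟨r, hr⟩, rfl⟩⟩
  have hle : φ.ker ≤ N := by
    rw [hker]
    exact Subgroup.normalClosure_le_normal hsub
  obtain ⟨f, hf⟩ := QuotientGroup.mk_surjective ((Additive.toMul x : (rho φ).ker) : CoverH φ)
  have hfk : f ∈ φ.ker := by
    rw [MonoidHom.mem_ker, ← rho_mk φ f, hf]
    exact (Additive.toMul x : (rho φ).ker).2
  obtain ⟨h1, h2⟩ := hle hfk
  have : (⟨(f : CoverH φ), h1⟩ : (rho φ).ker) = Additive.toMul x := Subtype.ext hf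
  rw [this] at h2
  exact h2

end KerComm

section Rank

variable {n : ℕ} {Q : Type} [Group Q] (φ : FreeGroup (Fin n) →* Q)

/-- The linear map from the kernel of `F / [F, R] → Q` to the free abelian group `F / F'`. -/
noncomputable def kerToFree : Additive (rho φ).ker →ₗ[ℤ] (Fin n →₀ ℤ) :=
  ((FreeAbelianGroup.equivFinsupp (Fin n)).toAddMonoidHom.comp
    (MonoidHom.toAdditive ((kappa φ).comp (rho φ).ker.subtype) :
      Additive (rho φ).ker →+ FreeAbelianGroup (Fin n))).toIntLinearMap

theorem kerToFree_apply (x : Additive (rho φ).ker) :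
    kerToFree φ x = FreeAbelianGroup.equivFinsupp (Fin n)
      (Additive.ofMul (kappa φ ((Additive.toMul x : (rho φ).ker) : CoverH φ)) :
        FreeAbelianGroup (Fin n)) := rfl

theorem kerToFree_eq_zero_iff (x : Additive (rho φ).ker) :
    kerToFree φ x = 0 ↔ ((Additive.toMul x : (rho φ).ker) : CoverH φ) ∈ commutator (CoverH φ) := by
  rw [kerToFree_apply, ← ker_kappa, MonoidHom.mem_ker]
  constructor
  · intro h
    have h1 := (FreeAbelianGroup.equivFinsupp (Fin n)).injective
      (h.trans (map_zero (FreeAbelianGroup.equivFinsupp (Fin n))).symm)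
    exact h1
  · intro h
    rw [h]
    exact map_zero (FreeAbelianGroup.equivFinsupp (Fin n))

/-- **Rank bound**: the multiplier computed from a presentation with `n` generators and `r`
relators is generated by `r - n` elements. -/
theorem exists_generators_presT [Finite Q] (hφ : Function.Surjective φ)
    (rels : Finset (FreeGroup (Fin n)))
    (hker : φ.ker = Subgroup.normalClosure (rels : Set (FreeGroup (Fin n)))) :
    ∃ S : Finset (presT φ), Subgroup.closure (S : Set (presT φ)) = ⊤ ∧ S.card ≤ rels.card - n := by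
  classical
  let lc : (rels → ℤ) →ₗ[ℤ] Additive (rho φ).ker := Fintype.linearCombination ℤ (relVec φ rels hker)
  have hlc : Function.Surjective lc := by
    rw [← LinearMap.range_eq_top, Fintype.range_linearCombination, span_relVec]
  let f : (rels → ℤ) →ₗ[ℤ] (Fin n →₀ ℤ) := (kerToFree φ).comp lc
  -- the range of `f` has full rank
  have hrange : n ≤ Module.finrank ℤ (LinearMap.range f) := by
    have hm : (Nat.card Q : ℤ) ≠ 0 := by
      exact_mod_cast (Nat.card_pos (α := Q)).ne'
    have hmem : ∀ w : Fin n →₀ ℤ, ((Nat.card Q : ℤ) • LinearMap.id : (Fin n →₀ ℤ) →ₗ[ℤ] _) w ∈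
        LinearMap.range f := by
      intro w
      obtain ⟨a, rfl⟩ := (FreeAbelianGroup.equivFinsupp (Fin n)).surjective w
      obtain ⟨f₀, hf₀⟩ := QuotientGroup.mk_surjective (Additive.toMul a :
        Abelianization (FreeGroup (Fin n)))
      have hpow : ((f₀ ^ Nat.card Q : FreeGroup (Fin n)) : CoverH φ) ∈ (rho φ).ker := by
        rw [MonoidHom.mem_ker, rho_mk, map_pow, pow_card_eq_one']
      obtain ⟨c, hc⟩ := hlc (Additive.ofMul ⟨_, hpow⟩)
      refine ⟨c, ?_⟩
      show kerToFree φ (lc c) = (Nat.card Q : ℤ) • FreeAbelianGroup.equivFinsupp (Fin n) a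
      rw [hc, kerToFree_apply, ← map_zsmul]
      congr 1
      show Additive.ofMul (Abelianization.of (f₀ ^ Nat.card Q)) = (Nat.card Q : ℤ) • a
      rw [map_pow, natCast_zsmul]
      have : Abelianization.of f₀ = Additive.toMul a := hf₀
      rw [this]
      rfl
    let sc : (Fin n →₀ ℤ) →ₗ[ℤ] LinearMap.range f :=
      LinearMap.codRestrict _ ((Nat.card Q : ℤ) • LinearMap.id) hmem
    have hinj : Function.Injective sc := by
      intro a b hab
      have h1 : (Nat.card Q : ℤ) • a = (Nat.card Q : ℤ) • b := congrArg Subtype.val hab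
      exact smul_right_injective _ hm h1
    have h2 := LinearMap.finrank_le_finrank_of_injective hinj
    rwa [Module.finrank_finsupp_self, Fintype.card_fin] at h2
  -- rank-nullity
  have hrn : Module.finrank ℤ (LinearMap.range f) + Module.finrank ℤ (LinearMap.ker f) =
      rels.card := by
    have h1 := (LinearMap.ker f).finrank_quotient_add_finrank
    rw [LinearEquiv.finrank_eq f.quotKerEquivRange, Module.finrank_fintype_fun_eq_card,
      Fintype.card_coe] at h1
    exact h1
  have hk : Module.finrank ℤ (LinearMap.ker f) ≤ rels.card - n := by omega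
  -- a basis of the kernel
  let b := Module.finBasis ℤ (LinearMap.ker f)
  have hτmem : ∀ c : LinearMap.ker f,
      ((Additive.toMul (lc c) : (rho φ).ker) : CoverH φ) ∈ presT φ := by
    intro c
    refine ⟨(Additive.toMul (lc c) : (rho φ).ker).2, ?_⟩
    exact (kerToFree_eq_zero_iff φ (lc c)).mp c.2
  let τ : LinearMap.ker f → presT φ := fun c => ⟨_, hτmem c⟩
  have hτadd : ∀ x y, τ (x + y) = τ x * τ y := by
    intro x y
    apply Subtype.ext
    show ((Additive.toMul (lc ((x + y : LinearMap.ker f) : rels → ℤ)) : (rho φ).ker) : CoverH φ) =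
      ((Additive.toMul (lc x) : (rho φ).ker) : CoverH φ) *
        ((Additive.toMul (lc y) : (rho φ).ker) : CoverH φ)
    rw [Submodule.coe_add, map_add, toMul_add, Subgroup.coe_mul]
  have hτzero : τ 0 = 1 := by
    apply Subtype.ext
    show ((Additive.toMul (lc ((0 : LinearMap.ker f) : rels → ℤ)) : (rho φ).ker) : CoverH φ) = 1
    rw [Submodule.coe_zero, map_zero, toMul_zero, Subgroup.coe_one]
  have hτsmul : ∀ (a : ℤ) x, τ (a • x) = τ x ^ a := by
    intro a x
    apply Subtype.ext
    show ((Additive.toMul (lc ((a • x : LinearMap.ker f) : rels → ℤ)) : (rho φ).ker) : CoverH φ) =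
      ((τ x ^ a : presT φ) : CoverH φ)
    rw [Submodule.coe_smul, map_smul, toMul_zsmul, Subgroup.coe_zpow, Subgroup.coe_zpow]
  let S : Finset (presT φ) := Finset.univ.image (fun j => τ (b j))
  refine ⟨S, ?_, ?_⟩
  · rw [eq_top_iff]
    intro t _
    obtain ⟨c, hc⟩ := hlc (Additive.ofMul ⟨(t : CoverH φ), t.2.1⟩)
    have hcf : c ∈ LinearMap.ker f := by
      rw [LinearMap.mem_ker]
      show kerToFree φ (lc c) = 0
      rw [hc, kerToFree_eq_zero_iff]
      exact t.2.2
    have ht : t = τ ⟨c, hcf⟩ := by
      apply Subtype.ext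
      show (t : CoverH φ) = ((Additive.toMul (lc c) : (rho φ).ker) : CoverH φ)
      rw [hc]
      rfl
    rw [ht]
    generalize (⟨c, hcf⟩ : LinearMap.ker f) = c'
    have hspan : c' ∈ Submodule.span ℤ (Set.range b) := by
      rw [b.span_eq]; exact Submodule.mem_top
    induction hspan using Submodule.span_induction with
    | mem x hx =>
      obtain ⟨j, rfl⟩ := hx
      exact Subgroup.subset_closure (Finset.mem_image_of_mem _ (Finset.mem_univ j))
    | zero => rw [hτzero]; exact Subgroup.one_mem _
    | add x y _ _ hx hy => rw [hτadd]; exact Subgroup.mul_mem _ hx hy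
    | smul a x _ hx => rw [hτsmul]; exact Subgroup.zpow_mem _ hx a
  · calc S.card ≤ (Finset.univ : Finset (Fin (Module.finrank ℤ (LinearMap.ker f)))).card :=
        Finset.card_image_le
      _ = Module.finrank ℤ (LinearMap.ker f) := by simp
      _ ≤ rels.card - n := hk

end Rank

end Cfsg.Agent.Helper66
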