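import Mathlib
import Cfsg.Agent.Helper66.SchurRank
import Cfsg.Agent.Helper66.MetaRel

set_option autoImplicit false

namespace Cfsg.Agent.Helper66

open scoped commutatorElement

universe u v

section Gen

variable {X : Type u} {Q : Type v} [Group Q] (φ : FreeGroup X →* Q)

/-- The kernel of `F / [F, R] → Q` is generated by the images of the relators. -/
theorem ker_rho_eq_closure (rels : Set (FreeGroup X))
    (hker : φ.ker = Subgroup.normalClosure rels) :
    (rho φ).ker = Subgroup.closure ((fun f : FreeGroup X => (f : CoverH φ)) '' rels) := by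
  apply le_antisymm
  · set C : Subgroup (CoverH φ) :=
      Subgroup.closure ((fun f : FreeGroup X => (f : CoverH φ)) '' rels) with hC
    have hCle : C ≤ (rho φ).ker := by
      rw [hC, Subgroup.closure_le]
      rintro _ ⟨f, hf, rfl⟩
      rw [SetLike.mem_coe, MonoidHom.mem_ker, rho_mk, ← MonoidHom.mem_ker, hker]
      exact Subgroup.subset_normalClosure hf
    haveI hCn : C.Normal := normal_of_le_center C (hCle.trans (ker_rho_le_center φ))
    have hsub : rels ⊆ (C.comap (QuotientGroup.mk' (relComm φ)) : Subgroup (FreeGroup X)) := by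
      intro f hf
      rw [SetLike.mem_coe, Subgroup.mem_comap]
      exact Subgroup.subset_closure ⟨f, hf, rfl⟩
    have hle : φ.ker ≤ C.comap (QuotientGroup.mk' (relComm φ)) := by
      rw [hker]
      exact Subgroup.normalClosure_le_normal hsub
    intro x hx
    obtain ⟨f, rfl⟩ := QuotientGroup.mk_surjective x
    rw [MonoidHom.mem_ker, rho_mk, ← MonoidHom.mem_ker] at hx
    exact hle hx
  · rw [Subgroup.closure_le]
    rintro _ ⟨f, hf, rfl⟩
    rw [SetLike.mem_coe, MonoidHom.mem_ker, rho_mk, ← MonoidHom.mem_ker, hker]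
    exact Subgroup.subset_normalClosure hf

/-- The exponent-sum homomorphism on `F / [F, R]` with weights `wt`. -/
def expSum (wt : X → ℤ) : CoverH φ →* Multiplicative ℤ :=
  QuotientGroup.lift (relComm φ) (FreeGroup.lift (fun x => Multiplicative.ofAdd (wt x))) (by
    refine (relComm_le_commutator φ).trans ?_
    exact Abelianization.commutator_subset_ker _)

@[simp] theorem expSum_mk_of (wt : X → ℤ) (x : X) :
    expSum φ wt ((FreeGroup.of x : FreeGroup X) : CoverH φ) = Multiplicative.ofAdd (wt x) := by
  unfold expSum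
  rw [QuotientGroup.lift_mk, FreeGroup.lift_apply_of]

theorem expSum_eq_one_of_mem_commutator (wt : X → ℤ) {x : CoverH φ}
    (hx : x ∈ commutator (CoverH φ)) : expSum φ wt x = 1 :=
  Abelianization.commutator_subset_ker (expSum φ wt) hx

end Gen

section Triple

open scoped IsMulCommutative

theorem exists_zpow_of_mem_closure_triple {H : Type*} [Group H] {a b c : H}
    (ha : a ∈ Subgroup.center H) (hb : b ∈ Subgroup.center H) (hc : c ∈ Subgroup.center H)
    {x : H} (hx : x ∈ Subgroup.closure ({a, b, c} : Set H)) :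
    ∃ i j k : ℤ, x = a ^ i * b ^ j * c ^ k := by
  let A : Subgroup.center H := ⟨a, ha⟩
  let B : Subgroup.center H := ⟨b, hb⟩
  let C : Subgroup.center H := ⟨c, hc⟩
  let θ : Multiplicative ℤ × Multiplicative ℤ × Multiplicative ℤ →* Subgroup.center H :=
    (zpowersHom _ A).coprod ((zpowersHom _ B).coprod (zpowersHom _ C))
  have hle : Subgroup.closure ({a, b, c} : Set H) ≤ ((Subgroup.center H).subtype.comp θ).range := by
    rw [Subgroup.closure_le]
    rintro y (rfl | rfl | rfl)
    · exact ⟨(Multiplicative.ofAdd 1, 1, 1), by simp [θ, A]⟩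
    · exact ⟨(1, Multiplicative.ofAdd 1, 1), by simp [θ, B]⟩
    · exact ⟨(1, 1, Multiplicative.ofAdd 1), by simp [θ, C]⟩
  obtain ⟨⟨i, j, k⟩, rfl⟩ := hle hx
  exact ⟨Multiplicative.toAdd i, Multiplicative.toAdd j, Multiplicative.toAdd k,
    by simp [θ, A, B, C, mul_assoc]⟩

end Triple

end Cfsg.Agent.Helper66
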