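import Mathlib
import Cfsg.Agent.Helper66.MetaPres

set_option autoImplicit false

namespace Cfsg.Agent.Helper66

open scoped commutatorElement

section Meta

/-- The relators of the metacyclic presentation. -/
def metaRels (m n r t : ℕ) : Set (FreeGroup Bool) :=
  {FreeGroup.of true ^ m, (FreeGroup.of false) ^ n * (FreeGroup.of true ^ t)⁻¹,
    FreeGroup.of false * FreeGroup.of true * (FreeGroup.of false)⁻¹ * (FreeGroup.of true ^ r)⁻¹}

variable {Q : Type} [Group Q] (φ : FreeGroup Bool →* Q) (m n r t : ℕ)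

/-- The image of the first generator in `F / [F, R]`. -/
def mA : CoverH φ := ((FreeGroup.of true : FreeGroup Bool) : CoverH φ)
/-- The image of the second generator in `F / [F, R]`. -/
def mB : CoverH φ := ((FreeGroup.of false : FreeGroup Bool) : CoverH φ)
/-- The image of the third relator. -/
def mZ1 : CoverH φ := mB φ * mA φ * (mB φ)⁻¹ * (mA φ ^ r)⁻¹
/-- The image of the first relator. -/
def mZ2 : CoverH φ := mA φ ^ m
/-- The image of the second relator. -/
def mZ3 : CoverH φ := mB φ ^ n * (mA φ ^ t)⁻¹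

variable {m n r t}

theorem meta_ker_rho (hker : φ.ker = Subgroup.normalClosure (metaRels m n r t)) :
    (rho φ).ker = Subgroup.closure ({mZ2 φ m, mZ3 φ n t, mZ1 φ r} : Set (CoverH φ)) := by
  rw [ker_rho_eq_closure φ _ hker, metaRels, Set.image_insert_eq, Set.image_insert_eq,
    Set.image_singleton]
  rfl

theorem mZ2_mem_ker (hker : φ.ker = Subgroup.normalClosure (metaRels m n r t)) :
    mZ2 φ m ∈ (rho φ).ker := by
  rw [meta_ker_rho φ hker]; exact Subgroup.subset_closure (by simp)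

theorem mZ3_mem_ker (hker : φ.ker = Subgroup.normalClosure (metaRels m n r t)) :
    mZ3 φ n t ∈ (rho φ).ker := by
  rw [meta_ker_rho φ hker]; exact Subgroup.subset_closure (by simp)

theorem mZ1_mem_ker (hker : φ.ker = Subgroup.normalClosure (metaRels m n r t)) :
    mZ1 φ r ∈ (rho φ).ker := by
  rw [meta_ker_rho φ hker]; exact Subgroup.subset_closure (by simp)

theorem meta_h1 : mB φ * mA φ * (mB φ)⁻¹ = mZ1 φ r * mA φ ^ r := by
  unfold mZ1; rw [inv_mul_cancel_right]

theorem meta_h3 : mB φ ^ n = mZ3 φ n t * mA φ ^ t := by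
  unfold mZ3; rw [inv_mul_cancel_right]

theorem toAdd_expSum_mZ2 (wt : Bool → ℤ) :
    Multiplicative.toAdd (expSum φ wt (mZ2 φ m)) = m * wt true := by
  unfold mZ2 mA
  rw [map_pow, expSum_mk_of, toAdd_pow, toAdd_ofAdd, nsmul_eq_mul]

theorem toAdd_expSum_mZ3 (wt : Bool → ℤ) :
    Multiplicative.toAdd (expSum φ wt (mZ3 φ n t)) = n * wt false - t * wt true := by
  unfold mZ3 mA mB
  simp only [map_mul, map_inv, map_pow, expSum_mk_of, toAdd_mul, toAdd_inv,
    toAdd_pow, toAdd_ofAdd, nsmul_eq_mul]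
  ring

theorem toAdd_expSum_mZ1 (wt : Bool → ℤ) :
    Multiplicative.toAdd (expSum φ wt (mZ1 φ r)) = (1 - r) * wt true := by
  unfold mZ1 mA mB
  simp only [map_mul, map_inv, map_pow, expSum_mk_of, toAdd_mul, toAdd_inv,
    toAdd_pow, toAdd_ofAdd, nsmul_eq_mul]
  ring

theorem meta_presT_le (hker : φ.ker = Subgroup.normalClosure (metaRels m n r t))
    (hn : 0 < n) (hr : 0 < r) (u d v : ℕ) (hd : 0 < d) (hu : 0 < u) (hmd : m = u * d)
    (hrd : r - 1 = v * d) (hcop : Nat.Coprime u v) :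
    presT φ ≤ Subgroup.zpowers (mZ1 φ r ^ u * mZ2 φ m ^ v) := by
  rintro x ⟨hxk, hxc⟩
  have hz1 := ker_rho_le_center φ (mZ1_mem_ker φ hker)
  have hz2 := ker_rho_le_center φ (mZ2_mem_ker φ hker)
  have hz3 := ker_rho_le_center φ (mZ3_mem_ker φ hker)
  rw [meta_ker_rho φ hker] at hxk
  obtain ⟨i, j, k, rfl⟩ := exists_zpow_of_mem_closure_triple hz2 hz3 hz1 hxk
  have hb := expSum_eq_one_of_mem_commutator φ (fun b : Bool => if b then (0 : ℤ) else 1) hxc
  have ha := expSum_eq_one_of_mem_commutator φ (fun b : Bool => if b then (1 : ℤ) else 0) hxc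
  have hb' := congrArg Multiplicative.toAdd hb
  have ha' := congrArg Multiplicative.toAdd ha
  simp only [map_mul, map_zpow, toAdd_mul, toAdd_zpow, toAdd_expSum_mZ1, toAdd_expSum_mZ2,
    toAdd_expSum_mZ3, toAdd_one] at hb' ha'
  simp only [if_true, smul_eq_mul, mul_zero, mul_one, zero_add, add_zero, sub_zero,
    Bool.false_eq_true, if_false, zero_sub] at hb' ha'
  have hj : j = 0 := by
    rcases mul_eq_zero.mp hb' with h | h
    · exact h
    · exfalso; have : (n : ℤ) ≠ 0 := by exact_mod_cast hn.ne'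
      exact this h
  subst hj
  have hrd' : (r : ℤ) - 1 = v * d := by
    have : ((r - 1 : ℕ) : ℤ) = (r : ℤ) - 1 := by
      rw [Nat.cast_sub hr]; simp
    rw [← this, hrd]; push_cast; ring
  have hmd' : (m : ℤ) = u * d := by rw [hmd]; push_cast; ring
  have h4 : i * u = k * v := by
    have hd' : (d : ℤ) ≠ 0 := by exact_mod_cast hd.ne'
    apply mul_right_cancel₀ hd'
    have h5 : i * m = k * (r - 1) := by linarith
    calc i * u * d = i * m := by rw [hmd']; ring
      _ = k * (r - 1) := h5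
      _ = k * v * d := by rw [hrd']; ring
  have hcop' : IsCoprime (u : ℤ) (v : ℤ) := Nat.isCoprime_iff_coprime.mpr hcop
  have hdvd : (u : ℤ) ∣ k := by
    apply hcop'.dvd_of_dvd_mul_right
    exact ⟨i, by rw [← h4]; ring⟩
  obtain ⟨c, rfl⟩ := hdvd
  have hi : i = c * v := by
    have hu' : (u : ℤ) ≠ 0 := by exact_mod_cast hu.ne'
    apply mul_right_cancel₀ hu'
    rw [h4]; ring
  subst hi
  rw [Subgroup.mem_zpowers_iff]
  refine ⟨c, ?_⟩
  have hc : Commute (mZ1 φ r ^ u) (mZ2 φ m ^ v) :=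
    (Subgroup.mem_center_iff.mp (Subgroup.pow_mem _ hz1 u) _).symm
  rw [hc.mul_zpow, zpow_zero, mul_one, ← zpow_natCast, ← zpow_natCast, ← zpow_mul, ← zpow_mul]
  have hc2 : Commute (mZ1 φ r ^ ((u : ℤ) * c)) (mZ2 φ m ^ ((v : ℤ) * c)) :=
    (Subgroup.mem_center_iff.mp (Subgroup.zpow_mem _ hz1 _) _).symm
  rw [hc2.eq, mul_comm (c : ℤ) (v : ℤ)]

theorem meta_w_mem_presT (hker : φ.ker = Subgroup.normalClosure (metaRels m n r t))
    (hr : 0 < r) (u d v : ℕ) (hmd : m = u * d) (hrd : r - 1 = v * d) :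
    mZ1 φ r ^ u * mZ2 φ m ^ v ∈ presT φ := by
  refine ⟨Subgroup.mul_mem _ (Subgroup.pow_mem _ (mZ1_mem_ker φ hker) u)
    (Subgroup.pow_mem _ (mZ2_mem_ker φ hker) v), ?_⟩
  have hz1 := ker_rho_le_center φ (mZ1_mem_ker φ hker)
  rw [meta_w_eq_commutator_pow hz1 (meta_h1 φ) (show mA φ ^ m = mZ2 φ m from rfl) hr u d v hmd hrd]
  exact Subgroup.pow_mem _ (Subgroup.commutator_mem_commutator (Subgroup.mem_top _)
    (Subgroup.mem_top _)) u

theorem meta_presT_eq (hker : φ.ker = Subgroup.normalClosure (metaRels m n r t))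
    (hn : 0 < n) (hr : 0 < r) (u d v : ℕ) (hd : 0 < d) (hu : 0 < u) (hmd : m = u * d)
    (hrd : r - 1 = v * d) (hcop : Nat.Coprime u v) :
    presT φ = Subgroup.zpowers (mZ1 φ r ^ u * mZ2 φ m ^ v) := by
  apply le_antisymm (meta_presT_le φ hker hn hr u d v hd hu hmd hrd hcop)
  rw [Subgroup.zpowers_le]
  exact meta_w_mem_presT φ hker hr u d v hmd hrd

end Meta

end Cfsg.Agent.Helper66
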