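import Mathlib
import Cfsg.Agent.Helper66.MetaPres2

set_option autoImplicit false

namespace Cfsg.Agent.Helper66

/-- A group generated by `a, b` with `a ^ m = 1`, `b ^ n = a ^ t`, `b a b⁻¹ = a ^ r` is finite. -/
theorem finite_of_metacyclic_rel {G : Type*} [Group G] (a b : G) (m n r t : ℕ) (hm : 0 < m)
    (hn : 0 < n) (ha : a ^ m = 1) (hb : b ^ n = a ^ t) (hba : b * a * b⁻¹ = a ^ r)
    (hgen : Subgroup.closure ({a, b} : Set G) = ⊤) : Finite G := by
  have hfo : IsOfFinOrder a := isOfFinOrder_iff_pow_eq_one.mpr ⟨m, hm, ha⟩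
  have hAfin : (Subgroup.zpowers a : Set G).Finite := finite_zpowers.mpr hfo
  set S : Set G := Set.image2 (fun x (j : ℕ) => x * b ^ j) (Subgroup.zpowers a : Set G) (Set.Iio n)
    with hS
  have hSfin : S.Finite := Set.Finite.image2 _ hAfin (Set.finite_Iio n)
  -- conjugation by `b` maps `⟨a⟩` into itself
  have hconj : ∀ z ∈ Subgroup.zpowers a, b * z * b⁻¹ ∈ Subgroup.zpowers a := by
    intro z hz
    have h1 : Subgroup.map (MulAut.conj b).toMonoidHom (Subgroup.zpowers a) =
        Subgroup.zpowers (b * a * b⁻¹) := by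
      rw [MonoidHom.map_zpowers]; rfl
    have h2 : b * z * b⁻¹ ∈ Subgroup.map (MulAut.conj b).toMonoidHom (Subgroup.zpowers a) :=
      ⟨z, hz, rfl⟩
    rw [h1, hba] at h2
    exact (Subgroup.zpowers_le.mpr (Subgroup.pow_mem _ (Subgroup.mem_zpowers a) r)) h2
  have hA : ∀ z0 ∈ Subgroup.zpowers a, ∀ y ∈ S, z0 * y ∈ S := by
    rintro z0 hz0 _ ⟨z, hz, j, hj, rfl⟩
    exact ⟨z0 * z, Subgroup.mul_mem _ hz0 hz, j, hj, mul_assoc z0 z (b ^ j)⟩
  have hB : ∀ y ∈ S, b * y ∈ S := by
    rintro _ ⟨z, hz, j, hj, rfl⟩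
    have hj' : j < n := hj
    have e1 : b * (z * b ^ j) = (b * z * b⁻¹) * b ^ (j + 1) := by
      rw [pow_succ']; group
    rcases Nat.lt_or_ge (j + 1) n with h | h
    · exact ⟨b * z * b⁻¹, hconj z hz, j + 1, h, e1.symm⟩
    · have hjn : j + 1 = n := by omega
      refine ⟨b * z * b⁻¹ * a ^ t, Subgroup.mul_mem _ (hconj z hz)
        (Subgroup.pow_mem _ (Subgroup.mem_zpowers a) t), 0, hn, ?_⟩
      show b * z * b⁻¹ * a ^ t * b ^ 0 = b * (z * b ^ j)
      rw [e1, hjn, hb, pow_zero, mul_one]
  have hBk : ∀ (k : ℕ), ∀ y ∈ S, b ^ k * y ∈ S := by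
    intro k
    induction k with
    | zero => intro y hy; simpa using hy
    | succ k ih =>
      intro y hy
      rw [pow_succ', mul_assoc]
      exact hB _ (ih y hy)
  have hBinv : ∀ y ∈ S, b⁻¹ * y ∈ S := by
    intro y hy
    have e : b⁻¹ = b ^ (n - 1) * (a ^ t)⁻¹ := by
      rw [← hb]
      obtain ⟨k, rfl⟩ : ∃ k, n = k + 1 := ⟨n - 1, by omega⟩
      simp only [Nat.add_sub_cancel]
      rw [pow_succ', mul_inv_rev, mul_inv_cancel_left]
    rw [e, mul_assoc]
    exact hBk _ _ (hA _ (Subgroup.inv_mem _ (Subgroup.pow_mem _ (Subgroup.mem_zpowers a) t)) y hy)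
  have hall : ∀ g : G, g ∈ S := by
    intro g
    have hg : g ∈ Subgroup.closure ({a, b} : Set G) := by rw [hgen]; exact Subgroup.mem_top g
    induction hg using Subgroup.closure_induction_left with
    | one => exact ⟨1, Subgroup.one_mem _, 0, hn, by simp⟩
    | mul_left x hx y _ ih =>
      rcases hx with rfl | rfl
      · exact hA _ (Subgroup.mem_zpowers _) y ih
      · exact hB y ih
    | inv_mul_cancel x hx y _ ih =>
      rcases hx with rfl | rfl
      · exact hA _ (Subgroup.inv_mem _ (Subgroup.mem_zpowers _)) y ih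
      · exact hBinv y ih
  exact Set.finite_univ_iff.mp (hSfin.subset (fun g _ => hall g))

/-- The metacyclic presented group is finite. -/
theorem finite_presentedGroup_metaRels (m n r t : ℕ) (hm : 0 < m) (hn : 0 < n) :
    Finite (PresentedGroup (metaRels m n r t)) := by
  have h1 : (PresentedGroup.mk (metaRels m n r t)) (FreeGroup.of true ^ m) = 1 :=
    PresentedGroup.one_of_mem (by unfold metaRels; simp)
  have h2 : (PresentedGroup.mk (metaRels m n r t))
      ((FreeGroup.of false) ^ n * (FreeGroup.of true ^ t)⁻¹) = 1 :=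
    PresentedGroup.one_of_mem (by unfold metaRels; simp)
  have h3 : (PresentedGroup.mk (metaRels m n r t))
      (FreeGroup.of false * FreeGroup.of true * (FreeGroup.of false)⁻¹ *
        (FreeGroup.of true ^ r)⁻¹) = 1 :=
    PresentedGroup.one_of_mem (by unfold metaRels; simp)
  apply finite_of_metacyclic_rel (PresentedGroup.of true : PresentedGroup (metaRels m n r t))
    (PresentedGroup.of false) m n r t hm hn
  · rw [← h1, map_pow]; rfl
  · rw [map_mul, map_inv, map_pow, map_pow, mul_inv_eq_one] at h2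
    exact h2
  · rw [map_mul, map_mul, map_mul, map_inv, map_inv, map_pow, mul_inv_eq_one] at h3
    exact h3
  · rw [← PresentedGroup.closure_range_of]
    congr 1
    ext x
    simp only [Set.mem_insert_iff, Set.mem_singleton_iff, Set.mem_range, Bool.exists_bool]
    constructor
    · rintro (rfl | rfl)
      · exact Or.inr rfl
      · exact Or.inl rfl
    · rintro (h | h)
      · exact Or.inr h.symm
      · exact Or.inl h.symm

end Cfsg.Agent.Helper66
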