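import Mathlib
import Cfsg.Agent.Helper66.MetaPres2

set_option autoImplicit false
set_option linter.style.haveILetI false

namespace Cfsg.Agent.Helper66

open scoped commutatorElement

universe u v w

section GenLift

variable {X : Type u} {Q : Type v} [Group Q] (φ : FreeGroup X →* Q)

/-- A homomorphism from the free group sending the relators to elements commuting with the images
of the generators factors through `F / [F, R]`. -/
theorem relComm_le_ker_of_commute {P : Type w} [Group P] (rels : Set (FreeGroup X))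
    (hker : φ.ker = Subgroup.normalClosure rels) (ψ₀ : FreeGroup X →* P)
    (h : ∀ rel ∈ rels, ∀ x : X, Commute (ψ₀ rel) (ψ₀ (FreeGroup.of x))) :
    relComm φ ≤ ψ₀.ker := by
  -- relators commute with the whole image
  have h1 : ∀ rel ∈ rels, ∀ f : FreeGroup X, Commute (ψ₀ rel) (ψ₀ f) := by
    intro rel hrel f
    have : (⊤ : Subgroup (FreeGroup X)) ≤ (Subgroup.centralizer {ψ₀ rel}).comap ψ₀ := by
      rw [← FreeGroup.closure_range_of, Subgroup.closure_le]
      rintro _ ⟨x, rfl⟩
      rw [SetLike.mem_coe, Subgroup.mem_comap, Subgroup.mem_centralizer_iff]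
      intro y hy
      rw [Set.mem_singleton_iff] at hy
      subst hy
      exact (h rel hrel x).eq
    have h2 := this (Subgroup.mem_top f)
    rw [Subgroup.mem_comap, Subgroup.mem_centralizer_iff] at h2
    exact h2 _ rfl
  -- the normal subgroup of elements whose image commutes with the whole image
  let N : Subgroup (FreeGroup X) := (Subgroup.centralizer (ψ₀.range : Set P)).comap ψ₀
  haveI : N.Normal := by
    constructor
    intro n hn g
    rw [Subgroup.mem_comap, Subgroup.mem_centralizer_iff] at hn ⊢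
    have hc : ψ₀ (g * n * g⁻¹) = ψ₀ n := by
      rw [map_mul, map_mul, map_inv, hn (ψ₀ g) ⟨g, rfl⟩, mul_inv_cancel_right]
    rw [hc]
    exact hn
  have hsub : rels ⊆ N := by
    intro rel hrel
    rw [SetLike.mem_coe, Subgroup.mem_comap, Subgroup.mem_centralizer_iff]
    rintro _ ⟨f, rfl⟩
    exact ((h1 rel hrel f).eq).symm
  have hle : φ.ker ≤ N := by
    rw [hker]; exact Subgroup.normalClosure_le_normal hsub
  unfold relComm
  rw [Subgroup.commutator_le]
  intro f _ k hk
  rw [MonoidHom.mem_ker, map_commutatorElement, commutatorElement_eq_one_iff_mul_comm]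
  have := hle hk
  rw [Subgroup.mem_comap, Subgroup.mem_centralizer_iff] at this
  exact this (ψ₀ f) ⟨f, rfl⟩

end GenLift

section Model

variable (c : ℕ)

/-- Translations of `ℤ × ZMod c`. -/
def mT : Multiplicative (ℤ × ZMod c) →* Equiv.Perm (ℤ × ZMod c) :=
  AddMonoidHom.toMultiplicativeLeft (AddAction.toPermHom (ℤ × ZMod c) (ℤ × ZMod c))

theorem mT_apply (g : Multiplicative (ℤ × ZMod c)) (p : ℤ × ZMod c) :
    mT c g p = Multiplicative.toAdd g + p := rfl

variable {c}

/-- The shear `(i, j) ↦ (i, r j + i)`. -/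
def mBeta (r r' : ZMod c) (h : r * r' = 1) : Equiv.Perm (ℤ × ZMod c) where
  toFun p := (p.1, r * p.2 + (p.1 : ZMod c))
  invFun p := (p.1, r' * (p.2 - (p.1 : ZMod c)))
  left_inv p := by
    ext
    · rfl
    · show r' * (r * p.2 + (p.1 : ZMod c) - (p.1 : ZMod c)) = p.2
      rw [add_sub_cancel_right, ← mul_assoc, mul_comm r' r, h, one_mul]
  right_inv p := by
    ext
    · rfl
    · show r * (r' * (p.2 - (p.1 : ZMod c))) + (p.1 : ZMod c) = p.2
      rw [← mul_assoc, h, one_mul, sub_add_cancel]

variable (r r' : ZMod c) (h : r * r' = 1)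

theorem mBeta_apply (p : ℤ × ZMod c) :
    mBeta r r' h p = (p.1, r * p.2 + (p.1 : ZMod c)) := rfl

theorem mBeta_pow_apply (k : ℕ) (p : ℤ × ZMod c) :
    (mBeta r r' h ^ k) p = (p.1, r ^ k * p.2 + (∑ i ∈ Finset.range k, r ^ i) * (p.1 : ZMod c)) := by
  induction k with
  | zero => simp
  | succ k ih =>
    rw [pow_succ', Equiv.Perm.mul_apply, ih, mBeta_apply, geom_sum_succ]
    ext
    · rfl
    · simp only
      ring

theorem mBeta_pow_eq_one (n : ℕ) (h1 : r ^ n = 1) (h2 : (∑ i ∈ Finset.range n, r ^ i) = 0) :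
    mBeta r r' h ^ n = 1 := by
  ext p
  · rw [mBeta_pow_apply]; rfl
  · rw [mBeta_pow_apply, h1, h2]; simp

theorem mBeta_commute_mT (x : ℤ) (y : ZMod c) (hxy : (r - 1) * y + (x : ZMod c) = 0) :
    Commute (mT c (Multiplicative.ofAdd (x, y))) (mBeta r r' h) := by
  ext p
  · simp only [Equiv.Perm.mul_apply, mBeta_apply, mT_apply, toAdd_ofAdd, Prod.fst_add]
  · simp only [Equiv.Perm.mul_apply, mBeta_apply, mT_apply, toAdd_ofAdd, Prod.fst_add,
      Prod.snd_add]
    push_cast
    linear_combination (-1 : ZMod c) * hxy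

theorem mBeta_conj :
    mBeta r r' h * mT c (Multiplicative.ofAdd (1, 0)) * (mBeta r r' h)⁻¹ =
      mT c (Multiplicative.ofAdd (1, 1)) := by
  rw [mul_inv_eq_iff_eq_mul]
  ext p
  · simp only [Equiv.Perm.mul_apply, mBeta_apply, mT_apply, toAdd_ofAdd, Prod.fst_add]
  · simp only [Equiv.Perm.mul_apply, mBeta_apply, mT_apply, toAdd_ofAdd, Prod.fst_add,
      Prod.snd_add]
    push_cast
    ring

theorem mT_commute (g g' : Multiplicative (ℤ × ZMod c)) : Commute (mT c g) (mT c g') := by
  show mT c g * mT c g' = mT c g' * mT c g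
  rw [← map_mul, ← map_mul, mul_comm]

theorem mT_eq_one_iff (g : Multiplicative (ℤ × ZMod c)) : mT c g = 1 ↔ g = 1 := by
  constructor
  · intro hg
    have := congrArg (fun e : Equiv.Perm (ℤ × ZMod c) => e 0) hg
    simp only [mT_apply, add_zero, Equiv.Perm.coe_one, id_eq] at this
    exact this
  · rintro rfl; exact map_one _

end Model

end Cfsg.Agent.Helper66
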