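import Mathlib
import Cfsg.Agent.Helper66.MetaModel
import Cfsg.Agent.Helper66.MetaFinite

set_option autoImplicit false
set_option linter.style.haveILetI false

namespace Cfsg.Agent.Helper66

open scoped commutatorElement

section Tau

variable {c : ℕ}

theorem mT_mul' (x x' : ℤ) (y y' : ZMod c) :
    mT c (Multiplicative.ofAdd (x, y)) * mT c (Multiplicative.ofAdd (x', y')) =
      mT c (Multiplicative.ofAdd (x + x', y + y')) := by
  rw [← map_mul, ← ofAdd_add, Prod.mk_add_mk]

theorem mT_inv' (x : ℤ) (y : ZMod c) :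
    (mT c (Multiplicative.ofAdd (x, y)))⁻¹ = mT c (Multiplicative.ofAdd (-x, -y)) := by
  rw [← map_inv, ← ofAdd_neg, Prod.neg_mk]

theorem mT_pow' (x : ℤ) (y : ZMod c) (k : ℕ) :
    (mT c (Multiplicative.ofAdd (x, y))) ^ k =
      mT c (Multiplicative.ofAdd ((k : ℤ) * x, (k : ZMod c) * y)) := by
  rw [← map_pow, ← ofAdd_nsmul, Prod.smul_mk, nsmul_eq_mul, nsmul_eq_mul]

end Tau

section Order

variable {Q : Type} [Group Q] (φ : FreeGroup Bool →* Q) {m n r t : ℕ}

theorem meta_orderOf_w (hker : φ.ker = Subgroup.normalClosure (metaRels m n r t))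
    (hn : 0 < n) (hr : 0 < r) (u d v s' q l : ℕ) (hu : 0 < u) (hd : 0 < d)
    (hmd : m = u * d) (hrd : r - 1 = v * d)
    (hs' : (∑ i ∈ Finset.range n, r ^ i) = u * s') (hq : r ^ n = 1 + m * q) (hvs : v * s' = q)
    (ht : t = u * l) :
    orderOf (mZ1 φ r ^ u * mZ2 φ m ^ v) = Nat.gcd l (Nat.gcd d s') := by
  have hz1 := ker_rho_le_center φ (mZ1_mem_ker φ hker)
  have hz2 := ker_rho_le_center φ (mZ2_mem_ker φ hker)
  have hz3 := ker_rho_le_center φ (mZ3_mem_ker φ hker)
  set e := Nat.gcd l (Nat.gcd d s') with he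
  have hel : e ∣ l := Nat.gcd_dvd_left _ _
  have hed : e ∣ d := (Nat.gcd_dvd_right _ _).trans (Nat.gcd_dvd_left _ _)
  have hes : e ∣ s' := (Nat.gcd_dvd_right _ _).trans (Nat.gcd_dvd_right _ _)
  apply Nat.dvd_antisymm
  · apply orderOf_dvd_of_pow_eq_one
    exact meta_w_pow_eq_one hz1 hz2 hz3 (meta_h1 φ) rfl (meta_h3 φ) hr u d v s' q l hmd hrd hs' hq
      hvs ht
  · -- the model
    set c := u * e with hc
    have hcm : ((m : ℕ) : ZMod c) = 0 := by
      rw [ZMod.natCast_eq_zero_iff, hmd, hc]; exact Nat.mul_dvd_mul_left u hed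
    have hct : ((t : ℕ) : ZMod c) = 0 := by
      rw [ZMod.natCast_eq_zero_iff, ht, hc]; exact Nat.mul_dvd_mul_left u hel
    have hcs : ((∑ i ∈ Finset.range n, r ^ i : ℕ) : ZMod c) = 0 := by
      rw [ZMod.natCast_eq_zero_iff, hs', hc]; exact Nat.mul_dvd_mul_left u hes
    have hrn1 : (r : ZMod c) ^ n = 1 := by
      have := congrArg (fun x : ℕ => (x : ZMod c)) hq
      simp only [Nat.cast_pow, Nat.cast_add, Nat.cast_one, Nat.cast_mul, hcm, zero_mul,
        add_zero] at this
      exact this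
    have hsum : (∑ i ∈ Finset.range n, (r : ZMod c) ^ i) = 0 := by
      rw [← hcs]; push_cast; rfl
    have hrr' : (r : ZMod c) * (r : ZMod c) ^ (n - 1) = 1 := by
      rw [← pow_succ', Nat.sub_add_cancel hn, hrn1]
    set B := mBeta (r : ZMod c) ((r : ZMod c) ^ (n - 1)) hrr' with hB
    let gen : Bool → Equiv.Perm (ℤ × ZMod c) :=
      fun b => if b then mT c (Multiplicative.ofAdd (1, 0)) else B
    let ψ₀ : FreeGroup Bool →* Equiv.Perm (ℤ × ZMod c) := FreeGroup.lift gen
    have hψt : ψ₀ (FreeGroup.of true) = mT c (Multiplicative.ofAdd (1, 0)) := by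
      simp [ψ₀, gen]
    have hψf : ψ₀ (FreeGroup.of false) = B := by
      simp [ψ₀, gen]
    have hBn : B ^ n = 1 := mBeta_pow_eq_one _ _ hrr' n hrn1 hsum
    have hrel1 : ψ₀ (FreeGroup.of true ^ m) =
        mT c (Multiplicative.ofAdd ((m : ℤ) * 1, (m : ZMod c) * 0)) := by
      rw [map_pow, hψt, mT_pow']
    have hrel2 : ψ₀ ((FreeGroup.of false) ^ n * (FreeGroup.of true ^ t)⁻¹) =
        mT c (Multiplicative.ofAdd (-((t : ℤ) * 1), -((t : ZMod c) * 0))) := by
      rw [map_mul, map_inv, map_pow, map_pow, hψt, hψf, hBn, one_mul, mT_pow', mT_inv']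
    have hrel3 : ψ₀ (FreeGroup.of false * FreeGroup.of true * (FreeGroup.of false)⁻¹ *
        (FreeGroup.of true ^ r)⁻¹) =
        mT c (Multiplicative.ofAdd (1 + -((r : ℤ) * 1), 1 + -((r : ZMod c) * 0))) := by
      rw [map_mul, map_mul, map_mul, map_inv, map_inv, map_pow, hψt, hψf, hB, mBeta_conj,
        mT_pow', mT_inv', mT_mul']
    have hcomm : ∀ rel ∈ metaRels m n r t, ∀ x : Bool,
        Commute (ψ₀ rel) (ψ₀ (FreeGroup.of x)) := by
      intro rel hrel x
      unfold metaRels at hrel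
      rcases hrel with rfl | rfl | rfl
      · rw [hrel1]
        cases x
        · rw [hψf]
          apply mBeta_commute_mT
          push_cast
          rw [hcm]; ring
        · rw [hψt]; exact mT_commute _ _
      · rw [hrel2]
        cases x
        · rw [hψf]
          apply mBeta_commute_mT
          push_cast
          rw [hct]; ring
        · rw [hψt]; exact mT_commute _ _
      · rw [hrel3]
        cases x
        · rw [hψf]
          apply mBeta_commute_mT
          push_cast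
          ring
        · rw [hψt]; exact mT_commute _ _
    let Ψ : CoverH φ →* Equiv.Perm (ℤ × ZMod c) :=
      QuotientGroup.lift (relComm φ) ψ₀ (relComm_le_ker_of_commute φ _ hker ψ₀ hcomm)
    have hΨ1 : Ψ (mZ1 φ r) =
        mT c (Multiplicative.ofAdd (1 + -((r : ℤ) * 1), 1 + -((r : ZMod c) * 0))) := by
      rw [← hrel3]; rfl
    have hΨ2 : Ψ (mZ2 φ m) = mT c (Multiplicative.ofAdd ((m : ℤ) * 1, (m : ZMod c) * 0)) := by
      rw [← hrel1]; rfl
    set k := orderOf (mZ1 φ r ^ u * mZ2 φ m ^ v) with hk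
    have hpow : (mZ1 φ r ^ u * mZ2 φ m ^ v) ^ k = 1 := pow_orderOf_eq_one _
    have hΨw := congrArg Ψ hpow
    rw [map_pow, map_mul, map_pow, map_pow, hΨ1, hΨ2, mT_pow', mT_pow', mT_mul', mT_pow', map_one,
      mT_eq_one_iff] at hΨw
    have h2 := congrArg (fun g : Multiplicative (ℤ × ZMod c) => (Multiplicative.toAdd g).2) hΨw
    simp only [toAdd_ofAdd, toAdd_one, Prod.snd_zero, mul_zero, neg_zero, add_zero, mul_one]
      at h2
    have h3 : ((k * u : ℕ) : ZMod c) = 0 := by
      rw [← h2]; push_cast; rfl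
    rw [ZMod.natCast_eq_zero_iff, hc, mul_comm k u] at h3
    exact (Nat.mul_dvd_mul_iff_left hu).mp h3

end Order

section Final

variable {Q : Type} [Group Q] (φ : FreeGroup Bool →* Q) {m n r t : ℕ}

theorem nonempty_mulEquiv_zpowers {H : Type*} [Group H] (w : H) (e : ℕ) (h : orderOf w = e) :
    Nonempty (Multiplicative (ZMod e) ≃* Subgroup.zpowers w) := by
  refine ⟨zmodMulEquivOfGenerator (g := (⟨w, Subgroup.mem_zpowers w⟩ : Subgroup.zpowers w)) ?_ ?_⟩
  · rintro ⟨x, hx⟩
    obtain ⟨i, rfl⟩ := Subgroup.mem_zpowers_iff.mp hx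
    exact Subgroup.mem_zpowers_iff.mpr ⟨i, Subtype.ext (by simp)⟩
  · rw [Nat.card_zpowers, h]

theorem meta_presT_mulEquiv (hker : φ.ker = Subgroup.normalClosure (metaRels m n r t))
    (hn : 0 < n) (hr : 0 < r) (u d v s' q l : ℕ) (hu : 0 < u) (hd : 0 < d)
    (hmd : m = u * d) (hrd : r - 1 = v * d) (hcop : Nat.Coprime u v)
    (hs' : (∑ i ∈ Finset.range n, r ^ i) = u * s') (hq : r ^ n = 1 + m * q) (hvs : v * s' = q)
    (ht : t = u * l) :
    Nonempty (Multiplicative (ZMod (Nat.gcd l (Nat.gcd d s'))) ≃* presT φ) := by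
  have h1 := meta_presT_eq φ hker hn hr u d v hd hu hmd hrd hcop
  have h2 := meta_orderOf_w φ hker hn hr u d v s' q l hu hd hmd hrd hs' hq hvs ht
  obtain ⟨f⟩ := nonempty_mulEquiv_zpowers _ _ h2
  exact ⟨f.trans (MulEquiv.subgroupCongr h1.symm)⟩

/-- **Schur multiplier of a metacyclic group.** -/
theorem hasCyclicSchurMultiplier_metacyclic (m n r l : ℕ) (hm : 0 < m) (hn : 0 < n) (hr : 0 < r)
    (hrn : r ^ n ≡ 1 [MOD m]) :
    Cfsg.HasCyclicSchurMultiplier
      (PresentedGroup (metaRels m n r (m * l / Nat.gcd m (r - 1))))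
      (Nat.gcd l (Nat.gcd m (r - 1) * Nat.gcd m (∑ i ∈ Finset.range n, r ^ i) / m)) := by
  obtain ⟨u, d, v, s', q, hu, hd, hmd, hrd, hcop, hs', hq, hvs, ht, he⟩ :=
    meta_arith m n r hm hr hrn
  rw [he, ht l]
  set t := u * l with htdef
  haveI : Finite (PresentedGroup (metaRels m n r t)) := finite_presentedGroup_metaRels m n r t hm hn
  let φ : FreeGroup Bool →* PresentedGroup (metaRels m n r t) := PresentedGroup.mk _
  have hφ : Function.Surjective φ := PresentedGroup.mk_surjective _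
  have hker : φ.ker = Subgroup.normalClosure (metaRels m n r t) := QuotientGroup.ker_mk' _
  have hH := hasSchurMultiplier_presT φ hφ
  obtain ⟨f⟩ := meta_presT_mulEquiv φ hker hn hr u d v s' q l hu hd hmd hrd hcop hs' hq hvs htdef
  exact hasSchurMultiplier_of_mulEquiv hH f

end Final

end Cfsg.Agent.Helper66
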