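import Mathlib

set_option autoImplicit false

namespace Cfsg.Agent.Helper66

/-- A finite abelian group that is not cyclic admits, for some prime `q`, two additive characters
to `ZMod q` and two elements on which their "determinant" does not vanish. -/
theorem exists_two_characters_of_not_isCyclic (G : Type*) [CommGroup G] [Finite G] (hG : ¬ IsCyclic G) :
    ∃ (q : ℕ) (_ : q.Prime) (ψ₁ ψ₂ : Additive G →+ ZMod q) (g h : Additive G),
      ψ₁ g * ψ₂ h - ψ₁ h * ψ₂ g ≠ 0 := by
  classical
  obtain ⟨ι, hι, p, hp, e, ⟨f⟩⟩ := AddCommGroup.equiv_directSum_zmod_of_finite (Additive G)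
  let F : Additive G ≃+ ((i : ι) → ZMod (p i ^ e i)) := f.trans (DirectSum.addEquivProd _)
  -- there are two indices with the same prime and nonzero exponents
  have hex : ∃ i j : ι, i ≠ j ∧ p i = p j ∧ e i ≠ 0 ∧ e j ≠ 0 := by
    by_contra hcon
    apply hG
    have hcop : Pairwise (Function.onFun Nat.Coprime fun i => p i ^ e i) := by
      intro i j hij
      show Nat.Coprime (p i ^ e i) (p j ^ e j)
      by_cases hi : e i = 0
      · rw [hi, pow_zero]; exact Nat.coprime_one_left _
      by_cases hj : e j = 0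
      · rw [hj, pow_zero]; exact Nat.coprime_one_right _
      have hne : p i ≠ p j := fun h => hcon ⟨i, j, hij, h, hi, hj⟩
      exact Nat.Coprime.pow _ _ ((Nat.coprime_primes (hp i) (hp j)).mpr hne)
    let E := (ZMod.prodEquivPi (fun i => p i ^ e i) hcop).toAddEquiv
    have : IsAddCyclic (Additive G) :=
      isAddCyclic_of_surjective (F.symm.toAddMonoidHom.comp E.toAddMonoidHom)
        (F.symm.surjective.comp E.surjective)
    exact isAddCyclic_additive_iff.mp this
  obtain ⟨i, j, hij, hpij, hei, hej⟩ := hex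
  have hdi : p i ∣ p i ^ e i := dvd_pow_self _ hei
  have hdj : p i ∣ p j ^ e j := by rw [hpij]; exact dvd_pow_self _ hej
  let ψ₁ : Additive G →+ ZMod (p i) :=
    ((ZMod.castHom hdi (ZMod (p i))).toAddMonoidHom.comp (Pi.evalAddMonoidHom _ i)).comp F.toAddMonoidHom
  let ψ₂ : Additive G →+ ZMod (p i) :=
    ((ZMod.castHom hdj (ZMod (p i))).toAddMonoidHom.comp (Pi.evalAddMonoidHom _ j)).comp F.toAddMonoidHom
  refine ⟨p i, hp i, ψ₁, ψ₂, F.symm (Pi.single i 1), F.symm (Pi.single j 1), ?_⟩
  haveI : Fact (p i).Prime := ⟨hp i⟩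
  have e1 : ∀ x, ψ₁ x = ZMod.castHom hdi (ZMod (p i)) ((F x) i) := fun x => rfl
  have e2 : ∀ x, ψ₂ x = ZMod.castHom hdj (ZMod (p i)) ((F x) j) := fun x => rfl
  have h11 : ψ₁ (F.symm (Pi.single i 1)) = 1 := by
    rw [e1, F.apply_symm_apply, Pi.single_eq_same, map_one]
  have h12 : ψ₁ (F.symm (Pi.single j 1)) = 0 := by
    rw [e1, F.apply_symm_apply, Pi.single_eq_of_ne hij, map_zero]
  have h22 : ψ₂ (F.symm (Pi.single j 1)) = 1 := by
    rw [e2, F.apply_symm_apply, Pi.single_eq_same, map_one]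
  rw [h11, h12, h22]
  simp

end Cfsg.Agent.Helper66
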