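import Mathlib

/-!
# The norm (transfer) map `R/[F,R] → R/[S,R]` (for S3953)

`R` is a normal subgroup of `F`, `S` a subgroup of finite index containing `R`.
-/

set_option autoImplicit false
set_option linter.style.haveILetI false

namespace Cfsg.Agent.Helper66

open scoped commutatorElement IsMulCommutative

universe u

section NormMap

variable {F : Type u} [Group F] (R S : Subgroup F) [hRn : R.Normal]

/-- The subgroup `[S, R]` of `S`. -/
abbrev relCommS : Subgroup S := ⁅(⊤ : Subgroup S), R.subgroupOf S⁆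

/-- The group `S / [S, R]`. -/
abbrev RelQ : Type u := S ⧸ relCommS R S

/-- The quotient map `S → S / [S, R]`. -/
abbrev mkQ : S →* RelQ R S := QuotientGroup.mk' (relCommS R S)

variable {R S}

theorem mkQ_mem_center {r : S} (hr : (r : F) ∈ R) : mkQ R S r ∈ Subgroup.center (RelQ R S) := by
  rw [Subgroup.mem_center_iff]
  intro x
  obtain ⟨s, rfl⟩ := QuotientGroup.mk'_surjective (relCommS R S) x
  rw [← map_mul, ← map_mul]
  apply (QuotientGroup.eq).mpr
  have h1 : ⁅s⁻¹, r⁻¹⁆ ∈ relCommS R S :=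
    Subgroup.commutator_mem_commutator (Subgroup.mem_top _)
      (Subgroup.mem_subgroupOf.mpr (by simpa using R.inv_mem hr))
  have h2 : (s * r)⁻¹ * (r * s) = (⁅s⁻¹, r⁻¹⁆)⁻¹ := by
    rw [commutatorElement_def]; group
  rw [h2]
  exact (relCommS R S).inv_mem h1

/-- Conjugation by elements of `S` is trivial on the image of `R`. -/
theorem mkQ_conj_eq {r : S} (hr : (r : F) ∈ R) (s : S) : mkQ R S (s⁻¹ * r * s) = mkQ R S r := by
  have h := Subgroup.mem_center_iff.mp (mkQ_mem_center hr) (mkQ R S s)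
  rw [map_mul, map_mul, map_inv, mul_assoc, ← h, ← mul_assoc, inv_mul_cancel, one_mul]


variable (hRS : R ≤ S)
include hRS

/-- `r ↦ t⁻¹ r t` modulo `[S, R]`. -/
def conjR (t : F) : R →* Subgroup.center (RelQ R S) where
  toFun r := ⟨mkQ R S ⟨t⁻¹ * r * t, hRS (by
      have := hRn.conj_mem (r : F) r.2 t⁻¹
      simpa using this)⟩, mkQ_mem_center (by
      have := hRn.conj_mem (r : F) r.2 t⁻¹
      simpa using this)⟩
  map_one' := by
    apply Subtype.ext
    simp only [Subgroup.coe_one, mul_one, inv_mul_cancel]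
    exact map_one _
  map_mul' a b := by
    apply Subtype.ext
    simp only [Subgroup.coe_mul]
    rw [← map_mul]
    congr 1
    apply Subtype.ext
    simp only [Subgroup.coe_mul]
    group

theorem conjR_apply_coe (t : F) (r : R) (h : t⁻¹ * (r : F) * t ∈ S) :
    ((conjR hRS t r : Subgroup.center (RelQ R S)) : RelQ R S) = mkQ R S ⟨t⁻¹ * r * t, h⟩ := rfl

/-- Changing the conjugating element inside its coset does not change `conjR`. -/
theorem conjR_mul_right (t : F) (s : S) : conjR hRS (t * s) = conjR hRS t := by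
  ext r
  have hmem : t⁻¹ * (r : F) * t ∈ R := by
    have := hRn.conj_mem (r : F) r.2 t⁻¹
    simpa using this
  have h1 := mkQ_conj_eq (r := ⟨t⁻¹ * (r : F) * t, hRS hmem⟩) hmem s
  rw [conjR_apply_coe hRS t r (hRS hmem), ← h1]
  change mkQ R S _ = mkQ R S _
  congr 1
  apply Subtype.ext
  simp only [Subgroup.coe_mul, Subgroup.coe_inv]
  group


variable [S.FiniteIndex]

/-- The norm map `R → Z(S/[S,R])`, `r ↦ ∏ (T q)⁻¹ r (T q)` over the cosets `q` of `S`. -/
noncomputable def normMap (T : F ⧸ S → F) : R →* Subgroup.center (RelQ R S) :=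
  letI := S.fintypeQuotientOfFiniteIndex
  ∏ q : F ⧸ S, conjR hRS (T q)

theorem normMap_apply (T : F ⧸ S → F) (r : R) :
    letI := S.fintypeQuotientOfFiniteIndex
    normMap hRS T r = ∏ q : F ⧸ S, conjR hRS (T q) r := by
  unfold normMap
  exact MonoidHom.finset_prod_apply _ _ _

/-- The norm map does not depend on the choice of coset representatives. -/
theorem normMap_indep (T T' : F ⧸ S → F) (hT : ∀ q, (QuotientGroup.mk (T q) : F ⧸ S) = q)
    (hT' : ∀ q, (QuotientGroup.mk (T' q) : F ⧸ S) = q) : normMap hRS T = normMap hRS T' := by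
  unfold normMap
  apply Finset.prod_congr rfl
  intro q _
  have hs : (T q)⁻¹ * T' q ∈ S := by
    rw [← QuotientGroup.eq, hT, hT']
  have : T' q = T q * ((⟨(T q)⁻¹ * T' q, hs⟩ : S) : F) := by simp
  rw [this, conjR_mul_right]


theorem conjR_conj (t f : F) (r : R) (h : f * (r : F) * f⁻¹ ∈ R) :
    conjR hRS t ⟨f * r * f⁻¹, h⟩ = conjR hRS (f⁻¹ * t) r := by
  apply Subtype.ext
  change mkQ R S _ = mkQ R S _
  congr 1
  apply Subtype.ext
  simp only
  group

/-- The norm map is invariant under conjugation by `F`. -/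
theorem normMap_conj (T : F ⧸ S → F) (hT : ∀ q, (QuotientGroup.mk (T q) : F ⧸ S) = q) (f : F)
    (r : R) (h : f * (r : F) * f⁻¹ ∈ R) : normMap hRS T ⟨f * r * f⁻¹, h⟩ = normMap hRS T r := by
  letI := S.fintypeQuotientOfFiniteIndex
  have hT' : ∀ q : F ⧸ S, (QuotientGroup.mk (f⁻¹ * T (f • q)) : F ⧸ S) = q := by
    intro q
    rw [← smul_eq_mul, ← MulAction.Quotient.smul_mk, hT, inv_smul_smul]
  rw [normMap_apply, normMap_indep hRS T (fun q => f⁻¹ * T (f • q)) hT hT', normMap_apply]
  simp only [conjR_conj]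
  exact (Equiv.prod_comp (MulAction.toPerm f) (fun q => conjR hRS (f⁻¹ * T q) r)).symm


/-- The norm map kills `[F, R]`. -/
theorem normMap_eq_one_of_mem_commutator (T : F ⧸ S → F)
    (hT : ∀ q, (QuotientGroup.mk (T q) : F ⧸ S) = q) (d : R)
    (hd : (d : F) ∈ ⁅(⊤ : Subgroup F), R⁆) : normMap hRS T d = 1 := by
  have hle : ⁅(⊤ : Subgroup F), R⁆ ≤ (normMap hRS T).ker.map R.subtype := by
    rw [Subgroup.commutator_le]
    intro f _ r hr
    have hconj : f * r * f⁻¹ ∈ R := hRn.conj_mem r hr f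
    refine ⟨⟨f * r * f⁻¹, hconj⟩ * (⟨r, hr⟩ : R)⁻¹, ?_, ?_⟩
    · rw [SetLike.mem_coe, MonoidHom.mem_ker, map_mul, map_inv,
        normMap_conj hRS T hT f ⟨r, hr⟩ hconj, mul_inv_cancel]
    · simp only [Subgroup.coe_subtype, Subgroup.coe_mul, Subgroup.coe_inv]
      rw [commutatorElement_def]
  obtain ⟨d', hd', hdd⟩ := hle hd
  have : d' = d := Subtype.ext hdd
  rw [← this]
  exact MonoidHom.mem_ker.mp hd'


omit hRS in
/-- The natural map `S / [S, R] → F / [F, R]`. -/
def corMap (R S : Subgroup F) [R.Normal] : RelQ R S →* F ⧸ ⁅(⊤ : Subgroup F), R⁆ :=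
  QuotientGroup.map (relCommS R S) ⁅(⊤ : Subgroup F), R⁆ S.subtype (by
    rw [Subgroup.commutator_le]
    intro a _ b hb
    rw [Subgroup.mem_comap, map_commutatorElement]
    exact Subgroup.commutator_mem_commutator (Subgroup.mem_top _) (Subgroup.mem_subgroupOf.mp hb))

omit hRS [S.FiniteIndex] in
theorem corMap_mkQ (s : S) : corMap R S (mkQ R S s) = QuotientGroup.mk (s : F) := rfl

theorem corMap_conjR (t : F) (r : R) :
    corMap R S ((conjR hRS t r : Subgroup.center (RelQ R S)) : RelQ R S) =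
      (QuotientGroup.mk (r : F) : F ⧸ ⁅(⊤ : Subgroup F), R⁆) := by
  have hmem : t⁻¹ * (r : F) * t ∈ R := by
    have := hRn.conj_mem (r : F) r.2 t⁻¹
    simpa using this
  rw [conjR_apply_coe hRS t r (hRS hmem), corMap_mkQ]
  apply (QuotientGroup.eq).mpr
  have h1 : ⁅t⁻¹, (r : F)⁻¹⁆ ∈ ⁅(⊤ : Subgroup F), R⁆ :=
    Subgroup.commutator_mem_commutator (Subgroup.mem_top _) (R.inv_mem r.2)
  have h2 : (t⁻¹ * (r : F) * t)⁻¹ * (r : F) = ⁅t⁻¹, (r : F)⁻¹⁆ := by
    rw [commutatorElement_def]; group
  rw [h2]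
  exact h1

/-- Composing the norm map with the natural map back gives the `|F : S|`-th power. -/
theorem corMap_normMap (T : F ⧸ S → F) (r : R) :
    corMap R S ((normMap hRS T r : Subgroup.center (RelQ R S)) : RelQ R S) =
      (QuotientGroup.mk (r : F) : F ⧸ ⁅(⊤ : Subgroup F), R⁆) ^ S.index := by
  classical
  letI := S.fintypeQuotientOfFiniteIndex
  have key : ∀ s : Finset (F ⧸ S),
      corMap R S ((∏ q ∈ s, conjR hRS (T q) r : Subgroup.center (RelQ R S)) : RelQ R S) =
        (QuotientGroup.mk (r : F) : F ⧸ ⁅(⊤ : Subgroup F), R⁆) ^ s.card := by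
    intro s
    induction s using Finset.induction_on with
    | empty => simp
    | insert a s ha ih =>
      rw [Finset.prod_insert ha, Subgroup.coe_mul, map_mul, ih, corMap_conjR,
        Finset.card_insert_of_notMem ha, pow_succ']
  rw [normMap_apply, key, Finset.card_univ, Subgroup.index_eq_card, Nat.card_eq_fintype_card]


omit [S.FiniteIndex] in
theorem inv_smul_coset_eq (r : R) (q : F ⧸ S) : (r : F)⁻¹ • q = q := by
  obtain ⟨g, rfl⟩ := QuotientGroup.mk_surjective q
  rw [MulAction.Quotient.smul_mk, smul_eq_mul]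
  apply (QuotientGroup.eq).mpr
  have : ((r : F)⁻¹ * g)⁻¹ * g = g⁻¹ * (r : F) * g⁻¹⁻¹ := by group
  rw [this]
  exact hRS (hRn.conj_mem (r : F) r.2 g⁻¹)

/-- The image of the norm map in the abelianization of `S / [S, R]` is the transfer. -/
theorem abelianization_of_normMap (T : F ⧸ S → F)
    (hT : ∀ q, (QuotientGroup.mk (T q) : F ⧸ S) = q) (r : R) :
    Abelianization.of ((normMap hRS T r : Subgroup.center (RelQ R S)) : RelQ R S) =
      MonoidHom.transfer ((Abelianization.of).comp (mkQ R S)) (r : F) := by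
  classical
  letI := S.fintypeQuotientOfFiniteIndex
  let TT : S.LeftTransversal := ⟨Set.range T, Subgroup.isComplement_range_left hT⟩
  have hTT : ∀ q, ((TT.2.leftQuotientEquiv q : Set.range T) : F) = T q :=
    fun q => Subgroup.IsComplement.leftQuotientEquiv_apply hT q
  rw [MonoidHom.transfer_def _ TT, normMap_apply]
  unfold Subgroup.leftTransversals.diff
  have h1 : Abelianization.of ((∏ q : F ⧸ S, conjR hRS (T q) r : Subgroup.center (RelQ R S)) :
      RelQ R S) = ∏ q : F ⧸ S, Abelianization.of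
        ((conjR hRS (T q) r : Subgroup.center (RelQ R S)) : RelQ R S) :=
    map_prod ((Abelianization.of).comp (Subgroup.center (RelQ R S)).subtype) _ _
  rw [h1]
  apply Finset.prod_congr rfl
  intro q _
  have hmem : (T q)⁻¹ * (r : F) * T q ∈ R := by
    have := hRn.conj_mem (r : F) r.2 (T q)⁻¹
    simpa using this
  rw [conjR_apply_coe hRS (T q) r (hRS hmem)]
  simp only [MonoidHom.coe_comp, Function.comp_apply]
  congr 2
  apply Subtype.ext
  simp only
  rw [Subgroup.smul_apply_eq_smul_apply_inv_smul, hTT, inv_smul_coset_eq hRS r q, hTT, smul_eq_mul,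
    mul_assoc]

/-- The norm map sends `R ∩ F'` into the commutator subgroup of `S / [S, R]`. -/
theorem normMap_mem_commutator (T : F ⧸ S → F)
    (hT : ∀ q, (QuotientGroup.mk (T q) : F ⧸ S) = q) (r : R) (hr : (r : F) ∈ commutator F) :
    ((normMap hRS T r : Subgroup.center (RelQ R S)) : RelQ R S) ∈ commutator (RelQ R S) := by
  rw [← Abelianization.ker_of, MonoidHom.mem_ker, abelianization_of_normMap hRS T hT r]
  exact MonoidHom.mem_ker.mp (Abelianization.commutator_subset_ker _ hr)

end NormMap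

end Cfsg.Agent.Helper66
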