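import Mathlib
import Cfsg.Agent.Helper99.O9.Defs
import Cfsg.Agent.Helper99.O9.C7Defs
import Cfsg.Agent.Helper44.Spinor

set_option autoImplicit false
set_option linter.unusedSectionVars false
set_option linter.unusedVariables false

/-!
# S2517, case (C7), piece (SEMI1) (helper66 for helper99)

An isometry with irreducible characteristic polynomial is semiregular: for every `j`, the
polynomial `X ^ j - 1` is either divisible by the characteristic polynomial (then `M ^ j = 1` by
Cayley-Hamilton) or coprime to it (then `M ^ j - 1` is invertible, by a Bezout relation).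
-/

namespace Cfsg.Agent.Helper66.O9

open Matrix Polynomial QuadraticMap Cfsg.Agent.Helper44 Cfsg.Agent.Helper44.QType Cfsg.Agent.Helper94
open Cfsg.Agent.Helper99.O9

universe u

variable {F : Type u} [Field F]

/-- a matrix is killed by every multiple of its characteristic polynomial -/
theorem semi_aeval_eq_zero_of_dvd {ι : Type} [Fintype ι] [DecidableEq ι] (M : Matrix ι ι F)
    {g : F[X]} (h : M.charpoly ∣ g) : aeval M g = 0 := by
  obtain ⟨r, rfl⟩ := h
  rw [map_mul, Matrix.aeval_self_charpoly, zero_mul]

/-- a polynomial coprime to the characteristic polynomial is invertible at the matrix -/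
theorem semi_isUnit_aeval_of_isCoprime {ι : Type} [Fintype ι] [DecidableEq ι] (M : Matrix ι ι F)
    {g : F[X]} (h : IsCoprime M.charpoly g) : IsUnit (aeval M g) := by
  obtain ⟨a, b, hab⟩ := h
  have h1 : aeval M (a * M.charpoly + b * g) = 1 := by rw [hab, map_one]
  rw [map_add, map_mul, map_mul, Matrix.aeval_self_charpoly, mul_zero, zero_add] at h1
  have h2 : aeval M g * aeval M b = 1 := by
    rw [← map_mul, mul_comm, map_mul]
    exact h1
  exact ⟨⟨aeval M g, aeval M b, h2, h1⟩, rfl⟩

theorem semi_aeval_X_pow_sub_one {ι : Type} [Fintype ι] [DecidableEq ι] (M : Matrix ι ι F)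
    (j : ℕ) : aeval M (X ^ j - 1 : F[X]) = M ^ j - 1 := by
  rw [map_sub, map_pow, aeval_X, map_one]

/-- the criterion: every `X ^ j - 1` is a multiple of the characteristic polynomial or coprime to
it -/
theorem semi_of_dvd_or_isCoprime {P : OPair F}
    (h : ∀ j : ℕ, P.M.charpoly ∣ X ^ j - 1 ∨ IsCoprime P.M.charpoly (X ^ j - 1)) : P.Semi := by
  rw [OPair.semi_def]
  intro j
  rcases h j with hd | hc
  · left
    have h1 := semi_aeval_eq_zero_of_dvd P.M hd
    rw [semi_aeval_X_pow_sub_one] at h1
    exact sub_eq_zero.mp h1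
  · right
    have h1 := semi_isUnit_aeval_of_isCoprime P.M hc
    rw [semi_aeval_X_pow_sub_one] at h1
    exact h1

variable [Fintype F]

/-- (SEMI1) `F[M]` is a field -/
theorem semi_of_irreducible {P : OPair F} (h : Irreducible P.M.charpoly) : P.Semi := by
  apply semi_of_dvd_or_isCoprime
  intro j
  rcases h.isCoprime_or_dvd (X ^ j - 1 : F[X]) with hc | hd
  · exact Or.inr hc
  · exact Or.inl hd

end Cfsg.Agent.Helper66.O9
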