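import Mathlib
import Cfsg.Agent.Helper99.O9.Defs
import Cfsg.Agent.Helper99.O9.C7Defs
import Cfsg.Agent.Helper44.Spinor
import Cfsg.Agent.Helper94.Eo.P_REV
import Cfsg.Agent.Helper66.O9SEMI1

set_option autoImplicit false
set_option linter.unusedSectionVars false
set_option linter.unusedVariables false

/-!
# S2517, case (C7), piece (SEMI2) (helper66 for helper99)

An isometry whose characteristic polynomial is `f * mrev f`, with `f` irreducible and
`mrev f ≠ f`, is semiregular: `f ∣ X ^ j - 1 ↔ mrev f ∣ X ^ j - 1` (the polynomial `X ^ j - 1` is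
self-reciprocal), so `X ^ j - 1` is divisible by both coprime factors or coprime to both.
-/

namespace Cfsg.Agent.Helper66.O9

open Matrix Polynomial QuadraticMap Cfsg.Agent.Helper44 Cfsg.Agent.Helper44.QType Cfsg.Agent.Helper94
open Cfsg.Agent.Helper99.O9

universe u

variable {F : Type u} [Field F]

/-- `X ^ j - 1` is self-reciprocal for `1 ≤ j` -/
theorem semi_sr_X_pow_sub_one {j : ℕ} (hj : 1 ≤ j) : Eo.SR (X ^ j - 1 : F[X]) := by
  have hj0 : j ≠ 0 := by omega
  have hne : (X ^ j - 1 : F[X]) ≠ 0 := X_pow_sub_C_ne_zero (by omega) (1 : F)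
  have hdeg : (X ^ j - 1 : F[X]).natDegree = j := natDegree_X_pow_sub_C (n := j) (r := (1 : F))
  have hc0 : (X ^ j - 1 : F[X]).coeff 0 = -1 := by
    rw [coeff_sub, coeff_X_pow, coeff_one_zero, if_neg (by omega), zero_sub]
  refine ⟨?_, -1, neg_ne_zero.mpr one_ne_zero, ?_⟩
  · rw [hc0]
    exact neg_ne_zero.mpr one_ne_zero
  · ext n
    rw [coeff_C_mul, coeff_reverse, hdeg, coeff_sub, coeff_sub, coeff_X_pow, coeff_X_pow,
      coeff_one, coeff_one]
    by_cases hn : n ≤ j
    · rw [revAt_le hn]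
      by_cases h0 : n = 0
      · subst h0
        have hj0' : ¬ (0 = j) := fun e => hj0 e.symm
        simp [hj0, hj0']
      · by_cases hnj : n = j
        · subst hnj
          have h0' : ¬ (0 = n) := fun e => h0 e.symm
          simp [hj0, h0']
        · have h1 : j - n ≠ j := by omega
          have h2 : j - n ≠ 0 := by omega
          simp [h0, hnj, h1, h2]
    · have hn' : j < n := by omega
      rw [revAt_eq_self_of_lt hn']
      have h1 : n ≠ j := by omega
      have h2 : n ≠ 0 := by omega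
      simp [h1, h2]

/-- the key step: `f ∣ X ^ j - 1` gives `mrev f ∣ X ^ j - 1` -/
theorem semi_mrev_dvd_of_dvd {f : F[X]} (h0 : f.coeff 0 ≠ 0) {j : ℕ} (hj : 1 ≤ j)
    (h : f ∣ X ^ j - 1) : Eo.mrev f ∣ X ^ j - 1 := by
  have h1 : f ^ 1 ∣ (X ^ j - 1 : F[X]) := by rwa [pow_one]
  have h2 := Eo.mrev_pow_dvd_of_pow_dvd (semi_sr_X_pow_sub_one (F := F) hj) h0 h1
  rwa [pow_one] at h2

variable [Fintype F]

/-- (SEMI2) `f ∣ X^j - 1 ↔ mrev f ∣ X^j - 1`; then either `f * mrev f ∣ X^j - 1` (so `M^j = 1`) or `X^j - 1` is coprime to the characteristic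
polynomial (so `M^j - 1` is invertible) -/
theorem semi_of_pair {P : OPair F} {f : F[X]} (hfm : f.Monic) (hf : Irreducible f)
    (hne : Eo.mrev f ≠ f) (h : P.M.charpoly = f * Eo.mrev f) : P.Semi := by
  -- the constant term of `f` is not zero
  have h0 : f.coeff 0 ≠ 0 := by
    intro h0
    have h1 : Eo.mrev f = 0 := by
      unfold Eo.mrev
      rw [h0, _root_.inv_zero, C_0, zero_mul]
    rw [h1, mul_zero] at h
    exact (Matrix.charpoly_monic P.M).ne_zero h
  have hmm : (Eo.mrev f).Monic := Eo.mrev_monic h0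
  have hmi : Irreducible (Eo.mrev f) := Eo.mrev_irreducible hf h0
  have hm0 : (Eo.mrev f).coeff 0 ≠ 0 := Eo.mrev_coeff_zero hfm h0
  have hmr : Eo.mrev (Eo.mrev f) = f := Eo.mrev_mrev hfm h0
  -- the two factors are coprime
  have hcop : IsCoprime f (Eo.mrev f) := by
    rcases hf.isCoprime_or_dvd (Eo.mrev f) with hc | hd
    · exact hc
    · exfalso
      have hass : Associated f (Eo.mrev f) := hf.associated_of_dvd hmi hd
      exact hne (eq_of_monic_of_associated hfm hmm hass).symm
  apply semi_of_dvd_or_isCoprime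
  intro j
  rcases Nat.eq_zero_or_pos j with hj | hj
  · subst hj
    left
    rw [pow_zero, sub_self]
    exact dvd_zero _
  · rw [h]
    by_cases hd : f ∣ (X ^ j - 1 : F[X])
    · left
      exact hcop.mul_dvd hd (semi_mrev_dvd_of_dvd h0 hj hd)
    · right
      have hd' : ¬ Eo.mrev f ∣ (X ^ j - 1 : F[X]) := by
        intro hd'
        apply hd
        have := semi_mrev_dvd_of_dvd hm0 hj hd'
        rwa [hmr] at this
      have c1 : IsCoprime f (X ^ j - 1 : F[X]) :=
        (hf.isCoprime_or_dvd _).resolve_right hd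
      have c2 : IsCoprime (Eo.mrev f) (X ^ j - 1 : F[X]) :=
        (hmi.isCoprime_or_dvd _).resolve_right hd'
      exact c1.mul_left c2

end Cfsg.Agent.Helper66.O9
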