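import Cfsg.Agent.Helper66.OlssonDIAGaux
import Cfsg.Agent.Helper10.OlssonR1
import Cfsg.Agent.Helper86.OlssonR3
import Cfsg.Agent.Helper85.OlssonVLEM
import Cfsg.Agent.Helper79.OlssonDIAGabs

/-!
# Olsson (S4539, helper78 #7662): piece (DIAG), exact Skel statement
-/

set_option autoImplicit false
set_option linter.style.haveILetI false
set_option linter.unusedSectionVars false
set_option linter.unusedVariables false

noncomputable section

namespace Cfsg.Agent.Helper66.Olsson

open Cfsg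
open scoped ComplexConjugate
open Cfsg.Agent.S4426 (cut)
open Cfsg.Agent.Helper16 (contribE)
open Cfsg.Agent.Helper78.Olsson

section GLevel

variable {G : Type*} [Group G] [Fintype G] {M : Ideal AlgInt} {p : ℕ}

/-- (DIAG) the diagonal case. -/
theorem card_block_le_of_diag [Fact p.Prime] (hM : IsPModular p M) {B : Set (IrrCharacter G)}
    (hB : IsPBlock M B) (H : Subgroup G) [Fintype H] (yH : H)
    (hyc : yH ∈ Subgroup.center H) (hHy : H = Subgroup.centralizer ({(yH : G)} : Set G))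
    (n : ℕ) (hn : 1 ≤ n) (hy : orderOf (yH : G) ∣ p ^ n) {b : Set (IrrCharacter H)}
    (hind : IsInducedBlock M H b B) (hdef : blockDefect p b = blockDefect p B)
    (D : RedData p b) (e : ℕ) (he : e < blockDefect p B)
    (h00 : D.C 0 0 = ((p ^ e : ℕ) : ℤ)) (h01 : D.C 0 1 = 0)
    (h11 : D.C 1 1 = ((p ^ blockDefect p B : ℕ) : ℤ))
    (g00 : D.g 0 0 = ((p ^ (blockDefect p B - e) : ℕ) : ℤ)) (g01 : D.g 0 1 = 0)
    (g10 : D.g 1 0 = 0) (g11 : D.g 1 1 = 1) :
    Nat.card B ≤ p ^ blockDefect p B :=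
  card_block_le_of_diag_of hM hB H yH hyc hHy n hn hy hind hdef D e he h00 h01 h11 g00 g01 g10 g11
    (fun x hx hH i j => Cfsg.Agent.Helper10.Olsson.sum_rowE_mul_conj x hx H hH D i j)
    (fun x χ ψ => Cfsg.Agent.Helper86.Olsson.defect_mul_contribE_eq H D x χ ψ)
    (fun γ hγ => Cfsg.Agent.Helper85.Olsson.major_facts hM hB H yH hyc hHy n hy hind hdef γ hγ)
    (fun S T0 hT0 A μ hμ e d hed a1 a2 a3 a4 a5 a6 =>
      Cfsg.Agent.Helper79.Olsson.card_le_of_rows_diag (Fact.out : p.Prime) hM n S T0 hT0 A μ hμ e d hed a1 a2 a3 a4 a5 a6)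

end GLevel

end Cfsg.Agent.Helper66.Olsson

end
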