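import Cfsg.Agent.Helper78.Olsson.Defs
import Cfsg.Agent.Helper16.ContribMajor
import Cfsg.Agent.Helper50.OlssonR2

/-!
# Olsson (S4539, helper78 #7662): piece (DIAG), primed form

`card_block_le_of_diag_of` is the Skel statement `card_block_le_of_diag` with the pieces (R1), (R3),
(VLEM), (DIAGabs) taken as explicit hypotheses (in exactly the Skel form, specialised to the data at
hand); (R2) is `Cfsg.Agent.Helper50.Olsson.exists_rowE_pow_form` (on main).
-/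

set_option autoImplicit false
set_option linter.style.haveILetI false
set_option linter.unusedSectionVars false
set_option linter.unusedVariables false

noncomputable section

namespace Cfsg.Agent.Helper66.Olsson

open Cfsg
open scoped ComplexConjugate
open Cfsg.Agent.S4426 (cut)
open Cfsg.Agent.Helper16 (contribE)
open Cfsg.Agent.Helper78.Olsson

/-- a power form with integer coefficients in roots of unity is an algebraic integer. -/
theorem isIntegral_powForm {ι : Type*} [Fintype ι] (A : ι → ℤ) (μ : ι → ℂ) (N : ℕ) (hN : 0 < N)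
    (hμ : ∀ θ, μ θ ^ N = 1) (γ : ℕ) : IsIntegral ℤ (∑ θ, (A θ : ℂ) * μ θ ^ γ) := by
  refine IsIntegral.sum _ (fun θ _ => ?_)
  refine IsIntegral.mul ?_ ?_
  · have h : IsIntegral ℤ (algebraMap ℤ ℂ (A θ)) := isIntegral_algebraMap
    simpa using h
  · refine IsIntegral.pow ?_ γ
    exact IsIntegral.of_pow hN (by rw [hμ θ]; exact isIntegral_one)

/-- the squared absolute value of such a power form is an algebraic integer. -/
theorem isIntegral_powForm_mul_conj {ι : Type*} [Fintype ι] (A : ι → ℤ) (μ : ι → ℂ) (N : ℕ)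
    (hN : 0 < N) (hμ : ∀ θ, μ θ ^ N = 1) (γ : ℕ) :
    IsIntegral ℤ ((∑ θ, (A θ : ℂ) * μ θ ^ γ) * conj (∑ θ, (A θ : ℂ) * μ θ ^ γ)) := by
  have h := isIntegral_powForm A μ N hN hμ γ
  exact IsIntegral.mul h (map_isIntegral_int (starRingEnd ℂ) h)

section GLevel

variable {G : Type*} [Group G] [Fintype G] {M : Ideal AlgInt} {p : ℕ}

theorem one_mem_unitsRange (hp : p.Prime) {n : ℕ} (hn : 1 ≤ n) : 1 ∈ unitsRange p n := by
  unfold unitsRange
  rw [Finset.mem_filter, Finset.mem_range]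
  exact ⟨Nat.one_lt_pow (by omega) hp.one_lt, Nat.coprime_one_right _⟩

/-- (DIAG) the diagonal case, with the pieces (R1), (R3), (VLEM), (DIAGabs) as hypotheses. -/
theorem card_block_le_of_diag_of [Fact p.Prime] (hM : IsPModular p M) {B : Set (IrrCharacter G)}
    (hB : IsPBlock M B) (H : Subgroup G) [Fintype H] (yH : H)
    (hyc : yH ∈ Subgroup.center H) (hHy : H = Subgroup.centralizer ({(yH : G)} : Set G))
    (n : ℕ) (hn : 1 ≤ n) (hy : orderOf (yH : G) ∣ p ^ n) {b : Set (IrrCharacter H)}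
    (hind : IsInducedBlock M H b B) (hdef : blockDefect p b = blockDefect p B)
    (D : RedData p b) (e : ℕ) (he : e < blockDefect p B)
    (h00 : D.C 0 0 = ((p ^ e : ℕ) : ℤ)) (h01 : D.C 0 1 = 0)
    (h11 : D.C 1 1 = ((p ^ blockDefect p B : ℕ) : ℤ))
    (g00 : D.g 0 0 = ((p ^ (blockDefect p B - e) : ℕ) : ℤ)) (g01 : D.g 0 1 = 0)
    (g10 : D.g 1 0 = 0) (g11 : D.g 1 1 = 1)
    -- (R1)
    (hR1 : ∀ (x : G) (hx : ∃ k : ℕ, orderOf x = p ^ k)
      (hH : H = Subgroup.centralizer ({x} : Set G)) (i j : Fin 2),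
      ∑ χ : IrrCharacter G, rowE D x (χ : G → ℂ) i * conj (rowE D x (χ : G → ℂ) j) =
        (D.C i j : ℂ))
    -- (R3)
    (hR3 : ∀ (x : G) (χ ψ : G → ℂ),
      ((p ^ blockDefect p b : ℕ) : ℂ) * contribE p H x b χ ψ =
        ∑ i : Fin 2, ∑ j : Fin 2, conj (rowE D x χ i) * (D.g i j : ℂ) * rowE D x ψ j)
    -- (VLEM)
    (hV : ∀ γ ∈ unitsRange p n,
      (H = Subgroup.centralizer ({(yH : G) ^ γ} : Set G)) ∧
      (∃ k : ℕ, orderOf ((yH : G) ^ γ) = p ^ k) ∧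
      (∀ ψ : IrrCharacter G, ψ ∈ B → blockHeight p B (ψ : G → ℂ) = 0 →
        ¬ MemLocalIdeal M (((p ^ blockDefect p B : ℕ) : ℂ) *
          contribE p H ((yH : G) ^ γ) b (ψ : G → ℂ) (ψ : G → ℂ))) ∧
      (∀ χ ψ : IrrCharacter G, χ ∈ B → ψ ∈ B → blockHeight p B (ψ : G → ℂ) = 0 →
        contribE p H ((yH : G) ^ γ) b (χ : G → ℂ) (ψ : G → ℂ) ≠ 0) ∧
      (∀ χ : IrrCharacter G, χ ∈ B →
        contribE p H ((yH : G) ^ γ) b (χ : G → ℂ) (χ : G → ℂ) ≠ 0) ∧
      (∀ χ : IrrCharacter G, χ ∈ B →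
        MemLocalRing M (((p ^ blockDefect p B : ℕ) : ℂ) *
          contribE p H ((yH : G) ^ γ) b (χ : G → ℂ) (χ : G → ℂ) /
            ((p ^ blockHeight p B (χ : G → ℂ) : ℕ) : ℂ))))
    -- (DIAGabs), specialised to `K = IrrCharacter G`, `ι = IrrCharacter H`
    (hDA : ∀ (S T0 : Finset (IrrCharacter G)) (hT0 : T0 ⊆ S)
      (A : IrrCharacter G → IrrCharacter H → Fin 2 → ℤ) (μ : IrrCharacter H → ℂ)
      (hμ : ∀ θ, μ θ ^ (p ^ n) = 1) (e d : ℕ) (hed : e < d)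
      (horth0 : ∀ γ ∈ unitsRange p n,
        ∑ χ : IrrCharacter G, (∑ θ, (A χ θ 0 : ℂ) * μ θ ^ γ) *
          conj (∑ θ, (A χ θ 0 : ℂ) * μ θ ^ γ) = ((p ^ e : ℕ) : ℂ))
      (horth1 : ∀ γ ∈ unitsRange p n,
        ∑ χ : IrrCharacter G, (∑ θ, (A χ θ 1 : ℂ) * μ θ ^ γ) *
          conj (∑ θ, (A χ θ 1 : ℂ) * μ θ ^ γ) = ((p ^ d : ℕ) : ℂ))
      (hnz : ∀ χ ∈ S, ¬ (∑ θ, (A χ θ 0 : ℂ) * μ θ = 0 ∧ ∑ θ, (A χ θ 1 : ℂ) * μ θ = 0))
      (hT0Y : ∀ χ ∈ T0, ∑ θ, (A χ θ 1 : ℂ) * μ θ ≠ 0)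
      (hT0X : ∀ ψ ∈ S, ∑ θ, (A ψ θ 1 : ℂ) * μ θ = 0 →
        ∀ χ ∈ T0, ∑ θ, (A χ θ 0 : ℂ) * μ θ ≠ 0)
      (hloc : ∀ χ ∈ S, χ ∉ T0 → ∀ γ ∈ unitsRange p n,
        MemLocalRing M ((∑ θ, (A χ θ 1 : ℂ) * μ θ ^ γ) *
          conj (∑ θ, (A χ θ 1 : ℂ) * μ θ ^ γ) / (p : ℂ))),
      S.card ≤ p ^ d) :
    Nat.card B ≤ p ^ blockDefect p B := by
  classical
  haveI hMp : M.IsPrime := Helper16.IsPModular.isPrime hM
  have hpr : p.Prime := Fact.out
  have hpC : (p : ℂ) ≠ 0 := by exact_mod_cast hpr.ne_zero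
  have hyHpow : yH ^ (p ^ n) = 1 := by
    apply Subtype.ext
    rw [SubmonoidClass.coe_pow]
    exact orderOf_dvd_iff_pow_eq_one.mp hy
  have hN : 0 < p ^ n := pow_pos hpr.pos n
  obtain ⟨μ, hμ, hform⟩ := Cfsg.Agent.Helper50.Olsson.exists_rowE_pow_form H yH hyc n hyHpow D
  choose A hA using hform
  -- the key identity from (R3) with the diagonal `g`
  have hkey : ∀ (γ : ℕ) (χ ψ : IrrCharacter G),
      ((p ^ blockDefect p B : ℕ) : ℂ) *
          contribE p H ((yH : G) ^ γ) b (χ : G → ℂ) (ψ : G → ℂ) =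
        ((p ^ (blockDefect p B - e) : ℕ) : ℂ) *
            (conj (∑ θ, (A χ θ 0 : ℂ) * μ θ ^ γ) * (∑ θ, (A ψ θ 0 : ℂ) * μ θ ^ γ)) +
          conj (∑ θ, (A χ θ 1 : ℂ) * μ θ ^ γ) * (∑ θ, (A ψ θ 1 : ℂ) * μ θ ^ γ) := by
    intro γ χ ψ
    have h := hR3 ((yH : G) ^ γ) (χ : G → ℂ) (ψ : G → ℂ)
    rw [hdef] at h
    rw [h, Fin.sum_univ_two, Fin.sum_univ_two, Fin.sum_univ_two, g00, g01, g10, g11,
      hA χ γ 0, hA χ γ 1, hA ψ γ 0, hA ψ γ 1]
    push_cast
    ring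
  have h1mem : 1 ∈ unitsRange p n := one_mem_unitsRange hpr hn
  -- the finsets
  set S : Finset (IrrCharacter G) := (Set.toFinite B).toFinset with hS
  have hmemS : ∀ χ, χ ∈ S ↔ χ ∈ B := fun χ => Set.Finite.mem_toFinset _
  set T0 : Finset (IrrCharacter G) := S.filter (fun χ => blockHeight p B (χ : G → ℂ) = 0) with hT0
  have hT0S : T0 ⊆ S := Finset.filter_subset _ _
  have hcard : Nat.card B = S.card := Nat.card_eq_card_finite_toFinset (Set.toFinite B)
  rw [hcard]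
  refine hDA S T0 hT0S A μ hμ e (blockDefect p B) he ?_ ?_ ?_ ?_ ?_ ?_
  · -- horth0
    intro γ hγ
    obtain ⟨hH', hxγ, -⟩ := hV γ hγ
    have h := hR1 ((yH : G) ^ γ) hxγ hH' 0 0
    rw [h00] at h
    simp only [hA _ γ 0] at h
    rw [h]
    push_cast
    rfl
  · -- horth1
    intro γ hγ
    obtain ⟨hH', hxγ, -⟩ := hV γ hγ
    have h := hR1 ((yH : G) ^ γ) hxγ hH' 1 1
    rw [h11] at h
    simp only [hA _ γ 1] at h
    rw [h]
    push_cast
    rfl
  · -- hnz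
    intro χ hχ hboth
    obtain ⟨-, -, -, -, hdiag, -⟩ := hV 1 h1mem
    have hne := hdiag χ ((hmemS χ).mp hχ)
    have hk := hkey 1 χ χ
    simp only [pow_one] at hk hne
    rw [hboth.1, hboth.2] at hk
    simp only [mul_zero, add_zero] at hk
    rcases mul_eq_zero.mp hk with h | h
    · exact (by exact_mod_cast (pow_pos hpr.pos _).ne' : ((p ^ blockDefect p B : ℕ) : ℂ) ≠ 0) h
    · exact hne h
  · -- hT0Y
    intro χ hχ hY
    rw [hT0, Finset.mem_filter] at hχ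
    obtain ⟨-, -, hV0, -⟩ := hV 1 h1mem
    have hnot := hV0 χ ((hmemS χ).mp hχ.1) hχ.2
    have hk := hkey 1 χ χ
    simp only [pow_one] at hk hnot
    rw [hY] at hk
    simp only [mul_zero, add_zero] at hk
    rw [hk] at hnot
    apply hnot
    have hint : MemLocalRing M (conj (∑ θ, (A χ θ 0 : ℂ) * μ θ) * (∑ θ, (A χ θ 0 : ℂ) * μ θ)) := by
      have h := isIntegral_powForm_mul_conj (fun θ => A χ θ 0) μ (p ^ n) hN hμ 1
      simp only [pow_one] at h
      rw [mul_comm] at h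
      exact Helper16.memLocalRing_of_isIntegral h
    have hpow : MemLocalIdeal M (((p ^ (blockDefect p B - e) : ℕ) : ℂ)) := by
      have := Helper16.memLocalIdeal_pow_prime hM (k := blockDefect p B - e) (by omega)
      push_cast
      exact this
    exact Helper16.memLocalIdeal_mul_right hpow hint
  · -- hT0X
    intro ψ hψ hY χ hχ hX
    rw [hT0, Finset.mem_filter] at hχ
    obtain ⟨-, -, -, hV2, -⟩ := hV 1 h1mem
    have hne := hV2 ψ χ ((hmemS ψ).mp hψ) ((hmemS χ).mp hχ.1) hχ.2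
    have hk := hkey 1 ψ χ
    simp only [pow_one] at hk hne
    rw [hY, hX] at hk
    simp only [mul_zero, map_zero, zero_mul, add_zero] at hk
    rcases mul_eq_zero.mp hk with h | h
    · exact (by exact_mod_cast (pow_pos hpr.pos _).ne' : ((p ^ blockDefect p B : ℕ) : ℂ) ≠ 0) h
    · exact hne h
  · -- hloc
    intro χ hχ hχT γ hγ
    have hχB : χ ∈ B := (hmemS χ).mp hχ
    have hht : blockHeight p B (χ : G → ℂ) ≠ 0 := by
      intro h0
      exact hχT (by rw [hT0, Finset.mem_filter]; exact ⟨hχ, h0⟩)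
    obtain ⟨-, -, -, -, -, hV1⟩ := hV γ hγ
    have h1 := hV1 χ hχB
    rw [hkey γ χ χ] at h1
    obtain ⟨h', hh'⟩ := Nat.exists_eq_succ_of_ne_zero hht
    set X := ∑ θ, (A χ θ 0 : ℂ) * μ θ ^ γ with hX
    set Y := ∑ θ, (A χ θ 1 : ℂ) * μ θ ^ γ with hY
    have hXint : MemLocalRing M (conj X * X) := by
      have h := isIntegral_powForm_mul_conj (fun θ => A χ θ 0) μ (p ^ n) hN hμ γ
      rw [mul_comm] at h
      exact Helper16.memLocalRing_of_isIntegral h
    -- (p^d m)/p = ((p^d m)/p^h) * p^(h-1)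
    have h2 : MemLocalRing M ((((p ^ (blockDefect p B - e) : ℕ) : ℂ) * (conj X * X) + conj Y * Y) /
        (p : ℂ)) := by
      have := Helper16.memLocalRing_mul h1 (Helper16.memLocalRing_natCast (M := M) (p ^ h'))
      convert this using 1
      rw [hh']
      push_cast
      rw [pow_succ]
      field_simp
    -- subtract p^(d-e-1) |X|^2
    obtain ⟨k, hk⟩ : ∃ k, blockDefect p B - e = k + 1 := ⟨blockDefect p B - e - 1, by omega⟩
    have h3 : MemLocalRing M (((p ^ k : ℕ) : ℂ) * (conj X * X)) :=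
      Helper16.memLocalRing_mul (Helper16.memLocalRing_natCast (M := M) (p ^ k)) hXint
    have h4 := Helper16.memLocalRing_sub h2 h3
    convert h4 using 1
    rw [hk]
    push_cast
    rw [pow_succ]
    field_simp
    ring

end GLevel

end Cfsg.Agent.Helper66.Olsson

end
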