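import Mathlib
import Cfsg.Agent.Helper66.OrderCount
import Cfsg.Agent.Helper73.PGroupCyclic
import Cfsg.Agent.Helper66.SchurMult2

/-!
# Groups in which the numbers of elements of each order take the values `1` and `n` (S3995)
-/

set_option autoImplicit false
set_option linter.style.haveILetI false

namespace Cfsg.Agent.Helper66

universe u

section caseB
variable {G : Type u} [Group G] [Finite G] {n : ℕ}

/-- The hypothesis of case B: a unique involution `t`, and every order `≠ 1, 2` occurs `n` times. -/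
structure UniqInv (G : Type u) [Group G] (n : ℕ) (t : G) : Prop where
  order : orderOf t = 2
  uniq : ∀ g : G, orderOf g = 2 → g = t
  count : ∀ g : G, orderOf g ≠ 1 → orderOf g ≠ 2 → cnt G (orderOf g) = n

theorem UniqInv.cnt_two {t : G} (h : UniqInv G n t) : cnt G 2 = 1 := by
  unfold cnt
  have : Unique {g : G // orderOf g = 2} :=
    { default := ⟨t, h.order⟩
      uniq := fun x => Subtype.ext (h.uniq x.1 x.2) }
  exact Nat.card_unique

theorem UniqInv.central {t : G} (h : UniqInv G n t) (g : G) : g * t = t * g := by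
  have h1 : orderOf (g * t * g⁻¹) = 2 := by
    rw [← h.order]
    exact orderOf_eq_orderOf_iff.mpr (fun k => by rw [conj_pow]; exact conj_eq_one_iff)
  have h2 := h.uniq _ h1
  have := congrArg (fun x => x * g) h2
  simpa [mul_assoc] using this

theorem UniqInv.cnt_eq {t : G} (h : UniqInv G n t) {g : G} {d : ℕ} (hg : orderOf g = d)
    (h1 : d ≠ 1) (h2 : d ≠ 2) : cnt G d = n := by
  rw [← hg]; exact h.count g (hg ▸ h1) (hg ▸ h2)

/-- `cnt G d` is `0` or `n` for `d ≠ 1, 2`. -/
theorem UniqInv.cnt_cases {t : G} (h : UniqInv G n t) {d : ℕ} (h1 : d ≠ 1) (h2 : d ≠ 2) :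
    cnt G d = 0 ∨ cnt G d = n := by
  by_cases hex : ∃ g : G, orderOf g = d
  · obtain ⟨g, hg⟩ := hex
    exact Or.inr (h.cnt_eq hg h1 h2)
  · push Not at hex
    exact Or.inl (cnt_eq_zero_of_forall_ne hex)

theorem UniqInv.two_dvd_card {t : G} (h : UniqInv G n t) : 2 ∣ Nat.card G :=
  h.order ▸ orderOf_dvd_natCard t

/-- If `4 ∣ |G|` there is an element of order `4`, and `4 ∣ 2 + n`. -/
theorem UniqInv.four {t : G} (h : UniqInv G n t) (h4 : 4 ∣ Nat.card G) :
    (∃ x : G, orderOf x = 4) ∧ 4 ∣ 2 + n := by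
  have hS : Nat.card {g : G // g ^ 4 = 1} = 1 + (1 + cnt G 4) := by
    rw [card_pow_eq_one_eq_sum 4 {1, 2, 4}, Finset.sum_insert (by simp),
      Finset.sum_pair (by norm_num), cnt_one, h.cnt_two]
    · intro g hg
      have hd := orderOf_dvd_of_pow_eq_one hg
      have hle := Nat.le_of_dvd (by norm_num) hd
      have hpos := orderOf_pos g
      have : orderOf g = 1 ∨ orderOf g = 2 ∨ orderOf g = 3 ∨ orderOf g = 4 := by omega
      rcases this with h1 | h1 | h1 | h1
      · simp [h1]
      · simp [h1]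
      · rw [h1] at hd; omega
      · simp [h1]
    · intro d hd
      simp only [Finset.mem_insert, Finset.mem_singleton] at hd
      rcases hd with rfl | rfl | rfl <;> norm_num
  have hfrob := Helper75.frobenius_dvd (G := G) 4 h4
  rw [hS] at hfrob
  rcases h.cnt_cases (d := 4) (by norm_num) (by norm_num) with h0 | h0
  · rw [h0] at hfrob; omega
  · refine ⟨?_, by rw [h0] at hfrob; omega⟩
    by_contra hex
    push Not at hex
    have := cnt_eq_zero_of_forall_ne hex
    rw [this] at hfrob; omega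

/-- No odd prime divides `|G|` when `4 ∣ |G|`. -/
theorem UniqInv.no_odd_prime {t : G} (h : UniqInv G n t) (h4 : 4 ∣ Nat.card G) {p : ℕ}
    (hp : p.Prime) (hp2 : p ≠ 2) : ¬ p ∣ Nat.card G := by
  intro hpG
  haveI := Fact.mk hp
  have hp3 : 3 ≤ p := by
    have := hp.two_le; omega
  have hodd : p % 2 = 1 := by
    rcases hp.eq_two_or_odd with h2 | h2
    · exact absurd h2 hp2
    · exact h2
  obtain ⟨y, hy⟩ := exists_prime_orderOf_dvd_card' (G := G) p hpG
  obtain ⟨⟨x, hx⟩, h4n⟩ := h.four h4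
  have hcp : cnt G p = n := h.cnt_eq hy (by omega) (by omega)
  have hc4 : cnt G 4 = n := h.cnt_eq hx (by norm_num) (by norm_num)
  -- element of order 2p
  have hty : orderOf (t * y) = 2 * p := by
    have hc : Commute t y := (h.central y).symm
    rw [hc.orderOf_mul_eq_mul_orderOf_of_coprime (by
      rw [h.order, hy]; exact (Nat.coprime_primes Nat.prime_two hp).mpr (Ne.symm hp2)),
      h.order, hy]
  have hc2p : cnt G (2 * p) = n := h.cnt_eq hty (by omega) (by omega)
  -- p ∣ 1 + n
  have hS1 : Nat.card {g : G // g ^ p = 1} = 1 + n := by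
    rw [card_pow_eq_one_eq_sum p {1, p}, Finset.sum_pair hp.ne_one.symm, cnt_one, hcp]
    · intro g hg
      have := orderOf_dvd_of_pow_eq_one hg
      rcases (Nat.dvd_prime hp).mp this with h1 | h1 <;> simp [h1]
    · intro d hd
      simp only [Finset.mem_insert, Finset.mem_singleton] at hd
      rcases hd with rfl | rfl <;> simp
  have hp1n : p ∣ 1 + n := by
    rw [← hS1]; exact Helper75.frobenius_dvd p hpG
  -- the count for 4p
  have h4p : 4 * p ∣ Nat.card G :=
    Nat.Coprime.mul_dvd_of_dvd_of_dvd (by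
      have : Nat.Coprime (2 ^ 2) p :=
        Nat.Coprime.pow_left 2 ((Nat.coprime_primes Nat.prime_two hp).mpr (Ne.symm hp2))
      simpa using this) h4 hpG
  have hS : Nat.card {g : G // g ^ (4 * p) = 1} =
      1 + (1 + (n + (n + (n + cnt G (4 * p))))) := by
    rw [card_pow_eq_one_eq_sum (4 * p) {1, 2, 4, p, 2 * p, 4 * p},
      Finset.sum_insert (by simp; omega), Finset.sum_insert (by simp; omega),
      Finset.sum_insert (by simp; omega), Finset.sum_insert (by simp; omega),
      Finset.sum_pair (by omega), cnt_one, h.cnt_two, hc4, hcp, hc2p]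
    · intro g hg
      have hd := orderOf_dvd_of_pow_eq_one hg
      obtain ⟨a, b, ha, hb, hab⟩ := (Nat.dvd_mul).mp hd
      have ha' : a = 1 ∨ a = 2 ∨ a = 4 := by
        have hle := Nat.le_of_dvd (by norm_num) ha
        have hpos := Nat.pos_of_dvd_of_pos ha (by norm_num)
        have : a = 1 ∨ a = 2 ∨ a = 3 ∨ a = 4 := by omega
        rcases this with h1 | h1 | h1 | h1
        · exact Or.inl h1
        · exact Or.inr (Or.inl h1)
        · rw [h1] at ha; omega
        · exact Or.inr (Or.inr h1)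
      rcases ha' with rfl | rfl | rfl <;> rcases (Nat.dvd_prime hp).mp hb with rfl | rfl <;>
        simp [← hab]
    · intro d hd
      simp only [Finset.mem_insert, Finset.mem_singleton] at hd
      rcases hd with rfl | rfl | rfl | rfl | rfl | rfl
      · simp
      · exact ⟨2 * p, by ring⟩
      · exact dvd_mul_right _ _
      · exact dvd_mul_left _ _
      · exact ⟨2, by ring⟩
      · exact dvd_rfl
  have hfrob := (dvd_mul_left p 4).trans (Helper75.frobenius_dvd (G := G) (4 * p) h4p)
  rw [hS] at hfrob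
  obtain ⟨a, ha⟩ := hp1n
  rcases h.cnt_cases (d := 4 * p) (by omega) (by omega) with h0 | h0
  · rw [h0] at hfrob
    -- p ∣ 2 + 3n = 3(1+n) - 1
    have : p ∣ 3 * (1 + n) := Dvd.dvd.mul_left ⟨a, ha⟩ 3
    have h5 : 3 * (1 + n) = (1 + (1 + (n + (n + (n + 0))))) + 1 := by ring
    rw [h5] at this
    have : p ∣ 1 := (Nat.dvd_add_right hfrob).mp this
    exact hp.one_lt.ne' (Nat.dvd_one.mp this)
  · rw [h0] at hfrob
    have : p ∣ 4 * (1 + n) := Dvd.dvd.mul_left ⟨a, ha⟩ 4
    have h5 : 4 * (1 + n) = (1 + (1 + (n + (n + (n + n))))) + 2 := by ring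
    rw [h5] at this
    have : p ∣ 2 := (Nat.dvd_add_right hfrob).mp this
    exact hp2 ((Nat.prime_dvd_prime_iff_eq hp Nat.prime_two).mp this)

/-- No element of order `8`. -/
theorem UniqInv.no_eight {t : G} (h : UniqInv G n t) (h4 : 4 ∣ Nat.card G) (g : G) :
    orderOf g ≠ 8 := by
  intro hg
  have h8 : 8 ∣ Nat.card G := hg ▸ orderOf_dvd_natCard g
  obtain ⟨⟨x, hx⟩, h4n⟩ := h.four h4
  have hc4 : cnt G 4 = n := h.cnt_eq hx (by norm_num) (by norm_num)
  have hc8 : cnt G 8 = n := h.cnt_eq hg (by norm_num) (by norm_num)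
  have hS : Nat.card {g : G // g ^ 8 = 1} = 1 + (1 + (n + n)) := by
    rw [card_pow_eq_one_eq_sum 8 {1, 2, 4, 8}, Finset.sum_insert (by simp),
      Finset.sum_insert (by simp), Finset.sum_pair (by norm_num), cnt_one, h.cnt_two, hc4, hc8]
    · intro y hy
      have hd := orderOf_dvd_of_pow_eq_one hy
      have hd' : orderOf y ∣ 2 ^ 3 := by simpa using hd
      obtain ⟨m, hm, hm'⟩ := (Nat.dvd_prime_pow Nat.prime_two).mp hd'
      interval_cases m <;> simp [hm']
    · intro d hd
      simp only [Finset.mem_insert, Finset.mem_singleton] at hd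
      rcases hd with rfl | rfl | rfl | rfl <;> norm_num
  have hfrob := Helper75.frobenius_dvd (G := G) 8 h8
  rw [hS] at hfrob
  omega

end caseB

end Cfsg.Agent.Helper66

namespace Cfsg.Agent.Helper66

universe u

section caseB2
variable {G : Type u} [Group G] [Finite G] {n : ℕ}

/-- Case B2: `4 ∣ |G|` forces `G` cyclic of order 4 or quaternion of order 8. -/
theorem UniqInv.four_dvd {t : G} (h : UniqInv G n t) (h4 : 4 ∣ Nat.card G) :
    Nonempty (G ≃* QuaternionGroup 2) ∨ (IsCyclic G ∧ Nat.card G = 4) := by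
  haveI : Fact (Nat.Prime 2) := ⟨Nat.prime_two⟩
  -- `G` is a 2-group
  have hcard : Nat.card G = 2 ^ (Nat.card G).primeFactorsList.length := by
    apply Nat.eq_prime_pow_of_unique_prime_dvd Nat.card_pos.ne'
    intro d hd hdG
    by_contra hd2
    exact h.no_odd_prime h4 hd hd2 hdG
  have hP : IsPGroup 2 G := IsPGroup.of_card hcard
  -- all orders are 1, 2, 4
  have hord : ∀ g : G, orderOf g ∣ 4 := by
    intro g
    obtain ⟨k, hk⟩ := (IsPGroup.iff_orderOf.mp hP) g
    by_cases hk2 : k ≤ 2
    · rw [hk]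
      exact pow_dvd_pow 2 hk2
    · exfalso
      have h8 : 8 ∣ orderOf g := by
        rw [hk]
        have : (8 : ℕ) = 2 ^ 3 := by norm_num
        rw [this]
        exact pow_dvd_pow 2 (by omega)
      obtain ⟨j, hj⟩ := exists_pow_orderOf_eq' g h8
      exact h.no_eight h4 _ hj
  have hU : Helper73.UniqueOrderP 2 G := by
    intro x y hx hy
    rw [h.uniq x hx, h.uniq y hy]
    exact Subgroup.mem_zpowers t
  rcases Helper73.cyclic_or_quaternion hP hU with hc | ⟨-, m, hm, ⟨e⟩⟩
  · right
    refine ⟨hc, ?_⟩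
    obtain ⟨g, hg⟩ := IsCyclic.exists_ofOrder_eq_natCard (α := G)
    have h1 := hord g
    rw [hg] at h1
    exact Nat.dvd_antisymm h1 h4
  · left
    -- the element `a 1` has order `2 * 2 ^ m`
    have h1 : orderOf (e.symm (QuaternionGroup.a 1)) = 2 * 2 ^ m := by
      rw [MulEquiv.orderOf_eq, QuaternionGroup.orderOf_a_one]
    have h2 := hord (e.symm (QuaternionGroup.a 1))
    rw [h1] at h2
    have hm1 : m = 1 := by
      by_contra hne
      have hm2 : 2 ≤ m := by omega
      have : 2 * 2 ^ 2 ∣ 2 * 2 ^ m := Nat.mul_dvd_mul_left 2 (pow_dvd_pow 2 hm2)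
      have := Nat.le_of_dvd (by norm_num) (this.trans h2)
      omega
    subst hm1
    exact ⟨e⟩

end caseB2

section caseB1
variable {G : Type u} [Group G] [Finite G] {n : ℕ}

/-- Case B1: `4 ∤ |G|` gives `G ≅ Z₂ × P` with `P` of odd prime exponent. -/
theorem UniqInv.not_four_dvd {t : G} (h : UniqInv G n t) (h4 : ¬ 4 ∣ Nat.card G)
    (hex : ∃ g : G, orderOf g ≠ 1 ∧ orderOf g ≠ 2) :
    ∃ (p : ℕ) (P : Type) (_ : Group P) (_ : Finite P), p.Prime ∧ p ≠ 2 ∧ IsPGroup p P ∧
      Monoid.exponent P = p ∧ Nonempty (G ≃* Multiplicative (ZMod 2) × P) := by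
  classical
  haveI : Fact (Nat.Prime 2) := ⟨Nat.prime_two⟩
  set Z : Subgroup G := Subgroup.zpowers t with hZ
  have hZcard : Nat.card Z = 2 := by rw [hZ, Nat.card_zpowers, h.order]
  haveI hZn : Z.Normal := by
    constructor
    intro z hz g
    have hzc : g * z = z * g := by
      obtain ⟨k, rfl⟩ := Subgroup.mem_zpowers_iff.mp hz
      exact ((Commute.zpow_right (h.central g) k) : Commute g (t ^ k))
    rw [hzc, mul_inv_cancel_right]; exact hz
  have hidx : Z.index * 2 = Nat.card G := by rw [← hZcard, mul_comm]; exact Z.card_mul_index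
  have hodd : ¬ 2 ∣ Z.index := by
    intro h2
    apply h4
    obtain ⟨k, hk⟩ := h2
    exact ⟨k, by rw [← hidx, hk]; ring⟩
  have hcop : Nat.Coprime (Nat.card Z) Z.index := by
    rw [hZcard]; exact (Nat.Prime.coprime_iff_not_dvd Nat.prime_two).mpr hodd
  obtain ⟨N, hN⟩ := Subgroup.exists_right_complement'_of_coprime hcop
  have hNcard : Nat.card N = Z.index := by
    have := hN.card_mul
    rw [← Z.card_mul_index] at this
    exact Nat.eq_of_mul_eq_mul_left Nat.card_pos this
  -- elements of `Z`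
  have hZmem : ∀ z ∈ Z, z = 1 ∨ z = t := by
    intro z hz
    have h1 : orderOf z ∣ 2 := by
      have := orderOf_dvd_natCard (⟨z, hz⟩ : Z)
      rwa [hZcard, Subgroup.orderOf_mk] at this
    rcases (Nat.dvd_prime Nat.prime_two).mp h1 with h2 | h2
    · exact Or.inl (orderOf_eq_one_iff.mp h2)
    · exact Or.inr (h.uniq z h2)
  -- elements of N have odd order
  have hNodd : ∀ x ∈ N, ¬ 2 ∣ orderOf x := by
    intro x hx h2
    apply hodd
    rw [← hNcard]
    have := orderOf_dvd_natCard (⟨x, hx⟩ : N)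
    rw [Subgroup.orderOf_mk] at this
    exact h2.trans this
  -- every element is z * x
  have hdecomp : ∀ g : G, ∃ z ∈ Z, ∃ x ∈ N, g = z * x := by
    intro g
    obtain ⟨⟨z, x⟩, hzx⟩ := hN.2 g
    exact ⟨z, z.2, x, x.2, hzx.symm⟩
  -- elements of odd order lie in N
  have hoddN : ∀ g : G, ¬ 2 ∣ orderOf g → g ∈ N := by
    intro g hg
    obtain ⟨z, hz, x, hx, rfl⟩ := hdecomp g
    rcases hZmem z hz with hz1 | hzt
    · rw [hz1, one_mul]; exact hx
    · exfalso
      apply hg
      rw [hzt]
      have hc : Commute t x := (h.central x).symm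
      rw [hc.orderOf_mul_eq_mul_orderOf_of_coprime (by
        rw [h.order]; exact (Nat.Prime.coprime_iff_not_dvd Nat.prime_two).mpr (hNodd x hx)),
        h.order]
      exact dvd_mul_right 2 _
  -- counts in N
  have hcntN : ∀ m : ℕ, ¬ 2 ∣ m → cnt N m = cnt G m := by
    intro m hm
    unfold cnt
    apply Nat.card_congr
    refine ⟨fun x => ⟨(x.1 : G), by rw [Subgroup.orderOf_coe]; exact x.2⟩,
      fun g => ⟨⟨g.1, hoddN g.1 (by rw [g.2]; exact hm)⟩, by
        rw [← Subgroup.orderOf_coe]; exact g.2⟩, fun x => by simp, fun g => by simp⟩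
  have hSame : SameCount N n := by
    intro x hx
    have h1 : ¬ 2 ∣ orderOf x := by
      rw [← Subgroup.orderOf_coe]; exact hNodd x x.2
    rw [hcntN _ h1, ← Subgroup.orderOf_coe]
    apply h.count
    · rw [Subgroup.orderOf_coe, Ne, orderOf_eq_one_iff]; exact hx
    · intro h2
      rw [Subgroup.orderOf_coe] at h2
      exact h1 (h2 ▸ dvd_rfl)
  -- N is nontrivial
  haveI : Nontrivial N := by
    obtain ⟨g, hg1, hg2⟩ := hex
    obtain ⟨z, hz, x, hx, rfl⟩ := hdecomp g
    refine ⟨⟨⟨x, hx⟩, 1, ?_⟩⟩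
    intro hx1
    have hx1' : x = 1 := congrArg Subtype.val hx1
    rw [hx1', mul_one] at hg1 hg2
    rcases hZmem z hz with hz1 | hzt
    · exact hg1 (by rw [hz1]; exact orderOf_one)
    · exact hg2 (by rw [hzt]; exact h.order)
  obtain ⟨p, hp, hpN, hexp, -⟩ := hSame.isPGroup
  have hp2 : p ≠ 2 := by
    rintro rfl
    obtain ⟨x, hx⟩ := exists_ne (1 : N)
    have := (Monoid.exponent_eq_prime_iff Nat.prime_two).mp hexp x hx
    exact hNodd x x.2 (by rw [Subgroup.orderOf_coe, this])
  -- the isomorphisms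
  obtain ⟨P, hPg, hPf, ⟨eP⟩⟩ := exists_mulEquiv_universe.{u, 0} N
  refine ⟨p, P, hPg, hPf, hp, hp2, ?_, ?_, ?_⟩
  · exact hpN.of_equiv eP.symm
  · rw [Monoid.exponent_eq_of_mulEquiv eP]; exact hexp
  · have hcomm : ∀ (z : Z) (x : N), Commute (Z.subtype z) (N.subtype x) := by
      intro z x
      rcases hZmem z z.2 with hz | hz
      · simp [hz]
      · simp only [Subgroup.coe_subtype, hz]
        exact (h.central x).symm
    let f : Z × N →* G := MonoidHom.noncommCoprod Z.subtype N.subtype hcomm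
    have hf : Function.Bijective f := hN
    let e1 : Z × N ≃* G := MulEquiv.ofBijective f hf
    have hcard2 : Nat.card (Multiplicative (ZMod 2)) = 2 := by
      rw [Nat.card_eq_fintype_card]; rfl
    let e2 : Z ≃* Multiplicative (ZMod 2) := mulEquivOfPrimeCardEq hZcard hcard2
    exact ⟨e1.symm.trans (MulEquiv.prodCongr e2 eP.symm)⟩

end caseB1

end Cfsg.Agent.Helper66
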