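import Mathlib
import Cfsg.Agent.Helper62.Ore.Defs

/-!
# S2444 piece (EXT) for helper62 (#12939): `cyc_of_eigen_ext`
-/

set_option autoImplicit false

namespace Cfsg.Agent.Helper66.Ore

open Polynomial Module Cfsg.Agent.Helper62.Ore

variable {F : Type*} [Field F] {V : Type*} [AddCommGroup V] [Module F V]

theorem EXT_aeval_mul_apply (Y : Module.End F V) (p q : F[X]) (x : V) :
    aeval Y (p * q) x = aeval Y p (aeval Y q x) := by
  rw [map_mul, Module.End.mul_apply]

theorem EXT_aeval_comm (Y : Module.End F V) (p q : F[X]) (x : V) :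
    aeval Y p (aeval Y q x) = aeval Y q (aeval Y p x) := by
  rw [← EXT_aeval_mul_apply, ← EXT_aeval_mul_apply, mul_comm]

theorem EXT_eps_pow (Y : Module.End F V) (ε : Module.Dual F V) (s : F)
    (hY : ∀ x, ε (Y x) = s * ε x) (n : ℕ) (x : V) : ε ((Y ^ n) x) = s ^ n * ε x := by
  induction n generalizing x with
  | zero => simp
  | succ n ih =>
    rw [pow_succ, Module.End.mul_apply, ih, hY, pow_succ]
    ring

theorem EXT_eps_aeval (Y : Module.End F V) (ε : Module.Dual F V) (s : F)
    (hY : ∀ x, ε (Y x) = s * ε x) (p : F[X]) (x : V) :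
    ε (aeval Y p x) = p.eval s * ε x := by
  induction p using Polynomial.induction_on' with
  | add p q hp hq =>
    rw [map_add, LinearMap.add_apply, map_add, hp, hq, eval_add, add_mul]
  | monomial n a =>
    rw [aeval_monomial, Module.End.mul_apply, Module.algebraMap_end_apply, map_smul,
      EXT_eps_pow Y ε s hY, eval_monomial, smul_eq_mul]
    ring

theorem EXT_aeval_eigen (Y : Module.End F V) (s : F) (e : V) (he : Y e = s • e) (p : F[X]) :
    aeval Y p e = p.eval s • e := by
  have hpow : ∀ n : ℕ, (Y ^ n) e = s ^ n • e := by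
    intro n
    induction n with
    | zero => simp
    | succ n ih =>
      rw [pow_succ, Module.End.mul_apply, he, map_smul, ih, smul_smul, pow_succ, mul_comm]
  induction p using Polynomial.induction_on' with
  | add p q hp hq =>
    rw [map_add, LinearMap.add_apply, hp, hq, eval_add, add_smul]
  | monomial n a =>
    rw [aeval_monomial, Module.End.mul_apply, Module.algebraMap_end_apply, hpow, eval_monomial,
      smul_smul]

/-- a polynomial of degree `< n` killing a vector with `n` independent Krylov vectors is zero -/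
theorem EXT_zero_of_cyc {n : ℕ} (Y : Module.End F V) (v : V) (hcyc : Cyc n Y v) (q : F[X])
    (hq : ∀ i, n ≤ i → q.coeff i = 0) (h : aeval Y q v = 0) : q = 0 := by
  rcases Nat.eq_zero_or_pos n with rfl | hn
  · ext i
    rw [hq i (Nat.zero_le i), coeff_zero]
  · have hlt : q.natDegree < n := by
      by_contra hge
      rw [not_lt] at hge
      have h0 : q.leadingCoeff = 0 := hq _ hge
      rw [leadingCoeff_eq_zero] at h0
      rw [h0, natDegree_zero] at hge
      omega
    rw [aeval_eq_sum_range' hlt, LinearMap.sum_apply, Finset.sum_range] at h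
    have hcyc' : LinearIndependent F (fun i : Fin n => (Y ^ (i : ℕ)) v) := hcyc
    have h' : ∑ i : Fin n, q.coeff (i : ℕ) • (Y ^ (i : ℕ)) v = 0 := by
      rw [← h]
      apply Finset.sum_congr rfl
      intro i _
      rw [LinearMap.smul_apply]
    have hz := Fintype.linearIndependent_iff.mp hcyc' (fun i => q.coeff (i : ℕ)) h'
    ext i
    rw [coeff_zero]
    by_cases hi : i < n
    · exact hz ⟨i, hi⟩
    · exact hq i (not_lt.mp hi)

/-- (EXT) -/
theorem cyc_of_eigen_ext [FiniteDimensional F V] {m : ℕ} (hn : finrank F V = m + 1)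
    (Y : Module.End F V) (ε : Module.Dual F V) (hε : ε ≠ 0) (s : F)
    (hY : ∀ x, ε (Y x) = s * ε x) (v₁ : V) (hv₁ : ε v₁ = 0) (f₁ : F[X])
    (hcyc : Cyc m Y v₁) (hrel : Rel m Y v₁ f₁) (hs : f₁.eval s ≠ 0) :
    ∃ u, Cyc (m + 1) Y u ∧ Rel (m + 1) Y u ((X - C s) * f₁) := by
  obtain ⟨hmon, hdeg, hkill⟩ := hrel
  have hcyc' : LinearIndependent F (fun i : Fin m => (Y ^ (i : ℕ)) v₁) := hcyc
  -- the hyperplane
  have hH : finrank F (LinearMap.ker ε) = m := by
    have := Module.Dual.finrank_ker_add_one_of_ne_zero hε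
    omega
  have hspan : Submodule.span F (Set.range fun i : Fin m => (Y ^ (i : ℕ)) v₁) = LinearMap.ker ε := by
    apply Submodule.eq_of_le_of_finrank_eq
    · rw [Submodule.span_le]
      rintro _ ⟨i, rfl⟩
      rw [SetLike.mem_coe, LinearMap.mem_ker, EXT_eps_pow Y ε s hY, hv₁, mul_zero]
    · rw [finrank_span_eq_card hcyc', Fintype.card_fin, hH]
  -- `f₁(Y)` kills the hyperplane
  have hkillH : ∀ h ∈ LinearMap.ker ε, aeval Y f₁ h = 0 := by
    intro h hh
    rw [← hspan] at hh
    induction hh using Submodule.span_induction with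
    | mem x hx =>
      obtain ⟨i, rfl⟩ := hx
      beta_reduce
      have : (Y ^ (i : ℕ)) v₁ = aeval Y ((X : F[X]) ^ (i : ℕ)) v₁ := by rw [aeval_X_pow]
      rw [this, EXT_aeval_comm, hkill, map_zero]
    | zero => rw [map_zero]
    | add x y _ _ hx hy => rw [map_add, hx, hy, add_zero]
    | smul a x _ hx => rw [map_smul, hx, smul_zero]
  -- `(Y - s) V ⊆ ker ε`
  have hsub : ∀ x : V, aeval Y (X - C s) x ∈ LinearMap.ker ε := by
    intro x
    rw [LinearMap.mem_ker, EXT_eps_aeval Y ε s hY, eval_sub, eval_X, eval_C, sub_self, zero_mul]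
  have hrelall : ∀ u : V, aeval Y ((X - C s) * f₁) u = 0 := by
    intro u
    rw [mul_comm, EXT_aeval_mul_apply]
    exact hkillH _ (hsub u)
  -- the eigenvector
  obtain ⟨y0, hy0⟩ : ∃ y0, ε y0 ≠ 0 := by
    by_contra hcon
    apply hε
    ext x
    rw [LinearMap.zero_apply]
    by_contra hx
    exact hcon ⟨x, hx⟩
  set y : V := (ε y0)⁻¹ • y0 with hy
  have hεy : ε y = 1 := by
    rw [hy, map_smul, smul_eq_mul, inv_mul_cancel₀ hy0]
  set e : V := aeval Y f₁ y with he
  have hεe : ε e = f₁.eval s := by
    rw [he, EXT_eps_aeval Y ε s hY, hεy, mul_one]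
  have hYe : Y e = s • e := by
    have h1 : aeval Y (X - C s) e = 0 := by
      rw [he, EXT_aeval_comm]
      exact hkillH _ (hsub y)
    rw [map_sub, aeval_X, aeval_C, LinearMap.sub_apply, Module.algebraMap_end_apply, sub_eq_zero] at h1
    exact h1
  refine ⟨v₁ + e, ?_, (monic_X_sub_C s).mul hmon, ?_, hrelall _⟩
  · -- linear independence
    show LinearIndependent F (fun i : Fin (m + 1) => (Y ^ (i : ℕ)) (v₁ + e))
    rw [Fintype.linearIndependent_iff]
    intro g hg
    set p : F[X] := ∑ j : Fin (m + 1), monomial (j : ℕ) (g j) with hp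
    have hap : ∀ x : V, aeval Y p x = ∑ j : Fin (m + 1), g j • (Y ^ (j : ℕ)) x := by
      intro x
      rw [hp, map_sum, LinearMap.sum_apply]
      apply Finset.sum_congr rfl
      intro j _
      rw [aeval_monomial, Module.End.mul_apply, Module.algebraMap_end_apply]
    have hcoeff : ∀ j : Fin (m + 1), p.coeff (j : ℕ) = g j := by
      intro j
      rw [hp, finsetSum_coeff, Finset.sum_eq_single j]
      · rw [coeff_monomial, if_pos rfl]
      · intro i _ hij
        rw [coeff_monomial, if_neg]
        intro h
        exact hij (Fin.ext h)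
      · intro h
        exact absurd (Finset.mem_univ j) h
    have hcoeff' : ∀ k : ℕ, m + 1 ≤ k → p.coeff k = 0 := by
      intro k hk
      rw [hp, finsetSum_coeff]
      apply Finset.sum_eq_zero
      intro i _
      rw [coeff_monomial, if_neg]
      have := i.isLt
      omega
    have hpu : aeval Y p (v₁ + e) = 0 := by rw [hap]; exact hg
    have hps : p.eval s = 0 := by
      have h1 := EXT_eps_aeval Y ε s hY p (v₁ + e)
      rw [hpu, map_zero, map_add, hv₁, zero_add, hεe] at h1
      rcases mul_eq_zero.mp h1.symm with h2 | h2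
      · exact h2
      · exact absurd h2 hs
    have hpv : aeval Y p v₁ = 0 := by
      have h1 := hpu
      rw [map_add, EXT_aeval_eigen Y s e hYe, hps, zero_smul, add_zero] at h1
      exact h1
    set c : F := g (Fin.last m) with hc
    have hq : p - C c * f₁ = 0 := by
      apply EXT_zero_of_cyc Y v₁ hcyc
      · intro i hi
        rw [coeff_sub, coeff_C_mul]
        rcases Nat.eq_or_lt_of_le hi with h | h
        · subst h
          have h1 : p.coeff m = c := by
            have := hcoeff (Fin.last m)
            rw [Fin.val_last] at this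
            exact this
          have h2 : f₁.coeff m = 1 := by
            have := hmon.coeff_natDegree
            rw [hdeg] at this
            exact this
          rw [h1, h2, mul_one, sub_self]
        · rw [hcoeff' i (by omega), coeff_eq_zero_of_natDegree_lt (by omega), mul_zero, sub_zero]
      · rw [map_sub, LinearMap.sub_apply, hpv, EXT_aeval_mul_apply, hkill, map_zero, sub_zero]
    have hpeq : p = C c * f₁ := sub_eq_zero.mp hq
    have hc0 : c = 0 := by
      have h1 := hps
      rw [hpeq, eval_mul, eval_C] at h1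
      rcases mul_eq_zero.mp h1 with h2 | h2
      · exact h2
      · exact absurd h2 hs
    have hp0 : p = 0 := by rw [hpeq, hc0, C_0, zero_mul]
    intro i
    rw [← hcoeff i, hp0, coeff_zero]
  · rw [(monic_X_sub_C s).natDegree_mul hmon, natDegree_X_sub_C, hdeg, add_comm]

end Cfsg.Agent.Helper66.Ore
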