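import Cfsg.Agent.Helper5.OutD4Defs
import Cfsg.Agent.Helper18.Aut.TypeAnalysis
import Cfsg.Agent.Helper18.Aut.RootChar

/-!
Piece (P3) for helper5 (S2607/S2608, board #6599): existence of an automorphism of `D₄(F)` with prescribed
`ActsBy` data, preserving `U` and `V`.
-/

set_option autoImplicit false

namespace Cfsg.Agent.Helper66.OutD4P3

open Cfsg Cfsg.Lie Cfsg.Agent.Helper96.OutChev Cfsg.Agent.Helper36 Cfsg.Agent.Helper5.OutD4
open Cfsg.Agent.Helper18 Cfsg.Agent.Helper18.Aut Cfsg.Agent.Helper36.ChevAut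

variable {F : Type*} [Field F]

theorem permRoot_lt : ∀ (π : Equiv.Perm (Fin 3)) (r : ℕ), r < chevD4.nroots →
    chevD4.permRoot (emb π) r < chevD4.nroots := by
  decide +kernel

theorem permRoot_pos : ∀ (π : Equiv.Perm (Fin 3)) (r : ℕ), r < chevD4.nroots → chevD4.IsPosRoot r →
    chevD4.IsPosRoot (chevD4.permRoot (emb π) r) := by
  decide +kernel

theorem permRoot_neg : ∀ (π : Equiv.Perm (Fin 3)) (r : ℕ), r < chevD4.nroots → chevD4.IsNegRoot r →
    chevD4.IsNegRoot (chevD4.permRoot (emb π) r) := by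
  decide +kernel

theorem simple_lt_D4 : ∀ i : Fin chevD4.rank, chevD4.simple i < chevD4.nroots ∧
    chevD4.neg (chevD4.simple i) < chevD4.nroots := by
  decide +kernel

/-- the hypothesis of `graph_signs` from `GraphEx` -/
theorem graph_hyp (π : Equiv.Perm (Fin 3)) (g : ↥(chevD4.group F) ≃* ↥(chevD4.group F))
    (hg : ∀ (i : Fin chevD4.rank) (t : F),
      g (xS chevD4 Cfsg.Agent.Helper5.OutD4.hD4 (chevD4.simple i) t) =
        xS chevD4 Cfsg.Agent.Helper5.OutD4.hD4 (chevD4.simple (emb π i))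
          (t ^ chevD4.graphExp (ringChar F) i (emb π i)) ∧
      g (xS chevD4 Cfsg.Agent.Helper5.OutD4.hD4 (chevD4.neg (chevD4.simple i)) t) =
        xS chevD4 Cfsg.Agent.Helper5.OutD4.hD4 (chevD4.neg (chevD4.simple (emb π i)))
          (t ^ chevD4.graphExp (ringChar F) i (emb π i))) :
    ∀ (i : Fin chevD4.rank) (t : F),
      g (xg chevD4 Cfsg.Agent.Helper5.OutD4.hD4 (chevD4.simple i) t) =
        xg chevD4 Cfsg.Agent.Helper5.OutD4.hD4 (chevD4.simple (emb π i)) t ∧
      g (xg chevD4 Cfsg.Agent.Helper5.OutD4.hD4 (chevD4.neg (chevD4.simple i)) t) =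
        xg chevD4 Cfsg.Agent.Helper5.OutD4.hD4 (chevD4.neg (chevD4.simple (emb π i))) t := by
  intro i t
  have hexp : chevD4.graphExp (ringChar F) i (emb π i) = 1 :=
    graphExp_of_notLong chevD4 notLong_D4 _ _ _ (emb π i).2
  have h := hg i t
  rw [hexp, pow_one] at h
  exact h

/-- (P3) existence, with preservation of `U` and `V` -/
theorem exists_actsBy (π : Equiv.Perm (Fin 3)) (c : Fin chevD4.rank → Fˣ) (σ : F ≃+* F) :
    ∃ θ : MulAut ↥(chevD4.group F), ActsBy θ (emb π) c σ ∧ PresU chevD4 θ ∧ PresV chevD4 θ := by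
  classical
  have hD := Cfsg.Agent.Helper5.OutD4.hD4
  obtain ⟨g, hg0⟩ := graphEx_D4 (F := F) (emb π) (emb_cases π)
  have hg := graph_hyp π g hg0
  obtain ⟨χ, hχ, hχs⟩ := exists_rootCharacter (F := F) chevD4 hD
    (fun j => if hj : j < chevD4.rank then c ((emb π).symm ⟨j, hj⟩) else 1)
  have hχi : ∀ i : Fin chevD4.rank, χ (chevD4.simple (emb π i)) = c i := by
    intro i
    rw [hχs _ (emb π i).2, dif_pos (emb π i).2]
    simp
  -- the hypothesis of `graph_signs`
  have hφ : ∀ (γ : ↥(chevD4.group F)) (i : Fin chevD4.rank) (t : F),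
      (((γ : GL chevD4.Idx F) : Matrix chevD4.Idx chevD4.Idx F) = chevD4.x F (chevD4.simple i) t →
        ((g γ : GL chevD4.Idx F) : Matrix chevD4.Idx chevD4.Idx F)
          = chevD4.x F (chevD4.simple (emb π i)) t) ∧
      (((γ : GL chevD4.Idx F) : Matrix chevD4.Idx chevD4.Idx F)
          = chevD4.x F (chevD4.neg (chevD4.simple i)) t →
        ((g γ : GL chevD4.Idx F) : Matrix chevD4.Idx chevD4.Idx F)
          = chevD4.x F (chevD4.neg (chevD4.simple (emb π i))) t) := by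
    intro γ i t
    constructor
    · intro hγ
      rw [eq_xg chevD4 hD γ _ _ hγ, (hg i t).1, xg_val]
    · intro hγ
      rw [eq_xg chevD4 hD γ _ _ hγ, (hg i t).2, xg_val]
  have hsign := fun r hr => graph_signs (F := F) chevD4 (by simp) (emb π) (isDiagramSymmetry_emb π) g hφ r hr
  set d : MulAut ↥(chevD4.group F) := diagAut chevD4 hD χ hχ with hd
  refine ⟨d * g * fieldHom chevD4 hD σ, ?_, ?_, ?_⟩
  · intro i t
    constructor
    · show d (g (fieldHom chevD4 hD σ (xg chevD4 hD (chevD4.simple i) t))) = _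
      rw [fieldHom_xg, (hg i (σ t)).1]
      apply eq_xg
      rw [hd, diagAut_x chevD4 hD χ hχ _ _ (simple_lt_D4 _).1 _ (xg_val chevD4 hD _ _), hχi]
    · show d (g (fieldHom chevD4 hD σ (xg chevD4 hD (chevD4.neg (chevD4.simple i)) t))) = _
      rw [fieldHom_xg, (hg i (σ t)).2]
      apply eq_xg
      rw [hd, diagAut_x chevD4 hD χ hχ _ _ (simple_lt_D4 _).2 _ (xg_val chevD4 hD _ _),
        hχ.1 _ (simple_lt_D4 _).1, hχi]
  · refine presU_mul chevD4 _ _ (presU_mul chevD4 _ _ ?_ ?_) (presU_fieldHom chevD4 hD σ)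
    · refine presU_of_roots chevD4 hD _ (fun r t hr => ⟨r, (χ r : F) * t, hr, ?_⟩)
      rw [hd, diagAut_x chevD4 hD χ hχ _ _ hr.1 _ (xg_val chevD4 hD _ _)]
    · refine presU_of_roots chevD4 hD _ (fun r t hr => ?_)
      obtain ⟨ε, -, hε⟩ := hsign r hr.1
      exact ⟨chevD4.permRoot (emb π) r, ε * t, permRoot_pos π r hr.1 hr,
        hε _ t (xg_val chevD4 hD _ _)⟩
  · refine presV_mul chevD4 _ _ (presV_mul chevD4 _ _ ?_ ?_) (presV_fieldHom chevD4 hD σ)
    · refine presV_of_roots chevD4 hD _ (fun r t hr => ⟨r, (χ r : F) * t, hr, ?_⟩)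
      rw [hd, diagAut_x chevD4 hD χ hχ _ _ hr.1 _ (xg_val chevD4 hD _ _)]
    · refine presV_of_roots chevD4 hD _ (fun r t hr => ?_)
      obtain ⟨ε, -, hε⟩ := hsign r hr.1
      exact ⟨chevD4.permRoot (emb π) r, ε * t, permRoot_neg π r hr.1 hr,
        hε _ t (xg_val chevD4 hD _ _)⟩

end Cfsg.Agent.Helper66.OutD4P3
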