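import Cfsg.Agent.Helper5.OutD4Defs
import Cfsg.Agent.Helper18.Aut.TypeAnalysis

/-!
Piece (P4) for helper5 (S2607/S2608, board #6599): every automorphism of `D₄(F)`, `F` finite, acts on the
fundamental root elements as `ActsBy … (emb π) c σ` up to an inner automorphism.
-/

set_option autoImplicit false

namespace Cfsg.Agent.Helper66.OutD4P4

open Cfsg Cfsg.Lie Cfsg.Agent.Helper96.OutChev Cfsg.Agent.Helper36 Cfsg.Agent.Helper5.OutD4
open Cfsg.Agent.Helper18 Cfsg.Agent.Helper18.Aut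

variable {F : Type*} [Field F]

theorem d4_ne_g2 : chevD4 ≠ chevG2 := by
  intro h
  have := congrArg ChevalleyDatum.rank h
  revert this
  decide

/-- (P4) every automorphism is of the form `ActsBy` up to an inner automorphism -/
theorem exists_conj_actsBy [Finite F] (θ : MulAut ↥(chevD4.group F)) :
    ∃ (x : ↥(chevD4.group F)) (π : Equiv.Perm (Fin 3)) (c : Fin chevD4.rank → Fˣ) (σ : F ≃+* F),
      ActsBy (MulAut.conj x * θ) (emb π) c σ := by
  classical
  haveI : Fintype F := Fintype.ofFinite F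
  obtain ⟨p, hp⟩ := CharP.exists F
  haveI := hp
  haveI : Fact p.Prime := ⟨CharP.char_is_prime F p⟩
  obtain ⟨g₀, π', c, σ, h1, h2, R1, R2⟩ :=
    chev_step12 chevD4 Cfsg.Agent.Helper5.OutD4.hD4 p θ
  have hex : chevD4 = chevG2 → (∀ t : F, t = 0 ∨ t = 1) → π' = 1 :=
    fun h => absurd h d4_ne_g2
  obtain ⟨hsym, ⟨σ₀, hσ₀⟩, -⟩ :=
    type_analysis chevD4 Cfsg.Agent.Helper5.OutD4.hD4 π' σ R1 R2 hex
  obtain ⟨π, rfl⟩ := exists_emb_eq π' hsym
  have hσ : ∀ (i : Fin chevD4.rank) (t : F), σ i t = σ₀ t := by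
    intro i t
    rw [hσ₀ i t, graphExp_of_notLong chevD4 notLong_D4 _ _ _ (emb π i).2, pow_one]
  refine ⟨g₀, π, c, σ₀, fun i t => ⟨?_, ?_⟩⟩
  · have := h1 i t
    rw [hσ i t] at this
    exact this
  · have := h2 i t
    rw [hσ i t] at this
    exact this

end Cfsg.Agent.Helper66.OutD4P4
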