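import Mathlib
import Cfsg.Agent.Helper99.P4Defs

/-!
# (N1) for helper99 (S6000): an element of the normalizer `N0` permutes the Pauli words up to
fourth roots of unity
-/

set_option autoImplicit false
open scoped MatrixGroups

namespace Cfsg.Agent.Helper66.P4

open Matrix Polynomial Cfsg.Agent.Helper99.P4 Cfsg.Geo

variable {F : Type*} [Field F]

/-- (N1) -/
theorem exists_sigma {i : F} (hi : i ^ 2 = -1) (g : GL (Fin 4) F) (hg : g ∈ N0 i hi) :
    ∃ (σ : V4 → V4) (lam : V4 → F), ∀ v,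
      (g : Matrix (Fin 4) (Fin 4) F) * pw v = lam v • (pw (σ v) * (g : Matrix (Fin 4) (Fin 4) F)) ∧
      lam v ^ 4 = 1 := by
  have key : ∀ v : V4, ∃ (u : V4) (l : F),
      (g : Matrix (Fin 4) (Fin 4) F) * pw v = l • (pw u * (g : Matrix (Fin 4) (Fin 4) F)) ∧
      l ^ 4 = 1 := by
    intro v
    have hmem : g * pwG v * g⁻¹ ∈ R0 i hi := by
      have h := (Subgroup.mem_normalizer_iff.1 hg) (pwG v)
      exact h.1 (pwG_mem_R0 hi v)
    obtain ⟨k, u, hku⟩ := (mem_R0_iff hi _).1 hmem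
    refine ⟨u, i ^ k, ?_, ?_⟩
    · have h1 : g * pwG v = (g * pwG v * g⁻¹) * g := by group
      have h2 := congrArg (fun x : GL (Fin 4) F => (x : Matrix (Fin 4) (Fin 4) F)) h1
      simp only [Units.val_mul] at h2 hku
      rw [pwG_val] at h2
      rw [pwG_val] at hku
      rw [h2, hku, Matrix.smul_mul]
    · rw [← pow_mul, mul_comm, pow_mul, i_pow_four hi, one_pow]
  choose σ lam h using key
  exact ⟨σ, lam, h⟩

end Cfsg.Agent.Helper66.P4
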