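import Mathlib
import Cfsg.Agent.Helper99.P4Defs

/-!
# (T2) for helper99 (S6000): transfer of the fixed-point condition along conjugation by `P`
-/

set_option autoImplicit false
open scoped MatrixGroups

namespace Cfsg.Agent.Helper66.P4

open Matrix Polynomial Cfsg.Agent.Helper99.P4 Cfsg.Geo

variable {F : Type*} [Field F]

/-- membership in a conjugate subgroup -/
theorem mem_iff_of_eq_map {i : F} (hi : i ^ 2 = -1) (R : Subgroup (GL (Fin 4) F))
    (P : GL (Fin 4) F) (hRP : R = (R0 i hi).map (MulAut.conj P).toMonoidHom)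
    (n : GL (Fin 4) F) : n ∈ R ↔ P⁻¹ * n * P ∈ R0 i hi := by
  rw [hRP, Subgroup.mem_map]
  constructor
  · rintro ⟨m, hm, rfl⟩
    have : P⁻¹ * ((MulAut.conj P).toMonoidHom m) * P = m := by
      simp only [MulEquiv.coe_toMonoidHom, MulAut.conj_apply]
      group
    rw [this]; exact hm
  · intro h
    refine ⟨P⁻¹ * n * P, h, ?_⟩
    simp only [MulEquiv.coe_toMonoidHom, MulAut.conj_apply]
    group

/-- the normalizer of a conjugate subgroup -/
theorem mem_normalizer_iff_of_eq_map {i : F} (hi : i ^ 2 = -1) (R : Subgroup (GL (Fin 4) F))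
    (P : GL (Fin 4) F) (hRP : R = (R0 i hi).map (MulAut.conj P).toMonoidHom)
    (y : GL (Fin 4) F) : y ∈ subgroupNormalizer R ↔ P⁻¹ * y * P ∈ N0 i hi := by
  unfold N0 subgroupNormalizer
  rw [Subgroup.mem_normalizer_iff, Subgroup.mem_normalizer_iff]
  constructor
  · intro h m
    have h1 := h (P * m * P⁻¹)
    rw [mem_iff_of_eq_map hi R P hRP, mem_iff_of_eq_map hi R P hRP] at h1
    have e1 : P⁻¹ * (P * m * P⁻¹) * P = m := by group
    have e2 : P⁻¹ * (y * (P * m * P⁻¹) * y⁻¹) * P = P⁻¹ * y * P * m * (P⁻¹ * y * P)⁻¹ := by group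
    rw [e1, e2] at h1
    exact h1
  · intro h n
    rw [mem_iff_of_eq_map hi R P hRP, mem_iff_of_eq_map hi R P hRP]
    have h1 := h (P⁻¹ * n * P)
    have e2 : P⁻¹ * y * P * (P⁻¹ * n * P) * (P⁻¹ * y * P)⁻¹ = P⁻¹ * (y * n * y⁻¹) * P := by group
    rw [e2] at h1
    exact h1

/-- conjugates of scalar matrices -/
theorem conj_scalar (Q y : GL (Fin 4) F) (z : F)
    (h : (y : Matrix (Fin 4) (Fin 4) F) = z • 1) :
    ((Q * y * Q⁻¹ : GL (Fin 4) F) : Matrix (Fin 4) (Fin 4) F) = z • 1 := by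
  rw [Units.val_mul, Units.val_mul, h, Matrix.mul_smul, Matrix.mul_one, Matrix.smul_mul,
    Units.mul_inv]

theorem specialLinear_normal : (specialLinear (Fin 4) F).Normal := by
  unfold specialLinear
  exact MonoidHom.normal_ker _

/-- the conditions on `x` are invariant under conjugation -/
theorem conds_conj (Q x : GL (Fin 4) F) (r : ℕ)
    (h1 : ∃ z : F, ((x ^ r : GL (Fin 4) F) : Matrix (Fin 4) (Fin 4) F) = z • 1)
    (h2 : ∀ z : F, (x : Matrix (Fin 4) (Fin 4) F) ≠ z • 1) :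
    (∃ z : F, (((Q * x * Q⁻¹) ^ r : GL (Fin 4) F) : Matrix (Fin 4) (Fin 4) F) = z • 1) ∧
      ∀ z : F, ((Q * x * Q⁻¹ : GL (Fin 4) F) : Matrix (Fin 4) (Fin 4) F) ≠ z • 1 := by
  constructor
  · obtain ⟨z, hz⟩ := h1
    refine ⟨z, ?_⟩
    rw [conj_pow]
    exact conj_scalar Q (x ^ r) z hz
  · intro z hz
    apply h2 z
    have := conj_scalar Q⁻¹ (Q * x * Q⁻¹) z hz
    have e : Q⁻¹ * (Q * x * Q⁻¹) * Q⁻¹⁻¹ = x := by group
    rw [e] at this
    exact this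

/-- (T2) transfer of the fixed-point condition along conjugation by `P` -/
theorem transfer {i : F} (hi : i ^ 2 = -1) (R : Subgroup (GL (Fin 4) F)) (P : GL (Fin 4) F)
    (hRP : R = (R0 i hi).map (MulAut.conj P).toMonoidHom) (r : ℕ) :
    (∀ x ∈ specialLinear (Fin 4) F,
      (∃ z : F, ((x ^ r : GL (Fin 4) F) : Matrix (Fin 4) (Fin 4) F) = z • 1) →
      (∀ z : F, (x : Matrix (Fin 4) (Fin 4) F) ≠ z • 1) →
      ∃ g ∈ specialLinear (Fin 4) F, g⁻¹ * x * g ∈ subgroupNormalizer R) ↔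
    (∀ x ∈ specialLinear (Fin 4) F,
      (∃ z : F, ((x ^ r : GL (Fin 4) F) : Matrix (Fin 4) (Fin 4) F) = z • 1) →
      (∀ z : F, (x : Matrix (Fin 4) (Fin 4) F) ≠ z • 1) →
      ∃ g ∈ specialLinear (Fin 4) F, g⁻¹ * x * g ∈ N0 i hi) := by
  have hN : (specialLinear (Fin 4) F).Normal := specialLinear_normal
  constructor
  · intro H x hx h1 h2
    obtain ⟨c1, c2⟩ := conds_conj P x r h1 h2
    obtain ⟨g', hg', hmem⟩ := H (P * x * P⁻¹) (hN.conj_mem x hx P) c1 c2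
    rw [mem_normalizer_iff_of_eq_map hi R P hRP] at hmem
    refine ⟨P⁻¹ * g' * P, ?_, ?_⟩
    · have := hN.conj_mem g' hg' P⁻¹
      rwa [inv_inv] at this
    · have e : (P⁻¹ * g' * P)⁻¹ * x * (P⁻¹ * g' * P) = P⁻¹ * (g'⁻¹ * (P * x * P⁻¹) * g') * P := by
        group
      rw [e]; exact hmem
  · intro H x hx h1 h2
    obtain ⟨c1, c2⟩ := conds_conj P⁻¹ x r h1 h2
    have hx' : P⁻¹ * x * P⁻¹⁻¹ ∈ specialLinear (Fin 4) F := hN.conj_mem x hx P⁻¹
    obtain ⟨g', hg', hmem⟩ := H (P⁻¹ * x * P⁻¹⁻¹) hx' c1 c2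
    refine ⟨P * g' * P⁻¹, hN.conj_mem g' hg' P, ?_⟩
    rw [mem_normalizer_iff_of_eq_map hi R P hRP]
    have e : P⁻¹ * ((P * g' * P⁻¹)⁻¹ * x * (P * g' * P⁻¹)) * P =
        g'⁻¹ * (P⁻¹ * x * P⁻¹⁻¹) * g' := by group
    rw [e]; exact hmem

end Cfsg.Agent.Helper66.P4
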