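import Mathlib
import Cfsg.Agent.Helper99.P4Defs
import Cfsg.Agent.Helper76.P4U1
import Cfsg.Agent.Helper64.P4N10
import Cfsg.Agent.Helper66.P4N1

/-!
# (TV) for helper99 (S6000): no transvection normalizes the standard group `R0`

Write `t = 1 + N`, `N = u φᵀ` (so `N * N = 0` and `N * M * N = tr (N * M) • N`).  By (N1), `t`
permutes the Pauli words up to scalars via some `σ`.  If `σ = id` then `t = s • pw w` by (N10), so
`t * t` is a scalar, which forces `N = 0`.  Otherwise pick `v` with `σ v ≠ v`; the commutator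
`y = t * pw v * t⁻¹ * (pw v)⁻¹ = (1 + N) * (1 - N')` (`N' = pw v * N * (pw v)⁻¹`) is a scalar multiple
of the nontrivial Pauli word `pw (σ v + v)`, so `tr y = 0` and `y * y` is a scalar.  With
`p = tr (N * N')`, the first gives `p = 4`, the second `N * (y * y) * N = (p * p - 2 * p) • N = 0`,
hence `8 = 0`, contradicting `2 ≠ 0`.
-/

set_option autoImplicit false
open scoped MatrixGroups

namespace Cfsg.Agent.Helper66.P4

open Matrix Polynomial Cfsg.Agent.Helper99.P4 Cfsg.Geo

variable {F : Type*} [Field F]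

/-- the rank-one sandwich identity -/
theorem vecMulVec_sandwich (u φ : Fin 4 → F) (M : Matrix (Fin 4) (Fin 4) F) :
    vecMulVec u φ * M * vecMulVec u φ = Matrix.trace (vecMulVec u φ * M) • vecMulVec u φ := by
  ext a b
  simp only [Matrix.mul_apply, Matrix.vecMulVec_apply, Matrix.trace, Matrix.diag,
    Matrix.smul_apply, Fin.sum_univ_four, smul_eq_mul]
  ring

theorem vecMulVec_ne_zero (u φ : Fin 4 → F) (hu : u ≠ 0) (hφ : φ ≠ 0) :
    vecMulVec u φ ≠ 0 := by
  obtain ⟨a, ha⟩ := Function.ne_iff.1 hu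
  obtain ⟨b, hb⟩ := Function.ne_iff.1 hφ
  intro h
  have h1 := congrFun (congrFun h a) b
  rw [Matrix.vecMulVec_apply] at h1
  exact mul_ne_zero ha hb h1

/-- the core of case (b): the commutator `y` cannot have trace zero and scalar square -/
theorem tv_core (h2 : (2 : F) ≠ 0) (N r rinv : Matrix (Fin 4) (Fin 4) F) (hN0 : N ≠ 0)
    (hNN : N * N = 0) (hsand : ∀ M, N * M * N = Matrix.trace (N * M) • N)
    (htr : Matrix.trace N = 0) (hr2 : rinv * r = 1)
    (hty : Matrix.trace ((1 + N) * (1 - r * N * rinv)) = 0) (κ : F)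
    (hyy : ((1 + N) * (1 - r * N * rinv)) * ((1 + N) * (1 - r * N * rinv)) = κ • 1) : False := by
  obtain ⟨N', hN'⟩ : ∃ N' : Matrix (Fin 4) (Fin 4) F, N' = r * N * rinv := ⟨_, rfl⟩
  rw [← hN'] at hty hyy
  obtain ⟨p, hp⟩ : ∃ p : F, p = Matrix.trace (N * N') := ⟨_, rfl⟩
  have hNN'N : N * (N' * N) = p • N := by rw [← Matrix.mul_assoc, hsand N', hp]
  have hN'N' : N' * N' = 0 := by
    rw [hN']
    calc r * N * rinv * (r * N * rinv) = r * (N * ((rinv * r) * (N * rinv))) := by
          simp only [Matrix.mul_assoc]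
      _ = r * ((N * N) * rinv) := by rw [hr2, Matrix.one_mul, Matrix.mul_assoc]
      _ = 0 := by rw [hNN, Matrix.zero_mul, Matrix.mul_zero]
  have htrN' : Matrix.trace N' = 0 := by
    rw [hN', Matrix.trace_mul_cycle, hr2, Matrix.one_mul, htr]
  have e : (1 + N) * (1 - N') = 1 + N - N' - N * N' := by noncomm_ring
  have hp4 : p = 4 := by
    have h1 : Matrix.trace ((1 + N) * (1 - N')) = 4 - p := by
      rw [e, Matrix.trace_sub, Matrix.trace_sub, Matrix.trace_add, Matrix.trace_one, htr, htrN',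
        ← hp]
      simp
    rw [h1] at hty
    linear_combination -hty
  have e1 : N * ((1 + N) * (1 - N')) = N - N * N' := by
    calc N * ((1 + N) * (1 - N')) = (N + N * N) * (1 - N') := by noncomm_ring
      _ = N - N * N' := by rw [hNN, add_zero, Matrix.mul_sub, Matrix.mul_one]
  have e2 : ((1 + N) * (1 - N')) * N = N - N' * N - p • N := by
    calc ((1 + N) * (1 - N')) * N = N - N' * N + N * N - N * (N' * N) := by noncomm_ring
      _ = N - N' * N - p • N := by rw [hNN, add_zero, hNN'N]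
  have e3 : N * (((1 + N) * (1 - N')) * ((1 + N) * (1 - N'))) * N = (p * p - 2 * p) • N := by
    have h4 : N * (N' * (N' * N)) = 0 := by
      rw [← Matrix.mul_assoc N' N' N, hN'N', Matrix.zero_mul, Matrix.mul_zero]
    calc N * (((1 + N) * (1 - N')) * ((1 + N) * (1 - N'))) * N
        = (N * ((1 + N) * (1 - N'))) * (((1 + N) * (1 - N')) * N) := by
          simp only [Matrix.mul_assoc]
      _ = (N - N * N') * (N - N' * N - p • N) := by rw [e1, e2]
      _ = (p * p - 2 * p) • N := by
          simp only [Matrix.sub_mul, Matrix.mul_sub, Matrix.mul_smul, Matrix.mul_assoc, hNN, hNN'N,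
            h4, smul_zero, smul_smul, sub_zero, zero_sub]
          module
  rw [hyy, Matrix.mul_smul, Matrix.mul_one, Matrix.smul_mul, hNN, smul_zero] at e3
  have h8 : p * p - 2 * p = 0 := by
    rcases smul_eq_zero.1 e3.symm with h | h
    · exact h
    · exact absurd h hN0
  rw [hp4] at h8
  have : (2 : F) * 2 * 2 = 0 := by linear_combination h8
  rcases mul_eq_zero.1 this with h | h
  · rcases mul_eq_zero.1 h with h | h <;> exact h2 h
  · exact h2 h

theorem v4_add_ne_zero {a b : V4} (h : a ≠ b) : a + b ≠ 0 := by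
  intro h0
  apply h
  calc a = a + (b + b) := by rw [add_self_V4, add_zero]
    _ = (a + b) + b := by rw [add_assoc]
    _ = b := by rw [h0, zero_add]

/-- (TV) no transvection normalizes `R0` -/
theorem no_transvection {i : F} (hi : i ^ 2 = -1) (h2 : (2 : F) ≠ 0) (u φ : Fin 4 → F)
    (hu : u ≠ 0) (hφ : φ ≠ 0) (hφu : φ ⬝ᵥ u = 0) (t : GL (Fin 4) F)
    (ht : (t : Matrix (Fin 4) (Fin 4) F) = 1 + Matrix.vecMulVec u φ) : t ∉ N0 i hi := by
  intro htN
  obtain ⟨σ, lam, h⟩ := exists_sigma hi t htN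
  have hN0 : vecMulVec u φ ≠ 0 := vecMulVec_ne_zero u φ hu hφ
  have htr : Matrix.trace (vecMulVec u φ) = 0 := by
    rw [Matrix.trace_vecMulVec, dotProduct_comm, hφu]
  have hsand := vecMulVec_sandwich u φ
  have hNN : vecMulVec u φ * vecMulVec u φ = 0 := by
    have h1 := hsand 1
    rw [Matrix.mul_one, htr, zero_smul] at h1
    exact h1
  obtain ⟨N, hN⟩ : ∃ N : Matrix (Fin 4) (Fin 4) F, N = vecMulVec u φ := ⟨_, rfl⟩
  rw [← hN] at ht hN0 htr hsand hNN
  by_cases hσ : ∀ v, σ v = v
  · -- case (a): `t` is a scalar multiple of a Pauli word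
    have hrel : ∀ v, (t : Matrix (Fin 4) (Fin 4) F) * pw v =
        lam v • (pw v * (t : Matrix (Fin 4) (Fin 4) F)) := by
      intro v
      have h1 := (h v).1
      rwa [hσ v] at h1
    obtain ⟨s, w0, hsw⟩ := Cfsg.Agent.Helper64.P4.scalar_mul_pw_of_sigma_id h2 t lam hrel
    have htt : (1 + N) * (1 + N) = (s * s * sg (eps w0 w0)) • (1 : Matrix (Fin 4) (Fin 4) F) := by
      rw [← ht, hsw, Matrix.smul_mul, Matrix.mul_smul, pw_mul_self, smul_smul, smul_smul]
    have e : (1 + N) * (1 + N) = 1 + (2 : F) • N := by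
      calc (1 + N) * (1 + N) = 1 + N + N + N * N := by noncomm_ring
        _ = 1 + (2 : F) • N := by rw [hNN, add_zero, two_smul, add_assoc]
    have h3 : N * ((1 + N) * (1 + N)) = N := by
      rw [e, Matrix.mul_add, Matrix.mul_one, Matrix.mul_smul, hNN, smul_zero, add_zero]
    rw [htt, Matrix.mul_smul, Matrix.mul_one] at h3
    have hκ : s * s * sg (eps w0 w0) = 1 := by
      by_contra hne
      apply hN0
      have h4 : (s * s * sg (eps w0 w0) - 1) • N = 0 := by
        rw [sub_smul, h3, one_smul, sub_self]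
      exact (smul_eq_zero.1 h4).resolve_left (sub_ne_zero.2 hne)
    rw [hκ, one_smul, e] at htt
    have h5 : (2 : F) • N = 0 := by
      have := congrArg (fun X => X - 1) htt
      simpa using this
    exact hN0 ((smul_eq_zero.1 h5).resolve_left h2)
  · -- case (b)
    push_neg at hσ
    obtain ⟨v, hv⟩ := hσ
    have hr2 : ((sg (eps v v) : F) • (pw v : Matrix (Fin 4) (Fin 4) F)) * pw v = 1 := pw_inv_mul v
    have hr1 : (pw v : Matrix (Fin 4) (Fin 4) F) * ((sg (eps v v) : F) • pw v) = 1 := pw_mul_inv v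
    have htt : (1 + N) * (1 - N) = 1 := by
      calc (1 + N) * (1 - N) = 1 - N * N := by noncomm_ring
        _ = 1 := by rw [hNN, sub_zero]
    have hrel := (h v).1
    rw [ht] at hrel
    have hy : (1 + N) * (1 - pw v * N * ((sg (eps v v) : F) • pw v)) =
        (lam v * sg (eps v v) * sg (eps (σ v) v)) • pw (σ v + v) := by
      calc (1 + N) * (1 - pw v * N * ((sg (eps v v) : F) • pw v))
          = (1 + N) * (pw v * ((sg (eps v v) : F) • pw v) -
              pw v * N * ((sg (eps v v) : F) • pw v)) := by rw [hr1]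
        _ = ((1 + N) * pw v) * ((1 - N) * ((sg (eps v v) : F) • pw v)) := by
            simp only [Matrix.sub_mul, Matrix.one_mul, Matrix.mul_sub, Matrix.mul_assoc]
        _ = (lam v • (pw (σ v) * (1 + N))) * ((1 - N) * ((sg (eps v v) : F) • pw v)) := by
            rw [hrel]
        _ = lam v • (pw (σ v) * (((1 + N) * (1 - N)) * ((sg (eps v v) : F) • pw v))) := by
            simp only [Matrix.smul_mul, Matrix.mul_assoc]
        _ = (lam v * sg (eps v v) * sg (eps (σ v) v)) • pw (σ v + v) := by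
            rw [htt, Matrix.one_mul, Matrix.mul_smul, pw_mul, smul_smul, smul_smul]
    have hw : σ v + v ≠ 0 := v4_add_ne_zero hv
    refine tv_core h2 N (pw v) ((sg (eps v v) : F) • pw v) hN0 hNN hsand htr hr2 ?_
      ((lam v * sg (eps v v) * sg (eps (σ v) v)) * (lam v * sg (eps v v) * sg (eps (σ v) v)) *
        sg (eps (σ v + v) (σ v + v))) ?_
    · rw [hy, Matrix.trace_smul, Cfsg.Agent.Helper76.P4.pw_trace, if_neg hw, smul_zero]
    · rw [hy, Matrix.smul_mul, Matrix.mul_smul, pw_mul_self, smul_smul, smul_smul]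

end Cfsg.Agent.Helper66.P4
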