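import Cfsg.Agent.Helper66.BLMain
import Cfsg.Agent.Helper74.CharCount

/-!
# The principal block when `|N_G(P) : C_G(P)| = 2`

Consequences of the Brauer–Leonard data for `m = 2`: if the principal block contains an
irreducible character `θ` which is constantly `-1` on `P ∖ {1}`, then the block consists of `1`,
`θ` and the exceptional characters, and the exceptional characters agree with `θ - 1` on the
`p`-regular elements.
-/

set_option autoImplicit false
set_option linter.unusedSectionVars false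
set_option linter.unusedVariables false
set_option linter.style.haveILetI false

namespace Cfsg.Agent.Helper66.PD2

open Cfsg Cfsg.Agent.Helper66.BL
open scoped ComplexConjugate

section

variable {G : Type*} [Group G] [Finite G] {p : ℕ} [Fact p.Prime] {M : Ideal AlgInt}
  {P : Sylow p G} {m : ℕ} {X Y : Set (IrrCharacter G)} {a : IrrCharacter G → ℤ} {d δ : ℤ}
  {ζ : ((P : Subgroup G) →* ℂˣ) → IrrCharacter G}

theorem orb_refl (H : Subgroup G) (ψ : H →* ℂˣ) : Orb H ψ ψ :=
  ⟨1, Subgroup.one_mem _, fun w w' h => by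
    have : w' = w := Subtype.ext (by simpa using h)
    rw [this]⟩

/-- Exceptional characters are not constant on `P ∖ {1}`. -/
theorem notConst_of_BLData (D : BLData M P m X Y a d δ ζ) (hab : IsMulCommutative P)
    (hY : 2 ≤ Nat.card Y) {η : IrrCharacter G} (hη : η ∈ Y) (c : ℂ)
    (hc : ∀ y ∈ (P : Subgroup G), y ≠ 1 → (η : G → ℂ) y = c) : False := by
  classical
  letI : CommGroup (P : Subgroup G) :=
    { (inferInstance : Group (P : Subgroup G)) with mul_comm := mul_comm' }
  haveI : Fintype (P : Subgroup G) := Fintype.ofFinite _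
  haveI : Finite ((P : Subgroup G) →* ℂˣ) := finite_hom
  haveI : Finite (IrrCharacter G) := Helper79.irr_finite'
  obtain ⟨ψ₀, hψ₀, rfl⟩ := D.zeta_surj η hη
  -- another exceptional character
  have hnt : Nontrivial Y := by
    rw [← Finite.one_lt_card_iff_nontrivial]
    omega
  obtain ⟨η', hη'⟩ := exists_ne (⟨ζ ψ₀, hη⟩ : Y)
  obtain ⟨ψ₁, hψ₁, h1⟩ := D.zeta_surj η'.1 η'.2
  have hnot : ¬ Orb (P : Subgroup G) ψ₀ ψ₁ := by
    intro h
    apply hη'
    apply Subtype.ext
    rw [← h1]
    exact (D.zeta_iff ψ₀ ψ₁ hψ₀ hψ₁).mpr h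
  set S : Set ((P : Subgroup G) →* ℂˣ) := {ψ' | Orb (P : Subgroup G) ψ₀ ψ'} with hS
  have hSfin : S.Finite := Set.toFinite S
  set Fv : ↥(P : Subgroup G) → ℂ := fun y => ∑ ψ' ∈ hSfin.toFinset, ((ψ' y : ℂˣ) : ℂ) with hFv
  set c₀ : ℂ := (δ : ℂ) * (c - d) with hc₀
  have hδ2 : (δ : ℂ) * (δ : ℂ) = 1 := by
    rcases D.sign with h | h <;> rw [h] <;> norm_num
  have hF : ∀ y : (P : Subgroup G), y ≠ 1 → Fv y = c₀ := by
    intro y hy
    have hy1 : (y : G) ≠ 1 := fun h => hy (Subtype.ext h)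
    have h := D.valY ψ₀ hψ₀ (y : G) y (isPPart_self P y.2) hy1
    rw [hc (y : G) y.2 hy1, finsum_mem_eq_finite_toFinset_sum _ hSfin] at h
    have : Fv y = ∑ ψ' ∈ hSfin.toFinset, ((ψ' y : ℂˣ) : ℂ) := rfl
    rw [this, hc₀, h]
    linear_combination (-(∑ ψ' ∈ hSfin.toFinset, ((ψ' y : ℂˣ) : ℂ))) * hδ2
  -- the two evaluations of `T ψ`
  have hT1 : ∀ ψ : (P : Subgroup G) →* ℂˣ,
      ∑ y : (P : Subgroup G), conj ((ψ y : ℂˣ) : ℂ) * Fv y =
        if ψ ∈ S then (Fintype.card (P : Subgroup G) : ℂ) else 0 := by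
    intro ψ
    simp only [hFv, Finset.mul_sum]
    rw [Finset.sum_comm]
    rw [Finset.sum_congr rfl (fun ψ' _ => sum_conj_mul ψ ψ')]
    rw [Finset.sum_ite_eq' hSfin.toFinset ψ]
    by_cases hψS : ψ ∈ S
    · rw [if_pos hψS, if_pos ((Set.Finite.mem_toFinset hSfin).mpr hψS)]
    · rw [if_neg hψS, if_neg (fun h => hψS ((Set.Finite.mem_toFinset hSfin).mp h))]
  have hT2 : ∀ ψ : (P : Subgroup G) →* ℂˣ, ψ ≠ 1 →
      ∑ y : (P : Subgroup G), conj ((ψ y : ℂˣ) : ℂ) * Fv y = Fv 1 - c₀ := by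
    intro ψ hψ
    have e : ∀ y : (P : Subgroup G), conj ((ψ y : ℂˣ) : ℂ) * Fv y =
        c₀ * conj ((ψ y : ℂˣ) : ℂ) + (if y = 1 then Fv 1 - c₀ else 0) := by
      intro y
      by_cases hy : y = 1
      · subst hy
        rw [if_pos rfl, map_one, Units.val_one, map_one]
        ring
      · rw [if_neg hy, hF y hy]
        ring
    rw [Finset.sum_congr rfl (fun y _ => e y), Finset.sum_add_distrib, ← Finset.mul_sum,
      ← map_sum, sum_hom_eq_zero hψ, map_zero, mul_zero, zero_add,
      Finset.sum_ite_eq' Finset.univ (1 : (P : Subgroup G)), if_pos (Finset.mem_univ _)]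
  have h0 := hT1 ψ₀
  rw [if_pos (show ψ₀ ∈ S from orb_refl _ ψ₀), hT2 ψ₀ hψ₀] at h0
  have h1' := hT1 ψ₁
  rw [if_neg (show ψ₁ ∉ S from hnot), hT2 ψ₁ hψ₁] at h1'
  rw [h1'] at h0
  have : (Fintype.card (P : Subgroup G) : ℂ) ≠ 0 := by
    exact_mod_cast Fintype.card_ne_zero
  exact this h0.symm

/-- Structure of the principal block for `m = 2` in the presence of a character which is
constantly `-1` on `P ∖ {1}`. -/
theorem two_structure_of_BLData (D : BLData M P 2 X Y a d δ ζ) (hab : IsMulCommutative P)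
    (hP7 : 7 ≤ Nat.card P)
    (θ : IrrCharacter G) (hθB : θ ∈ principalBlock M G) (hθ1 : θ ≠ Helper79.principalIrr G)
    (hθval : ∀ y ∈ (P : Subgroup G), y ≠ 1 → (θ : G → ℂ) y = -1)
    (n : ℕ) (hn : 2 ≤ n) (hθdeg : (θ : G → ℂ) 1 = n) :
    θ ∉ Y ∧ Helper79.principalIrr G ∉ Y ∧ Nat.card Y * 2 = Nat.card P - 1 ∧
      ∀ η ∈ Y, ∀ g : G, ¬ p ∣ orderOf g → (η : G → ℂ) g = (θ : G → ℂ) g - 1 := by
  classical
  haveI : Finite (IrrCharacter G) := Helper79.irr_finite'
  have hcardY := D.cardY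
  have hY3 : 3 ≤ Nat.card Y := by omega
  -- `θ ∈ X`
  have hθX : θ ∈ X := by
    have h := hθB
    rw [D.union] at h
    rcases h with h | h
    · exact h
    · exact absurd (notConst_of_BLData D hab (by omega) h (-1) hθval) id
  have hXY : ∀ χ, χ ∈ X → χ ∉ Y := fun χ hX hY => (Set.disjoint_left.mp D.disj) hX hY
  -- a nonidentity element of `P`
  have hnt : Nontrivial (P : Subgroup G) := by
    rw [← Finite.one_lt_card_iff_nontrivial]
    have : Nat.card (P : Subgroup G) = Nat.card P := rfl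
    omega
  obtain ⟨w, hw⟩ := exists_ne (1 : (P : Subgroup G))
  have hw1 : (w : G) ≠ 1 := fun h => hw (Subtype.ext h)
  have haθ : a θ = -1 := by
    have h := D.valX θ hθX (w : G) (w : G) (isPPart_self P w.2) w.2 hw1
    rw [hθval (w : G) w.2 hw1] at h
    have : ((a θ : ℤ) : ℂ) = ((-1 : ℤ) : ℂ) := by rw [← h]; norm_num
    exact_mod_cast this
  have hX : X.Finite := Set.toFinite X
  have hnorm : (d - δ) ^ 2 + ((Nat.card Y : ℤ) - 1) * d ^ 2 +
      ∑ χ ∈ hX.toFinset, a χ ^ 2 = 3 := by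
    have h := D.norm
    rw [finsum_mem_eq_finite_toFinset_sum _ hX] at h
    push_cast at h
    linarith
  have h1X : Helper79.principalIrr G ∈ hX.toFinset := (Set.Finite.mem_toFinset hX).mpr D.one_mem
  have hθXf : θ ∈ hX.toFinset := (Set.Finite.mem_toFinset hX).mpr hθX
  have hY2 : (2 : ℤ) ≤ (Nat.card Y : ℤ) - 1 := by
    have : (3 : ℤ) ≤ (Nat.card Y : ℤ) := by exact_mod_cast hY3
    linarith
  -- lower bound for the sum of squares
  have hpair : ({Helper79.principalIrr G, θ} : Finset (IrrCharacter G)) ⊆ hX.toFinset := by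
    intro χ hχ
    rw [Finset.mem_insert, Finset.mem_singleton] at hχ
    rcases hχ with rfl | rfl
    · exact h1X
    · exact hθXf
  have hsum2 : (2 : ℤ) ≤ ∑ χ ∈ hX.toFinset, a χ ^ 2 := by
    calc (2 : ℤ) = ∑ χ ∈ ({Helper79.principalIrr G, θ} : Finset (IrrCharacter G)), a χ ^ 2 := by
          rw [Finset.sum_pair (Ne.symm hθ1), D.a_one, haθ]; norm_num
      _ ≤ ∑ χ ∈ hX.toFinset, a χ ^ 2 :=
          Finset.sum_le_sum_of_subset_of_nonneg hpair (fun χ _ _ => sq_nonneg _)
  have hd0 : d = 0 := by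
    by_contra hd
    have hd2 : 1 ≤ d ^ 2 := by
      have : 0 < d ^ 2 := by positivity
      omega
    have h3 : 2 * 1 ≤ ((Nat.card Y : ℤ) - 1) * d ^ 2 :=
      mul_le_mul hY2 hd2 (by norm_num) (by linarith)
    nlinarith [sq_nonneg (d - δ)]
  have hδ1 : (d - δ) ^ 2 = 1 := by
    rw [hd0]
    rcases D.sign with h | h <;> rw [h] <;> norm_num
  have hsumeq : ∑ χ ∈ hX.toFinset, a χ ^ 2 = 2 := by
    rw [hδ1, hd0] at hnorm
    have : ((Nat.card Y : ℤ) - 1) * 0 ^ 2 = 0 := by ring
    rw [this] at hnorm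
    linarith
  -- `X = {1, θ}`
  have hXeq : X = {Helper79.principalIrr G, θ} := by
    ext χ
    simp only [Set.mem_insert_iff, Set.mem_singleton_iff]
    constructor
    · intro hχ
      by_contra hne
      push_neg at hne
      have hχf : χ ∈ hX.toFinset := (Set.Finite.mem_toFinset hX).mpr hχ
      have htrip : ({χ, Helper79.principalIrr G, θ} : Finset (IrrCharacter G)) ⊆ hX.toFinset := by
        intro χ' hχ'
        rw [Finset.mem_insert] at hχ'
        rcases hχ' with rfl | h
        · exact hχf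
        · exact hpair h
      have h3 : (3 : ℤ) ≤ ∑ χ ∈ hX.toFinset, a χ ^ 2 := by
        calc (3 : ℤ) ≤ ∑ χ' ∈ ({χ, Helper79.principalIrr G, θ} : Finset (IrrCharacter G)),
              a χ' ^ 2 := by
              rw [Finset.sum_insert (by
                rw [Finset.mem_insert, Finset.mem_singleton]
                push_neg
                exact hne), Finset.sum_pair (Ne.symm hθ1), D.a_one, haθ]
              have := D.a_ne χ hχ
              have h2 : 0 < a χ ^ 2 := by positivity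
              linarith
          _ ≤ ∑ χ ∈ hX.toFinset, a χ ^ 2 :=
              Finset.sum_le_sum_of_subset_of_nonneg htrip (fun χ _ _ => sq_nonneg _)
      linarith
    · rintro (rfl | rfl)
      · exact D.one_mem
      · exact hθX
  refine ⟨hXY θ hθX, hXY _ D.one_mem, hcardY, ?_⟩
  -- the relation on `p`-regular elements
  have hrel : ∀ η ∈ Y, ∀ g : G, ¬ p ∣ orderOf g →
      (δ : ℂ) * (η : G → ℂ) g = 1 - (θ : G → ℂ) g := by
    intro η hη g hg
    have h := D.reg_rel η hη g hg
    rw [hXeq, finsum_mem_pair (Ne.symm hθ1), hd0, D.a_one, haθ] at h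
    have h1 : (Helper79.principalIrr G : G → ℂ) g = 1 := rfl
    rw [h1] at h
    push_cast at h
    linear_combination -h
  have hδ2 : (δ : ℂ) * (δ : ℂ) = 1 := by
    rcases D.sign with h | h <;> rw [h] <;> norm_num
  have hδ : δ = -1 := by
    rcases D.sign with h | h
    · exfalso
      obtain ⟨η, hη⟩ : ∃ η, η ∈ Y := by
        have : Nonempty Y := by
          rw [← Finite.card_pos_iff]; omega
        obtain ⟨η⟩ := this
        exact ⟨η.1, η.2⟩
      have h1reg : ¬ p ∣ orderOf (1 : G) := by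
        rw [orderOf_one]; exact (Fact.out : p.Prime).not_dvd_one
      have h2 := hrel η hη 1 h1reg
      rw [h, hθdeg, ← Helper74.charDegree_cast (Helper74.irr_isCharacter η)] at h2
      have h3 : ((charDegree (η : G → ℂ) : ℤ) : ℂ) = ((1 - (n : ℤ) : ℤ) : ℂ) := by
        push_cast
        rw [← h2]
        push_cast
        ring
      have h4 : (charDegree (η : G → ℂ) : ℤ) = 1 - (n : ℤ) := by exact_mod_cast h3
      have h5 := Helper79.irr_charDegree_pos η
      omega
    · exact h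
  intro η hη g hg
  have h := hrel η hη g hg
  rw [hδ] at h
  push_cast at h
  linear_combination -h

end

end Cfsg.Agent.Helper66.PD2
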