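import Mathlib

/-!
# Moments of the fixed-point function of a multiply transitive action
-/

set_option autoImplicit false
set_option linter.unusedSectionVars false
set_option linter.style.haveILetI false

namespace Cfsg.Agent.Helper66.PD2

open MulAction

section moments

variable {G α : Type*} [Group G] [Fintype G] [MulAction G α] [Fintype α] [DecidableEq α]

/-- The embeddings fixed by `g` are the embeddings into the fixed points of `g`. -/
noncomputable def fixedEmbEquiv (k : ℕ) (g : G) :
    fixedBy (Fin k ↪ α) g ≃ (Fin k ↪ fixedBy α g) where
  toFun x := ⟨fun i => ⟨x.1 i, by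
      have h := x.2
      rw [mem_fixedBy] at h ⊢
      have := congrArg (fun e : Fin k ↪ α => e i) h
      simpa using this⟩, fun i j hij => x.1.injective (by
        have := congrArg Subtype.val hij
        simpa using this)⟩
  invFun y := ⟨⟨fun i => (y i : α), fun i j hij => y.injective (Subtype.ext hij)⟩, by
      rw [mem_fixedBy]
      ext i
      have h := (y i).2
      rw [mem_fixedBy] at h
      rw [Function.Embedding.smul_apply]
      exact h⟩
  left_inv x := by ext i; rfl
  right_inv y := by ext i; rfl

theorem card_fixedBy_emb (k : ℕ) (g : G) :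
    Nat.card (fixedBy (Fin k ↪ α) g) = (Nat.card (fixedBy α g)).descFactorial k := by
  classical
  rw [Nat.card_congr (fixedEmbEquiv k g), Nat.card_eq_fintype_card, Fintype.card_embedding_eq,
    Fintype.card_fin, Nat.card_eq_fintype_card]

/-- Burnside's lemma for a `k`-transitive action: the `k`-th factorial moment of the number of
fixed points is `1`. -/
theorem sum_descFactorial (k : ℕ) [IsMultiplyPretransitive G α k] (hk : k ≤ Fintype.card α) :
    ∑ g : G, (Nat.card (fixedBy α g)).descFactorial k = Fintype.card G := by
  classical
  have hne : Nonempty (Fin k ↪ α) := by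
    rw [Function.Embedding.nonempty_iff_card_le, Fintype.card_fin]
    exact hk
  have h := MulAction.sum_card_fixedBy_eq_card_orbits_mul_card_group G (Fin k ↪ α)
  have horb : Fintype.card (Quotient (orbitRel G (Fin k ↪ α))) = 1 := by
    rw [Fintype.card_eq_one_iff]
    obtain ⟨x₀⟩ := hne
    refine ⟨Quotient.mk'' x₀, fun q => ?_⟩
    induction q using Quotient.inductionOn' with
    | h x =>
      apply Quotient.sound'
      rw [orbitRel_apply]
      obtain ⟨g, hg⟩ := MulAction.exists_smul_eq G x₀ x
      exact ⟨g, hg⟩
  rw [horb, one_mul] at h
  rw [← h]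
  refine Finset.sum_congr rfl fun g _ => ?_
  rw [← card_fixedBy_emb k g, Nat.card_eq_fintype_card]

end moments

end Cfsg.Agent.Helper66.PD2
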