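import Mathlib

/-!
# Galois conjugates of power forms

`pow_form_conj_ne_zero`: if `μ i ^ N = 1`, `A i ∈ ℤ`, `γ` is prime to `N` and `∑ A i μ i ≠ 0`, then
`∑ A i μ i ^ γ ≠ 0` (the two sums are Galois conjugate).  Written for helper78's Olsson pieces
(S4539, #7662 (DIAGabs) step (iv)).
-/

set_option autoImplicit false

namespace Cfsg.Agent.Helper66.PowFormConj

open Polynomial

/-- a power form `∑ A i μ i ^ γ` in `N`-th roots of unity vanishes for one `γ` prime to `N`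
iff it vanishes at `γ = 1`: one direction. -/
theorem pow_form_conj_ne_zero' {N : ℕ} (hN : 0 < N) {ι : Type*} (I : Finset ι)
    (A : ι → ℤ) (μ : ι → ℂ) (hμ : ∀ i ∈ I, μ i ^ N = 1)
    (h1 : ∑ i ∈ I, (A i : ℂ) * μ i ≠ 0) {γ : ℕ} (hγ : Nat.Coprime γ N) :
    ∑ i ∈ I, (A i : ℂ) * μ i ^ γ ≠ 0 := by
  classical
  have hζ : IsPrimitiveRoot (Complex.exp (2 * Real.pi * Complex.I / N)) N :=
    Complex.isPrimitiveRoot_exp N hN.ne'
  set ζ := Complex.exp (2 * Real.pi * Complex.I / N) with hζdef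
  haveI : NeZero N := ⟨hN.ne'⟩
  have hk : ∀ i : ι, ∃ k : ℕ, i ∈ I → ζ ^ k = μ i := by
    intro i
    by_cases hi : i ∈ I
    · obtain ⟨k, -, hk⟩ := hζ.eq_pow_of_pow_eq_one (hμ i hi)
      exact ⟨k, fun _ => hk⟩
    · exact ⟨0, fun h => absurd h hi⟩
  choose k hk using hk
  set F : ℤ[X] := ∑ i ∈ I, C (A i) * X ^ (k i) with hF
  have heval : ∀ δ : ℕ, aeval (ζ ^ δ) F = ∑ i ∈ I, (A i : ℂ) * μ i ^ δ := by
    intro δ
    rw [hF, map_sum]
    refine Finset.sum_congr rfl (fun i hi => ?_)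
    rw [map_mul, map_pow, aeval_C, aeval_X, ← pow_mul, mul_comm δ, pow_mul, hk i hi]
    simp
  intro h0
  apply h1
  rw [← heval γ] at h0
  have hζγ : IsPrimitiveRoot (ζ ^ γ) N := hζ.pow_of_coprime γ hγ
  have hint : IsIntegral ℤ (ζ ^ γ) := hζγ.isIntegral hN
  have hdvd : minpoly ℤ (ζ ^ γ) ∣ F := minpoly.isIntegrallyClosed_dvd hint h0
  rw [← hζ.minpoly_eq_pow_coprime hγ] at hdvd
  obtain ⟨Q, hQ⟩ := hdvd
  have := heval 1
  rw [pow_one] at this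
  simp only [pow_one] at this
  rw [← this, hQ, map_mul, minpoly.aeval, zero_mul]

/-- the `Fintype` version. -/
theorem pow_form_conj_ne_zero {N : ℕ} (hN : 0 < N) {ι : Type*} [Fintype ι]
    (A : ι → ℤ) (μ : ι → ℂ) (hμ : ∀ i, μ i ^ N = 1)
    (h1 : ∑ i, (A i : ℂ) * μ i ≠ 0) {γ : ℕ} (hγ : Nat.Coprime γ N) :
    ∑ i, (A i : ℂ) * μ i ^ γ ≠ 0 :=
  pow_form_conj_ne_zero' hN Finset.univ A μ (fun i _ => hμ i) h1 hγ

end Cfsg.Agent.Helper66.PowFormConj
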