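import Cfsg.Agent.Helper45.PronBL3.Defs

/-!
# helper45 PRON BL3 (#15446), leaf (D) (helper66)

No element of order `4` in `Fˣ` when `-1` is a non-square.
-/

set_option autoImplicit false

namespace Cfsg.Agent.Helper66.Pron

open Matrix Cfsg.Agent.Helper99.Pron Cfsg.Agent.Helper45.Pron

variable {F : Type*} [Field F]

/-- (D) -/
theorem sq_eq_one_of_pow_two_pow (hns : ¬ ∃ i : F, i * i = -1) (d : F) (k : ℕ)
    (h : d ^ (2 ^ k) = 1) : d ^ 2 = 1 := by
  induction k with
  | zero => rw [pow_zero, pow_one] at h; rw [h, one_pow]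
  | succ k ih =>
    cases k with
    | zero => simpa using h
    | succ k =>
      apply ih
      set y := d ^ (2 ^ k) with hy
      have e1 : d ^ (2 ^ (k + 1 + 1)) = (y * y) * (y * y) := by
        rw [hy]; ring
      have e2 : d ^ (2 ^ (k + 1)) = y * y := by
        rw [hy]; ring
      rw [e1] at h
      rw [e2]
      have h3 : (y * y - 1) * (y * y + 1) = 0 := by
        have : (y * y - 1) * (y * y + 1) = (y * y) * (y * y) - 1 := by ring
        rw [this, h, sub_self]
      rcases mul_eq_zero.mp h3 with h4 | h4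
      · exact sub_eq_zero.mp h4
      · exact absurd ⟨y, eq_neg_of_add_eq_zero_left h4⟩ hns

end Cfsg.Agent.Helper66.Pron
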