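import Mathlib
import Cfsg.Agent.Helper68.PronBU1.Defs

/-!
# Block BU1 of S2225/S2226, helper68's farm #15487, leaf (FI) (helper66)

A square root `i` of `-1` with `i ^ q = i`, from an element of order `4`.
-/

set_option autoImplicit false
set_option linter.unusedVariables false
set_option linter.unusedSectionVars false

namespace Cfsg.Agent.Helper66.PronBU1

open Matrix Cfsg.Agent.Helper99.Pron Cfsg.Agent.Helper68.PronBU1

variable {F : Type*} [Field F]

/-- a unit of order `4` in a field squares to `-1` -/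
theorem sq_eq_neg_one_of_orderOf_four {x : Fˣ} (hx : orderOf x = 4) : x * x = -1 := by
  have h4 : x ^ 4 = 1 := by rw [← hx]; exact pow_orderOf_eq_one x
  have h2 : x ^ 2 ≠ 1 := fun h => by
    have := orderOf_dvd_of_pow_eq_one h
    rw [hx] at this
    norm_num at this
  have h4' : (x : F) ^ 4 = 1 := by
    have := congrArg Units.val h4
    simpa using this
  have h3 : ((x : F) ^ 2 - 1) * ((x : F) ^ 2 + 1) = 0 := by
    have : ((x : F) ^ 2 - 1) * ((x : F) ^ 2 + 1) = (x : F) ^ 4 - 1 := by ring
    rw [this, h4', sub_self]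
  rcases mul_eq_zero.mp h3 with h5 | h5
  · exfalso
    apply h2
    apply Units.ext
    rw [Units.val_pow_eq_pow_val, Units.val_one]
    exact sub_eq_zero.mp h5
  · apply Units.ext
    rw [Units.val_mul, Units.val_neg, Units.val_one, ← pow_two]
    exact eq_neg_of_add_eq_zero_left h5

/-- (FI) -/
theorem exists_I (q : ℕ) (hq : q % 4 = 1) (hO4 : ∃ x : Fˣ, orderOf x = 4) :
    ∃ i : Fˣ, i * i = -1 ∧ i ^ q = i := by
  obtain ⟨x, hx⟩ := hO4
  refine ⟨x, sq_eq_neg_one_of_orderOf_four hx, ?_⟩
  have h4 : x ^ 4 = 1 := by rw [← hx]; exact pow_orderOf_eq_one x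
  have hq' : q = 4 * (q / 4) + 1 := by omega
  rw [hq', pow_succ, pow_mul, h4, one_pow, one_mul]

end Cfsg.Agent.Helper66.PronBU1
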