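import Mathlib
import Cfsg.Agent.Helper68.PronBU1.Defs
import Cfsg.Agent.Helper66.PronBU1_FI

/-!
# Block BU1 of S2225/S2226, helper68's farm #15487, leaf (FQ) (helper66)

`hns` forces `q ≡ 1 (4)`.
-/

set_option autoImplicit false
set_option linter.unusedVariables false
set_option linter.unusedSectionVars false

namespace Cfsg.Agent.Helper66.PronBU1

open Matrix Cfsg.Agent.Helper99.Pron Cfsg.Agent.Helper68.PronBU1

variable {F : Type*} [Field F]

/-- `q` is odd when `|F| = q ^ 2` and `2 ≠ 0` -/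
theorem q_odd [Fintype F] (q : ℕ) (hF : Fintype.card F = q ^ 2) (h2 : (2 : F) ≠ 0) :
    q % 2 = 1 := by
  by_contra hq
  have hq0 : q % 2 = 0 := by omega
  have hc : Fintype.card F % 2 = 0 := by
    rw [hF, Nat.pow_mod, hq0]
  have h3 : ringChar F = 2 := FiniteField.even_card_iff_char_two.mpr hc
  apply h2
  have := CharP.cast_eq_zero F (ringChar F)
  rw [h3] at this
  exact_mod_cast this

/-- (FQ) -/
theorem q_mod_four [Fintype F] (q : ℕ) (hF : Fintype.card F = q ^ 2) (h2 : (2 : F) ≠ 0)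
    (hns : ¬ ∃ i : F, i * i = -1 ∧ i ^ (q + 1) = 1) (hO4 : ∃ x : Fˣ, orderOf x = 4) :
    q % 4 = 1 := by
  have hodd := q_odd q hF h2
  by_contra hq
  have hq3 : q % 4 = 3 := by omega
  obtain ⟨x, hx⟩ := hO4
  have hxx := sq_eq_neg_one_of_orderOf_four hx
  have h4 : x ^ 4 = 1 := by rw [← hx]; exact pow_orderOf_eq_one x
  apply hns
  refine ⟨(x : F), ?_, ?_⟩
  · have := congrArg Units.val hxx
    simpa using this
  · have hq' : q + 1 = 4 * ((q + 1) / 4) := by omega
    have h5 : x ^ (q + 1) = 1 := by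
      rw [hq', pow_mul, h4, one_pow]
    have := congrArg Units.val h5
    simpa using this

end Cfsg.Agent.Helper66.PronBU1
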