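import Mathlib
import Cfsg.Agent.Helper99.Pron.Defs

/-!
# S2225/S2226 block I (helper99's farm #15213), piece (IX) (helper66)

Index-two lemmas: squares and `g * (w g w⁻¹)` lie in a subgroup of index at most two.
-/

set_option autoImplicit false

namespace Cfsg.Agent.Helper66.Pron

open Matrix Cfsg.Agent.Helper99.Pron

section idx
variable {G : Type*} [Group G] {W T : Subgroup G}

/-- (IX1) squares lie in a subgroup of index at most two -/
theorem Idx2.sq_mem (h : Idx2 W T) {g : G} (hg : g ∈ W) : g * g ∈ T := by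
  by_cases hgT : g ∈ T
  · exact T.mul_mem hgT hgT
  · exact h.2 g hg g hg hgT hgT

/-- a subgroup of index at most two is normalised by the big group -/
theorem Idx2.conj_mem (h : Idx2 W T) {t w : G} (ht : t ∈ T) (hw : w ∈ W) :
    w * t * w⁻¹ ∈ T := by
  by_cases hwT : w ∈ T
  · exact T.mul_mem (T.mul_mem hwT ht) (T.inv_mem hwT)
  · have h1 : w * t ∉ T := fun hc => hwT (by
      have := T.mul_mem hc (T.inv_mem ht)
      rwa [mul_inv_cancel_right] at this)
    have h2 : w⁻¹ ∉ T := fun hc => hwT (by simpa using T.inv_mem hc)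
    exact h.2 (w * t) (W.mul_mem hw (h.1 ht)) w⁻¹ (W.inv_mem hw) h1 h2

/-- (IX2) `g * (w g w⁻¹) ∈ T` for `g w ∈ W`. -/
theorem Idx2.mul_conj_mem (h : Idx2 W T) {g w : G} (hg : g ∈ W) (hw : w ∈ W) :
    g * (w * g * w⁻¹) ∈ T := by
  by_cases hgT : g ∈ T
  · exact T.mul_mem hgT (Idx2.conj_mem h hgT hw)
  · have h1 : w * g * w⁻¹ ∉ T := fun hc => hgT (by
      have := Idx2.conj_mem h hc (W.inv_mem hw)
      simpa [mul_assoc] using this)
    exact h.2 g hg (w * g * w⁻¹) (W.mul_mem (W.mul_mem hw hg) (W.inv_mem hw)) hgT h1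

end idx

end Cfsg.Agent.Helper66.Pron
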