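import Mathlib
import Cfsg.Agent.Helper99.Pron.Defs

/-!
# S2225/S2226 block I (helper99's farm #15213), piece (IX3) (helper66)

Conjugating a subgroup of index at most two by an element normalising the big group keeps the
index at most two.
-/

set_option autoImplicit false

namespace Cfsg.Agent.Helper66.Pron

open Matrix Cfsg.Agent.Helper99.Pron

section idx
variable {G : Type*} [Group G] {W T : Subgroup G}

/-- (IX3) conjugating `T` by an element normalising `W` keeps index at most two -/
theorem Idx2.map_conj (h : Idx2 W T) {x : G} (hx : x ∈ Subgroup.normalizer (W : Set G)) :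
    Idx2 W (T.map (MulAut.conj x).toMonoidHom) := by
  have hx1 : ∀ n, n ∈ W ↔ x * n * x⁻¹ ∈ W := fun n => hx n
  have hx2 : ∀ n, n ∈ W ↔ x⁻¹ * n * x ∈ W := fun n => by
    rw [hx1 (x⁻¹ * n * x)]
    simp [mul_assoc]
  have key : ∀ g, g ∈ T.map (MulAut.conj x).toMonoidHom ↔ x⁻¹ * g * x ∈ T := by
    intro g
    rw [Subgroup.mem_map]
    constructor
    · rintro ⟨t, ht, rfl⟩
      simpa [mul_assoc] using ht
    · intro hg
      exact ⟨x⁻¹ * g * x, hg, by simp [mul_assoc]⟩
  refine ⟨?_, ?_⟩
  · intro g hg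
    rw [key] at hg
    exact (hx2 g).mpr (h.1 hg)
  · intro g hg k hk hgT hkT
    rw [key] at hgT hkT ⊢
    have := h.2 (x⁻¹ * g * x) ((hx2 g).mp hg) (x⁻¹ * k * x) ((hx2 k).mp hk) hgT hkT
    simpa [mul_assoc] using this

end idx

end Cfsg.Agent.Helper66.Pron
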