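import Mathlib
import Cfsg.Agent.Helper99.Pron.Defs

/-!
# S2225/S2226 block II (helper99's farm #15357), piece (PARTS) (helper66)

Every element of a finite group is the product of a power of `2`-power order and a power of odd
order (Chinese remainder theorem on `orderOf l = 2 ^ a * m`).
-/

set_option autoImplicit false

namespace Cfsg.Agent.Helper66.Pron

open Matrix Cfsg.Agent.Helper99.Pron

/-- (PARTS) -/
theorem exists_two_odd_parts {A : Type*} [CommGroup A] [Finite A] (l : A) :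
    ∃ s t : ℕ, (∃ k : ℕ, (l ^ s) ^ (2 ^ k) = 1) ∧ Odd (orderOf (l ^ t)) ∧ l = l ^ s * l ^ t := by
  have hn : orderOf l ≠ 0 := (orderOf_pos l).ne'
  obtain ⟨a, m, hm, hnm⟩ := Nat.exists_eq_two_pow_mul_odd hn
  have hcop : Nat.Coprime (2 ^ a) m := Nat.Coprime.pow_left a (Nat.coprime_two_left.mpr hm)
  obtain ⟨s, hs1, hs2⟩ := Nat.chineseRemainder hcop 1 0
  obtain ⟨t, ht1, ht2⟩ := Nat.chineseRemainder hcop 0 1
  refine ⟨s, t, ⟨a, ?_⟩, ?_, ?_⟩
  · rw [← pow_mul]
    apply orderOf_dvd_iff_pow_eq_one.mp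
    rw [hnm, mul_comm s]
    exact Nat.mul_dvd_mul_left _ ((Nat.modEq_zero_iff_dvd).mp hs2)
  · have h1 : (l ^ t) ^ m = 1 := by
      rw [← pow_mul]
      apply orderOf_dvd_iff_pow_eq_one.mp
      rw [hnm]
      exact Nat.mul_dvd_mul_right ((Nat.modEq_zero_iff_dvd).mp ht1) _
    exact Odd.of_dvd_nat hm (orderOf_dvd_of_pow_eq_one h1)
  · rw [← pow_add]
    conv_lhs => rw [← pow_one l]
    rw [pow_eq_pow_iff_modEq, hnm]
    apply Nat.ModEq.symm
    apply (Nat.modEq_and_modEq_iff_modEq_mul hcop).mp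
    constructor
    · simpa using hs1.add ht1
    · simpa using hs2.add ht2

end Cfsg.Agent.Helper66.Pron
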