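import Mathlib
import Cfsg.Agent.Helper99.Pron.Defs

/-!
# S2225/S2226 block II (helper99's farm #15357), piece (REIDX) (helper66)

Reindexing `GL ι F ≃* GL (Fin n) F` along a bijection `ι ≃ Fin n`, compatible with scalars,
determinants and the unitary condition `Uq`.
-/

set_option autoImplicit false

namespace Cfsg.Agent.Helper66.Pron

open Matrix Cfsg.Agent.Helper99.Pron

variable {F : Type*} [Field F]

/-- the reindexing isomorphism of general linear groups -/
noncomputable def reidx {ι κ : Type*} [Fintype ι] [DecidableEq ι] [Fintype κ] [DecidableEq κ]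
    (e : ι ≃ κ) : GL ι F ≃* GL κ F :=
  Units.mapEquiv (Matrix.reindexAlgEquiv F F e).toRingEquiv.toMulEquiv

theorem reidx_val {ι κ : Type*} [Fintype ι] [DecidableEq ι] [Fintype κ] [DecidableEq κ]
    (e : ι ≃ κ) (g : GL ι F) :
    ((reidx e g : GL κ F) : Matrix κ κ F) = (g : Matrix ι ι F).submatrix e.symm e.symm := rfl

theorem uq_submatrix {ι κ : Type*} [Fintype ι] [DecidableEq ι] [Fintype κ] [DecidableEq κ]
    (e : κ ≃ ι) (q : ℕ) (a : Matrix ι ι F) : Uq q (a.submatrix e e) ↔ Uq q a := by
  unfold Uq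
  rw [transpose_submatrix, ← submatrix_map, submatrix_mul_equiv]
  constructor
  · intro h
    have h1 := congrArg (fun M : Matrix κ κ F => M.submatrix e.symm e.symm) h
    simpa using h1
  · intro h
    rw [h, submatrix_one_equiv]

/-- (REIDX) -/
theorem exists_reindex {ι : Type*} [Fintype ι] [DecidableEq ι] (n : ℕ)
    (hn : Fintype.card ι = n) :
    ∃ φ : GL ι F ≃* GL (Fin n) F, (∀ l : Fˣ, φ (sc l) = sc l) ∧
      (∀ g : GL ι F, ((φ g : GL (Fin n) F) : Matrix (Fin n) (Fin n) F).det = (g : Matrix ι ι F).det) ∧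
      ∀ (q : ℕ) (g : GL ι F), Uq q ((φ g : GL (Fin n) F) : Matrix (Fin n) (Fin n) F) ↔
        Uq q (g : Matrix ι ι F) := by
  refine ⟨reidx (Fintype.equivFinOfCardEq hn), ?_, ?_, ?_⟩
  · intro l
    apply Units.ext
    rw [reidx_val, sc_val, sc_val]
    ext i j
    simp [Matrix.one_apply]
  · intro g
    rw [reidx_val]
    exact det_submatrix_equiv_self _ _
  · intro q g
    rw [reidx_val]
    exact uq_submatrix _ q _

end Cfsg.Agent.Helper66.Pron
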