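import Mathlib
import Cfsg.Agent.Helper99.Pron.Defs
import Cfsg.Agent.Helper66.PronIX

/-!
# S2225/S2226 block I (helper99's farm #15213), piece (WPROJ) (helper66)

An index-two subgroup of `Wr P` containing an antidiagonal element projects onto `P` in both
coordinates.
-/

set_option autoImplicit false

namespace Cfsg.Agent.Helper66.Pron

open Matrix Cfsg.Agent.Helper99.Pron

variable {F : Type*} [Field F] {ι : Type*} [Fintype ι] [DecidableEq ι]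

/-- an antidiagonal element of `Wr P` has its two blocks in `P` -/
theorem ad_mem_Wr_iff [Nonempty ι] {P : Subgroup (GL ι F)} {a b : GL ι F}
    (h : ad a b ∈ Wr P) : a ∈ P ∧ b ∈ P := by
  obtain ⟨a', ha', b', hb', h1 | h1⟩ := h
  · exact absurd h1.symm (bd_ne_ad _ _ _ _)
  · obtain ⟨rfl, rfl⟩ := ad_injective _ _ _ _ h1
    exact ⟨ha', hb'⟩

/-- (WPROJ) -/
theorem WPROJ [Nonempty ι] (P : Subgroup (GL ι F)) (T : Subgroup (GL (ι ⊕ ι) F))
    (hT : Idx2 (Wr P) T) (hτ : ∃ a₀ b₀ : GL ι F, ad a₀ b₀ ∈ T) :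
    (∀ a ∈ P, ∃ b : GL ι F, bd a b ∈ T) ∧ (∀ b ∈ P, ∃ a : GL ι F, bd a b ∈ T) := by
  obtain ⟨a₀, b₀, hτ⟩ := hτ
  obtain ⟨ha₀, hb₀⟩ := ad_mem_Wr_iff (hT.1 hτ)
  constructor
  · intro a ha
    have := Idx2.mul_conj_mem hT (bd_mem_Wr ha P.one_mem) (ad_mem_Wr ha₀ hb₀)
    rw [ad_inv, ad_mul_bd, ad_mul_ad, bd_mul_bd] at this
    have e : a * (a₀ * 1 * a₀⁻¹) = a := by group
    rw [e] at this
    exact ⟨_, this⟩
  · intro b hb
    have := Idx2.mul_conj_mem hT (bd_mem_Wr P.one_mem hb) (ad_mem_Wr ha₀ hb₀)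
    rw [ad_inv, ad_mul_bd, ad_mul_ad, bd_mul_bd] at this
    have e : b * (b₀ * 1 * b₀⁻¹) = b := by group
    rw [e] at this
    exact ⟨_, this⟩

end Cfsg.Agent.Helper66.Pron
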