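import Mathlib
import Cfsg.Agent.Helper99.Pron.Defs
import Cfsg.Agent.Helper66.PronIX
import Cfsg.Agent.Helper66.PronWPROJ

/-!
# S2225/S2226 block I (helper99's farm #15213), piece (SPROJ) (helper66)

An index-two subgroup of `Wr P ⊓ SLs` containing an antidiagonal element projects onto a subgroup
containing `Ksub P` in both coordinates.
-/

set_option autoImplicit false

namespace Cfsg.Agent.Helper66.Pron

open Matrix Cfsg.Agent.Helper99.Pron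

variable {F : Type*} [Field F] {ι : Type*} [Fintype ι] [DecidableEq ι]

/-- determinant (as a unit) of a block diagonal element -/
theorem gdet_bd (a b : GL ι F) :
    Matrix.GeneralLinearGroup.det (bd a b) =
      Matrix.GeneralLinearGroup.det a * Matrix.GeneralLinearGroup.det b := by
  apply Units.ext
  rw [Units.val_mul, Matrix.GeneralLinearGroup.val_det_apply,
    Matrix.GeneralLinearGroup.val_det_apply, Matrix.GeneralLinearGroup.val_det_apply, bd_val,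
    det_fromBlocks_zero₂₁]

theorem mem_SLs_iff {n : Type*} [Fintype n] [DecidableEq n] {g : GL n F} :
    g ∈ SLs n F ↔ Matrix.GeneralLinearGroup.det g = 1 := MonoidHom.mem_ker

theorem mem_Ksub_iff {P : Subgroup (GL ι F)} {a : GL ι F} :
    a ∈ Ksub P ↔ a ∈ P ∧ ∃ e ∈ P,
      Matrix.GeneralLinearGroup.det a = Matrix.GeneralLinearGroup.det e ^ 2 := by
  rw [mem_Ksub]
  refine and_congr_right fun _ => exists_congr fun e => and_congr_right fun _ => ?_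
  rw [Units.ext_iff, Units.val_pow_eq_pow_val, Matrix.GeneralLinearGroup.val_det_apply,
    Matrix.GeneralLinearGroup.val_det_apply]

/-- `bd a b ∈ Wr P ⊓ SLs` for `a b ∈ P` with `det a * det b = 1` -/
theorem bd_mem_WS {P : Subgroup (GL ι F)} {a b : GL ι F} (ha : a ∈ P) (hb : b ∈ P)
    (hd : Matrix.GeneralLinearGroup.det a * Matrix.GeneralLinearGroup.det b = 1) :
    bd a b ∈ Wr P ⊓ SLs (ι ⊕ ι) F :=
  ⟨bd_mem_Wr ha hb, mem_SLs_iff.mpr (by rw [gdet_bd, hd])⟩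

/-- first half of (SPROJ) -/
theorem SPROJ_left [Nonempty ι] (P : Subgroup (GL ι F)) (T : Subgroup (GL (ι ⊕ ι) F))
    (hT : Idx2 (Wr P ⊓ SLs (ι ⊕ ι) F) T) (hτ : ∃ a₀ b₀ : GL ι F, ad a₀ b₀ ∈ T) :
    ∀ a ∈ Ksub P, ∃ b : GL ι F, bd a b ∈ T := by
  obtain ⟨a₀, b₀, hτ⟩ := hτ
  obtain ⟨ha₀, hb₀⟩ := ad_mem_Wr_iff (hT.1 hτ).1
  intro a haK
  obtain ⟨ha, e, he, hae⟩ := mem_Ksub_iff.mp haK
  by_cases hc : ∃ k ∈ P, Matrix.GeneralLinearGroup.det k = 1 ∧ bd 1 k ∉ T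
  · obtain ⟨k, hk, hkd, hkT⟩ := hc
    by_cases h1 : bd a a⁻¹ ∈ T
    · exact ⟨_, h1⟩
    · have m1 : bd a a⁻¹ ∈ Wr P ⊓ SLs (ι ⊕ ι) F :=
        bd_mem_WS ha (P.inv_mem ha) (by rw [map_inv, mul_inv_cancel])
      have m2 : bd 1 k ∈ Wr P ⊓ SLs (ι ⊕ ι) F :=
        bd_mem_WS P.one_mem hk (by rw [map_one, one_mul, hkd])
      have := hT.2 _ m1 _ m2 h1 hkT
      rw [bd_mul_bd, mul_one] at this
      exact ⟨_, this⟩
  · replace hc : ∀ k ∈ P, Matrix.GeneralLinearGroup.det k = 1 → bd 1 k ∈ T := by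
      intro k hk hkd
      by_contra hkT
      exact hc ⟨k, hk, hkd, hkT⟩
    -- all `bd k 1 ∈ T`
    have hk1 : ∀ k ∈ P, Matrix.GeneralLinearGroup.det k = 1 → bd k 1 ∈ T := by
      intro k hk hkd
      have h1 : bd 1 (a₀⁻¹ * k * a₀) ∈ T := by
        refine hc _ (P.mul_mem (P.mul_mem (P.inv_mem ha₀) hk) ha₀) ?_
        rw [map_mul, map_mul, map_inv, hkd, mul_one, inv_mul_cancel]
      have h2 := T.mul_mem (T.mul_mem hτ h1) (T.inv_mem hτ)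
      rw [ad_inv, ad_mul_bd, ad_mul_ad] at h2
      have e1 : a₀ * (a₀⁻¹ * k * a₀) * a₀⁻¹ = k := by group
      have e2 : b₀ * 1 * b₀⁻¹ = 1 := by group
      rwa [e1, e2] at h2
    have h3 : bd e e⁻¹ * bd e e⁻¹ ∈ T :=
      Idx2.sq_mem hT (bd_mem_WS he (P.inv_mem he) (by rw [map_inv, mul_inv_cancel]))
    have h4 : bd (a * (e * e)⁻¹) 1 ∈ T := by
      refine hk1 _ (P.mul_mem ha (P.inv_mem (P.mul_mem he he))) ?_
      rw [map_mul, map_inv, map_mul, hae, pow_two, mul_inv_cancel]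
    have := T.mul_mem h4 h3
    rw [bd_mul_bd, bd_mul_bd] at this
    have e1 : a * (e * e)⁻¹ * (e * e) = a := by group
    rw [e1] at this
    exact ⟨_, this⟩

/-- (SPROJ) -/
theorem SPROJ [Nonempty ι] (P : Subgroup (GL ι F)) (T : Subgroup (GL (ι ⊕ ι) F))
    (hT : Idx2 (Wr P ⊓ SLs (ι ⊕ ι) F) T) (hτ : ∃ a₀ b₀ : GL ι F, ad a₀ b₀ ∈ T) :
    (∀ a ∈ Ksub P, ∃ b : GL ι F, bd a b ∈ T) ∧ (∀ b ∈ Ksub P, ∃ a : GL ι F, bd a b ∈ T) := by
  refine ⟨SPROJ_left P T hT hτ, ?_⟩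
  have hl := SPROJ_left P T hT hτ
  obtain ⟨a₀, b₀, hτ⟩ := hτ
  obtain ⟨ha₀, hb₀⟩ := ad_mem_Wr_iff (hT.1 hτ).1
  intro b hbK
  obtain ⟨hb, e, he, hbe⟩ := mem_Ksub_iff.mp hbK
  have hb' : b₀⁻¹ * b * b₀ ∈ Ksub P := by
    refine mem_Ksub_iff.mpr ⟨P.mul_mem (P.mul_mem (P.inv_mem hb₀) hb) hb₀, e, he, ?_⟩
    rw [map_mul, map_mul, map_inv, hbe, mul_comm, mul_inv_cancel_left]
  obtain ⟨c, hc⟩ := hl _ hb'
  have h2 := T.mul_mem (T.mul_mem hτ hc) (T.inv_mem hτ)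
  rw [ad_inv, ad_mul_bd, ad_mul_ad] at h2
  have e1 : b₀ * (b₀⁻¹ * b * b₀) * b₀⁻¹ = b := by group
  rw [e1] at h2
  exact ⟨_, h2⟩

end Cfsg.Agent.Helper66.Pron
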