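import Mathlib
import Cfsg.Agent.Helper99.Pron.Defs

/-!
# S2225/S2226 block II (helper99's farm #15357), piece (TRANS) (helper66)

Transport of the normaliser statement along a reindexing isomorphism.
-/

set_option autoImplicit false

namespace Cfsg.Agent.Helper66.Pron

open Matrix Cfsg.Agent.Helper99.Pron

variable {F : Type*} [Field F]

/-- (TRANS) transport of the normaliser statement along a reindexing isomorphism -/
theorem transport_pack {ι : Type*} [Fintype ι] [DecidableEq ι] (n : ℕ)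
    (φ : GL ι F ≃* GL (Fin n) F) (hφs : ∀ l : Fˣ, φ (sc l) = sc l)
    (hφd : ∀ g : GL ι F,
      ((φ g : GL (Fin n) F) : Matrix (Fin n) (Fin n) F).det = (g : Matrix ι ι F).det)
    (W : Subgroup (GL ι F))
    (hN : ∀ x ∈ Subgroup.normalizer ((W ⊓ SLs ι F : Subgroup (GL ι F)) : Set (GL ι F)),
      ∃ l : Fˣ, ∃ w ∈ W, x = sc l * w) :
    ∀ x ∈ Subgroup.normalizer
      ((W.map φ.toMonoidHom ⊓ SLs (Fin n) F : Subgroup (GL (Fin n) F)) : Set (GL (Fin n) F)),
      ∃ l : Fˣ, ∃ w ∈ W.map φ.toMonoidHom, x = sc l * w := by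
  have key : ∀ g : GL ι F, φ g ∈ W.map φ.toMonoidHom ⊓ SLs (Fin n) F ↔ g ∈ W ⊓ SLs ι F := by
    intro g
    rw [Subgroup.mem_inf, Subgroup.mem_inf, mem_SLs, mem_SLs, hφd]
    refine and_congr_left fun _ => ?_
    rw [Subgroup.mem_map]
    constructor
    · rintro ⟨w, hw, hwg⟩
      have : w = g := φ.injective hwg
      rwa [← this]
    · intro hg
      exact ⟨g, hg, rfl⟩
  intro x hx
  have hy : φ.symm x ∈ Subgroup.normalizer ((W ⊓ SLs ι F : Subgroup (GL ι F)) : Set (GL ι F)) := by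
    intro g
    rw [SetLike.mem_coe, SetLike.mem_coe, ← key g, ← key (φ.symm x * g * (φ.symm x)⁻¹), map_mul,
      map_mul, map_inv, MulEquiv.apply_symm_apply]
    exact hx (φ g)
  obtain ⟨l, w, hw, hxw⟩ := hN _ hy
  refine ⟨l, φ w, Subgroup.mem_map.mpr ⟨w, hw, rfl⟩, ?_⟩
  rw [← hφs, ← map_mul, ← hxw, MulEquiv.apply_symm_apply]

end Cfsg.Agent.Helper66.Pron
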