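import Mathlib
import Cfsg.Agent.Helper81.ResA2.Defs

/-!
# S5289 piece (ALL2), sub-farm ResA2 (helper81), leaf (AB) (helper66)
-/

set_option autoImplicit false
universe u
namespace Cfsg.Agent.Helper66.ResA2
open Cfsg.Agent.Helper81.ResA2
variable {G : Type u} [Group G] {p : ℕ} [hp : Fact p.Prime] {N : Subgroup G}

/-- (AB) `A = C_G(E)` of order `p³` (`|E| = p²`, `E` abelian so `E ≤ A`) is abelian: `A = ⋃ s^i E` for `s ∈ A ∖ E` (= `hgen`, from (CY)),
and `s^i e`, `s^j e'` commute. -/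
theorem centralizer_comm (E : Subgroup G) (hEab : ∀ a ∈ E, ∀ b ∈ E, a * b = b * a) (s : G)
    (hs : s ∈ Subgroup.centralizer (E : Set G))
    (hgen : ∀ t ∈ Subgroup.centralizer (E : Set G), ∃ i : ℕ, ∃ e ∈ E, t = s ^ i * e) :
    ∀ t ∈ Subgroup.centralizer (E : Set G), ∀ t' ∈ Subgroup.centralizer (E : Set G), t * t' = t' * t := by
  intro t ht t' ht'
  obtain ⟨i, e, he, rfl⟩ := hgen t ht
  obtain ⟨j, e', he', rfl⟩ := hgen t' ht'
  rw [Subgroup.mem_centralizer_iff] at hs
  have c1 : Commute s e' := (hs e' he').symm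
  have c2 : Commute e s := hs e he
  have c3 : Commute e e' := hEab e he e' he'
  have c4 : Commute (s ^ i) (s ^ j) := Commute.pow_pow_self s i j
  have h : Commute (s ^ i * e) (s ^ j * e') :=
    Commute.mul_left (Commute.mul_right c4 (c1.pow_left i)) (Commute.mul_right (c2.pow_right j) c3)
  exact h

end Cfsg.Agent.Helper66.ResA2
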