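import Mathlib
import Cfsg.Agent.Helper81.ResA2.Defs

/-!
# S5289 piece (ALL2), sub-farm ResA2 (helper81), leaf (NQ) (helper66)
-/

set_option autoImplicit false
universe u
namespace Cfsg.Agent.Helper66.ResA2
open Cfsg.Agent.Helper81.ResA2
variable {G : Type u} [Group G] {p : ℕ} [hp : Fact p.Prime] {N : Subgroup G}

/-- (NQ) pure computation: `Q = ⋃ x^i Z(N)`, `G = ⋃ s^i N`, `[x, s] ∈ Z(N)`, `Z(N) ≤ Q` central in `G`, `[N,N] ≤ Z(N)` ⟹ `Q ⊴ G`. -/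
theorem normal_of_comm (Q : Subgroup G) (hQN : Q ≤ N) (hZQ : zN N ≤ Q) (hZc : ∀ z ∈ zN N, ∀ t : G, t * z = z * t)
    (hZK : ∀ x ∈ N, ∀ y ∈ N, x * y * x⁻¹ * y⁻¹ ∈ zN N) (x s : G) (hx : x ∈ Q)
    (hgenQ : ∀ q ∈ Q, ∃ i : ℕ, ∃ z ∈ zN N, q = x ^ i * z)
    (hgenG : ∀ t : G, ∃ i : ℕ, ∃ n ∈ N, t = s ^ i * n)
    (hy : x * s * x⁻¹ * s⁻¹ ∈ zN N) : ∀ t : G, ∀ q ∈ Q, t * q * t⁻¹ ∈ Q := by
  -- conjugation by elements of `N`
  have hN : ∀ n ∈ N, ∀ q ∈ Q, n * q * n⁻¹ ∈ Q := by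
    intro n hn q hq
    have h1 : n * q * n⁻¹ = (n * q * n⁻¹ * q⁻¹) * q := by group
    rw [h1]
    exact Q.mul_mem (hZQ (hZK n hn q (hQN hq))) hq
  -- conjugation of `x` by `s`
  have hsx : s * x * s⁻¹ ∈ Q := by
    have h1 : s * x * s⁻¹ = (x * s * x⁻¹ * s⁻¹)⁻¹ * x := by group
    rw [h1]
    exact Q.mul_mem (Q.inv_mem (hZQ hy)) hx
  -- conjugation by `s`
  have hs : ∀ q ∈ Q, s * q * s⁻¹ ∈ Q := by
    intro q hq
    obtain ⟨j, z, hz, rfl⟩ := hgenQ q hq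
    have h2 : s * z = z * s := hZc z hz s
    have h3 : s * z * s⁻¹ = z := by rw [h2, mul_inv_cancel_right]
    have h1 : s * (x ^ j * z) * s⁻¹ = (s * x * s⁻¹) ^ j * z := by
      rw [conj_pow]
      calc s * (x ^ j * z) * s⁻¹ = (s * x ^ j * s⁻¹) * (s * z * s⁻¹) := by group
        _ = s * x ^ j * s⁻¹ * z := by rw [h3]
    rw [h1]
    exact Q.mul_mem (Q.pow_mem hsx j) (hZQ hz)
  -- conjugation by powers of `s`
  have hsi : ∀ i : ℕ, ∀ q ∈ Q, s ^ i * q * (s ^ i)⁻¹ ∈ Q := by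
    intro i
    induction i with
    | zero => intro q hq; simpa using hq
    | succ i ih =>
      intro q hq
      have h1 : s ^ (i + 1) * q * (s ^ (i + 1))⁻¹ = s * (s ^ i * q * (s ^ i)⁻¹) * s⁻¹ := by
        rw [pow_succ']
        group
      rw [h1]
      exact hs _ (ih q hq)
  intro t q hq
  obtain ⟨i, n, hn, rfl⟩ := hgenG t
  have h1 : s ^ i * n * q * (s ^ i * n)⁻¹ = s ^ i * (n * q * n⁻¹) * (s ^ i)⁻¹ := by group
  rw [h1]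
  exact hsi i _ (hN n hn q hq)

end Cfsg.Agent.Helper66.ResA2
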