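import Cfsg.Agent.Helper62.SC3.Defs3

/-!
# S3331 block M (helper62's farm #15754), piece (M7a) (helper66)

An `x`-invariant `2`-subgroup `M` with `|N(M)| = 3|M|` is a Sylow `2`-subgroup.
-/

set_option autoImplicit false
set_option linter.unusedSectionVars false
set_option linter.unusedVariables false

namespace Cfsg.Agent.Helper66.SC3

open Cfsg.Agent.Helper62.SC3

universe u

variable {G : Type u} [Group G] [Finite G]

theorem M7a_two_sylow (S : Setup G) {M : Subgroup G} (hM : Inv3 S M) (h2 : IsPGroup 2 ↥M)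
    (h3 : Nat.card (Subgroup.normalizer (M : Set G)) = 3 * Nat.card M) :
    Nat.card M = 2 ^ (Nat.card G).factorization 2 := by
  have : Fact (Nat.Prime 2) := ⟨Nat.prime_two⟩
  obtain ⟨n, hn⟩ := IsPGroup.exists_card_eq h2
  have hG : Nat.card G ≠ 0 := Nat.card_pos.ne'
  have hdvd : 2 ^ n ∣ Nat.card G := hn ▸ Subgroup.card_subgroup_dvd_card M
  have hle : n ≤ (Nat.card G).factorization 2 :=
    (Nat.Prime.pow_dvd_iff_le_factorization Nat.prime_two hG).mp hdvd
  rw [hn]
  congr 1
  by_contra hne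
  have hlt : n + 1 ≤ (Nat.card G).factorization 2 := by omega
  have hdvd2 : 2 ^ (n + 1) ∣ Nat.card G :=
    (Nat.Prime.pow_dvd_iff_le_factorization Nat.prime_two hG).mpr hlt
  have hmod := Sylow.card_normalizer_modEq_card (p := 2) hn
  have h4 : 2 ^ (n + 1) ∣ Nat.card (Subgroup.normalizer (M : Set G)) :=
    (Nat.modEq_zero_iff_dvd.mp (hmod.trans (Nat.modEq_zero_iff_dvd.mpr hdvd2)))
  rw [h3, hn, pow_succ] at h4
  have h5 : 2 ∣ 3 := by
    have h6 : 2 ^ n * 2 ∣ 2 ^ n * 3 := by rwa [mul_comm 3] at h4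
    exact Nat.dvd_of_mul_dvd_mul_left (by positivity) h6
  omega

end Cfsg.Agent.Helper66.SC3
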