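import Cfsg.Agent.Helper62.SC3.Defs3

/-!
# S3331 block M (helper62's farm #15744), piece (T0) (helper66)

A subgroup containing `x` satisfies `Hyp`.
-/

set_option autoImplicit false
set_option linter.unusedSectionVars false

namespace Cfsg.Agent.Helper66.SC3

open Cfsg.Agent.Helper62.SC3

universe u

variable {G : Type u} [Group G] [Finite G]

theorem T0_hyp_of_mem (S : Setup G) (L : Subgroup G) (hx : S.x ∈ L) : Hyp ↥L := by
  refine ⟨Subgroup.zpowers (⟨S.x, hx⟩ : ↥L), ?_, ?_⟩
  · rw [Nat.card_zpowers, Subgroup.orderOf_mk, S.hx]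
  · ext g
    rw [Subgroup.mem_centralizer_iff]
    constructor
    · intro h
      have h1 : (⟨S.x, hx⟩ : ↥L) * g = g * ⟨S.x, hx⟩ := h _ (Subgroup.mem_zpowers _)
      have h2 : S.x * (g : G) = (g : G) * S.x := congrArg Subtype.val h1
      have h3 : (g : G) ∈ Subgroup.centralizer ({S.x} : Set G) := by
        rw [Subgroup.mem_centralizer_iff]
        intro y hy
        rw [Set.mem_singleton_iff] at hy
        rw [hy, h2]
      rw [S.hC] at h3
      obtain ⟨k, hk⟩ := Subgroup.mem_zpowers_iff.mp h3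
      refine Subgroup.mem_zpowers_iff.mpr ⟨k, ?_⟩
      apply Subtype.ext
      rw [Subgroup.coe_zpow]
      exact hk
    · intro hg y hy
      obtain ⟨k, rfl⟩ := Subgroup.mem_zpowers_iff.mp hg
      obtain ⟨j, rfl⟩ := Subgroup.mem_zpowers_iff.mp hy
      rw [← zpow_add, ← zpow_add, add_comm]

end Cfsg.Agent.Helper66.SC3
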