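import Cfsg.Agent.Helper62.SC3.Defs3
import Cfsg.Agent.Helper5.PSL2Simple

/-!
# S3331 block M (helper62's farm #15744), piece (T3) (helper66)

A subgroup isomorphic to `PSL(2,7)` has no nontrivial proper normal subgroup.
-/

set_option autoImplicit false
set_option linter.unusedSectionVars false

namespace Cfsg.Agent.Helper66.SC3

open Cfsg.Agent.Helper62.SC3

universe u

variable {G : Type u} [Group G] [Finite G]

theorem T3_intIII_of_typeIII (L : Subgroup G) (h : TypeIII ↥L) : IntIII L := by
  obtain ⟨e⟩ := h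
  have : Fact (Nat.Prime 7) := ⟨by norm_num⟩
  have hs : IsSimpleGroup (Matrix.ProjectiveSpecialLinearGroup (Fin 2) (ZMod 7)) :=
    Cfsg.Agent.Helper5.isSimpleGroup_PSL2_of_card (by rw [ZMod.card]; norm_num)
  have hL : IsSimpleGroup ↥L := e.isSimpleGroup
  intro D hDL hLD
  have hn : (D.subgroupOf L).Normal := (Subgroup.normal_subgroupOf_iff_le_normalizer hDL).mpr hLD
  rcases hn.eq_bot_or_eq_top with h1 | h1
  · left
    rw [Subgroup.subgroupOf_eq_bot] at h1
    have := h1.eq_bot
    rwa [inf_eq_left.mpr hDL] at this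
  · right
    rw [Subgroup.subgroupOf_eq_top] at h1
    exact le_antisymm hDL h1

end Cfsg.Agent.Helper66.SC3
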