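import Mathlib
import Cfsg.Agent.Helper66.SchurMult2

set_option autoImplicit false

namespace Cfsg.Agent.Helper66

open scoped commutatorElement

universe u v w

section Abstract

/-- A homomorphism to an abelian group that factors through a surjection onto `Q` has all its
values killed by the order of the commutator quotient of `Q`. -/
theorem pow_card_abelianization_eq_one_of_ker_le {G : Type*} {Q : Type*} {C : Type*} [Group G]
    [Group Q] [inst : Group C] (hC : ∀ a b : C, a * b = b * a) (f : G →* C) (π : G →* Q)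
    (hπ : Function.Surjective π)
    (hk : π.ker ≤ f.ker) (x : G) : f x ^ Nat.card (Abelianization Q) = 1 := by
  letI : CommGroup C := { inst with mul_comm := hC }
  let fbar : Q →* C := π.liftOfSurjective hπ ⟨f, hk⟩
  have h1 : fbar (π x) = f x := MonoidHom.liftOfRightInverse_comp_apply _ _ _ _ x
  let g : Abelianization Q →* C := Abelianization.lift fbar
  have h2 : f x = g (Abelianization.of (π x)) := by
    simp only [g, Abelianization.lift_apply_of, h1]
  rw [h2, ← map_pow, pow_card_eq_one', map_one]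

variable {Γ : Type*} {Q₁ : Type*} {Q₂ : Type*} [Group Γ] [Group Q₁] [Group Q₂]

/-- In a central extension of `Q₁ × Q₂`, a commutator of an element over `Q₁` and an element over
`Q₂` is killed by the order of the commutator quotient of `Q₁`. -/
theorem commutator_pow_card_abelianization_eq_one (σ : Γ →* Q₁ × Q₂)
    (hs : Function.Surjective σ) (hc : σ.ker ≤ Subgroup.center Γ) (x y : Γ) (hx : (σ x).2 = 1)
    (hy : (σ y).1 = 1) : ⁅x, y⁆ ^ Nat.card (Abelianization Q₁) = 1 := by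
  let Γ₁ : Subgroup Γ := ((MonoidHom.snd Q₁ Q₂).comp σ).ker
  let π₁ : Γ₁ →* Q₁ := ((MonoidHom.fst Q₁ Q₂).comp σ).comp Γ₁.subtype
  have hπ₁ : Function.Surjective π₁ := by
    intro q
    obtain ⟨γ, hγ⟩ := hs (q, 1)
    have hγ1 : γ ∈ Γ₁ := by
      show (σ γ).2 = 1
      rw [hγ]
    refine ⟨⟨γ, hγ1⟩, ?_⟩
    show (σ γ).1 = q
    rw [hγ]
  have hmem : ∀ a : Γ₁, ⁅(a : Γ), y⁆ ∈ Subgroup.center Γ := by
    intro a
    apply hc
    rw [MonoidHom.mem_ker, map_commutatorElement]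
    have ha : (σ a).2 = 1 := a.2
    apply Prod.ext
    · show ⁅(σ a).1, (σ y).1⁆ = 1
      rw [hy]; simp
    · show ⁅(σ a).2, (σ y).2⁆ = 1
      rw [ha]; simp
  let f : Γ₁ →* Subgroup.center Γ :=
    { toFun := fun a => ⟨⁅(a : Γ), y⁆, hmem a⟩
      map_one' := by apply Subtype.ext; simp
      map_mul' := fun a b => by
        apply Subtype.ext
        show ⁅(a : Γ) * (b : Γ), y⁆ = ⁅(a : Γ), y⁆ * ⁅(b : Γ), y⁆
        have hb := Subgroup.mem_center_iff.mp (hmem b) (a : Γ)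
        have : ⁅(a : Γ) * (b : Γ), y⁆ = ((a : Γ) * ⁅(b : Γ), y⁆) * (a : Γ)⁻¹ * ⁅(a : Γ), y⁆ := by
          simp only [commutatorElement_def]; group
        rw [this, hb]
        have hb' := Subgroup.mem_center_iff.mp (hmem b) ⁅(a : Γ), y⁆
        rw [mul_assoc ⁅(b : Γ), y⁆, mul_inv_cancel, mul_one, hb'] }
  have hk : π₁.ker ≤ f.ker := by
    intro a ha
    rw [MonoidHom.mem_ker] at ha ⊢
    have ha1 : (σ a).1 = 1 := ha
    have ha2 : (σ a).2 = 1 := a.2
    have hacen : (a : Γ) ∈ Subgroup.center Γ := by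
      apply hc
      rw [MonoidHom.mem_ker]
      exact Prod.ext ha1 ha2
    apply Subtype.ext
    show ⁅(a : Γ), y⁆ = 1
    rw [commutatorElement_eq_one_iff_mul_comm]
    exact (Subgroup.mem_center_iff.mp hacen y).symm
  have hxm : x ∈ Γ₁ := hx
  have hC : ∀ a b : Subgroup.center Γ, a * b = b * a := fun a b => by
    apply Subtype.ext
    exact (Subgroup.mem_center_iff.mp a.2 b.1).symm
  have := pow_card_abelianization_eq_one_of_ker_le hC f π₁ hπ₁ hk ⟨x, hxm⟩
  have h3 := congrArg Subtype.val this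
  rw [Subgroup.coe_pow] at h3
  exact h3

/-- In a central extension of `Q₁ × Q₂` with coprime commutator quotients, elements over `Q₁`
commute with elements over `Q₂`. -/
theorem commute_of_coprime_abelianization (σ : Γ →* Q₁ × Q₂)
    (hs : Function.Surjective σ) (hc : σ.ker ≤ Subgroup.center Γ)
    (hcop : Nat.Coprime (Nat.card (Abelianization Q₁)) (Nat.card (Abelianization Q₂)))
    (x y : Γ) (hx : (σ x).2 = 1) (hy : (σ y).1 = 1) : Commute x y := by
  have h1 := commutator_pow_card_abelianization_eq_one σ hs hc x y hx hy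
  let σ' : Γ →* Q₂ × Q₁ := (MulEquiv.prodComm : Q₁ × Q₂ ≃* Q₂ × Q₁).toMonoidHom.comp σ
  have hs' : Function.Surjective σ' := (MulEquiv.prodComm : Q₁ × Q₂ ≃* Q₂ × Q₁).surjective.comp hs
  have hc' : σ'.ker ≤ Subgroup.center Γ := by
    intro a ha
    apply hc
    rw [MonoidHom.mem_ker] at ha ⊢
    exact (MulEquiv.prodComm : Q₁ × Q₂ ≃* Q₂ × Q₁).injective (by rw [map_one]; exact ha)
  have h2 := commutator_pow_card_abelianization_eq_one σ' hs' hc' y x hy hx
  have h2' : ⁅x, y⁆ ^ Nat.card (Abelianization Q₂) = 1 := by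
    rw [← commutatorElement_inv y x, inv_pow, h2, inv_one]
  have hord1 := orderOf_dvd_of_pow_eq_one h1
  have hord2 := orderOf_dvd_of_pow_eq_one h2'
  have : orderOf ⁅x, y⁆ = 1 := Nat.eq_one_of_dvd_coprimes hcop hord1 hord2
  rw [orderOf_eq_one_iff, commutatorElement_eq_one_iff_mul_comm] at this
  exact this

end Abstract

section Lifts

variable {Γ : Type w} {Q₁ : Type u} {Q₂ : Type v} [Group Γ] [Group Q₁] [Group Q₂]

/-- The standard central extension of `Q₁` maps to any central extension of `Q₁ × Q₂`. -/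
theorem exists_lift_left (σ : Γ →* Q₁ × Q₂) (hs : Function.Surjective σ)
    (hc : σ.ker ≤ Subgroup.center Γ) :
    ∃ ψ₁ : SchurH Q₁ →* Γ, ∀ h, σ (ψ₁ h) = (schurRho Q₁ h, 1) := by
  let Γ₁ : Subgroup Γ := ((MonoidHom.snd Q₁ Q₂).comp σ).ker
  let π₁ : Γ₁ →* Q₁ := ((MonoidHom.fst Q₁ Q₂).comp σ).comp Γ₁.subtype
  have hπ₁ : Function.Surjective π₁ := by
    intro q
    obtain ⟨γ, hγ⟩ := hs (q, 1)
    have hγ1 : γ ∈ Γ₁ := by
      show (σ γ).2 = 1
      rw [hγ]
    refine ⟨⟨γ, hγ1⟩, ?_⟩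
    show (σ γ).1 = q
    rw [hγ]
  have hk : π₁.ker ≤ Subgroup.center Γ₁ := by
    intro a ha
    rw [MonoidHom.mem_ker] at ha
    have ha1 : (σ a).1 = 1 := ha
    have ha2 : (σ a).2 = 1 := a.2
    have hacen : (a : Γ) ∈ Subgroup.center Γ := by
      apply hc
      rw [MonoidHom.mem_ker]
      exact Prod.ext ha1 ha2
    rw [Subgroup.mem_center_iff]
    intro b
    apply Subtype.ext
    exact Subgroup.mem_center_iff.mp hacen b
  obtain ⟨ψ, hψ, -⟩ := exists_schur_lift π₁ hπ₁ hk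
  refine ⟨Γ₁.subtype.comp ψ, fun h => ?_⟩
  have h1 : (σ (ψ h)).1 = schurRho Q₁ h := by
    have := congrArg (fun f => f h) hψ
    exact this
  have h2 : (σ (ψ h)).2 = 1 := (ψ h).2
  exact Prod.ext h1 h2

/-- The standard central extension of `Q₂` maps to any central extension of `Q₁ × Q₂`. -/
theorem exists_lift_right (σ : Γ →* Q₁ × Q₂) (hs : Function.Surjective σ)
    (hc : σ.ker ≤ Subgroup.center Γ) :
    ∃ ψ₂ : SchurH Q₂ →* Γ, ∀ h, σ (ψ₂ h) = (1, schurRho Q₂ h) := by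
  let σ' : Γ →* Q₂ × Q₁ := (MulEquiv.prodComm : Q₁ × Q₂ ≃* Q₂ × Q₁).toMonoidHom.comp σ
  have hs' : Function.Surjective σ' := (MulEquiv.prodComm : Q₁ × Q₂ ≃* Q₂ × Q₁).surjective.comp hs
  have hc' : σ'.ker ≤ Subgroup.center Γ := by
    intro a ha
    apply hc
    rw [MonoidHom.mem_ker] at ha ⊢
    exact (MulEquiv.prodComm : Q₁ × Q₂ ≃* Q₂ × Q₁).injective (by rw [map_one]; exact ha)
  obtain ⟨ψ₂, hψ₂⟩ := exists_lift_left σ' hs' hc'
  refine ⟨ψ₂, fun h => ?_⟩
  have := hψ₂ h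
  have h1 : (σ (ψ₂ h)).2 = schurRho Q₂ h := congrArg Prod.fst this
  have h2 : (σ (ψ₂ h)).1 = 1 := congrArg Prod.snd this
  exact Prod.ext h2 h1

end Lifts

section Product

variable {Q₁ : Type u} {Q₂ : Type v} [Group Q₁] [Group Q₂]

/-- The product of two stem extensions is a stem extension. -/
theorem isStemExtension_prodMap {Γ₁ : Type*} {Γ₂ : Type*} [Group Γ₁] [Group Γ₂] (σ₁ : Γ₁ →* Q₁)
    (σ₂ : Γ₂ →* Q₂) (h₁ : Cfsg.IsStemExtension σ₁) (h₂ : Cfsg.IsStemExtension σ₂) :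
    Cfsg.IsStemExtension (MonoidHom.prodMap σ₁ σ₂) := by
  obtain ⟨hs₁, hc₁, hd₁⟩ := h₁
  obtain ⟨hs₂, hc₂, hd₂⟩ := h₂
  refine ⟨Prod.map_surjective.mpr ⟨hs₁, hs₂⟩, ?_, ?_⟩
  · rintro ⟨a, b⟩ hab
    rw [MonoidHom.mem_ker] at hab
    have ha : a ∈ σ₁.ker := congrArg Prod.fst hab
    have hb : b ∈ σ₂.ker := congrArg Prod.snd hab
    rw [Subgroup.mem_center_iff]
    rintro ⟨c, d⟩
    exact Prod.ext (Subgroup.mem_center_iff.mp (hc₁ ha) c) (Subgroup.mem_center_iff.mp (hc₂ hb) d)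
  · rintro ⟨a, b⟩ hab
    rw [MonoidHom.mem_ker] at hab
    have ha : a ∈ σ₁.ker := congrArg Prod.fst hab
    have hb : b ∈ σ₂.ker := congrArg Prod.snd hab
    rw [commutator_def, ← Subgroup.top_prod_top, Subgroup.commutator_prod_prod, ← commutator_def,
      ← commutator_def]
    exact ⟨hd₁ ha, hd₂ hb⟩

/-- The multiplier of a direct product of groups with coprime commutator quotients. -/
theorem hasSchurMultiplier_prod_schurT [Finite Q₁] [Finite Q₂]
    (hcop : Nat.Coprime (Nat.card (Abelianization Q₁)) (Nat.card (Abelianization Q₂))) :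
    Cfsg.HasSchurMultiplier (Q₁ × Q₂) (schurT Q₁ × schurT Q₂) := by
  constructor
  · obtain ⟨Γ₁, _, _, σ₁, hσ₁, ⟨e₁⟩⟩ := (hasSchurMultiplier_schurT Q₁).1
    obtain ⟨Γ₂, _, _, σ₂, hσ₂, ⟨e₂⟩⟩ := (hasSchurMultiplier_schurT Q₂).1
    refine ⟨Γ₁ × Γ₂, inferInstance, inferInstance, MonoidHom.prodMap σ₁ σ₂,
      isStemExtension_prodMap σ₁ σ₂ hσ₁ hσ₂, ?_⟩
    rw [MonoidHom.ker_prodMap]
    exact ⟨(Subgroup.prodEquiv _ _).trans (MulEquiv.prodCongr e₁ e₂)⟩
  · intro Γ _ _ σ hσ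
    obtain ⟨hs, hc, hd⟩ := hσ
    obtain ⟨ψ₁, hψ₁⟩ := exists_lift_left σ hs hc
    obtain ⟨ψ₂, hψ₂⟩ := exists_lift_right σ hs hc
    have hcomm : ∀ a b, Commute (ψ₁ a) (ψ₂ b) := fun a b =>
      commute_of_coprime_abelianization σ hs hc hcop (ψ₁ a) (ψ₂ b)
        (by rw [hψ₁]) (by rw [hψ₂])
    let Ψ : SchurH Q₁ × SchurH Q₂ →* Γ := MonoidHom.noncommCoprod ψ₁ ψ₂ hcomm
    let P : SchurH Q₁ × SchurH Q₂ →* Q₁ × Q₂ := MonoidHom.prodMap (schurRho Q₁) (schurRho Q₂)
    have hP : Function.Surjective P :=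
      Prod.map_surjective.mpr ⟨schurRho_surjective Q₁, schurRho_surjective Q₂⟩
    have hΨ : σ.comp Ψ = P := by
      ext ⟨a, b⟩
      · show (σ (ψ₁ a * ψ₂ b)).1 = schurRho Q₁ a
        rw [map_mul, hψ₁, hψ₂]; simp
      · show (σ (ψ₁ a * ψ₂ b)).2 = schurRho Q₂ b
        rw [map_mul, hψ₁, hψ₂]; simp
    have hmap := map_ker_inf_commutator P hP σ hc Ψ hΨ
    rw [inf_eq_left.mpr hd] at hmap
    have hmem : ∀ t : schurT Q₁ × schurT Q₂, Ψ ((t.1 : SchurH Q₁), (t.2 : SchurH Q₂)) ∈ σ.ker := by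
      intro t
      rw [← hmap]
      refine ⟨_, ⟨?_, ?_⟩, rfl⟩
      · show P ((t.1 : SchurH Q₁), (t.2 : SchurH Q₂)) = 1
        exact Prod.ext t.1.2.1 t.2.2.1
      · show ((t.1 : SchurH Q₁), (t.2 : SchurH Q₂)) ∈ commutator (SchurH Q₁ × SchurH Q₂)
        rw [commutator_def, ← Subgroup.top_prod_top, Subgroup.commutator_prod_prod,
          ← commutator_def, ← commutator_def]
        exact ⟨t.1.2.2, t.2.2.2⟩
    let θ : schurT Q₁ × schurT Q₂ →* σ.ker :=
      { toFun := fun t => ⟨Ψ ((t.1 : SchurH Q₁), (t.2 : SchurH Q₂)), hmem t⟩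
        map_one' := by
          apply Subtype.ext
          show Ψ ((1 : SchurH Q₁), (1 : SchurH Q₂)) = 1
          exact map_one Ψ
        map_mul' := fun s t => by
          apply Subtype.ext
          show Ψ (((s.1 * t.1 : schurT Q₁) : SchurH Q₁), ((s.2 * t.2 : schurT Q₂) : SchurH Q₂)) =
            Ψ ((s.1 : SchurH Q₁), (s.2 : SchurH Q₂)) * Ψ ((t.1 : SchurH Q₁), (t.2 : SchurH Q₂))
          rw [← map_mul]
          rfl }
    refine ⟨θ, ?_⟩
    rintro ⟨z, hz⟩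
    rw [← hmap] at hz
    obtain ⟨⟨a, b⟩, ⟨hk, hcm⟩, rfl⟩ := hz
    have hk' : P (a, b) = 1 := hk
    have ha : schurRho Q₁ a = 1 := congrArg Prod.fst hk'
    have hb : schurRho Q₂ b = 1 := congrArg Prod.snd hk'
    have hcm' : (a, b) ∈ commutator (SchurH Q₁ × SchurH Q₂) := hcm
    rw [commutator_def, ← Subgroup.top_prod_top, Subgroup.commutator_prod_prod,
      ← commutator_def, ← commutator_def] at hcm'
    exact ⟨(⟨a, ha, hcm'.1⟩, ⟨b, hb, hcm'.2⟩), rfl⟩

end Product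

end Cfsg.Agent.Helper66
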