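import Mathlib
import Cfsg.Agent.Helper66.SchurProd
import Cfsg.Agent.Helper66.TwistedProd

set_option autoImplicit false

namespace Cfsg.Agent.Helper66

open scoped commutatorElement
open TensorProduct

universe u v w

section FiniteTensor

/-- The tensor product of two finite abelian groups is finite. -/
theorem finite_tensorProduct_int (M : Type*) (N : Type*) [AddCommGroup M] [AddCommGroup N]
    [Finite M] [Finite N] : Finite (M ⊗[ℤ] N) := by
  have h1 : Module.Finite ℤ (M ⊗[ℤ] N) := Module.Finite.tensorProduct ℤ M N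
  have h2 : AddGroup.FG (M ⊗[ℤ] N) := Module.Finite.iff_addGroup_fg.mp h1
  apply AddCommGroup.finite_of_fg_isAddTorsion
  intro x
  rw [isOfFinAddOrder_iff_nsmul_eq_zero]
  refine ⟨Nat.card M, Nat.card_pos, ?_⟩
  induction x with
  | zero => simp
  | tmul m n =>
    rw [← natCast_zsmul, TensorProduct.smul_tmul', natCast_zsmul, card_nsmul_eq_zero',
      TensorProduct.zero_tmul]
  | add x y hx hy => rw [smul_add, hx, hy, add_zero]

end FiniteTensor

section Pairing

variable {Γ : Type*} {Q₁ : Type*} {Q₂ : Type*} [Group Γ] [Group Q₁] [Group Q₂]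
  (σ : Γ →* Q₁ × Q₂)

theorem commutator_mem_ker_of_split (x y : Γ) (hx : (σ x).2 = 1) (hy : (σ y).1 = 1) :
    ⁅x, y⁆ ∈ σ.ker := by
  rw [MonoidHom.mem_ker, map_commutatorElement]
  apply Prod.ext
  · show ⁅(σ x).1, (σ y).1⁆ = 1
    rw [hy]; simp
  · show ⁅(σ x).2, (σ y).2⁆ = 1
    rw [hx]; simp

variable (hc : σ.ker ≤ Subgroup.center Γ)
include hc

theorem commutator_eq_of_map_eq (x x' y y' : Γ) (hxx' : σ x = σ x') (hyy' : σ y = σ y') :
    ⁅x, y⁆ = ⁅x', y'⁆ := by
  have hz : x'⁻¹ * x ∈ Subgroup.center Γ := by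
    apply hc
    rw [MonoidHom.mem_ker, map_mul, map_inv, hxx', inv_mul_cancel]
  have hw : y'⁻¹ * y ∈ Subgroup.center Γ := by
    apply hc
    rw [MonoidHom.mem_ker, map_mul, map_inv, hyy', inv_mul_cancel]
  have e1 : x = x' * (x'⁻¹ * x) := by group
  have e2 : y = y' * (y'⁻¹ * y) := by group
  rw [e1, e2]
  exact commutatorElement_mul_central _ _ _ _ hz hw

theorem commutator_mul_left_of_split (x x' y : Γ) (hx' : (σ x').2 = 1) (hy : (σ y).1 = 1) :
    ⁅x * x', y⁆ = ⁅x, y⁆ * ⁅x', y⁆ := by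
  have h1 := Subgroup.mem_center_iff.mp (hc (commutator_mem_ker_of_split σ x' y hx' hy))
  have : ⁅x * x', y⁆ = (x * ⁅x', y⁆) * x⁻¹ * ⁅x, y⁆ := by
    simp only [commutatorElement_def]; group
  rw [this, h1 x, mul_assoc ⁅x', y⁆, mul_inv_cancel, mul_one, h1]

theorem commutator_mul_right_of_split (x y y' : Γ) (hx : (σ x).2 = 1) (hy' : (σ y').1 = 1) :
    ⁅x, y * y'⁆ = ⁅x, y⁆ * ⁅x, y'⁆ := by
  have h1 := Subgroup.mem_center_iff.mp (hc (commutator_mem_ker_of_split σ x y' hx hy'))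
  have : ⁅x, y * y'⁆ = ⁅x, y⁆ * ((y * ⁅x, y'⁆) * y⁻¹) := by
    simp only [commutatorElement_def]; group
  rw [this, h1 y, mul_assoc ⁅x, y'⁆, mul_inv_cancel, mul_one]

/-- The commutator pairing of a central extension of `Q₁ × Q₂` induces a homomorphism from the
tensor product of the commutator quotients to the kernel. -/
theorem exists_tensor_hom (hs : Function.Surjective σ) :
    ∃ ω : Multiplicative (TensorProduct ℤ (Additive (Abelianization Q₁))
        (Additive (Abelianization Q₂))) →* Γ,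
      (∀ w, ω w ∈ σ.ker) ∧ ∀ x y : Γ, (σ x).2 = 1 → (σ y).1 = 1 →
        ω (Multiplicative.ofAdd (Additive.ofMul (Abelianization.of (σ x).1) ⊗ₜ[ℤ]
          Additive.ofMul (Abelianization.of (σ y).2))) = ⁅x, y⁆ := by
  classical
  letI instC : CommGroup σ.ker :=
    { (inferInstance : Group σ.ker) with
      mul_comm := fun a b => by
        apply Subtype.ext
        exact (Subgroup.mem_center_iff.mp (hc b.2) a) }
  let s : Q₁ × Q₂ → Γ := Function.surjInv hs
  have hs' : ∀ q, σ (s q) = q := Function.surjInv_eq hs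
  have hs1 : ∀ q₁ : Q₁, (σ (s (q₁, 1))).2 = 1 := fun q₁ => by rw [hs']
  have hs2 : ∀ q₂ : Q₂, (σ (s (1, q₂))).1 = 1 := fun q₂ => by rw [hs']
  -- the pairing on `Q₁ × Q₂`
  let pair : Q₁ → Q₂ → σ.ker := fun q₁ q₂ =>
    ⟨⁅s (q₁, 1), s (1, q₂)⁆, commutator_mem_ker_of_split σ _ _ (hs1 q₁) (hs2 q₂)⟩
  have hpair : ∀ (x y : Γ), (σ x).2 = 1 → (σ y).1 = 1 →
      ((pair (σ x).1 (σ y).2 : σ.ker) : Γ) = ⁅x, y⁆ := by
    intro x y hx hy
    apply commutator_eq_of_map_eq σ hc
    · rw [hs']; exact Prod.ext rfl hx.symm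
    · rw [hs']; exact Prod.ext hy.symm rfl
  have hpair_mul_left : ∀ q₁ q₁' q₂, pair (q₁ * q₁') q₂ = pair q₁ q₂ * pair q₁' q₂ := by
    intro q₁ q₁' q₂
    apply Subtype.ext
    show ⁅s (q₁ * q₁', 1), s (1, q₂)⁆ = ⁅s (q₁, 1), s (1, q₂)⁆ * ⁅s (q₁', 1), s (1, q₂)⁆
    rw [← commutator_mul_left_of_split σ hc _ _ _ (hs1 q₁') (hs2 q₂)]
    apply commutator_eq_of_map_eq σ hc
    · rw [map_mul, hs', hs', hs']
      exact Prod.ext rfl (by simp)
    · rfl
  have hpair_mul_right : ∀ q₁ q₂ q₂', pair q₁ (q₂ * q₂') = pair q₁ q₂ * pair q₁ q₂' := by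
    intro q₁ q₂ q₂'
    apply Subtype.ext
    show ⁅s (q₁, 1), s (1, q₂ * q₂')⁆ = ⁅s (q₁, 1), s (1, q₂)⁆ * ⁅s (q₁, 1), s (1, q₂')⁆
    rw [← commutator_mul_right_of_split σ hc _ _ _ (hs1 q₁) (hs2 q₂')]
    apply commutator_eq_of_map_eq σ hc
    · rfl
    · rw [map_mul, hs', hs', hs']
      exact Prod.ext (by simp) rfl
  have hpair_one_right : ∀ q₁, pair q₁ 1 = 1 := by
    intro q₁
    have := hpair_mul_right q₁ 1 1
    rw [mul_one] at this
    exact left_eq_mul.mp this
  have hpair_one_left : ∀ q₂, pair 1 q₂ = 1 := by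
    intro q₂
    have := hpair_mul_left 1 1 q₂
    rw [mul_one] at this
    exact left_eq_mul.mp this
  let c₂ : Q₁ → (Q₂ →* σ.ker) := fun q₁ =>
    { toFun := fun q₂ => pair q₁ q₂
      map_one' := hpair_one_right q₁
      map_mul' := fun a b => hpair_mul_right q₁ a b }
  let c₁ : Q₁ →* (Abelianization Q₂ →* σ.ker) :=
    { toFun := fun q₁ => Abelianization.lift (c₂ q₁)
      map_one' := by
        apply Abelianization.hom_ext
        apply MonoidHom.ext
        intro q₂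
        show Abelianization.lift (c₂ 1) (Abelianization.of q₂) = 1
        rw [Abelianization.lift_apply_of]
        exact hpair_one_left q₂
      map_mul' := fun a b => by
        apply Abelianization.hom_ext
        apply MonoidHom.ext
        intro q₂
        show Abelianization.lift (c₂ (a * b)) (Abelianization.of q₂) =
          Abelianization.lift (c₂ a) (Abelianization.of q₂) *
            Abelianization.lift (c₂ b) (Abelianization.of q₂)
        rw [Abelianization.lift_apply_of, Abelianization.lift_apply_of,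
          Abelianization.lift_apply_of]
        exact hpair_mul_left a b q₂ }
  let c : Abelianization Q₁ →* (Abelianization Q₂ →* σ.ker) := Abelianization.lift c₁
  have hcof : ∀ q₁ q₂, c (Abelianization.of q₁) (Abelianization.of q₂) = pair q₁ q₂ := by
    intro q₁ q₂
    show Abelianization.lift c₁ (Abelianization.of q₁) (Abelianization.of q₂) = _
    rw [Abelianization.lift_apply_of]
    show Abelianization.lift (c₂ q₁) (Abelianization.of q₂) = _
    rw [Abelianization.lift_apply_of]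
    rfl
  let F : Additive (Abelianization Q₁) →+ Additive (Abelianization Q₂) →+ Additive σ.ker :=
    { toFun := fun a => MonoidHom.toAdditive (c (Additive.toMul a))
      map_zero' := by
        apply AddMonoidHom.ext
        intro b
        show Additive.ofMul (c 1 (Additive.toMul b)) = 0
        rw [map_one]
        rfl
      map_add' := fun a a' => by
        apply AddMonoidHom.ext
        intro b
        show Additive.ofMul (c (Additive.toMul a * Additive.toMul a') (Additive.toMul b)) =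
          Additive.ofMul (c (Additive.toMul a) (Additive.toMul b)) +
            Additive.ofMul (c (Additive.toMul a') (Additive.toMul b))
        rw [map_mul]
        rfl }
  have hF : ∀ (r : ℤ) (m : Additive (Abelianization Q₁)) (n : Additive (Abelianization Q₂)),
      F (r • m) n = F m (r • n) := by
    intro r m n
    rw [map_zsmul, AddMonoidHom.smul_apply, map_zsmul]
  let ωa : TensorProduct ℤ (Additive (Abelianization Q₁)) (Additive (Abelianization Q₂)) →+
      Additive σ.ker := TensorProduct.liftAddHom F hF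
  let ω₀ : Multiplicative (TensorProduct ℤ (Additive (Abelianization Q₁))
      (Additive (Abelianization Q₂))) →* σ.ker := AddMonoidHom.toMultiplicativeLeft ωa
  refine ⟨σ.ker.subtype.comp ω₀, fun w => (ω₀ w).2, ?_⟩
  intro x y hx hy
  rw [← hpair x y hx hy]
  show ((Additive.toMul (ωa (Additive.ofMul (Abelianization.of (σ x).1) ⊗ₜ[ℤ]
    Additive.ofMul (Abelianization.of (σ y).2))) : σ.ker) : Γ) = _
  rw [TensorProduct.liftAddHom_tmul]
  show ((c (Abelianization.of (σ x).1) (Abelianization.of (σ y).2) : σ.ker) : Γ) = _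
  rw [hcof]

end Pairing

section TensorExt

/-- The tensor product of the commutator quotients, additively. -/
abbrev TensorW (Q₁ : Type u) (Q₂ : Type v) [Group Q₁] [Group Q₂] : Type (max u v) :=
  TensorProduct ℤ (Additive (Abelianization Q₁)) (Additive (Abelianization Q₂))

variable {G₁ : Type*} {G₂ : Type*} {Q₁ : Type u} {Q₂ : Type v} [Group G₁] [Group G₂] [Group Q₁]
  [Group Q₂] (σ₁ : G₁ →* Q₁) (σ₂ : G₂ →* Q₂)

/-- The class of `q₁ ⊗ q₂` in the tensor product of the commutator quotients. -/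
def tclass (q₁ : Q₁) (q₂ : Q₂) : TensorW Q₁ Q₂ :=
  Additive.ofMul (Abelianization.of q₁) ⊗ₜ[ℤ] Additive.ofMul (Abelianization.of q₂)

theorem tclass_mul_left (q₁ q₁' : Q₁) (q₂ : Q₂) :
    tclass (q₁ * q₁') q₂ = tclass q₁ q₂ + tclass q₁' q₂ := by
  unfold tclass
  rw [map_mul, ofMul_mul, TensorProduct.add_tmul]

theorem tclass_mul_right (q₁ : Q₁) (q₂ q₂' : Q₂) :
    tclass q₁ (q₂ * q₂') = tclass q₁ q₂ + tclass q₁ q₂' := by
  unfold tclass
  rw [map_mul, ofMul_mul, TensorProduct.tmul_add]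

theorem tclass_one_left (q₂ : Q₂) : tclass (1 : Q₁) q₂ = 0 := by
  unfold tclass
  rw [map_one, ofMul_one, TensorProduct.zero_tmul]

theorem tclass_one_right (q₁ : Q₁) : tclass q₁ (1 : Q₂) = 0 := by
  unfold tclass
  rw [map_one, ofMul_one, TensorProduct.tmul_zero]

/-- The bi-additive map defining the twisted product. -/
def tensorBiAdd : BiAdd (G₁ × G₂) (TensorW Q₁ Q₂) where
  toFun g k := -(tclass (σ₁ k.1) (σ₂ g.2))
  map_mul_left g h k := by
    show -(tclass (σ₁ k.1) (σ₂ (g.2 * h.2))) = -(tclass (σ₁ k.1) (σ₂ g.2)) + -(tclass (σ₁ k.1) (σ₂ h.2))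
    rw [map_mul, tclass_mul_right, neg_add]
  map_mul_right g h k := by
    show -(tclass (σ₁ (h.1 * k.1)) (σ₂ g.2)) = -(tclass (σ₁ h.1) (σ₂ g.2)) + -(tclass (σ₁ k.1) (σ₂ g.2))
    rw [map_mul, tclass_mul_left, neg_add]

theorem tensorBiAdd_apply (g k : G₁ × G₂) :
    (tensorBiAdd σ₁ σ₂).toFun g k = -(tclass (σ₁ k.1) (σ₂ g.2)) := rfl

/-- The extension of `Q₁ × Q₂` by the twisted product. -/
def tensorExt : TwistedProd (tensorBiAdd σ₁ σ₂) →* Q₁ × Q₂ :=
  (MonoidHom.prodMap σ₁ σ₂).comp (TwistedProd.proj _)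

theorem tensorExt_apply (x : TwistedProd (tensorBiAdd σ₁ σ₂)) :
    tensorExt σ₁ σ₂ x = (σ₁ x.snd.1, σ₂ x.snd.2) := rfl

theorem tensorExt_surjective (h₁ : Function.Surjective σ₁) (h₂ : Function.Surjective σ₂) :
    Function.Surjective (tensorExt σ₁ σ₂) := by
  rintro ⟨q₁, q₂⟩
  obtain ⟨g₁, rfl⟩ := h₁ q₁
  obtain ⟨g₂, rfl⟩ := h₂ q₂
  exact ⟨⟨0, (g₁, g₂)⟩, rfl⟩

theorem mem_ker_tensorExt (x : TwistedProd (tensorBiAdd σ₁ σ₂)) :
    x ∈ (tensorExt σ₁ σ₂).ker ↔ σ₁ x.snd.1 = 1 ∧ σ₂ x.snd.2 = 1 := by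
  rw [MonoidHom.mem_ker, tensorExt_apply, Prod.ext_iff]
  rfl

theorem ker_tensorExt_le_center (hc₁ : σ₁.ker ≤ Subgroup.center G₁)
    (hc₂ : σ₂.ker ≤ Subgroup.center G₂) :
    (tensorExt σ₁ σ₂).ker ≤ Subgroup.center (TwistedProd (tensorBiAdd σ₁ σ₂)) := by
  intro x hx
  rw [mem_ker_tensorExt] at hx
  rw [Subgroup.mem_center_iff]
  intro y
  apply TwistedProd.ext'
  · simp only [TwistedProd.mul_fst, tensorBiAdd_apply, hx.1, hx.2, tclass_one_left,
      tclass_one_right, neg_zero, add_zero]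
    abel
  · exact Prod.ext (Subgroup.mem_center_iff.mp (hc₁ hx.1) y.snd.1)
      (Subgroup.mem_center_iff.mp (hc₂ hx.2) y.snd.2)

/-- The embedding of the first factor. -/
def tensorIncl₁ : G₁ →* TwistedProd (tensorBiAdd σ₁ σ₂) where
  toFun g := ⟨0, (g, 1)⟩
  map_one' := rfl
  map_mul' a b := by
    apply TwistedProd.ext'
    · simp only [TwistedProd.mul_fst, tensorBiAdd_apply, map_one, tclass_one_right, neg_zero,
        add_zero]
    · exact Prod.ext rfl (by simp)

/-- The embedding of the second factor. -/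
def tensorIncl₂ : G₂ →* TwistedProd (tensorBiAdd σ₁ σ₂) where
  toFun g := ⟨0, (1, g)⟩
  map_one' := rfl
  map_mul' a b := by
    apply TwistedProd.ext'
    · simp only [TwistedProd.mul_fst, tensorBiAdd_apply, map_one, tclass_one_left, neg_zero,
        add_zero]
    · exact Prod.ext (by simp) rfl

theorem incl_mem_commutator (h₁ : Function.Surjective σ₁) (h₂ : Function.Surjective σ₂)
    (w : TensorW Q₁ Q₂) :
    TwistedProd.incl (tensorBiAdd σ₁ σ₂) (Multiplicative.ofAdd w) ∈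
      commutator (TwistedProd (tensorBiAdd σ₁ σ₂)) := by
  induction w using TensorProduct.induction_on with
  | zero =>
    have : TwistedProd.incl (tensorBiAdd σ₁ σ₂) (Multiplicative.ofAdd 0) = 1 := map_one _
    rw [this]
    exact Subgroup.one_mem _
  | tmul a b =>
    obtain ⟨q₁, hq₁⟩ := QuotientGroup.mk_surjective (Additive.toMul a)
    obtain ⟨q₂, hq₂⟩ := QuotientGroup.mk_surjective (Additive.toMul b)
    obtain ⟨g₁, rfl⟩ := h₁ q₁
    obtain ⟨g₂, rfl⟩ := h₂ q₂
    have hcomm : ((g₁, 1) : G₁ × G₂) * (1, g₂) = (1, g₂) * (g₁, 1) := by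
      exact Prod.ext (by simp) (by simp)
    have h3 := TwistedProd.commutator_lift (β := tensorBiAdd σ₁ σ₂) (g₁, 1) (1, g₂) hcomm
    have h4 : (tensorBiAdd σ₁ σ₂).toFun ((g₁, 1) : G₁ × G₂) (1, g₂) -
        (tensorBiAdd σ₁ σ₂).toFun ((1, g₂) : G₁ × G₂) (g₁, 1) = a ⊗ₜ[ℤ] b := by
      rw [tensorBiAdd_apply, tensorBiAdd_apply]
      simp only [map_one, tclass_one_left, neg_zero, zero_sub, neg_neg]
      unfold tclass
      have ha : Additive.ofMul (Abelianization.of (σ₁ g₁)) = a := by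
        show Additive.ofMul (QuotientGroup.mk (σ₁ g₁)) = a
        rw [hq₁]; rfl
      have hb : Additive.ofMul (Abelianization.of (σ₂ g₂)) = b := by
        show Additive.ofMul (QuotientGroup.mk (σ₂ g₂)) = b
        rw [hq₂]; rfl
      rw [ha, hb]
    rw [h4] at h3
    have h5 : TwistedProd.incl (tensorBiAdd σ₁ σ₂) (Multiplicative.ofAdd (a ⊗ₜ[ℤ] b)) =
        (⟨a ⊗ₜ[ℤ] b, 1⟩ : TwistedProd (tensorBiAdd σ₁ σ₂)) := rfl
    rw [h5, ← h3]
    exact Subgroup.commutator_mem_commutator (Subgroup.mem_top _) (Subgroup.mem_top _)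
  | add x y hx hy =>
    rw [ofAdd_add, map_mul]
    exact Subgroup.mul_mem _ hx hy

theorem ker_tensorExt_le_commutator (h₁ : Cfsg.IsStemExtension σ₁)
    (h₂ : Cfsg.IsStemExtension σ₂) :
    (tensorExt σ₁ σ₂).ker ≤ commutator (TwistedProd (tensorBiAdd σ₁ σ₂)) := by
  intro x hx
  rw [mem_ker_tensorExt] at hx
  have hdec : x = TwistedProd.incl (tensorBiAdd σ₁ σ₂) (Multiplicative.ofAdd x.fst) *
      tensorIncl₁ σ₁ σ₂ x.snd.1 * tensorIncl₂ σ₁ σ₂ x.snd.2 := by
    apply TwistedProd.ext'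
    · show x.fst = ((TwistedProd.incl (tensorBiAdd σ₁ σ₂) (Multiplicative.ofAdd x.fst) *
        tensorIncl₁ σ₁ σ₂ x.snd.1).fst + (0 : TensorW Q₁ Q₂) +
          (tensorBiAdd σ₁ σ₂).toFun
            (TwistedProd.incl (tensorBiAdd σ₁ σ₂) (Multiplicative.ofAdd x.fst) *
              tensorIncl₁ σ₁ σ₂ x.snd.1).snd ((1 : G₁), x.snd.2))
      rw [tensorBiAdd_apply]
      show x.fst = (x.fst + (0 : TensorW Q₁ Q₂) +
        (tensorBiAdd σ₁ σ₂).toFun (1 : G₁ × G₂) (x.snd.1, (1 : G₂))) + 0 + -(tclass (σ₁ 1) _)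
      rw [(tensorBiAdd σ₁ σ₂).map_one_left, map_one, tclass_one_left]
      abel
    · show x.snd = (1 * (x.snd.1, (1 : G₂))) * ((1 : G₁), x.snd.2)
      exact Prod.ext (by simp) (by simp)
  have hmap₁ : (commutator G₁).map (tensorIncl₁ σ₁ σ₂) ≤
      commutator (TwistedProd (tensorBiAdd σ₁ σ₂)) := by
    rw [commutator_def, Subgroup.map_commutator, commutator_def]
    exact Subgroup.commutator_mono le_top le_top
  have hmap₂ : (commutator G₂).map (tensorIncl₂ σ₁ σ₂) ≤
      commutator (TwistedProd (tensorBiAdd σ₁ σ₂)) := by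
    rw [commutator_def, Subgroup.map_commutator, commutator_def]
    exact Subgroup.commutator_mono le_top le_top
  rw [hdec]
  refine Subgroup.mul_mem _ (Subgroup.mul_mem _ (incl_mem_commutator σ₁ σ₂ h₁.1 h₂.1 _) ?_) ?_
  · exact hmap₁ ⟨_, h₁.2.2 (MonoidHom.mem_ker.mpr hx.1), rfl⟩
  · exact hmap₂ ⟨_, h₂.2.2 (MonoidHom.mem_ker.mpr hx.2), rfl⟩

theorem isStemExtension_tensorExt (h₁ : Cfsg.IsStemExtension σ₁) (h₂ : Cfsg.IsStemExtension σ₂) :
    Cfsg.IsStemExtension (tensorExt σ₁ σ₂) :=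
  ⟨tensorExt_surjective σ₁ σ₂ h₁.1 h₂.1, ker_tensorExt_le_center σ₁ σ₂ h₁.2.1 h₂.2.1,
    ker_tensorExt_le_commutator σ₁ σ₂ h₁ h₂⟩

/-- The kernel of the twisted product extension. -/
def kerTensorEquiv :
    (tensorExt σ₁ σ₂).ker ≃* σ₁.ker × σ₂.ker × Multiplicative (TensorW Q₁ Q₂) where
  toFun x := (⟨x.1.snd.1, ((mem_ker_tensorExt σ₁ σ₂ x.1).mp x.2).1⟩,
    ⟨x.1.snd.2, ((mem_ker_tensorExt σ₁ σ₂ x.1).mp x.2).2⟩, Multiplicative.ofAdd x.1.fst)
  invFun y := ⟨⟨Multiplicative.toAdd y.2.2, ((y.1 : G₁), (y.2.1 : G₂))⟩,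
    (mem_ker_tensorExt σ₁ σ₂ _).mpr ⟨y.1.2, y.2.1.2⟩⟩
  left_inv x := by
    apply Subtype.ext
    apply TwistedProd.ext'
    · rfl
    · rfl
  right_inv y := by
    rcases y with ⟨y₁, y₂, w⟩
    rfl
  map_mul' x y := by
    have hx := (mem_ker_tensorExt σ₁ σ₂ x.1).mp x.2
    have hy := (mem_ker_tensorExt σ₁ σ₂ y.1).mp y.2
    refine Prod.ext (Subtype.ext rfl) (Prod.ext (Subtype.ext rfl) ?_)
    show Multiplicative.ofAdd (x.1.fst + y.1.fst + (tensorBiAdd σ₁ σ₂).toFun x.1.snd y.1.snd) =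
      Multiplicative.ofAdd x.1.fst * Multiplicative.ofAdd y.1.fst
    rw [tensorBiAdd_apply, hy.1, tclass_one_left, neg_zero, add_zero, ofAdd_add]

end TensorExt

section Main

variable {Q₁ : Type u} {Q₂ : Type v} [Group Q₁] [Group Q₂]

/-- Rearrangement used for the multiplicativity of the comparison map. -/
theorem twist_mul_aux {Γ : Type*} [Group Γ] (A B K a b a' b' : Γ)
    (hA : A ∈ Subgroup.center Γ) (hB : B ∈ Subgroup.center Γ) (hK : K ∈ Subgroup.center Γ)
    (h : b * a' = K * (a' * b)) :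
    (A * a * b) * (B * a' * b') = (A * B * K) * (a * a') * (b * b') := by
  have hB' := Subgroup.mem_center_iff.mp hB
  have hK' := Subgroup.mem_center_iff.mp hK
  calc (A * a * b) * (B * a' * b') = A * a * (b * B) * a' * b' := by simp only [mul_assoc]
    _ = A * a * (B * b) * a' * b' := by rw [hB' b]
    _ = A * (a * B) * (b * a') * b' := by simp only [mul_assoc]
    _ = A * (B * a) * (K * (a' * b)) * b' := by rw [hB' a, h]
    _ = A * B * (a * K) * a' * b * b' := by simp only [mul_assoc]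
    _ = A * B * (K * a) * a' * b * b' := by rw [hK' a]
    _ = (A * B * K) * (a * a') * (b * b') := by simp only [mul_assoc]

/-- The multiplier of a direct product. -/
theorem hasSchurMultiplier_prod_tensor [Finite Q₁] [Finite Q₂] :
    Cfsg.HasSchurMultiplier (Q₁ × Q₂)
      (schurT Q₁ × schurT Q₂ × Multiplicative (TensorW Q₁ Q₂)) := by
  haveI : Finite (TensorW Q₁ Q₂) :=
    finite_tensorProduct_int (Additive (Abelianization Q₁)) (Additive (Abelianization Q₂))
  constructor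
  · obtain ⟨Γ₁, _, _, σ₁, hσ₁, ⟨e₁⟩⟩ := (hasSchurMultiplier_schurT Q₁).1
    obtain ⟨Γ₂, _, _, σ₂, hσ₂, ⟨e₂⟩⟩ := (hasSchurMultiplier_schurT Q₂).1
    exact ⟨TwistedProd (tensorBiAdd σ₁ σ₂), inferInstance, inferInstance, tensorExt σ₁ σ₂,
      isStemExtension_tensorExt σ₁ σ₂ hσ₁ hσ₂,
      ⟨(kerTensorEquiv σ₁ σ₂).trans (MulEquiv.prodCongr e₁ (MulEquiv.prodCongr e₂
        (MulEquiv.refl _)))⟩⟩
  · intro Γ _ _ σ hσ
    obtain ⟨hs, hc, hd⟩ := hσ
    obtain ⟨ψ₁, hψ₁⟩ := exists_lift_left σ hs hc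
    obtain ⟨ψ₂, hψ₂⟩ := exists_lift_right σ hs hc
    obtain ⟨ω, hωk, hω⟩ := exists_tensor_hom σ hc hs
    have hωc : ∀ w, ω w ∈ Subgroup.center Γ := fun w => hc (hωk w)
    -- the comparison map from the twisted product over `F / [F, R]`
    let ρ₁ := schurRho Q₁
    let ρ₂ := schurRho Q₂
    have hβ : ∀ g k : SchurH Q₁ × SchurH Q₂,
        ω (Multiplicative.ofAdd ((tensorBiAdd ρ₁ ρ₂).toFun g k)) = ⁅ψ₁ k.1, ψ₂ g.2⁆⁻¹ := by
      intro g k
      rw [tensorBiAdd_apply, ofAdd_neg, map_inv]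
      congr 1
      have h1 := hω (ψ₁ k.1) (ψ₂ g.2) (by rw [hψ₁]) (by rw [hψ₂])
      rw [hψ₁, hψ₂] at h1
      exact h1
    let Ψ : TwistedProd (tensorBiAdd ρ₁ ρ₂) →* Γ :=
      { toFun := fun x => ω (Multiplicative.ofAdd x.fst) * ψ₁ x.snd.1 * ψ₂ x.snd.2
        map_one' := by
          show ω (Multiplicative.ofAdd 0) * ψ₁ 1 * ψ₂ 1 = 1
          rw [ofAdd_zero, map_one, map_one, map_one, mul_one, mul_one]
        map_mul' := fun x y => by
          show ω (Multiplicative.ofAdd (x.fst + y.fst + (tensorBiAdd ρ₁ ρ₂).toFun x.snd y.snd)) *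
            ψ₁ (x.snd.1 * y.snd.1) * ψ₂ (x.snd.2 * y.snd.2) =
            (ω (Multiplicative.ofAdd x.fst) * ψ₁ x.snd.1 * ψ₂ x.snd.2) *
              (ω (Multiplicative.ofAdd y.fst) * ψ₁ y.snd.1 * ψ₂ y.snd.2)
          rw [ofAdd_add, ofAdd_add, map_mul, map_mul, hβ, map_mul, map_mul]
          symm
          apply twist_mul_aux _ _ _ _ _ _ _ (hωc _) (hωc _)
          · apply Subgroup.inv_mem
            exact hc (commutator_mem_ker_of_split σ _ _ (by rw [hψ₁]) (by rw [hψ₂]))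
          · simp only [commutatorElement_def]; group }
    have hΨ : σ.comp Ψ = tensorExt ρ₁ ρ₂ := by
      apply MonoidHom.ext
      intro x
      show σ (ω (Multiplicative.ofAdd x.fst) * ψ₁ x.snd.1 * ψ₂ x.snd.2) = (ρ₁ x.snd.1, ρ₂ x.snd.2)
      rw [map_mul, map_mul, MonoidHom.mem_ker.mp (hωk _), hψ₁, hψ₂, one_mul]
      exact Prod.ext (by simp [ρ₁]) (by simp [ρ₂])
    have hP : Function.Surjective (tensorExt ρ₁ ρ₂) :=
      tensorExt_surjective ρ₁ ρ₂ (schurRho_surjective Q₁) (schurRho_surjective Q₂)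
    have hmap := map_ker_inf_commutator (tensorExt ρ₁ ρ₂) hP σ hc Ψ hΨ
    rw [inf_eq_left.mpr hd] at hmap
    -- the map from the product
    let j : schurT Q₁ × schurT Q₂ × Multiplicative (TensorW Q₁ Q₂) →*
        TwistedProd (tensorBiAdd ρ₁ ρ₂) :=
      { toFun := fun y => ⟨Multiplicative.toAdd y.2.2, ((y.1 : SchurH Q₁), (y.2.1 : SchurH Q₂))⟩
        map_one' := rfl
        map_mul' := fun y z => by
          apply TwistedProd.ext'
          · show Multiplicative.toAdd (y.2.2 * z.2.2) = Multiplicative.toAdd y.2.2 +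
              Multiplicative.toAdd z.2.2 + (tensorBiAdd ρ₁ ρ₂).toFun
                ((y.1 : SchurH Q₁), (y.2.1 : SchurH Q₂)) ((z.1 : SchurH Q₁), (z.2.1 : SchurH Q₂))
            rw [tensorBiAdd_apply]
            have hz1 : ρ₁ (z.1 : SchurH Q₁) = 1 := z.1.2.1
            show _ = _ + _ + -(tclass (ρ₁ (z.1 : SchurH Q₁)) _)
            rw [hz1, tclass_one_left, neg_zero, add_zero, toAdd_mul]
          · rfl }
    have hmem : ∀ y, Ψ (j y) ∈ σ.ker := by
      intro y
      rw [MonoidHom.mem_ker]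
      have := congrArg (fun f => f (j y)) hΨ
      simp only [MonoidHom.comp_apply] at this
      rw [this, tensorExt_apply]
      exact Prod.ext y.1.2.1 y.2.1.2.1
    refine ⟨(Ψ.comp j).codRestrict σ.ker hmem, ?_⟩
    rintro ⟨z, hz⟩
    rw [← hmap] at hz
    obtain ⟨x, ⟨hxk, hxc⟩, rfl⟩ := hz
    have hxk' := (mem_ker_tensorExt ρ₁ ρ₂ x).mp hxk
    have hproj : (commutator (TwistedProd (tensorBiAdd ρ₁ ρ₂))).map (TwistedProd.proj _) ≤
        commutator (SchurH Q₁ × SchurH Q₂) := by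
      rw [commutator_def, Subgroup.map_commutator, commutator_def]
      exact Subgroup.commutator_mono le_top le_top
    have hx2 : x.snd ∈ commutator (SchurH Q₁ × SchurH Q₂) := hproj ⟨x, hxc, rfl⟩
    rw [commutator_def, ← Subgroup.top_prod_top, Subgroup.commutator_prod_prod,
      ← commutator_def, ← commutator_def] at hx2
    refine ⟨(⟨x.snd.1, hxk'.1, hx2.1⟩, ⟨x.snd.2, hxk'.2, hx2.2⟩, Multiplicative.ofAdd x.fst), ?_⟩
    apply Subtype.ext
    rfl

end Main

end Cfsg.Agent.Helper66
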