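import Cfsg.Agent.Helper19.SpBN.ParaGrp

/-!
# (G8) for helper19 (S2316): the order of `U` in `Sp_{2m}(q)`
-/

set_option autoImplicit false

namespace Cfsg.Agent.Helper66.SpParaG8

open Matrix Cfsg.Agent.Helper96.StN Cfsg.Agent.Helper96.StC Cfsg.Agent.Helper29.StCM
open Cfsg Cfsg.Agent.Helper6 Cfsg.Agent.Helper18 Cfsg.Agent.Helper19.Cox Cfsg.Agent.Helper19.Poinc
  Cfsg.Agent.Helper19.Stein Cfsg.Agent.Helper19.StBN Cfsg.Agent.Helper19.Unip
open Cfsg.Agent.Helper64.StCB Cfsg.Agent.Helper19.SpBN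

universe u

variable {K : Type u} [Field K] {m : ℕ}

/-- (G8) the order of `U`. -/
theorem card_U (hM : MonoData (XS K m) reflPerm cw) [Fintype K] (p : ℕ) [Fact p.Prime]
    [CharP K p] : Nat.card (U K m) = Fintype.card K ^ (m ^ 2) := by
  have hpr : p.Prime := Fact.out
  have hfin : Finite (SpG K m) := inferInstance
  obtain ⟨n, -, hq⟩ := FiniteField.card K p
  obtain ⟨Q⟩ : Nonempty (Sylow p (SpG K m)) := inferInstance
  have h1 : Nat.card (U K m) = Nat.card Q := by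
    rw [card_sylow hM p Q, Cfsg.Agent.Helper55.SpBNP13.index_H_eq_card_U hM]
  rw [h1, Sylow.card_eq_multiplicity]
  have hG : Nat.card (SpG K m) = Fintype.card K ^ (m ^ 2) *
      ∏ i ∈ Finset.range m, (Fintype.card K ^ (2 * (i + 1)) - 1) :=
    Cfsg.Agent.Helper5.card_sp m
  have hp0 : p ≠ 0 := hpr.ne_zero
  have hM' : ¬ p ∣ ∏ i ∈ Finset.range m, (Fintype.card K ^ (2 * (i + 1)) - 1) := by
    rw [Prime.dvd_finset_prod_iff hpr.prime]
    rintro ⟨i, -, hi⟩
    have h2 : p ∣ Fintype.card K ^ (2 * (i + 1)) := by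
      rw [hq, ← pow_mul]
      exact dvd_pow_self p (Nat.mul_ne_zero n.pos.ne' (by omega))
    have hpos : 1 ≤ Fintype.card K ^ (2 * (i + 1)) := Nat.one_le_pow _ _ Fintype.card_pos
    have h3 : p ∣ 1 := by
      have h4 := Nat.dvd_sub h2 hi
      rwa [Nat.sub_sub_self hpos] at h4
    exact hpr.one_lt.ne' (Nat.dvd_one.1 h3)
  have hne : ∏ i ∈ Finset.range m, (Fintype.card K ^ (2 * (i + 1)) - 1) ≠ 0 := by
    intro h0
    exact hM' (h0 ▸ dvd_zero p)
  rw [hG, Nat.factorization_mul (pow_ne_zero _ Fintype.card_ne_zero) hne, Finsupp.add_apply,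
    Nat.factorization_eq_zero_of_not_dvd hM', add_zero, hq, ← pow_mul, hpr.factorization_pow,
    Finsupp.single_eq_same]

end Cfsg.Agent.Helper66.SpParaG8
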