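import Mathlib
import Cfsg.Agent.Helper86.Spec4.DefsU

/-!
# S2511 pieces (C0), (V00) for helper86
-/

set_option autoImplicit false
set_option linter.unusedVariables false

namespace Cfsg.Agent.Helper66.Spec4U

open Matrix Polynomial Cfsg.Agent.Helper86.Spec4

variable {F : Type*} [Field F] [Fintype F] {q n : ℕ}

/-- (C0) the characteristic. -/
theorem charP_of_card_sq {p a : ℕ} (hp : p.Prime) (ha : 1 ≤ a) (hF : Fintype.card F = (p ^ a) ^ 2) :
    CharP F p := by
  have : Fact p.Prime := ⟨hp⟩
  exact charP_of_card_eq_prime_pow (f := a * 2) (by rw [hF, pow_mul])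

end Cfsg.Agent.Helper66.Spec4U
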