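import Mathlib
import Cfsg.Agent.Helper86.Spec4.DefsU

/-!
# S2511 piece (P1) for helper86: `pstar` is multiplicative
-/

set_option autoImplicit false
set_option linter.unusedSectionVars false
set_option linter.unusedVariables false

namespace Cfsg.Agent.Helper66.Spec4U

open Matrix Polynomial Cfsg.Agent.Helper86.Spec4

variable {F : Type*} [Field F] [Fintype F] {q n : ℕ}

/-- (P1) `pstar` is multiplicative. -/
theorem pstar_mul (bar : F →+* F) (f g : F[X]) : pstar bar (f * g) = pstar bar f * pstar bar g := by
  unfold pstar
  rw [Polynomial.map_mul, reverse_mul_of_domain]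

end Cfsg.Agent.Helper66.Spec4U
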