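import Mathlib
import Cfsg.Agent.Helper86.Spec4.DefsU

/-!
# S2511 piece (P5) for helper86: `pstar (X^N - 1) = -(X^N - 1)`
-/

set_option autoImplicit false
set_option linter.unusedSectionVars false
set_option linter.unusedVariables false

namespace Cfsg.Agent.Helper66.Spec4U

open Matrix Polynomial Cfsg.Agent.Helper86.Spec4

variable {F : Type*} [Field F] [Fintype F] {q n : ℕ}

/-- (P5) `pstar (X^N - 1) = -(X^N - 1)` for `1 ≤ N`. -/
theorem pstar_X_pow_sub_one (bar : F →+* F) (N : ℕ) (hN : 1 ≤ N) :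
    pstar bar (X ^ N - 1 : F[X]) = -(X ^ N - 1) := by
  unfold pstar
  have h1 : ((X ^ N - 1 : F[X]).map bar) = X ^ N + C (-1 : F) := by
    rw [Polynomial.map_sub, Polynomial.map_pow, Polynomial.map_X, Polynomial.map_one, C_neg, C_1,
      sub_eq_add_neg]
  have h2 : (X ^ N : F[X]).reverse = 1 := by
    have h := reverse_mul_X_pow (1 : F[X]) N
    rwa [one_mul, ← C_1, reverse_C, C_1] at h
  rw [h1, reverse_add_C, natDegree_X_pow, h2, C_neg, C_1]
  ring

end Cfsg.Agent.Helper66.Spec4U
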