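import Mathlib
import Cfsg.Agent.Helper86.Spec4.DefsU

/-!
# S2511 piece (V00) for helper86
-/

set_option autoImplicit false

namespace Cfsg.Agent.Helper66.Spec4U

open Matrix Polynomial Cfsg.Agent.Helper86.Spec4

variable {F : Type*} [Field F] [Fintype F] {q n : ℕ}

/-- (V00) `bar` is an involution. -/
theorem bar_bar (hF : Fintype.card F = q ^ 2) (bar : F →+* F) (hbar : ∀ x, bar x = x ^ q) :
    ∀ x, bar (bar x) = x := by
  intro x
  rw [hbar, hbar, ← pow_mul, ← pow_two, ← hF, FiniteField.pow_card]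

end Cfsg.Agent.Helper66.Spec4U
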