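import Mathlib
import Cfsg.Agent.Helper86.Spec4.DefsU

/-!
# S2511 piece (V2) for helper86: the minimal polynomial of a semisimple power of an indecomposable unitary matrix
-/

set_option autoImplicit false
set_option linter.unusedSectionVars false
set_option linter.unusedVariables false

namespace Cfsg.Agent.Helper66.Spec4U

open Matrix Polynomial Cfsg.Agent.Helper86.Spec4

variable {F : Type*} [Field F] [Fintype F] {q n : ℕ}

/-- evaluating the reversed polynomial at an invertible element. -/
theorem V2_aeval_reverse {A : Type*} [Ring A] [Algebra F A] (s t : A) (hst : s * t = 1) (hts : t * s = 1)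
    (p : F[X]) : aeval s p.reverse = s ^ p.natDegree * aeval t p := by
  have hcomm : Commute s t := by rw [Commute, SemiconjBy, hst, hts]
  have hpow : ∀ i : ℕ, s ^ i * t ^ i = 1 := by
    intro i
    rw [← hcomm.mul_pow, hst, one_pow]
  rw [aeval_eq_sum_range' (lt_of_le_of_lt (reverse_natDegree_le p) (Nat.lt_succ_self _)) s,
    aeval_eq_sum_range t, Finset.mul_sum]
  rw [← Finset.sum_range_reflect]
  apply Finset.sum_congr rfl
  intro k hk
  have hk' : k ≤ p.natDegree := by
    have := Finset.mem_range.1 hk
    omega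
  have e1 : p.natDegree + 1 - 1 - k = p.natDegree - k := by omega
  have e3 : p.natDegree - (p.natDegree - k) = k := by omega
  rw [e1, coeff_reverse, revAt_le (Nat.sub_le _ _), e3, mul_smul_comm]
  congr 1
  have e2 : s ^ p.natDegree = s ^ (p.natDegree - k) * s ^ k := by
    rw [← pow_add]; congr 1; omega
  rw [e2, mul_assoc, hpow, mul_one]

/-- (V2) no nontrivial self-adjoint idempotent commutes with the unitary matrix `x`: every power `s` of `x`
of order prime to the characteristic has minimal polynomial `f` irreducible, or `f * f†` with `f ≠ f†`. -/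
theorem minpoly_of_indec_U (bar : F →+* F) (hbar2 : ∀ x, bar (bar x) = x)
    (hn : 1 ≤ n) (x s : Matrix (Fin n) (Fin n) F)
    (hx : dag bar x * x = 1) (j m : ℕ) (hs : s = x ^ j) (hm : (m : F) ≠ 0) (hsm : s ^ m = 1)
    (hind : ∀ e : Matrix (Fin n) (Fin n) F, e * e = e → dag bar e = e → e * x = x * e →
      e = 0 ∨ e = 1)
    (HA : ∀ P H : F[X], IsCoprime P H → aeval s (P * H) = 0 → Associated (pstar bar P) P →
      Associated (pstar bar H) H → P.coeff 0 ≠ 0 → H.coeff 0 ≠ 0 →
      ∃ e : Matrix (Fin n) (Fin n) F, e * e = e ∧ dag bar e = e ∧ (∃ g : F[X], e = aeval s g) ∧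
        aeval s H * e = 0 ∧ aeval s P * (1 - e) = 0)
    (HB : ∀ μ : F[X], μ.coeff 0 ≠ 0 → Squarefree μ → ¬ IsUnit μ → Associated (pstar bar μ) μ →
      (∀ P H : F[X], μ = P * H → IsCoprime P H → Associated (pstar bar P) P →
        Associated (pstar bar H) H → IsUnit P ∨ IsUnit H) →
      Irreducible μ ∨ ∃ f : F[X], f.Monic ∧ Irreducible f ∧ f.coeff 0 ≠ 0 ∧
        IsCoprime f (pstar bar f) ∧ Associated μ (f * pstar bar f)) :
    Irreducible (minpoly F s) ∨ ∃ f : F[X], f.Monic ∧ Irreducible f ∧ f.coeff 0 ≠ 0 ∧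
      IsCoprime f (pstar bar f) ∧ Associated (minpoly F s) (f * pstar bar f) := by
  have : Nonempty (Fin n) := ⟨⟨0, hn⟩⟩
  have hm0 : m ≠ 0 := by
    rintro rfl
    exact hm (by simp)
  have hμ0 : minpoly F s ≠ 0 := minpoly.ne_zero (Algebra.IsIntegral.isIntegral s)
  -- `μ ∣ X ^ m - 1`
  have hdvd : minpoly F s ∣ (X ^ m - 1 : F[X]) := by
    apply minpoly.dvd
    rw [map_sub, map_pow, aeval_X, map_one, hsm, sub_self]
  -- unitarity of `s`
  have hxx : x * dag bar x = 1 := mul_eq_one_comm.1 hx
  have hs1 : dag bar s * s = 1 := by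
    rw [hs, dag_pow, ← (show Commute (dag bar x) x from by rw [Commute, SemiconjBy, hx, hxx]).mul_pow,
      hx, one_pow]
  have hs2 : s * dag bar s = 1 := mul_eq_one_comm.1 hs1
  apply HB
  · -- constant term
    intro h0
    have hX : (X : F[X]) ∣ minpoly F s := X_dvd_iff.2 h0
    have h1 := X_dvd_iff.1 (hX.trans hdvd)
    rw [coeff_sub, coeff_X_pow, if_neg (Ne.symm hm0), coeff_one_zero, zero_sub] at h1
    exact one_ne_zero (neg_eq_zero.1 h1)
  · -- squarefree
    have hsep : (X ^ m - C (1 : F) : F[X]).Separable := separable_X_pow_sub_C (1 : F) hm one_ne_zero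
    rw [C_1] at hsep
    exact hsep.squarefree.squarefree_of_dvd hdvd
  · exact minpoly.not_isUnit F s
  · -- self-conjugate-reciprocal
    have hzero : aeval s (pstar bar (minpoly F s)) = 0 := by
      unfold pstar
      rw [V2_aeval_reverse s (dag bar s) hs2 hs1, ← dag_aeval, minpoly.aeval, dag_zero, mul_zero]
    have h1 : minpoly F s ∣ pstar bar (minpoly F s) := minpoly.dvd F s hzero
    have hne : pstar bar (minpoly F s) ≠ 0 := by
      unfold pstar
      rw [Ne, reverse_eq_zero, Polynomial.map_eq_zero]
      exact hμ0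
    have hdeg : (pstar bar (minpoly F s)).natDegree ≤ (minpoly F s).natDegree := by
      unfold pstar
      exact (reverse_natDegree_le _).trans (natDegree_map_le)
    exact (associated_of_dvd_of_natDegree_le h1 hne hdeg).symm
  · -- no nontrivial `*`-stable coprime factorization
    intro P H hPH hcop hP hH
    have hc0 : (minpoly F s).coeff 0 ≠ 0 := by
      intro h0
      have hX : (X : F[X]) ∣ minpoly F s := X_dvd_iff.2 h0
      have h1 := X_dvd_iff.1 (hX.trans hdvd)
      rw [coeff_sub, coeff_X_pow, if_neg (Ne.symm hm0), coeff_one_zero, zero_sub] at h1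
      exact one_ne_zero (neg_eq_zero.1 h1)
    rw [hPH, mul_coeff_zero] at hc0
    have hP0 : P.coeff 0 ≠ 0 := left_ne_zero_of_mul hc0
    have hH0 : H.coeff 0 ≠ 0 := right_ne_zero_of_mul hc0
    have hPne : P ≠ 0 := by rintro rfl; simp at hP0
    have hHne : H ≠ 0 := by rintro rfl; simp at hH0
    have hz : aeval s (P * H) = 0 := by rw [← hPH, minpoly.aeval]
    obtain ⟨e, he, hes, ⟨g, hg⟩, hHe, hPe⟩ := HA P H hcop hz hP hH hP0 hH0
    have hex : e * x = x * e := by
      have hc : Commute x s := by rw [hs]; exact Commute.pow_right (Commute.refl x) j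
      have hcg : ∀ g' : F[X], Commute x (aeval s g') := by
        intro g'
        induction g' using Polynomial.induction_on' with
        | add f₁ f₂ h₁ h₂ => rw [map_add]; exact h₁.add_right h₂
        | monomial k c =>
          rw [aeval_monomial]
          exact (Algebra.commute_algebraMap_right c x).mul_right (hc.pow_right k)
      rw [hg]
      exact (hcg g).eq.symm
    rcases hind e he hes hex with h0 | h1
    · -- `e = 0`: `P(s) = 0`, so `H` is a unit
      right
      rw [h0, sub_zero, mul_one] at hPe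
      have hd : minpoly F s ∣ P := minpoly.dvd F s hPe
      rw [hPH] at hd
      have : P * H ∣ P * 1 := by rwa [mul_one]
      exact isUnit_of_dvd_one ((mul_dvd_mul_iff_left hPne).1 this)
    · -- `e = 1`: `H(s) = 0`, so `P` is a unit
      left
      rw [h1, mul_one] at hHe
      have hd : minpoly F s ∣ H := minpoly.dvd F s hHe
      rw [hPH] at hd
      have : H * P ∣ H * 1 := by rwa [mul_one, mul_comm]
      exact isUnit_of_dvd_one ((mul_dvd_mul_iff_left hHne).1 this)

end Cfsg.Agent.Helper66.Spec4U
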