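import Mathlib
import Cfsg.Agent.Helper86.Spec4.DefsU

/-!
# S2511 piece (V3B2) for helper86: minimal polynomial `f * f†`
-/

set_option autoImplicit false
set_option linter.unusedSectionVars false
set_option linter.unusedVariables false

namespace Cfsg.Agent.Helper66.Spec4U

open Matrix Polynomial Cfsg.Agent.Helper86.Spec4

variable {F : Type*} [Field F] [Fintype F] {q n : ℕ}

/-- (V3B2) minimal polynomial `f * f†`. -/
theorem pow_NU_eq_one_B (hF : Fintype.card F = q ^ 2) (bar : F →+* F)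
    (hbar : ∀ x, bar x = x ^ q) (hn : 1 ≤ n) (s : Matrix (Fin n) (Fin n) F)
    (hdet : s.det = 1) (f : F[X]) (hfm : f.Monic) [Fact (Irreducible f)] (hf0 : f.coeff 0 ≠ 0)
    (hcop : IsCoprime f (pstar bar f)) (hassoc : Associated (minpoly F s) (f * pstar bar f))
    (HD : ∃ a, 1 ≤ a ∧ n = 2 * f.natDegree * a ∧ s.det = (f.coeff 0 / bar (f.coeff 0)) ^ a)
    (HR : (AdjoinRoot.root f) ^ ((Fintype.card F ^ f.natDegree - 1) / (Fintype.card F - 1)) =
      algebraMap F (AdjoinRoot f) ((-1) ^ f.natDegree * f.coeff 0))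
    (HB : ∀ (d a : ℕ) (ξ : AdjoinRoot f), 1 ≤ d → 1 ≤ a →
      (ξ ^ (((q ^ 2) ^ d - 1) / (q ^ 2 - 1))) ^ (q ^ 2) = ξ ^ (((q ^ 2) ^ d - 1) / (q ^ 2 - 1)) →
      ((ξ ^ (((q ^ 2) ^ d - 1) / (q ^ 2 - 1))) ^ (q - 1)) ^ a = 1 →
      ξ ^ (NU q (2 * d * a) / (q + 1)) = 1)
    (HP1 : ∀ g h : F[X], pstar bar (g * h) = pstar bar g * pstar bar h)
    (HP5 : ∀ N : ℕ, 1 ≤ N → pstar bar (X ^ N - 1 : F[X]) = -(X ^ N - 1)) :
    s ^ (NU q n / (q + 1)) = 1 := by
  obtain ⟨a, ha, hna, hdeta⟩ := HD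
  have hirr : Irreducible f := Fact.out
  have hd : 1 ≤ f.natDegree := hirr.natDegree_pos
  -- `q ≥ 1`
  have hq1 : 1 ≤ q := by
    rcases Nat.eq_zero_or_pos q with h | h
    · exfalso
      rw [h] at hF
      have := Fintype.card_pos (α := F)
      rw [hF] at this
      simp at this
    · exact h
  rw [hF] at HR
  set ν : F := (-1) ^ f.natDegree * f.coeff 0 with hν
  have hν0 : ν ≠ 0 := mul_ne_zero (pow_ne_zero _ (neg_ne_zero.2 one_ne_zero)) hf0
  have hbarf0 : bar (f.coeff 0) ≠ 0 := by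
    rw [hbar]; exact pow_ne_zero _ hf0
  -- first condition
  have c1 : ((AdjoinRoot.root f) ^ (((q ^ 2) ^ f.natDegree - 1) / (q ^ 2 - 1))) ^ (q ^ 2) =
      (AdjoinRoot.root f) ^ (((q ^ 2) ^ f.natDegree - 1) / (q ^ 2 - 1)) := by
    rw [HR, ← map_pow, ← hF, FiniteField.pow_card]
  -- second condition
  have hνq : ν ^ (q - 1) = bar (f.coeff 0) / f.coeff 0 := by
    have h1 : ν ^ (q - 1) * ν = bar ν := by
      rw [← pow_succ, Nat.sub_add_cancel hq1, hbar]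
    have h2 : ν ^ (q - 1) = bar ν / ν := by
      rw [← h1, mul_div_assoc, div_self hν0, mul_one]
    rw [h2, hν, map_mul, map_pow, map_neg, map_one]
    rw [mul_div_mul_left _ _ (pow_ne_zero _ (neg_ne_zero.2 one_ne_zero))]
  have c2 : (((AdjoinRoot.root f) ^ (((q ^ 2) ^ f.natDegree - 1) / (q ^ 2 - 1))) ^ (q - 1)) ^ a = 1 := by
    rw [HR, ← map_pow, ← map_pow, hνq]
    have : (bar (f.coeff 0) / f.coeff 0) ^ a = 1 := by
      have h3 : bar (f.coeff 0) / f.coeff 0 = (f.coeff 0 / bar (f.coeff 0))⁻¹ := by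
        rw [inv_div]
      rw [h3, inv_pow, ← hdeta, hdet, inv_one]
    rw [this, map_one]
  have hξ := HB f.natDegree a (AdjoinRoot.root f) hd ha c1 c2
  rw [← hna] at hξ
  -- `f ∣ X ^ N' - 1`
  rcases Nat.eq_zero_or_pos (NU q n / (q + 1)) with hN0 | hNpos
  · rw [hN0, pow_zero]
  have hfdvd : f ∣ (X ^ (NU q n / (q + 1)) - 1 : F[X]) := by
    rw [← AdjoinRoot.mk_eq_zero, map_sub, map_pow, AdjoinRoot.mk_X, map_one, hξ, sub_self]
  have hpdvd : pstar bar f ∣ (X ^ (NU q n / (q + 1)) - 1 : F[X]) := by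
    obtain ⟨g, hg⟩ := hfdvd
    have h1 := HP5 _ hNpos
    rw [hg, HP1] at h1
    have h2 : pstar bar f ∣ -(f * g) := ⟨pstar bar g, h1.symm⟩
    rw [hg]
    exact (dvd_neg.1 h2)
  have hmul : f * pstar bar f ∣ (X ^ (NU q n / (q + 1)) - 1 : F[X]) := hcop.mul_dvd hfdvd hpdvd
  have hmin : minpoly F s ∣ (X ^ (NU q n / (q + 1)) - 1 : F[X]) := hassoc.dvd.trans hmul
  obtain ⟨c, hc⟩ := hmin
  have h0 : aeval s (X ^ (NU q n / (q + 1)) - 1 : F[X]) = 0 := by
    rw [hc, map_mul, minpoly.aeval, zero_mul]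
  rw [map_sub, map_pow, aeval_X, map_one, sub_eq_zero] at h0
  exact h0

end Cfsg.Agent.Helper66.Spec4U
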