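import Mathlib
import Cfsg.Agent.Helper86.Spec4.DefsU

/-!
# S2511 piece (X3) for helper86: minimal polynomial `~ f * g` with `f`, `g` irreducible ⇒ charpoly `~ f^a * g^b`
-/

set_option autoImplicit false
set_option linter.unusedSectionVars false
set_option linter.unusedVariables false

namespace Cfsg.Agent.Helper66.Spec4U

open Matrix Polynomial Cfsg.Agent.Helper86.Spec4

variable {F : Type*} [Field F] [Fintype F] {q n : ℕ}

/-- a product of elements associated to `f` or `g` is associated to `f^a * g^b`. -/
theorem X3_multiset {K : Type*} [Field K] (f g : K[X]) (s : Multiset K[X])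
    (hs : ∀ c ∈ s, Associated c f ∨ Associated c g) : ∃ a b, Associated s.prod (f ^ a * g ^ b) := by
  induction s using Multiset.induction_on with
  | empty => exact ⟨0, 0, by simp⟩
  | cons c s ih =>
    obtain ⟨a, b, hab⟩ := ih (fun d hd => hs d (Multiset.mem_cons_of_mem hd))
    rw [Multiset.prod_cons]
    rcases hs c (Multiset.mem_cons_self c s) with hc | hc
    · refine ⟨a + 1, b, ?_⟩
      have := hc.mul_mul hab
      have e : f * (f ^ a * g ^ b) = f ^ (a + 1) * g ^ b := by ring
      rwa [e] at this
    · refine ⟨a, b + 1, ?_⟩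
      have := hc.mul_mul hab
      have e : g * (f ^ a * g ^ b) = f ^ a * g ^ (b + 1) := by ring
      rwa [e] at this

/-- (X3) minimal polynomial `~ f * g` with `f`, `g` irreducible: the characteristic polynomial is
`~ f^a * g^b`. -/
theorem charpoly_assoc_pow_mul {K : Type*} [Field K] {n : ℕ} (t : Matrix (Fin n) (Fin n) K)
    (f g : K[X]) (hf : Irreducible f) (hg : Irreducible g) (hfg : Associated (minpoly K t) (f * g))
    (H : ∀ h : K[X], Irreducible h → h ∣ t.charpoly → h ∣ minpoly K t) :
    ∃ a b, Associated t.charpoly (f ^ a * g ^ b) := by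
  have hne : t.charpoly ≠ 0 := (Matrix.charpoly_monic t).ne_zero
  obtain ⟨s, hsp, hsprod⟩ := UniqueFactorizationMonoid.exists_prime_factors t.charpoly hne
  have hs : ∀ c ∈ s, Associated c f ∨ Associated c g := by
    intro c hc
    have hcirr : Irreducible c := (hsp c hc).irreducible
    have hcdvd : c ∣ t.charpoly := (Multiset.dvd_prod hc).trans hsprod.dvd
    have h1 : c ∣ f * g := (H c hcirr hcdvd).trans hfg.dvd
    rcases (hsp c hc).dvd_or_dvd h1 with h | h
    · exact Or.inl (hcirr.associated_of_dvd hf h)
    · exact Or.inr (hcirr.associated_of_dvd hg h)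
  obtain ⟨a, b, hab⟩ := X3_multiset f g s hs
  exact ⟨a, b, hsprod.symm.trans hab⟩

end Cfsg.Agent.Helper66.Spec4U
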