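import Mathlib
import Cfsg.Agent.Helper66.SpinCover

/-!
# The pin group as a central extension of the symmetric group, and anticommuting lifts of a
Klein four-group acting with three regular orbits
-/

set_option autoImplicit false

namespace Cfsg.Agent.Helper66

open Equiv
open scoped commutatorElement

universe u

section

variable {A : Type u} [Ring A] [Algebra ℚ A] {n : ℕ} {e : Fin n → A}

/-- the projection of the pin group to the symmetric group -/
def pinHom (e : Fin n → A) : pinSub e →* Perm (Fin n) :=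
  (MonoidHom.snd Aˣ (Perm (Fin n))).comp (pinSub e).subtype

theorem pinHom_apply (x : pinSub e) : pinHom e x = x.1.2 := rfl

theorem pinHom_surjective (he : IsCliffGen e) : Function.Surjective (pinHom e) := by
  intro σ
  have : σ ∈ (pinSub e).map (MonoidHom.snd Aˣ (Perm (Fin n))) := by
    rw [pinSub_map_snd he]; trivial
  obtain ⟨x, hx, rfl⟩ := this
  exact ⟨⟨x, hx⟩, rfl⟩

theorem pinHom_ker_le_center (he : IsCliffGen e) :
    (pinHom e).ker ≤ Subgroup.center (pinSub e) := by
  intro x hx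
  rw [MonoidHom.mem_ker, pinHom_apply] at hx
  have hcomm : ∀ m, (x.1.1 : A) * e m = e m * (x.1.1 : A) := by
    intro m
    have := (mem_pinSub.mp x.2) m
    rw [hx, sgnA_one, one_mul] at this
    simpa using this
  have hcen := he.central _ hcomm
  rw [Subgroup.mem_center_iff]
  intro y
  apply Subtype.ext
  apply Prod.ext
  · apply Units.ext
    simp only [Subgroup.coe_mul, Prod.fst_mul, Units.val_mul]
    exact (hcen _).symm
  · simp only [Subgroup.coe_mul, Prod.snd_mul]
    rw [hx, mul_one, one_mul]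

/-- vectors with disjoint supports anticommute -/
theorem IsCliffGen.sub_anticomm (he : IsCliffGen e) {a b c d : Fin n} (hac : a ≠ c) (had : a ≠ d)
    (hbc : b ≠ c) (hbd : b ≠ d) :
    (e a - e b) * (e c - e d) = -((e c - e d) * (e a - e b)) := by
  rw [mul_sub, sub_mul, sub_mul, mul_sub, sub_mul, sub_mul, he.anti a c hac, he.anti a d had,
    he.anti b c hbc, he.anti b d hbd]
  abel

/-- products of two vectors commute if the four vectors pairwise anticommute -/
theorem mul_comm_of_anticomm {R : Type*} [Ring R] {u1 u2 w1 w2 : R} (h11 : u1 * w1 = -(w1 * u1))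
    (h12 : u1 * w2 = -(w2 * u1)) (h21 : u2 * w1 = -(w1 * u2)) (h22 : u2 * w2 = -(w2 * u2)) :
    (u1 * u2) * (w1 * w2) = (w1 * w2) * (u1 * u2) := by
  calc (u1 * u2) * (w1 * w2) = u1 * (u2 * w1) * w2 := by simp only [mul_assoc]
    _ = -(u1 * w1 * (u2 * w2)) := by rw [h21]; simp only [mul_assoc, mul_neg, neg_mul]
    _ = u1 * w1 * (w2 * u2) := by rw [h22]; simp only [mul_neg, neg_neg]
    _ = -(w1 * (u1 * w2) * u2) := by rw [h11]; simp only [mul_assoc, neg_mul]
    _ = w1 * w2 * (u1 * u2) := by rw [h12]; simp only [mul_assoc, mul_neg, neg_mul, neg_neg]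

/-- three pairs anticommuting within the pair and commuting across pairs -/
theorem mul3_anticomm {R : Type*} [Ring R] {X1 X2 X3 Y1 Y2 Y3 : R}
    (h11 : X1 * Y1 = -(Y1 * X1)) (h22 : X2 * Y2 = -(Y2 * X2)) (h33 : X3 * Y3 = -(Y3 * X3))
    (h12 : X1 * Y2 = Y2 * X1) (h13 : X1 * Y3 = Y3 * X1) (h21 : X2 * Y1 = Y1 * X2)
    (h23 : X2 * Y3 = Y3 * X2) (h31 : X3 * Y1 = Y1 * X3) (h32 : X3 * Y2 = Y2 * X3) :
    (X1 * X2 * X3) * (Y1 * Y2 * Y3) = -((Y1 * Y2 * Y3) * (X1 * X2 * X3)) := by
  calc (X1 * X2 * X3) * (Y1 * Y2 * Y3) = X1 * X2 * (X3 * Y1) * Y2 * Y3 := by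
        simp only [mul_assoc]
    _ = X1 * (X2 * Y1) * (X3 * Y2) * Y3 := by rw [h31]; simp only [mul_assoc]
    _ = (X1 * Y1) * X2 * Y2 * (X3 * Y3) := by rw [h21, h32]; simp only [mul_assoc]
    _ = Y1 * X1 * (X2 * Y2) * (Y3 * X3) := by
        rw [h11, h33]; simp only [mul_assoc, mul_neg, neg_mul, neg_neg]
    _ = -(Y1 * (X1 * Y2) * (X2 * Y3) * X3) := by
        rw [h22]; simp only [mul_assoc, mul_neg, neg_mul]
    _ = -(Y1 * Y2 * (X1 * Y3) * X2 * X3) := by rw [h12, h23]; simp only [mul_assoc]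
    _ = -((Y1 * Y2 * Y3) * (X1 * X2 * X3)) := by rw [h13]; simp only [mul_assoc]


section Blocks

variable (he : IsCliffGen e) (f : Fin 12 → Fin n) (hf : Function.Injective f)

/-- the lift of the double transposition `(f a  f b)(f c  f d)` -/
def blk (a b c d : Fin 12) (hab : a ≠ b) (hcd : c ≠ d) : spinSub e :=
  dblSwap he (hf.ne hab) (hf.ne hcd)

theorem blk_val (a b c d : Fin 12) (hab : a ≠ b) (hcd : c ≠ d) :
    (((blk he f hf a b c d hab hcd).1.1 : Aˣ) : A) =
      (e (f a) - e (f b)) * (e (f c) - e (f d)) := rfl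

theorem blk_perm (a b c d : Fin 12) (hab : a ≠ b) (hcd : c ≠ d) :
    (blk he f hf a b c d hab hcd).1.2 = swap (f a) (f b) * swap (f c) (f d) := rfl

theorem blk_comm (a b c d p q r s : Fin 12) (hab : a ≠ b) (hcd : c ≠ d) (hpq : p ≠ q)
    (hrs : r ≠ s) (h : ∀ x ∈ [a, b, c, d], ∀ y ∈ [p, q, r, s], x ≠ y) :
    (((blk he f hf a b c d hab hcd).1.1 : Aˣ) : A) * (((blk he f hf p q r s hpq hrs).1.1 : Aˣ) : A)
      = (((blk he f hf p q r s hpq hrs).1.1 : Aˣ) : A) *
        (((blk he f hf a b c d hab hcd).1.1 : Aˣ) : A) := by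
  rw [blk_val, blk_val]
  have n (x y : Fin 12) (hx : x ∈ [a, b, c, d]) (hy : y ∈ [p, q, r, s]) : f x ≠ f y :=
    hf.ne (h x hx y hy)
  apply mul_comm_of_anticomm
  · exact he.sub_anticomm (n a p (by simp) (by simp)) (n a q (by simp) (by simp))
      (n b p (by simp) (by simp)) (n b q (by simp) (by simp))
  · exact he.sub_anticomm (n a r (by simp) (by simp)) (n a s (by simp) (by simp))
      (n b r (by simp) (by simp)) (n b s (by simp) (by simp))
  · exact he.sub_anticomm (n c p (by simp) (by simp)) (n c q (by simp) (by simp))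
      (n d p (by simp) (by simp)) (n d q (by simp) (by simp))
  · exact he.sub_anticomm (n c r (by simp) (by simp)) (n c s (by simp) (by simp))
      (n d r (by simp) (by simp)) (n d s (by simp) (by simp))

theorem blk_anticomm (a b c d : Fin 12) (hab : a ≠ b) (hac : a ≠ c) (had : a ≠ d) (hbc : b ≠ c)
    (hbd : b ≠ d) (hcd : c ≠ d) :
    (((blk he f hf a b c d hab hcd).1.1 : Aˣ) : A) * (((blk he f hf a c b d hac hbd).1.1 : Aˣ) : A)
      = -((((blk he f hf a c b d hac hbd).1.1 : Aˣ) : A) *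
        (((blk he f hf a b c d hab hcd).1.1 : Aˣ) : A)) :=
  dblSwap_anticomm he (hf.ne hab) (hf.ne hac) (hf.ne had) (hf.ne hbc) (hf.ne hbd) (hf.ne hcd)

/-- lift of the involution `x` acting as `(a b)(c d)` on each of the three blocks -/
def kleinX : spinSub e :=
  blk he f hf 0 1 2 3 (by decide) (by decide) * blk he f hf 4 5 6 7 (by decide) (by decide) *
    blk he f hf 8 9 10 11 (by decide) (by decide)

/-- lift of the involution `y` acting as `(a c)(b d)` on each of the three blocks -/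
def kleinY : spinSub e :=
  blk he f hf 0 2 1 3 (by decide) (by decide) * blk he f hf 4 6 5 7 (by decide) (by decide) *
    blk he f hf 8 10 9 11 (by decide) (by decide)

theorem kleinX_perm : (kleinX he f hf).1.2 =
    swap (f 0) (f 1) * swap (f 2) (f 3) * (swap (f 4) (f 5) * swap (f 6) (f 7)) *
      (swap (f 8) (f 9) * swap (f 10) (f 11)) := rfl

theorem kleinY_perm : (kleinY he f hf).1.2 =
    swap (f 0) (f 2) * swap (f 1) (f 3) * (swap (f 4) (f 6) * swap (f 5) (f 7)) *
      (swap (f 8) (f 10) * swap (f 9) (f 11)) := rfl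

/-- the lifts of `x` and `y` anticommute -/
theorem klein_anticomm :
    (((kleinX he f hf).1.1 : Aˣ) : A) * (((kleinY he f hf).1.1 : Aˣ) : A) =
      -((((kleinY he f hf).1.1 : Aˣ) : A) * (((kleinX he f hf).1.1 : Aˣ) : A)) := by
  have hX : (((kleinX he f hf).1.1 : Aˣ) : A) =
      (((blk he f hf 0 1 2 3 (by decide) (by decide)).1.1 : Aˣ) : A) *
      (((blk he f hf 4 5 6 7 (by decide) (by decide)).1.1 : Aˣ) : A) *
      (((blk he f hf 8 9 10 11 (by decide) (by decide)).1.1 : Aˣ) : A) := rfl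
  have hY : (((kleinY he f hf).1.1 : Aˣ) : A) =
      (((blk he f hf 0 2 1 3 (by decide) (by decide)).1.1 : Aˣ) : A) *
      (((blk he f hf 4 6 5 7 (by decide) (by decide)).1.1 : Aˣ) : A) *
      (((blk he f hf 8 10 9 11 (by decide) (by decide)).1.1 : Aˣ) : A) := rfl
  rw [hX, hY]
  apply mul3_anticomm
  · exact blk_anticomm he f hf 0 1 2 3 (by decide) (by decide) (by decide) (by decide)
      (by decide) (by decide)
  · exact blk_anticomm he f hf 4 5 6 7 (by decide) (by decide) (by decide) (by decide)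
      (by decide) (by decide)
  · exact blk_anticomm he f hf 8 9 10 11 (by decide) (by decide) (by decide) (by decide)
      (by decide) (by decide)
  · exact blk_comm he f hf _ _ _ _ _ _ _ _ _ _ _ _ (by decide)
  · exact blk_comm he f hf _ _ _ _ _ _ _ _ _ _ _ _ (by decide)
  · exact blk_comm he f hf _ _ _ _ _ _ _ _ _ _ _ _ (by decide)
  · exact blk_comm he f hf _ _ _ _ _ _ _ _ _ _ _ _ (by decide)
  · exact blk_comm he f hf _ _ _ _ _ _ _ _ _ _ _ _ (by decide)
  · exact blk_comm he f hf _ _ _ _ _ _ _ _ _ _ _ _ (by decide)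

/-- the commutator of the two lifts is `-1` -/
theorem klein_commutator :
    (⁅kleinX he f hf, kleinY he f hf⁆ : spinSub e).1.1 = -1 := by
  rw [commutatorElement_def]
  simp only [Subgroup.coe_mul, Subgroup.coe_inv, Prod.fst_mul, Prod.fst_inv]
  exact units_commutator_of_anticomm _ _ (klein_anticomm he f hf)

end Blocks

end

end Cfsg.Agent.Helper66
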