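import Cfsg.Agent.S1088
import Cfsg.Agent.S1067
import Cfsg.Agent.Helper51.SqComm
import Cfsg.Agent.Helper19.Twist.UD4b
import Cfsg.Agent.Helper18.Graded
import Cfsg.Agent.Helper18.BNMain

/-!
# S4625 piece (TD4) for helper51 (#11827/#11904): Sylow 2-subgroups of `³D₄(q)`, `q` even

`U¹ = U ∩ ³D₄(q) = U^σ` has order `q¹²` (S1088), which is the 2-part of `|³D₄(q)|` (S1067).  Every element
of `U^σ` is a product of class factors `∏_{r ∈ S} x_r(t_r)` (`S` a class of positive roots under
triality), each class factor lies in `U^σ`, and it is an involution in characteristic 2 since the root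
subgroups of a class commute.  So `U¹` is generated by involutions.
-/

set_option autoImplicit false
set_option maxRecDepth 100000
set_option linter.unusedSectionVars false

namespace Cfsg.Agent.Helper66.SqTD4

open Cfsg Cfsg.Lie Cfsg.Agent.Helper18 Cfsg.Agent.Helper40.GraphAut Cfsg.Agent.Helper40.UProd
  Cfsg.Agent.Helper40.UData Cfsg.Agent.S1081 Cfsg.Agent.Helper19.Cox Cfsg.Agent.Helper19.Poinc
  Cfsg.Agent.Helper19.Twist Cfsg.Agent.Helper51.SQ

theorem list_prod_sq_eq_one {G : Type*} [Group G] :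
    ∀ L : List G, L.Pairwise Commute → (∀ a ∈ L, a ^ 2 = 1) → L.prod ^ 2 = 1
  | [], _, _ => by simp
  | a :: L, hc, hs => by
    rw [List.pairwise_cons] at hc
    have h1 : Commute a L.prod := Commute.list_prod_right _ _ (fun b hb => hc.1 b hb)
    rw [List.prod_cons, h1.mul_pow, hs a List.mem_cons_self,
      list_prod_sq_eq_one L hc.2 (fun b hb => hs b (List.mem_cons_of_mem _ hb)), one_mul]

theorem factorization_two_pow_mul_aux (k M : ℕ) (hM : ¬ 2 ∣ M) :
    (2 ^ k * M).factorization 2 = k := by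
  have hM0 : M ≠ 0 := by
    rintro rfl
    exact hM (dvd_zero _)
  rw [Nat.factorization_mul (pow_ne_zero _ (by norm_num)) hM0, Finsupp.add_apply,
    Nat.prime_two.factorization_pow, Finsupp.single_eq_same,
    Nat.factorization_eq_zero_of_not_dvd hM, add_zero]

/-- the root subgroups of a class commute -/
theorem classComm_D4 :
    ClD4.all (fun S => decide (S.Pairwise fun r s => commOK chevD4 r s = true)) = true := by
  decide +kernel

section

variable {K : Type*} [Field K] [CharP K 2]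

/-- a class factor is an involution in characteristic 2 -/
theorem pwG_class_sq (S : List ℕ) (hS : S ∈ ClD4) (t : ℕ → K) : pwG chevD4 K S t ^ 2 = 1 := by
  have hc := List.all_eq_true.mp classComm_D4 S hS
  rw [decide_eq_true_eq] at hc
  unfold pwG
  apply list_prod_sq_eq_one
  · rw [List.pairwise_map]
    exact hc.imp (fun {r s} h => xGL_commute chevD4 memD4 r s h (t r) (t s))
  · intro a ha
    obtain ⟨r, -, rfl⟩ := List.mem_map.mp ha
    rw [pow_two, xGL_mul_add chevD4 memD4, CharTwo.add_self_eq_zero, Cfsg.Agent.Helper18.xGL_zero' chevD4 memD4]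

end

/-- (TD4) -/
theorem sq_3D4 {K : Type*} [Field K] [Fintype K] [CharP K 2] (q : ℕ) (hq : IsPrimePow q)
    (hK : Fintype.card K = q ^ 3) (P : Sylow 2 ↥(Lie.twistedD4 K q)) :
    SqComm (P : Subgroup ↥(Lie.twistedD4 K q)) := by
  have : Fact (Nat.Prime 2) := ⟨Nat.prime_two⟩
  obtain ⟨f, hf⟩ := exists_frob hq hK
  have h31 : NConjHyp chevD4 K := fun i s hi hs => Cfsg.Agent.S1031.result chevD4 memD4 i s hi hs
  have hn : (HN chevD4 K).Normal := Cfsg.Agent.S1038.result chevD4 memD4
  have hq1 : 1 ≤ q := le_trans (by norm_num) hq.two_le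
  have hU := U_inf_twisted_D4 f hf h31 hq1 hK
  set U1 : Subgroup (GL chevD4.Idx K) := chevD4.posUnipotent K ⊓ FixD4 f with hU1
  -- `U1` is generated by involutions
  have hgen : Subgroup.closure {y : GL chevD4.Idx K | y ∈ U1 ∧ y ^ 2 = 1} = U1 := by
    apply le_antisymm
    · rw [Subgroup.closure_le]
      intro y hy
      exact hy.1
    · have hmain := fix_le_of_classes (K := K) memD4 gradeOK'_D4 rho1 rhoInv1 pi1 piInv1 eps1
        permsOK_D4 f allOK1 (Subgroup.closure {y : GL chevD4.Idx K | y ∈ U1 ∧ y ^ 2 = 1}) (k := 3)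
        ClD4 nodup_D4 cycOK_D4 (closedOK_spec closedOK_D4) classOK_D4 (by
          intro S hS
          have c1 : ClosedList chevD4 phiTD4 S :=
            closedOK_spec (List.all_eq_true.mp closedOK_D4_each S hS)
          have c2 : classOK chevD4 pi1 [S] = true := List.all_eq_true.mp classOK_D4_each S hS
          refine ⟨c1, c2, ?_⟩
          intro g hg
          have c1' : ClosedList chevD4 phiTD4 [S].flatten := by
            rw [flatten_singleton]; exact c1
          have h1 := fix_listSubgroup_eq (K := K) memD4 gradeOK'_D4 rho1 rhoInv1 pi1 piInv1 eps1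
            permsOK_D4 f allOK1 [S] c1' c2
          rw [flatten_singleton] at h1
          have hg' : g ∈ ((listSubgroup chevD4 K S ⊓
              Fix chevD4 rho1 rhoInv1 pi1 piInv1 eps1 permsOK_D4 f :
              Subgroup (GL chevD4.Idx K)) : Set (GL chevD4.Idx K)) := hg
          rw [h1] at hg'
          obtain ⟨t, -, rfl⟩ := hg'
          apply Subgroup.subset_closure
          refine ⟨⟨?_, hg.2⟩, pwG_class_sq S hS t⟩
          rw [← listSubgroup_ClD4]
          have hle : listSubgroup chevD4 K S ≤ listSubgroup chevD4 K ClD4.flatten := by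
            unfold listSubgroup
            apply Subgroup.closure_mono
            rintro x ⟨r, u, hr, hx⟩
            exact ⟨r, u, List.mem_flatten.mpr ⟨S, hS, hr⟩, hx⟩
          exact hle hg.1)
      rw [listSubgroup_ClD4] at hmain
      exact hmain
  have hsqU : SqComm U1 :=
    sqComm_of_closure_involutions U1 _ hgen (fun y hy => hy.2)
  -- transport to a subgroup of `³D₄(q)`
  have hle : U1 ≤ twistedD4 K q := by
    rw [← hU]
    exact inf_le_right
  have hsqV : SqComm (U1.subgroupOf (twistedD4 K q)) :=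
    hsqU.of_mulEquiv (Subgroup.subgroupOfEquivOfLe hle).symm
  have hcardV : Nat.card (U1.subgroupOf (twistedD4 K q)) = q ^ 12 := by
    rw [Nat.card_congr (Subgroup.subgroupOfEquivOfLe hle).toEquiv, ← hU]
    exact Cfsg.Agent.S1088.result hq hK
  -- `q` is a power of `2`
  obtain ⟨p, a, hp, ha, rfl⟩ := hq
  have hp' : p.Prime := Nat.prime_iff.mpr hp
  obtain ⟨n, -, hn2⟩ := FiniteField.card K 2
  have hp2 : p = 2 := by
    have h1 : p ∣ 2 ^ (n : ℕ) := by
      rw [← hn2, hK, ← pow_mul]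
      exact dvd_pow_self p (by positivity)
    exact (Nat.prime_dvd_prime_iff_eq hp' Nat.prime_two).mp (hp'.dvd_of_dvd_pow h1)
  subst hp2
  apply sylow_all_of_card (U1.subgroupOf (twistedD4 K (2 ^ a))) ?_ hsqV P
  rw [hcardV, Cfsg.Agent.S1067.result ⟨2, a, hp, ha, rfl⟩ hK]
  have hx : Even (2 ^ a) := (Nat.even_pow.mpr ⟨even_two, ha.ne'⟩)
  have hx1 : 1 ≤ 2 ^ a := Nat.one_le_two_pow
  have hodd : ¬ 2 ∣ ((2 ^ a) ^ 2 - 1) * ((2 ^ a) ^ 6 - 1) * ((2 ^ a) ^ 8 + (2 ^ a) ^ 4 + 1) := by
    have o1 : Odd ((2 ^ a) ^ 2 - 1) :=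
      Nat.Even.sub_odd (Nat.one_le_pow _ _ (by positivity)) (Nat.even_pow.mpr ⟨hx, by norm_num⟩) odd_one
    have o2 : Odd ((2 ^ a) ^ 6 - 1) :=
      Nat.Even.sub_odd (Nat.one_le_pow _ _ (by positivity)) (Nat.even_pow.mpr ⟨hx, by norm_num⟩) odd_one
    have o3 : Odd ((2 ^ a) ^ 8 + (2 ^ a) ^ 4 + 1) :=
      Even.add_one ((Nat.even_pow.mpr ⟨hx, by norm_num⟩).add (Nat.even_pow.mpr ⟨hx, by norm_num⟩))
    exact ((o1.mul o2).mul o3).not_two_dvd_nat
  have e : (2 ^ a) ^ 12 * ((2 ^ a) ^ 2 - 1) * ((2 ^ a) ^ 6 - 1) * ((2 ^ a) ^ 8 + (2 ^ a) ^ 4 + 1) =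
      2 ^ (a * 12) * (((2 ^ a) ^ 2 - 1) * ((2 ^ a) ^ 6 - 1) * ((2 ^ a) ^ 8 + (2 ^ a) ^ 4 + 1)) := by
    rw [← pow_mul]
    ring
  rw [e, factorization_two_pow_mul_aux _ _ hodd, ← pow_mul]

end Cfsg.Agent.Helper66.SqTD4
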