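import Cfsg.Agent.S1086
import Cfsg.Agent.S1066
import Cfsg.Agent.Helper51.SqComm
import Cfsg.Agent.Helper19.Twist.UE6b
import Cfsg.Agent.Helper18.Graded
import Cfsg.Agent.Helper18.BNMain

/-!
# S4625 piece (TE6) for helper51 (#11827/#12069): Sylow 2-subgroups of `²E₆(q)`, `q` even

`U¹ = U ∩ ²E₆(q) = U^σ` has order `q³⁶` (S1086), which is the 2-part of `|²E₆(q)|` (S1066).  Every element
of `U^σ` is a product of class factors `∏_{r ∈ S} x_r(t_r)` (`S` a class of positive roots under the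
graph automorphism), each class factor lies in `U^σ`, and it is an involution in characteristic 2 since
the root subgroups of a class commute.  So `U¹` is generated by involutions.
-/

set_option autoImplicit false
set_option maxRecDepth 100000
set_option linter.unusedSectionVars false

namespace Cfsg.Agent.Helper66.SqTE6

open Cfsg Cfsg.Lie Cfsg.Agent.Helper18 Cfsg.Agent.Helper40.GraphAut Cfsg.Agent.Helper40.UProd
  Cfsg.Agent.Helper40.UData Cfsg.Agent.S1081 Cfsg.Agent.Helper19.Cox Cfsg.Agent.Helper19.Poinc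
  Cfsg.Agent.Helper19.Twist Cfsg.Agent.Helper51.SQ

theorem list_prod_sq_eq_one {G : Type*} [Group G] :
    ∀ L : List G, L.Pairwise Commute → (∀ a ∈ L, a ^ 2 = 1) → L.prod ^ 2 = 1
  | [], _, _ => by simp
  | a :: L, hc, hs => by
    rw [List.pairwise_cons] at hc
    have h1 : Commute a L.prod := Commute.list_prod_right _ _ (fun b hb => hc.1 b hb)
    rw [List.prod_cons, h1.mul_pow, hs a List.mem_cons_self,
      list_prod_sq_eq_one L hc.2 (fun b hb => hs b (List.mem_cons_of_mem _ hb)), one_mul]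

theorem factorization_two_pow_mul_aux (k M : ℕ) (hM : ¬ 2 ∣ M) :
    (2 ^ k * M).factorization 2 = k := by
  have hM0 : M ≠ 0 := by
    rintro rfl
    exact hM (dvd_zero _)
  rw [Nat.factorization_mul (pow_ne_zero _ (by norm_num)) hM0, Finsupp.add_apply,
    Nat.prime_two.factorization_pow, Finsupp.single_eq_same,
    Nat.factorization_eq_zero_of_not_dvd hM, add_zero]

/-- the root subgroups of a class commute -/
theorem classComm_E6 :
    ClE6.all (fun S => decide (S.Pairwise fun r s => commOK chevE6 r s = true)) = true := by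
  decide +kernel

section

variable {K : Type*} [Field K] [CharP K 2]

/-- a class factor is an involution in characteristic 2 -/
theorem pwG_class_sq (S : List ℕ) (hS : S ∈ ClE6) (t : ℕ → K) : pwG chevE6 K S t ^ 2 = 1 := by
  have hc := List.all_eq_true.mp classComm_E6 S hS
  rw [decide_eq_true_eq] at hc
  unfold pwG
  apply list_prod_sq_eq_one
  · rw [List.pairwise_map]
    exact hc.imp (fun {r s} h => xGL_commute chevE6 memE6 r s h (t r) (t s))
  · intro a ha
    obtain ⟨r, -, rfl⟩ := List.mem_map.mp ha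
    rw [pow_two, xGL_mul_add chevE6 memE6, CharTwo.add_self_eq_zero, Cfsg.Agent.Helper18.xGL_zero' chevE6 memE6]

end

/-- (TE6) -/
theorem sq_2E6 {K : Type*} [Field K] [Fintype K] [CharP K 2] (q : ℕ) (hq : IsPrimePow q)
    (hK : Fintype.card K = q ^ 2) (P : Sylow 2 ↥(Lie.twistedE6 K q)) :
    SqComm (P : Subgroup ↥(Lie.twistedE6 K q)) := by
  have : Fact (Nat.Prime 2) := ⟨Nat.prime_two⟩
  obtain ⟨f, hf⟩ := exists_frob hq hK
  have h31 : NConjHyp chevE6 K := fun i s hi hs => Cfsg.Agent.S1031.result chevE6 memE6 i s hi hs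
  have hn : (HN chevE6 K).Normal := Cfsg.Agent.S1038.result chevE6 memE6
  have hq1 : 1 ≤ q := le_trans (by norm_num) hq.two_le
  have hU := U_inf_twisted_E6 f hf h31 hq1 hK
  set U1 : Subgroup (GL chevE6.Idx K) := chevE6.posUnipotent K ⊓ FixE6 f with hU1
  -- `U1` is generated by involutions
  have hgen : Subgroup.closure {y : GL chevE6.Idx K | y ∈ U1 ∧ y ^ 2 = 1} = U1 := by
    apply le_antisymm
    · rw [Subgroup.closure_le]
      intro y hy
      exact hy.1
    · have hmain := fix_le_of_classes (K := K) memE6 gradeOK'_E6 rho0 rhoInv0 pi0 piInv0 eps0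
        permsOK_E6 f allOK0 (Subgroup.closure {y : GL chevE6.Idx K | y ∈ U1 ∧ y ^ 2 = 1}) (k := 2)
        ClE6 nodup_E6 cycOK_E6 (closedOK_spec closedOK_E6) classOK_E6 (by
          intro S hS
          have c1 : ClosedList chevE6 phiTE6 S :=
            closedOK_spec (List.all_eq_true.mp closedOK_E6_each S hS)
          have c2 : classOK chevE6 pi0 [S] = true := List.all_eq_true.mp classOK_E6_each S hS
          refine ⟨c1, c2, ?_⟩
          intro g hg
          have c1' : ClosedList chevE6 phiTE6 [S].flatten := by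
            rw [flatten_singleton]; exact c1
          have h1 := fix_listSubgroup_eq (K := K) memE6 gradeOK'_E6 rho0 rhoInv0 pi0 piInv0 eps0
            permsOK_E6 f allOK0 [S] c1' c2
          rw [flatten_singleton] at h1
          have hg' : g ∈ ((listSubgroup chevE6 K S ⊓
              Fix chevE6 rho0 rhoInv0 pi0 piInv0 eps0 permsOK_E6 f :
              Subgroup (GL chevE6.Idx K)) : Set (GL chevE6.Idx K)) := hg
          rw [h1] at hg'
          obtain ⟨t, -, rfl⟩ := hg'
          apply Subgroup.subset_closure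
          refine ⟨⟨?_, hg.2⟩, pwG_class_sq S hS t⟩
          rw [← listSubgroup_ClE6]
          have hle : listSubgroup chevE6 K S ≤ listSubgroup chevE6 K ClE6.flatten := by
            unfold listSubgroup
            apply Subgroup.closure_mono
            rintro x ⟨r, u, hr, hx⟩
            exact ⟨r, u, List.mem_flatten.mpr ⟨S, hS, hr⟩, hx⟩
          exact hle hg.1)
      rw [listSubgroup_ClE6] at hmain
      exact hmain
  have hsqU : SqComm U1 :=
    sqComm_of_closure_involutions U1 _ hgen (fun y hy => hy.2)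
  -- transport to a subgroup of `³D₄(q)`
  have hle : U1 ≤ twistedE6 K q := by
    rw [← hU]
    exact inf_le_right
  have hsqV : SqComm (U1.subgroupOf (twistedE6 K q)) :=
    hsqU.of_mulEquiv (Subgroup.subgroupOfEquivOfLe hle).symm
  have hcardV : Nat.card (U1.subgroupOf (twistedE6 K q)) = q ^ 36 := by
    rw [Nat.card_congr (Subgroup.subgroupOfEquivOfLe hle).toEquiv, ← hU]
    exact Cfsg.Agent.S1086.result hq hK
  -- `q` is a power of `2`
  obtain ⟨p, a, hp, ha, rfl⟩ := hq
  have hp' : p.Prime := Nat.prime_iff.mpr hp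
  obtain ⟨n, -, hn2⟩ := FiniteField.card K 2
  have hp2 : p = 2 := by
    have h1 : p ∣ 2 ^ (n : ℕ) := by
      rw [← hn2, hK, ← pow_mul]
      exact dvd_pow_self p (by positivity)
    exact (Nat.prime_dvd_prime_iff_eq hp' Nat.prime_two).mp (hp'.dvd_of_dvd_pow h1)
  subst hp2
  apply sylow_all_of_card (U1.subgroupOf (twistedE6 K (2 ^ a))) ?_ hsqV P
  have h66 := Cfsg.Agent.S1066.result ⟨2, a, hp, ha, rfl⟩ hK
  have hx : Even (2 ^ a) := (Nat.even_pow.mpr ⟨even_two, ha.ne'⟩)
  have hx1 : 1 ≤ 2 ^ a := Nat.one_le_two_pow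
  have em : ∀ k : ℕ, k ≠ 0 → Odd ((2 ^ a) ^ k - 1) := fun k hk =>
    Nat.Even.sub_odd (Nat.one_le_pow _ _ (by positivity)) (Nat.even_pow.mpr ⟨hx, hk⟩) odd_one
  have ep : ∀ k : ℕ, k ≠ 0 → Odd ((2 ^ a) ^ k + 1) := fun k hk =>
    Even.add_one (Nat.even_pow.mpr ⟨hx, hk⟩)
  have hodd : ¬ 2 ∣ ((2 ^ a) ^ 2 - 1) * ((2 ^ a) ^ 5 + 1) * ((2 ^ a) ^ 6 - 1) * ((2 ^ a) ^ 8 - 1) *
      ((2 ^ a) ^ 9 + 1) * ((2 ^ a) ^ 12 - 1) :=
    ((((((em 2 (by norm_num)).mul (ep 5 (by norm_num))).mul (em 6 (by norm_num))).mul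
      (em 8 (by norm_num))).mul (ep 9 (by norm_num))).mul (em 12 (by norm_num))).not_two_dvd_nat
  have e : (2 ^ a) ^ 36 * ((2 ^ a) ^ 2 - 1) * ((2 ^ a) ^ 5 + 1) * ((2 ^ a) ^ 6 - 1) * ((2 ^ a) ^ 8 - 1) *
      ((2 ^ a) ^ 9 + 1) * ((2 ^ a) ^ 12 - 1) =
      2 ^ (a * 36) * (((2 ^ a) ^ 2 - 1) * ((2 ^ a) ^ 5 + 1) * ((2 ^ a) ^ 6 - 1) * ((2 ^ a) ^ 8 - 1) *
      ((2 ^ a) ^ 9 + 1) * ((2 ^ a) ^ 12 - 1)) := by
    rw [← pow_mul]
    ring
  -- `gcd 3 (q + 1)` is odd
  have hg3 : Nat.gcd 3 (2 ^ a + 1) ∣ 3 := Nat.gcd_dvd_left _ _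
  have hg2 : ¬ 2 ∣ Nat.gcd 3 (2 ^ a + 1) := by
    intro h2
    have : 2 ∣ 3 := dvd_trans h2 hg3
    omega
  have hg0 : Nat.gcd 3 (2 ^ a + 1) ≠ 0 := by
    intro h0
    rw [h0] at hg3
    omega
  have hN0 : Nat.card ↥(twistedE6 K (2 ^ a)) ≠ 0 := Nat.card_pos.ne'
  have hfac : (Nat.card ↥(twistedE6 K (2 ^ a))).factorization 2 = a * 36 := by
    have h1 := congrArg (fun m : ℕ => m.factorization 2) h66
    beta_reduce at h1
    rw [e, factorization_two_pow_mul_aux _ _ hodd, Nat.factorization_mul hg0 hN0, Finsupp.add_apply,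
      Nat.factorization_eq_zero_of_not_dvd hg2, zero_add] at h1
    exact h1
  rw [hcardV, hfac, ← pow_mul]

end Cfsg.Agent.Helper66.SqTE6
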