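import Cfsg.Agent.Helper94.Srg77.Facts9

set_option autoImplicit false
set_option linter.unusedSectionVars false
set_option linter.unusedVariables false

/-!
# S0429 (uniqueness of srg(77,16,0,4)), helper94's farm, piece (BK) (helper66)

`blk G x` is `pointsThrough G {x}` seen in the subtype `Pt G`.
-/

namespace Cfsg.Agent.Helper66.Srg77

open Finset Cfsg.Agent.Helper94.Srg77

variable {V : Type*} [Fintype V] [DecidableEq V] {G : SimpleGraph V} [DecidableRel G.Adj]

open Classical in
/-- the points (in the subtype) containing the set `S` -/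
noncomputable def BK_blkS (G : SimpleGraph V) [DecidableRel G.Adj] (S : Finset V) : Finset (Pt G) :=
  univ.filter fun C => S ⊆ C.1

theorem BK_mem_blkS {S : Finset V} {C : Pt G} : C ∈ BK_blkS G S ↔ S ⊆ C.1 := by
  classical
  simp [BK_blkS]

theorem BK_card_blkS (S : Finset V) : (BK_blkS G S).card = (pointsThrough G S).card := by
  classical
  rw [← Finset.card_map (Function.Embedding.subtype (fun C : Finset V => C ∈ points G))]
  congr 1
  ext C
  rw [Finset.mem_map, mem_pointsThrough]
  constructor
  · rintro ⟨a, ha, rfl⟩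
    exact ⟨mem_points.mp a.2, BK_mem_blkS.mp ha⟩
  · rintro ⟨hC, hS⟩
    exact ⟨⟨C, mem_points.mpr hC⟩, BK_mem_blkS.mpr hS, rfl⟩

theorem BK_blk_eq (x : V) : blk G x = BK_blkS G {x} := by
  ext C
  rw [mem_blk, BK_mem_blkS, singleton_subset_iff]

theorem BK_blk_inter (x y : V) : blk G x ∩ blk G y = BK_blkS G {x, y} := by
  ext C
  rw [mem_inter, mem_blk, mem_blk, BK_mem_blkS, insert_subset_iff, singleton_subset_iff]

theorem card_Pt (h : Hyp G) (f : F8 G) : Fintype.card (Pt G) = 22 := by
  rw [← f.card_points]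
  exact Fintype.card_coe (points G)

theorem blk_card (h : Hyp G) (f : F8 G) (x : V) : (blk G x).card = 6 := by
  rw [BK_blk_eq, BK_card_blkS]
  exact f.points_of_vertex x

theorem blk_adj (h : Hyp G) (f : F8 G) {x y : V} (hxy : G.Adj x y) :
    Disjoint (blk G x) (blk G y) := by
  rw [Finset.disjoint_left]
  intro C hx hy
  rw [mem_blk] at hx hy
  obtain ⟨ℓ, v, hℓ, hv, hvℓ, hC⟩ := mem_points.mp C.2
  rw [hC] at hx hy
  exact f.plane_noEdges hℓ hv hvℓ x hx y hy hxy

theorem blk_nadj (h : Hyp G) (f : F8 G) {x y : V} (hxy : x ≠ y) (nxy : ¬ G.Adj x y) :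
    (blk G x ∩ blk G y).card = 2 := by
  rw [BK_blk_inter, BK_card_blkS]
  exact f.points_of_pair hxy nxy

theorem blk_injective (h : Hyp G) (f : F8 G) : Function.Injective (blk G) := by
  intro x y hxy
  by_contra hne
  have h6 : (blk G x ∩ blk G y).card = 6 := by
    rw [← hxy, inter_self]
    exact blk_card h f x
  by_cases hadj : G.Adj x y
  · have hd := blk_adj h f hadj
    rw [Finset.disjoint_iff_inter_eq_empty] at hd
    rw [hd, card_empty] at h6
    omega
  · rw [blk_nadj h f hne hadj] at h6
    omega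

end Cfsg.Agent.Helper66.Srg77
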