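import Cfsg.Agent.Helper94.Srg77.Facts9

set_option autoImplicit false
set_option linter.unusedSectionVars false
set_option linter.unusedVariables false

/-!
# S0429 (uniqueness of srg(77,16,0,4)), helper94's farm, piece (C22) (helper66)
-/

namespace Cfsg.Agent.Helper66.Srg77

open Finset Cfsg.Agent.Helper94.Srg77

variable {V : Type*} [Fintype V] [DecidableEq V] {G : SimpleGraph V} [DecidableRel G.Adj]

/-- (C22) ROUTE: Σ_{C ∈ points} |C| = 21·|points| (`f.plane_card`) = Σ_x |pointsThrough {x}| = 77·6. -/
theorem card_points (h : Hyp G) (f : F8a G) (hv : ∀ x : V, (pointsThrough G {x}).card = 6) :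
    (points G).card = 22 := by
  classical
  have hdc := Finset.sum_card_bipartiteAbove_eq_sum_card_bipartiteBelow
    (s := points G) (t := (univ : Finset V)) (fun (C : Finset V) (x : V) => x ∈ C)
  have h1 : ∀ C ∈ points G, ((univ : Finset V).bipartiteAbove (fun (C : Finset V) (x : V) => x ∈ C) C).card = 21 := by
    intro C hC
    have hC' : IsPoint G C := mem_points.mp hC
    obtain ⟨ℓ, v, hℓ, hv', hvℓ, rfl⟩ := hC'
    have : (univ : Finset V).bipartiteAbove (fun (C : Finset V) (x : V) => x ∈ C) (plane G ℓ v) = plane G ℓ v := by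
      ext u
      simp [Finset.mem_bipartiteAbove]
    rw [this]
    exact f.plane_card hℓ hv' hvℓ
  have h2 : ∀ x ∈ (univ : Finset V),
      ((points G).bipartiteBelow (fun (C : Finset V) (x : V) => x ∈ C) x).card = 6 := by
    intro x _
    have : (points G).bipartiteBelow (fun (C : Finset V) (x : V) => x ∈ C) x = pointsThrough G {x} := by
      ext C
      rw [Finset.mem_bipartiteBelow, mem_pointsThrough, mem_points, singleton_subset_iff]
    rw [this]
    exact hv x
  rw [Finset.sum_congr rfl h1, Finset.sum_congr rfl h2, Finset.sum_const, Finset.sum_const, card_univ, h.card,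
    smul_eq_mul, smul_eq_mul] at hdc
  omega

end Cfsg.Agent.Helper66.Srg77
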