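import Cfsg.Agent.Helper94.Srg77.Facts9

set_option autoImplicit false
set_option linter.unusedSectionVars false
set_option linter.unusedVariables false

/-!
# S0429 (uniqueness of srg(77,16,0,4)), helper94's farm, piece (P3) (helper66)

Double counting of the pairs (line through `x`, point containing it): `15 · 2 = 5 · #points`.
-/

namespace Cfsg.Agent.Helper66.Srg77

open Finset Cfsg.Agent.Helper94.Srg77

variable {V : Type*} [Fintype V] [DecidableEq V] {G : SimpleGraph V} [DecidableRel G.Adj]

/-- a point through `x` contains exactly five lines through `x` -/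
theorem P3_five (h : Hyp G) (f : F8a G) (x : V) {ℓ : Finset V} {v : V} (hℓ : IsLine G ℓ)
    (hv : v ∈ perp G ℓ) (hvℓ : v ∉ ℓ) (hxC : x ∈ plane G ℓ v) :
    ((linesAt G x).filter fun m => m ⊆ plane G ℓ v).card = 5 := by
  classical
  set S := (linesAt G x).filter fun m => m ⊆ plane G ℓ v with hS
  have hU : (plane G ℓ v).erase x = S.biUnion (fun m => m.erase x) := by
    ext y
    rw [mem_erase, mem_biUnion]
    constructor
    · rintro ⟨hyx, hy⟩
      have nxy : ¬ G.Adj x y := f.plane_noEdges hℓ hv hvℓ x hxC y hy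
      refine ⟨line G x y, ?_, mem_erase.mpr ⟨hyx, right_mem_line x y⟩⟩
      rw [hS, mem_filter]
      exact ⟨mem_linesAt.mpr ⟨y, hyx, nxy, rfl⟩, f.plane_closed hℓ hv hvℓ hxC hy (Ne.symm hyx)⟩
    · rintro ⟨m, hm, hym⟩
      rw [hS, mem_filter] at hm
      rw [mem_erase] at hym
      exact ⟨hym.1, hm.2 hym.2⟩
  have hdisj : ∀ m ∈ S, ∀ m' ∈ S, m ≠ m' → Disjoint (m.erase x) (m'.erase x) := by
    intro m hm m' hm' hne
    rw [Finset.disjoint_left]
    intro y hy hy'
    apply hne
    rw [hS, mem_filter] at hm hm'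
    rw [mem_erase] at hy hy'
    obtain ⟨z, hzx, nxz, rfl⟩ := mem_linesAt.mp hm.1
    obtain ⟨z', hzx', nxz', rfl⟩ := mem_linesAt.mp hm'.1
    have e1 := f.line_eq (Ne.symm hzx) nxz (left_mem_line x z) hy.2 (Ne.symm hy.1)
    have e2 := f.line_eq (Ne.symm hzx') nxz' (left_mem_line x z') hy'.2 (Ne.symm hy.1)
    rw [← e1, ← e2]
  have hcard : ∀ m ∈ S, (m.erase x).card = 4 := by
    intro m hm
    rw [hS, mem_filter] at hm
    obtain ⟨z, hzx, nxz, rfl⟩ := mem_linesAt.mp hm.1
    rw [card_erase_of_mem (left_mem_line x z), f.line_card (Ne.symm hzx) nxz]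
  have h21 := f.plane_card hℓ hv hvℓ
  have h20 : ((plane G ℓ v).erase x).card = 20 := by rw [card_erase_of_mem hxC, h21]
  rw [hU, card_biUnion hdisj, sum_congr rfl hcard, sum_const, smul_eq_mul] at h20
  omega

/-- (P3) ROUTE: a point C ∋ x is a coclique of 21 vertices closed under lines, so C \ {x} is
partitioned by the lines through x inside C: exactly 5 of the 15 lines of linesAt G x lie in C.
Double count pairs (m, C), m ∈ linesAt G x, m ⊆ C ∋ x: 15·2 (`f.points_of_line`) = 5·#C. -/
theorem points_of_vertex (h : Hyp G) (f : F8a G) (x : V) : (pointsThrough G {x}).card = 6 := by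
  classical
  have hdc := Finset.sum_card_bipartiteAbove_eq_sum_card_bipartiteBelow
    (s := linesAt G x) (t := pointsThrough G {x}) (fun (m C : Finset V) => m ⊆ C)
  have h1 : ∀ m ∈ linesAt G x,
      ((pointsThrough G {x}).bipartiteAbove (fun (m C : Finset V) => m ⊆ C) m).card = 2 := by
    intro m hm
    obtain ⟨y, hyx, nxy, rfl⟩ := mem_linesAt.mp hm
    have hline : IsLine G (line G x y) := ⟨x, y, Ne.symm hyx, nxy, rfl⟩
    have : (pointsThrough G {x}).bipartiteAbove (fun (m C : Finset V) => m ⊆ C) (line G x y) =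
        pointsThrough G (line G x y) := by
      ext C
      rw [Finset.mem_bipartiteAbove, mem_pointsThrough, mem_pointsThrough]
      constructor
      · rintro ⟨⟨hC, _⟩, hsub⟩
        exact ⟨hC, hsub⟩
      · rintro ⟨hC, hsub⟩
        exact ⟨⟨hC, singleton_subset_iff.mpr (hsub (left_mem_line x y))⟩, hsub⟩
    rw [this]
    exact f.points_of_line hline
  have h2 : ∀ C ∈ pointsThrough G {x},
      ((linesAt G x).bipartiteBelow (fun (m C : Finset V) => m ⊆ C) C).card = 5 := by
    intro C hC
    obtain ⟨hCp, hxC⟩ := mem_pointsThrough.mp hC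
    rw [singleton_subset_iff] at hxC
    obtain ⟨ℓ, v, hℓ, hv, hvℓ, rfl⟩ := hCp
    exact P3_five h f x hℓ hv hvℓ hxC
  rw [sum_congr rfl h1, sum_congr rfl h2, sum_const, sum_const, smul_eq_mul, smul_eq_mul,
    f.card_linesAt x] at hdc
  omega

end Cfsg.Agent.Helper66.Srg77
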