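import Cfsg.Agent.Helper94.Srg77.Facts9

set_option autoImplicit false
set_option linter.unusedSectionVars false
set_option linter.unusedVariables false

/-!
# S0429 (uniqueness of srg(77,16,0,4)), helper94's farm, piece (P4) (helper66)
-/

namespace Cfsg.Agent.Helper66.Srg77

open Finset Cfsg.Agent.Helper94.Srg77

variable {V : Type*} [Fintype V] [DecidableEq V] {G : SimpleGraph V} [DecidableRel G.Adj]

/-- (P4) ROUTE: pointsThrough G {x, y} = pointsThrough G (line G x y) by `f.plane_closed`. -/
theorem points_of_pair (h : Hyp G) (f : F8a G) {x y : V} (hxy : x ≠ y) (nxy : ¬ G.Adj x y) :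
    (pointsThrough G {x, y}).card = 2 := by
  have hline : IsLine G (line G x y) := ⟨x, y, hxy, nxy, rfl⟩
  have heq : pointsThrough G {x, y} = pointsThrough G (line G x y) := by
    ext C
    rw [mem_pointsThrough, mem_pointsThrough]
    constructor
    · rintro ⟨hC, hsub⟩
      refine ⟨hC, ?_⟩
      obtain ⟨ℓ, v, hℓ, hv, hvℓ, rfl⟩ := hC
      have hx : x ∈ plane G ℓ v := hsub (by simp)
      have hy : y ∈ plane G ℓ v := hsub (by simp)
      exact f.plane_closed hℓ hv hvℓ hx hy hxy
    · rintro ⟨hC, hsub⟩
      refine ⟨hC, ?_⟩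
      intro u hu
      rw [mem_insert, mem_singleton] at hu
      rcases hu with rfl | rfl
      · exact hsub (left_mem_line _ _)
      · exact hsub (right_mem_line _ _)
  rw [heq]
  exact f.points_of_line hline

end Cfsg.Agent.Helper66.Srg77
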