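import Mathlib

set_option autoImplicit false

namespace Cfsg.Agent.Helper66

variable {G : Type*} [Group G]

/-- A subgroup containing a Sylow `q`-subgroup for every prime `q` is the whole group. -/
theorem eq_top_of_forall_sylow_le [Finite G] (H : Subgroup G)
    (h : ∀ (q : ℕ) [Fact q.Prime], ∃ Q : Sylow q G, (Q : Subgroup G) ≤ H) : H = ⊤ := by
  apply Subgroup.eq_top_of_le_card
  apply Nat.le_of_dvd Nat.card_pos
  rw [Nat.dvd_iff_prime_pow_dvd_dvd]
  intro q k hq hk
  haveI : Fact q.Prime := ⟨hq⟩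
  obtain ⟨Q, hQ⟩ := h q
  exact (Q.pow_dvd_card_of_pow_dvd_card hk).trans (Subgroup.card_dvd_of_le hQ)

/-- If `P` is a `p`-group and `P ⊔ N = ⊤` with `N` normal then `G ⧸ N` is a `p`-group. -/
theorem isPGroup_quotient_of_sup_eq_top (p : ℕ) (P N : Subgroup G) [N.Normal] (hP : IsPGroup p P)
    (h : P ⊔ N = ⊤) : IsPGroup p (G ⧸ N) := by
  have hsurj : Function.Surjective ((QuotientGroup.mk' N).comp P.subtype) := by
    rw [← MonoidHom.range_eq_top, MonoidHom.range_eq_map, ← Subgroup.map_map,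
      ← MonoidHom.range_eq_map, Subgroup.range_subtype]
    have h1 : Subgroup.map (QuotientGroup.mk' N) (P ⊔ N) = ⊤ := by
      rw [h, ← MonoidHom.range_eq_map, MonoidHom.range_eq_top]
      exact QuotientGroup.mk'_surjective N
    rw [Subgroup.map_sup] at h1
    have h2 : Subgroup.map (QuotientGroup.mk' N) N = ⊥ := by
      rw [Subgroup.map_eq_bot_iff, QuotientGroup.ker_mk']
    rw [h2, sup_bot_eq] at h1
    exact h1
  exact hP.of_surjective _ hsurj

/-- If `G ⧸ N` is a `p`-group, every element of order prime to `p` lies in `N`. -/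
theorem mem_of_coprime_orderOf_of_isPGroup_quotient (p : ℕ) [Fact p.Prime] (N : Subgroup G) [N.Normal]
    (hN : IsPGroup p (G ⧸ N)) (g : G) (hg : (orderOf g).Coprime p) : g ∈ N := by
  rw [← QuotientGroup.eq_one_iff]
  obtain ⟨k, hk⟩ := hN (g : G ⧸ N)
  have h1 : orderOf (g : G ⧸ N) ∣ orderOf g := by
    apply orderOf_dvd_of_pow_eq_one
    rw [← QuotientGroup.mk_pow, pow_orderOf_eq_one]
    rfl
  have h2 : orderOf (g : G ⧸ N) ∣ p ^ k := orderOf_dvd_of_pow_eq_one hk
  have h3 : (orderOf (g : G ⧸ N)).Coprime (p ^ k) :=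
    Nat.Coprime.coprime_dvd_left h1 (Nat.Coprime.pow_right k hg)
  have h4 : orderOf (g : G ⧸ N) = 1 := Nat.Coprime.eq_one_of_dvd h3 h2
  exact orderOf_eq_one_iff.mp h4

end Cfsg.Agent.Helper66
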