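import Mathlib
import Cfsg.Agent.Helper66.NormMap
import Cfsg.Agent.Helper66.SchurMult
import Cfsg.Agent.Helper66.SchurMult2

/-!
# Restriction and corestriction between the multipliers of a group and a subgroup (S3953)
-/

set_option autoImplicit false
set_option linter.style.haveILetI false

namespace Cfsg.Agent.Helper66

open scoped commutatorElement IsMulCommutative

universe u

section SubPres

variable {G : Type u} [Group G] (U : Subgroup G)

/-- The preimage of `U` in the free group on `G`. -/
abbrev preS : Subgroup (FreeGroup G) := U.comap (stdPres G)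

/-- The relation subgroup. -/
abbrev relR (G : Type u) [Group G] : Subgroup (FreeGroup G) := (stdPres G).ker

theorem relR_le_preS : relR G ≤ preS U := by
  intro r hr
  rw [Subgroup.mem_comap, MonoidHom.mem_ker.mp hr]
  exact U.one_mem

instance preS_finiteIndex [Finite G] : (preS U).FiniteIndex := by
  constructor
  rw [Subgroup.index_comap_of_surjective U (stdPres_surjective G)]
  exact Subgroup.FiniteIndex.index_ne_zero

theorem preS_index : (preS U).index = U.index :=
  Subgroup.index_comap_of_surjective U (stdPres_surjective G)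

/-- The surjection `S → U`. -/
def phiS : preS U →* U := (stdPres G).subgroupComap U

theorem phiS_surjective : Function.Surjective (phiS U) :=
  MonoidHom.subgroupComap_surjective_of_surjective _ _ (stdPres_surjective G)

theorem phiS_coe (s : preS U) : ((phiS U s : U) : G) = stdPres G (s : FreeGroup G) := rfl

theorem mem_ker_phiS (s : preS U) : s ∈ (phiS U).ker ↔ (s : FreeGroup G) ∈ relR G := by
  rw [MonoidHom.mem_ker, MonoidHom.mem_ker]
  constructor
  · intro h
    have := congrArg (fun x : U => (x : G)) h
    simpa [phiS_coe] using this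
  · intro h
    apply Subtype.ext
    rw [phiS_coe, h]
    rfl

theorem relCommS_le_ker_phiS : relCommS (relR G) (preS U) ≤ (phiS U).ker := by
  rw [Subgroup.commutator_le]
  intro a _ b hb
  rw [MonoidHom.mem_ker, map_commutatorElement]
  have hb' : phiS U b = 1 := by
    rw [← MonoidHom.mem_ker, mem_ker_phiS]
    exact Subgroup.mem_subgroupOf.mp hb
  rw [hb']
  exact commutatorElement_one_right _

/-- The central extension `S / [S, R] → U`. -/
def rhoS : RelQ (relR G) (preS U) →* U :=
  QuotientGroup.lift (relCommS (relR G) (preS U)) (phiS U) (relCommS_le_ker_phiS U)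

theorem rhoS_mkQ (s : preS U) : rhoS U (mkQ (relR G) (preS U) s) = phiS U s := rfl

theorem rhoS_surjective : Function.Surjective (rhoS U) := by
  intro x
  obtain ⟨s, rfl⟩ := phiS_surjective U x
  exact ⟨mkQ (relR G) (preS U) s, rfl⟩

theorem ker_rhoS_le_center : (rhoS U).ker ≤ Subgroup.center (RelQ (relR G) (preS U)) := by
  intro x hx
  obtain ⟨s, rfl⟩ := QuotientGroup.mk'_surjective (relCommS (relR G) (preS U)) x
  rw [MonoidHom.mem_ker, rhoS_mkQ, ← MonoidHom.mem_ker, mem_ker_phiS] at hx
  exact mkQ_mem_center hx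

/-- The multiplier of `U` computed from the presentation `S / R`. -/
def multS : Subgroup (RelQ (relR G) (preS U)) := (rhoS U).ker ⊓ commutator (RelQ (relR G) (preS U))


/-- By the Nielsen-Schreier theorem `S` is free, so `S / [S, R] → U` lifts to `F_U / [F_U, R_U]`. -/
theorem exists_lift_rhoS :
    ∃ lam : RelQ (relR G) (preS U) →* SchurH U, (schurRho U).comp lam = rhoS U := by
  haveI : IsFreeGroup (preS U) := subgroupIsFreeOfIsFree (preS U)
  choose c hc using fun a : IsFreeGroup.Generators (preS U) =>
    schurRho_surjective U (phiS U (IsFreeGroup.of a))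
  let lam₀ : preS U →* SchurH U := IsFreeGroup.lift c
  have hcomp : (schurRho U).comp lam₀ = phiS U := by
    apply IsFreeGroup.ext_hom
    intro a
    simp only [MonoidHom.coe_comp, Function.comp_apply, lam₀, IsFreeGroup.lift_of, hc]
  have hker : relCommS (relR G) (preS U) ≤ lam₀.ker := by
    rw [Subgroup.commutator_le]
    intro a _ b hb
    rw [MonoidHom.mem_ker, map_commutatorElement, commutatorElement_eq_one_iff_mul_comm]
    have hb' : lam₀ b ∈ (schurRho U).ker := by
      rw [MonoidHom.mem_ker]
      have : schurRho U (lam₀ b) = phiS U b := by rw [← hcomp]; rfl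
      rw [this, ← MonoidHom.mem_ker, mem_ker_phiS]
      exact Subgroup.mem_subgroupOf.mp hb
    exact Subgroup.mem_center_iff.mp (ker_schurRho_le_center U hb') (lam₀ a)
  refine ⟨QuotientGroup.lift _ lam₀ hker, ?_⟩
  refine MonoidHom.ext fun x => ?_
  obtain ⟨s, rfl⟩ := QuotientGroup.mk'_surjective (relCommS (relR G) (preS U)) x
  change schurRho U (lam₀ s) = phiS U s
  rw [← hcomp]; rfl

/-- The multiplier computed from `S / R` is isomorphic to the multiplier of `U`. -/
theorem nonempty_multS_mulEquiv [Finite G] : Nonempty (multS U ≃* schurT U) := by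
  obtain ⟨lam, hlam⟩ := exists_lift_rhoS U
  obtain ⟨ψ, hψ, hmapψ⟩ := exists_schur_lift (rhoS U) (rhoS_surjective U) (ker_rhoS_le_center U)
  have hmaplam : (multS U).map lam = schurT U :=
    map_ker_inf_commutator (rhoS U) (rhoS_surjective U) (schurRho U) (ker_schurRho_le_center U)
      lam hlam
  have hmapψ' : (schurT U).map ψ = multS U := hmapψ
  -- the two surjections
  have hlam_mem : ∀ x : multS U, lam x ∈ schurT U := fun x => by
    rw [← hmaplam]; exact ⟨x, x.2, rfl⟩
  let f : multS U →* schurT U :=
    { toFun := fun x => ⟨lam x, hlam_mem x⟩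
      map_one' := by apply Subtype.ext; simp
      map_mul' := fun a b => by apply Subtype.ext; simp }
  have hf : Function.Surjective f := by
    rintro ⟨y, hy⟩
    rw [← hmaplam] at hy
    obtain ⟨x, hx, rfl⟩ := hy
    exact ⟨⟨x, hx⟩, rfl⟩
  have hψ_mem : ∀ t : schurT U, ψ t ∈ multS U := fun t => by
    rw [← hmapψ']; exact ⟨t, t.2, rfl⟩
  let g : schurT U → multS U := fun t => ⟨ψ t, hψ_mem t⟩
  have hg : Function.Surjective g := by
    rintro ⟨y, hy⟩
    rw [← hmapψ'] at hy
    obtain ⟨t, ht, rfl⟩ := hy
    exact ⟨⟨t, ht⟩, rfl⟩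
  haveI : Finite (multS U) := Finite.of_surjective g hg
  have hcard : Nat.card (multS U) = Nat.card (schurT U) :=
    le_antisymm (Nat.card_le_card_of_surjective g hg) (Nat.card_le_card_of_surjective f hf)
  have hbij : Function.Bijective f := (Nat.bijective_iff_surjective_and_card f).mpr ⟨hf, hcard⟩
  exact ⟨MulEquiv.ofBijective f hbij⟩


/-- The natural map `S / [S, R] → F / [F, R]`. -/
def corH : RelQ (relR G) (preS U) →* SchurH G := corMap (relR G) (preS U)

theorem corH_mkQ (s : preS U) :
    corH U (mkQ (relR G) (preS U) s) = (QuotientGroup.mk (s : FreeGroup G) : SchurH G) := rfl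

theorem schurRho_corH (x : RelQ (relR G) (preS U)) : schurRho G (corH U x) = (rhoS U x : G) := by
  obtain ⟨s, rfl⟩ := QuotientGroup.mk'_surjective (relCommS (relR G) (preS U)) x
  rfl

theorem corH_mem_schurT {x : RelQ (relR G) (preS U)} (hx : x ∈ multS U) : corH U x ∈ schurT G := by
  refine ⟨?_, ?_⟩
  · change corH U x ∈ (schurRho G).ker
    rw [MonoidHom.mem_ker, schurRho_corH, MonoidHom.mem_ker.mp hx.1]
    rfl
  · change corH U x ∈ commutator (SchurH G)
    have : (commutator (RelQ (relR G) (preS U))).map (corH U) ≤ commutator (SchurH G) := by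
      rw [commutator_def, Subgroup.map_commutator, commutator_def]
      exact Subgroup.commutator_mono le_top le_top
    exact this ⟨x, hx.2, rfl⟩

/-- The values of the norm map lie in the kernel of `S / [S, R] → U`. -/
theorem normMap_mem_ker_rhoS [Finite G] (T : FreeGroup G ⧸ preS U → FreeGroup G) (r : relR G) :
    ((normMap (relR_le_preS U) T r : Subgroup.center (RelQ (relR G) (preS U))) :
      RelQ (relR G) (preS U)) ∈ (rhoS U).ker := by
  classical
  letI := (preS U).fintypeQuotientOfFiniteIndex
  rw [normMap_apply]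
  have : ∏ q : FreeGroup G ⧸ preS U, conjR (relR_le_preS U) (T q) r ∈
      ((rhoS U).ker).comap (Subgroup.center (RelQ (relR G) (preS U))).subtype := by
    apply Subgroup.prod_mem
    intro q _
    rw [Subgroup.mem_comap, Subgroup.coe_subtype]
    have hmem : (T q)⁻¹ * (r : FreeGroup G) * T q ∈ relR G := by
      have := (inferInstance : (relR G).Normal).conj_mem (r : FreeGroup G) r.2 (T q)⁻¹
      simpa using this
    rw [conjR_apply_coe (relR_le_preS U) (T q) r (relR_le_preS U hmem), MonoidHom.mem_ker,
      rhoS_mkQ, ← MonoidHom.mem_ker, mem_ker_phiS]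
    exact hmem
  exact this


/-- The map `R → ker (F / [F, R] → G)`. -/
def relToKer (G : Type u) [Group G] : relR G →* (schurRho G).ker where
  toFun r := ⟨(QuotientGroup.mk (r : FreeGroup G) : SchurH G), by
    rw [MonoidHom.mem_ker]
    exact MonoidHom.mem_ker.mp r.2⟩
  map_one' := by apply Subtype.ext; rfl
  map_mul' a b := by apply Subtype.ext; rfl

theorem relToKer_coe (r : relR G) :
    ((relToKer G r : (schurRho G).ker) : SchurH G) = QuotientGroup.mk (r : FreeGroup G) := rfl

theorem relToKer_surjective : Function.Surjective (relToKer G) := by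
  rintro ⟨x, hx⟩
  obtain ⟨f, rfl⟩ := QuotientGroup.mk_surjective x
  have hf : f ∈ relR G := by
    rw [MonoidHom.mem_ker] at hx ⊢
    exact hx
  exact ⟨⟨f, hf⟩, Subtype.ext rfl⟩

theorem mem_ker_relToKer (r : relR G) :
    r ∈ (relToKer G).ker ↔ (r : FreeGroup G) ∈ ⁅(⊤ : Subgroup (FreeGroup G)), relR G⁆ := by
  rw [MonoidHom.mem_ker]
  constructor
  · intro h
    have h1 := congrArg (fun x : (schurRho G).ker => (x : SchurH G)) h
    simp only [relToKer_coe, Subgroup.coe_one] at h1
    exact (QuotientGroup.eq_one_iff _).mp h1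
  · intro h
    apply Subtype.ext
    rw [relToKer_coe]
    exact (QuotientGroup.eq_one_iff _).mpr h

/-- The norm map descends to `R / [F, R]`. -/
theorem exists_normH [Finite G] (T : FreeGroup G ⧸ preS U → FreeGroup G)
    (hT : ∀ q, (QuotientGroup.mk (T q) : FreeGroup G ⧸ preS U) = q) :
    ∃ N : (schurRho G).ker →* Subgroup.center (RelQ (relR G) (preS U)),
      ∀ r : relR G, N (relToKer G r) = normMap (relR_le_preS U) T r := by
  have hker : (relToKer G).ker ≤ (normMap (relR_le_preS U) T).ker := by
    intro r hr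
    rw [MonoidHom.mem_ker]
    exact normMap_eq_one_of_mem_commutator (relR_le_preS U) T hT r ((mem_ker_relToKer r).mp hr)
  refine ⟨(relToKer G).liftOfSurjective relToKer_surjective
    ⟨normMap (relR_le_preS U) T, hker⟩, fun r => ?_⟩
  exact MonoidHom.liftOfRightInverse_comp_apply _ _ _ _ r


/-- Restriction and corestriction between the multipliers of `G` and of a subgroup `U`: their
composite is the `|G : U|`-th power map. -/
theorem exists_res_cor [Finite G] :
    ∃ (res : schurT G →* multS U) (cor : multS U →* schurT G),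
      ∀ a : schurT G, cor (res a) = a ^ U.index := by
  let T : FreeGroup G ⧸ preS U → FreeGroup G := fun q => q.out
  have hT : ∀ q, (QuotientGroup.mk (T q) : FreeGroup G ⧸ preS U) = q := fun q =>
    QuotientGroup.out_eq' q
  obtain ⟨N, hN⟩ := exists_normH U T hT
  -- every element of the multiplier comes from `R ∩ F'`
  have hrep : ∀ a : schurT G, ∃ r : relR G, (r : FreeGroup G) ∈ commutator (FreeGroup G) ∧
      relToKer G r = ⟨(a : SchurH G), a.2.1⟩ := by
    intro a
    have ha : (a : SchurH G) ∈ commutator (SchurH G) := a.2.2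
    rw [← map_commutator_of_surjective (QuotientGroup.mk' (relComm (stdPres G)))
      (QuotientGroup.mk'_surjective _)] at ha
    obtain ⟨f, hf, hfa⟩ := ha
    have hfR : f ∈ relR G := by
      have h1 : (a : SchurH G) ∈ (schurRho G).ker := a.2.1
      rw [← hfa, MonoidHom.mem_ker] at h1
      rw [MonoidHom.mem_ker]
      exact h1
    exact ⟨⟨f, hfR⟩, hf, Subtype.ext hfa⟩
  have hmem : ∀ a : schurT G,
      ((N ⟨(a : SchurH G), a.2.1⟩ : Subgroup.center (RelQ (relR G) (preS U))) :
        RelQ (relR G) (preS U)) ∈ multS U := by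
    intro a
    obtain ⟨r, hr, hra⟩ := hrep a
    rw [← hra, hN]
    exact ⟨normMap_mem_ker_rhoS U T r, normMap_mem_commutator (relR_le_preS U) T hT r hr⟩
  let res : schurT G →* multS U :=
    { toFun := fun a => ⟨_, hmem a⟩
      map_one' := by
        apply Subtype.ext
        have : (⟨((1 : schurT G) : SchurH G), (1 : schurT G).2.1⟩ : (schurRho G).ker) = 1 := rfl
        simp only [this, map_one]
        rfl
      map_mul' := fun a b => by
        apply Subtype.ext
        have : (⟨((a * b : schurT G) : SchurH G), (a * b).2.1⟩ : (schurRho G).ker) =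
            ⟨(a : SchurH G), a.2.1⟩ * ⟨(b : SchurH G), b.2.1⟩ := rfl
        simp only [this, map_mul]
        rfl }
  let cor : multS U →* schurT G :=
    { toFun := fun x => ⟨corH U x.1, corH_mem_schurT U x.2⟩
      map_one' := by apply Subtype.ext; simp
      map_mul' := fun a b => by apply Subtype.ext; simp }
  refine ⟨res, cor, fun a => ?_⟩
  apply Subtype.ext
  obtain ⟨r, -, hra⟩ := hrep a
  change corH U ((N ⟨(a : SchurH G), a.2.1⟩ : Subgroup.center (RelQ (relR G) (preS U))) :
    RelQ (relR G) (preS U)) = ((a ^ U.index : schurT G) : SchurH G)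
  rw [← hra, hN]
  have h1 := corMap_normMap (relR_le_preS U) T r
  rw [preS_index] at h1
  rw [Subgroup.coe_pow]
  have h2 : (a : SchurH G) = QuotientGroup.mk (r : FreeGroup G) := by
    have := congrArg (fun x : (schurRho G).ker => (x : SchurH G)) hra
    exact this.symm
  rw [h2]
  exact h1

end SubPres

section DirectFactor

/-- Abstract splitting lemma: if `cor ∘ res` is the `m`-th power map with `m` prime to `p` and `K`
is a `p`-group, the `p`-primary component of `A` is a direct factor of `K`. -/
theorem exists_direct_factor_of_res_cor {A K : Type*} [CommGroup A] [CommGroup K] [Finite A]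
    (p : ℕ) [hp : Fact p.Prime] (hK : IsPGroup p K) (m : ℕ) (hm : m.Coprime p)
    (res : A →* K) (cor : K →* A) (h : ∀ a, cor (res a) = a ^ m) :
    ∃ C D : Subgroup K, C ⊓ D = ⊥ ∧ C ⊔ D = ⊤ ∧
      Nonempty (CommGroup.primaryComponent A p ≃* C) := by
  set Ap := CommGroup.primaryComponent A p with hAp
  -- elements of `Ap` killed by `m` are trivial
  have hkill : ∀ a ∈ Ap, a ^ m = 1 → a = 1 := by
    intro a ha ham
    obtain ⟨n, hn⟩ := CommGroup.mem_primaryComponent_iff_orderOf.mp ha
    have h1 : orderOf a ∣ m := orderOf_dvd_of_pow_eq_one ham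
    rw [hn] at h1
    have h2 : (p ^ n).Coprime m := (Nat.Coprime.pow_left n hm.symm)
    have h3 : p ^ n = 1 := Nat.eq_one_of_dvd_coprimes h2 dvd_rfl h1
    rw [h3] at hn
    exact orderOf_eq_one_iff.mp hn
  let f : Ap →* K := res.comp Ap.subtype
  have hf : Function.Injective f := by
    rw [injective_iff_map_eq_one]
    intro a ha
    have h1 : cor (res (a : A)) = 1 := by
      have : res (a : A) = 1 := ha
      rw [this, map_one]
    rw [h] at h1
    exact Subtype.ext (hkill a a.2 h1)
  refine ⟨f.range, cor.ker, ?_, ?_, ⟨MonoidHom.ofInjective hf⟩⟩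
  · rw [eq_bot_iff]
    rintro x ⟨⟨a, rfl⟩, hx⟩
    have h1 : cor (res (a : A)) = 1 := hx
    rw [h] at h1
    have : a = 1 := Subtype.ext (hkill a a.2 h1)
    rw [this, map_one]
    exact Subgroup.mem_bot.mpr rfl
  · rw [eq_top_iff]
    intro k _
    -- `cor k` lies in `Ap`
    have hb : cor k ∈ Ap := by
      obtain ⟨j, hj⟩ := (IsPGroup.iff_orderOf.mp hK) k
      have h1 : orderOf (cor k) ∣ p ^ j := hj ▸ orderOf_map_dvd cor k
      obtain ⟨i, -, hi⟩ := (Nat.dvd_prime_pow hp.out).mp h1
      exact CommGroup.mem_primaryComponent_iff_orderOf.mpr ⟨i, hi⟩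
    -- `m`-th roots in `Ap`
    have hApP : IsPGroup p Ap := CommGroup.primaryComponent.isPGroup
    obtain ⟨n, hn⟩ := IsPGroup.iff_card.mp hApP
    have hcop : (Nat.card Ap).Coprime m := by
      rw [hn]; exact Nat.Coprime.pow_left n hm.symm
    obtain ⟨a', ha'⟩ := (powCoprime hcop).surjective ⟨cor k, hb⟩
    have ha'' : (a' : A) ^ m = cor k := by
      have := congrArg (fun x : Ap => (x : A)) ha'
      simpa using this
    have hk : k = f a' * (k * (f a')⁻¹) := by
      rw [mul_comm k, ← mul_assoc, mul_inv_cancel, one_mul]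
    rw [hk]
    apply Subgroup.mul_mem_sup
    · exact ⟨a', rfl⟩
    · rw [MonoidHom.mem_ker, map_mul, map_inv]
      change cor k * (cor (res (a' : A)))⁻¹ = 1
      rw [h, ha'', mul_inv_cancel]

end DirectFactor

end Cfsg.Agent.Helper66
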