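import Mathlib

/-!
# S2112 piece (P1) for helper96: lifting elements of order prime to the (central) kernel
-/

set_option autoImplicit false

namespace Cfsg.Agent.Helper66.Sz8

theorem eq_of_pow_eq_one_of_map_eq {Γ G : Type*} [Group Γ] [Group G] [Finite Γ] (σ : Γ →* G)
    (hc : σ.ker ≤ Subgroup.center Γ) (m : ℕ) (hm : (Nat.card σ.ker).Coprime m) (y₁ y₂ : Γ)
    (h1 : y₁ ^ m = 1) (h2 : y₂ ^ m = 1) (h : σ y₁ = σ y₂) : y₁ = y₂ := by
  have hker : y₁⁻¹ * y₂ ∈ σ.ker := by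
    rw [MonoidHom.mem_ker, map_mul, map_inv, h, inv_mul_cancel]
  have hcen := hc hker
  have hcomm : Commute y₁ (y₁⁻¹ * y₂) := ((Subgroup.mem_center_iff.1 hcen) y₁)
  have hy₂ : y₂ = y₁ * (y₁⁻¹ * y₂) := by group
  have hpow : (y₁⁻¹ * y₂) ^ m = 1 := by
    have := h2
    rw [hy₂, hcomm.mul_pow, h1, one_mul] at this
    exact this
  have hcard : (y₁⁻¹ * y₂) ^ Nat.card σ.ker = 1 := by
    have : (⟨y₁⁻¹ * y₂, hker⟩ : σ.ker) ^ Nat.card σ.ker = 1 := pow_card_eq_one'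
    have := congrArg Subtype.val this
    simpa using this
  have hone : y₁⁻¹ * y₂ = 1 := by
    have := pow_gcd_eq_one.2 ⟨hcard, hpow⟩
    rwa [hm.gcd_eq_one, pow_one] at this
  exact (inv_mul_eq_one.1 hone)

theorem existsUnique_lift_pow {Γ G : Type*} [Group Γ] [Group G] [Finite Γ] (σ : Γ →* G)
    (hs : Function.Surjective σ) (hc : σ.ker ≤ Subgroup.center Γ) (m : ℕ)
    (hm : (Nat.card σ.ker).Coprime m) (g : G) (hg : g ^ m = 1) :
    ∃! γ : Γ, σ γ = g ∧ γ ^ m = 1 := by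
  obtain ⟨γ0, hγ0⟩ := hs g
  have hker : γ0 ^ m ∈ σ.ker := by
    rw [MonoidHom.mem_ker, map_pow, hγ0, hg]
  obtain ⟨a, ha⟩ := (powCoprime hm).surjective (⟨γ0 ^ m, hker⟩⁻¹ : σ.ker)
  have ha' : (a : Γ) ^ m = (γ0 ^ m)⁻¹ := by
    have := congrArg Subtype.val ha
    simpa [powCoprime] using this
  have hcen := hc a.2
  have hcomm : Commute γ0 (a : Γ) := ((Subgroup.mem_center_iff.1 hcen) γ0)
  refine ⟨γ0 * a, ⟨?_, ?_⟩, ?_⟩
  · rw [map_mul, hγ0, MonoidHom.mem_ker.1 a.2, mul_one]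
  · rw [hcomm.mul_pow, ha', mul_inv_cancel]
  · rintro y ⟨hy1, hy2⟩
    refine eq_of_pow_eq_one_of_map_eq σ hc m hm y (γ0 * a) hy2 ?_ ?_
    · rw [hcomm.mul_pow, ha', mul_inv_cancel]
    · rw [hy1, map_mul, hγ0, MonoidHom.mem_ker.1 a.2, mul_one]

end Cfsg.Agent.Helper66.Sz8
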