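import Mathlib
import Cfsg.Prelude.Def_KGroupFacts

/-!
# S2112 piece (P3) for helper96: a homomorphism onto `G` factoring through a stem extension is onto it
-/

set_option autoImplicit false
open scoped commutatorElement

namespace Cfsg.Agent.Helper66.Sz8

theorem P3_comm_mul_central {Γ : Type*} [Group Γ] {x y a b : Γ} (ha : ∀ g : Γ, g * a = a * g)
    (hb : ∀ g : Γ, g * b = b * g) : ⁅x * a, y * b⁆ = ⁅x, y⁆ := by
  rw [commutatorElement_def, commutatorElement_def]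
  have e1 : x * a * (y * b) * (x * a)⁻¹ * (y * b)⁻¹
      = x * (a * (y * b)) * a⁻¹ * x⁻¹ * (y * b)⁻¹ := by group
  rw [e1, ← ha (y * b)]
  have e2 : x * (y * b * a) * a⁻¹ * x⁻¹ * (y * b)⁻¹ = x * y * (b * x⁻¹) * b⁻¹ * y⁻¹ := by group
  rw [e2, ← hb x⁻¹]
  group

theorem surjective_of_comp_stem {E Γ G : Type*} [Group E] [Group Γ] [Group G] (τ : E →* G)
    (σ : Γ →* G) (φ : E →* Γ) (h : σ.comp φ = τ) (hτ : Function.Surjective τ)
    (hσ : Cfsg.IsStemExtension σ) :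
    Function.Surjective φ ∧ ∀ k : Γ, σ k = 1 → ∃ e : E, τ e = 1 ∧ φ e = k := by
  obtain ⟨-, hcen, hcomm⟩ := hσ
  have hτ' : ∀ e : E, σ (φ e) = τ e := fun e => by rw [← h]; rfl
  -- every element is `φ e * a` with `a` in the kernel
  have hdec : ∀ γ : Γ, ∃ e : E, ∃ a : Γ, a ∈ σ.ker ∧ γ = φ e * a := by
    intro γ
    obtain ⟨e, he⟩ := hτ (σ γ)
    refine ⟨e, (φ e)⁻¹ * γ, ?_, by group⟩
    rw [MonoidHom.mem_ker, map_mul, map_inv, hτ', he, inv_mul_cancel]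
  -- the commutator subgroup lies in the range of `φ`
  have hcr : commutator Γ ≤ φ.range := by
    rw [commutator_eq_closure, Subgroup.closure_le]
    rintro g ⟨g₁, g₂, rfl⟩
    obtain ⟨e₁, a₁, ha₁, rfl⟩ := hdec g₁
    obtain ⟨e₂, a₂, ha₂, rfl⟩ := hdec g₂
    have hc₁ := Subgroup.mem_center_iff.1 (hcen ha₁)
    have hc₂ := Subgroup.mem_center_iff.1 (hcen ha₂)
    rw [P3_comm_mul_central hc₁ hc₂, ← map_commutatorElement]
    exact ⟨_, rfl⟩
  have hsurj : Function.Surjective φ := by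
    intro γ
    obtain ⟨e, a, ha, rfl⟩ := hdec γ
    obtain ⟨e', he'⟩ := hcr (hcomm ha)
    exact ⟨e * e', by rw [map_mul, he']⟩
  refine ⟨hsurj, ?_⟩
  intro k hk
  obtain ⟨e, rfl⟩ := hsurj k
  exact ⟨e, by rw [← hτ', hk], rfl⟩

end Cfsg.Agent.Helper66.Sz8
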