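import Mathlib
import Cfsg.Agent.Helper75.FrobeniusConj
import Cfsg.Agent.Helper71.FrobSylow
import Cfsg.Agent.Helper1.Frobenius

/-!
# General lemmas on Frobenius groups (towards 2-Frobenius groups, S4001)
-/

set_option autoImplicit false
set_option linter.style.haveILetI false

namespace Cfsg.Agent.Helper66

open Cfsg
open scoped Pointwise

universe u

section general
variable {X : Type u} [Group X] [Finite X]

/-- The standard facts on a Frobenius group whose kernel is a given subgroup `N`. -/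
theorem frob_facts {C N : Subgroup X} (hC : IsFrobeniusComplement C)
    (hN : (N : Set X) = frobeniusKernel C) :
    N.Normal ∧ N ⊓ C = ⊥ ∧ N ⊔ C = ⊤ ∧ Nat.card N = C.index ∧ N.IsComplement' C ∧
      (∀ h ∈ C, h ≠ 1 → ∀ k ∈ N, h * k = k * h → k = 1) := by
  obtain ⟨N', hN', hNn, hinf, hsup, hcard, hfpf⟩ := Helper75.fc_data hC
  have h1 : N' = N := SetLike.coe_injective (hN'.trans hN.symm)
  subst h1
  obtain ⟨N'', hN'', -, hc⟩ := Helper75.frobenius_kernel_theorem C hC
  have h2 : N'' = N' := SetLike.coe_injective (hN''.trans hN.symm)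
  subst h2
  exact ⟨hNn, hinf, hsup, hcard, hc, hfpf⟩

/-- An element outside the kernel commutes with no nonidentity element of the kernel. -/
theorem frob_eq_one_of_commute {C N : Subgroup X} (hC : IsFrobeniusComplement C)
    (hN : (N : Set X) = frobeniusKernel C) {u v : X} (hu : u ∉ N) (hv : v ∈ N)
    (huv : u * v = v * u) : v = 1 := by
  obtain ⟨hNn, -, -, -, -, hfpf⟩ := frob_facts hC hN
  obtain ⟨g, hg⟩ := Helper75.fc_exists_conj_of_not_mem hN hu
  rw [Helper75.fk_conj_mem_iff] at hg
  have hu1 : g⁻¹ * u * g ≠ 1 := by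
    intro h
    apply hu
    have : u = 1 := by
      have := congrArg (fun x => g * x * g⁻¹) h
      simpa [mul_assoc] using this
    rw [this]; exact N.one_mem
  have hk : g⁻¹ * v * g ∈ N := by
    have := hNn.conj_mem v hv g⁻¹
    simpa using this
  have hcomm : g⁻¹ * u * g * (g⁻¹ * v * g) = g⁻¹ * v * g * (g⁻¹ * u * g) := by
    have : g⁻¹ * u * g * (g⁻¹ * v * g) = g⁻¹ * (u * v) * g := by group
    rw [this, huv]; group
  have := hfpf _ hg hu1 _ hk hcomm
  have h2 := congrArg (fun x => g * x * g⁻¹) this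
  simpa [mul_assoc] using h2

/-- The kernel of a Frobenius group is nontrivial. -/
theorem frob_kernel_ne_bot {C N : Subgroup X} (hC : IsFrobeniusComplement C)
    (hN : (N : Set X) = frobeniusKernel C) : N ≠ ⊥ := by
  obtain ⟨-, -, hsup, -, -, -⟩ := frob_facts hC hN
  intro h
  rw [h, bot_sup_eq] at hsup
  exact hC.2.1 hsup

/-- A Frobenius complement has at most one involution. -/
theorem frob_invol_unique {C N : Subgroup X} (hC : IsFrobeniusComplement C)
    (hN : (N : Set X) = frobeniusKernel C) {t t' : X} (ht : t ∈ C) (ht' : t' ∈ C)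
    (ht1 : t ≠ 1) (ht1' : t' ≠ 1) (ht2 : t * t = 1) (ht2' : t' * t' = 1) : t = t' := by
  obtain ⟨-, -, -, -, -, hfpf⟩ := frob_facts hC hN
  obtain ⟨x, hx, hx1⟩ : ∃ x ∈ N, x ≠ 1 := by
    obtain ⟨y, hy⟩ := (Subgroup.ne_bot_iff_exists_ne_one).mp (frob_kernel_ne_bot hC hN)
    exact ⟨(y : X), y.2, fun h => hy (Subtype.ext h)⟩
  have hxk : x ∈ frobeniusKernel C := by rw [← hN]; exact hx
  have h1 := Helper1.frob_invol_inverts_kernel hC ht ht1 ht2 hxk
  have h2 := Helper1.frob_invol_inverts_kernel hC ht' ht1' ht2' hxk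
  have hinv : t⁻¹ = t := inv_eq_of_mul_eq_one_right ht2
  have hinv' : t'⁻¹ = t' := inv_eq_of_mul_eq_one_right ht2'
  -- t * t' commutes with x
  have hcomm : t * t' * x = x * (t * t') := by
    have e1 : t' * x = x⁻¹ * t' := by
      have : t' * x * t' * t' = x⁻¹ * t' := by rw [h2]
      rwa [mul_assoc (t' * x), ht2', mul_one] at this
    have e2 : t * x⁻¹ = x * t := by
      have : t * x * t = x⁻¹ := h1
      have h3 : x = t * x⁻¹ * t := by
        rw [← this]; simp only [mul_assoc]; rw [ht2, mul_one, ← mul_assoc, ht2, one_mul]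
      calc t * x⁻¹ = t * x⁻¹ * (t * t) := by rw [ht2, mul_one]
        _ = (t * x⁻¹ * t) * t := by simp only [mul_assoc]
        _ = x * t := by rw [← h3]
    calc t * t' * x = t * (t' * x) := by rw [mul_assoc]
      _ = t * (x⁻¹ * t') := by rw [e1]
      _ = (t * x⁻¹) * t' := by rw [mul_assoc]
      _ = x * t * t' := by rw [e2]
      _ = x * (t * t') := by rw [mul_assoc]
  by_contra hne
  have hne1 : t * t' ≠ 1 := by
    intro h
    apply hne
    have : t' = t⁻¹ := (inv_eq_of_mul_eq_one_right h).symm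
    rw [this, hinv]
  exact hx1 (hfpf _ (C.mul_mem ht ht') hne1 x hx hcomm)

end general

end Cfsg.Agent.Helper66
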