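import Mathlib
import Cfsg.Agent.Helper66.TwoFrob1

/-!
# 2-Frobenius groups: set-up, orders, oddness
-/

set_option autoImplicit false
set_option linter.style.haveILetI false

namespace Cfsg.Agent.Helper66

open Cfsg
open scoped Pointwise

universe u

section setup
variable {G : Type u} [Group G] (H K : Subgroup G) [H.Normal] [K.Normal]

/-- The restriction `K → G/H` of the quotient map. -/
def psiHom : ↥K →* G ⧸ H := (QuotientGroup.mk' H).comp K.subtype

theorem psiHom_apply (x : K) : psiHom H K x = ((x : G) : G ⧸ H) := rfl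

theorem psiHom_ker : (psiHom H K).ker = H.subgroupOf K := by
  ext x
  rw [MonoidHom.mem_ker, psiHom_apply, QuotientGroup.eq_one_iff, Subgroup.mem_subgroupOf]

theorem psiHom_range : (psiHom H K).range = K.map (QuotientGroup.mk' H) := by
  ext y
  constructor
  · rintro ⟨x, rfl⟩
    exact ⟨(x : G), x.2, rfl⟩
  · rintro ⟨x, hx, rfl⟩
    exact ⟨⟨x, hx⟩, rfl⟩

/-- The projection `G/H → G/K`. -/
def thetaHom (hle : H ≤ K) : G ⧸ H →* G ⧸ K :=
  QuotientGroup.map H K (MonoidHom.id G) hle

theorem thetaHom_mk (hle : H ≤ K) (g : G) : thetaHom H K hle (g : G ⧸ H) = (g : G ⧸ K) := rfl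

theorem thetaHom_surjective (hle : H ≤ K) : Function.Surjective (thetaHom H K hle) := by
  intro y
  obtain ⟨g, rfl⟩ := QuotientGroup.mk_surjective y
  exact ⟨(g : G ⧸ H), rfl⟩

theorem thetaHom_ker (hle : H ≤ K) : (thetaHom H K hle).ker = K.map (QuotientGroup.mk' H) := by
  ext y
  obtain ⟨g, rfl⟩ := QuotientGroup.mk_surjective y
  rw [MonoidHom.mem_ker, thetaHom_mk, QuotientGroup.eq_one_iff]
  constructor
  · intro hg
    exact ⟨g, hg, rfl⟩
  · rintro ⟨x, hx, hxg⟩
    have : x⁻¹ * g ∈ H := by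
      rw [← QuotientGroup.eq]; exact hxg
    have h2 : g = x * (x⁻¹ * g) := by group
    rw [h2]
    exact K.mul_mem hx (hle this)

variable [Finite G]

theorem card_map_mk (hle : H ≤ K) :
    Nat.card (K.map (QuotientGroup.mk' H)) = Nat.card (↥K ⧸ H.subgroupOf K) := by
  rw [← psiHom_range, ← Subgroup.index_ker, psiHom_ker, Subgroup.index_eq_card]

theorem card_subgroupOf_of_le (hle : H ≤ K) : Nat.card (H.subgroupOf K) = Nat.card H :=
  Nat.card_congr (Subgroup.subgroupOfEquivOfLe hle).toEquiv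

theorem index_map_mk (hle : H ≤ K) :
    (K.map (QuotientGroup.mk' H)).index = Nat.card (G ⧸ K) := by
  rw [← thetaHom_ker H K hle, Subgroup.index_ker,
    MonoidHom.range_eq_top.mpr (thetaHom_surjective H K hle)]
  exact Nat.card_congr Subgroup.topEquiv.toEquiv

theorem card_eq_mul (hle : H ≤ K) :
    Nat.card G = Nat.card H * Nat.card (↥K ⧸ H.subgroupOf K) * Nat.card (G ⧸ K) := by
  have h1 : Nat.card G = Nat.card (G ⧸ K) * Nat.card K :=
    Subgroup.card_eq_card_quotient_mul_card_subgroup K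
  have h2 : Nat.card K = Nat.card (↥K ⧸ H.subgroupOf K) * Nat.card (H.subgroupOf K) :=
    Subgroup.card_eq_card_quotient_mul_card_subgroup (H.subgroupOf K)
  rw [h1, h2, card_subgroupOf_of_le H K hle]
  ring

end setup

section twofrob
variable {G : Type u} [Group G] [Finite G] {H K : Subgroup G} [H.Normal] [K.Normal]
variable {C : Subgroup ↥K} {F : Subgroup (G ⧸ H)}

/-- `|C| = |K/H|`. -/
theorem card_complement_K (hC : IsFrobeniusComplement C)
    (hCk : frobeniusKernel C = (H.subgroupOf K : Set ↥K)) :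
    Nat.card C = Nat.card (↥K ⧸ H.subgroupOf K) := by
  obtain ⟨-, -, -, -, hc, -⟩ := frob_facts hC hCk.symm
  rw [← Subgroup.index_eq_card, hc.symm.index_eq_card]

/-- `|F| = |G/K|`. -/
theorem card_complement_G (hle : H ≤ K) (hF : IsFrobeniusComplement F)
    (hFk : frobeniusKernel F = (K.map (QuotientGroup.mk' H) : Set (G ⧸ H))) :
    Nat.card F = Nat.card (G ⧸ K) := by
  obtain ⟨-, -, -, -, hc, -⟩ := frob_facts hF hFk.symm
  rw [← index_map_mk H K hle, hc.symm.index_eq_card]

theorem coprime_c_h (hle : H ≤ K) (hC : IsFrobeniusComplement C)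
    (hCk : frobeniusKernel C = (H.subgroupOf K : Set ↥K)) :
    Nat.Coprime (Nat.card (↥K ⧸ H.subgroupOf K)) (Nat.card H) := by
  obtain ⟨-, -, -, hcard, -, -⟩ := frob_facts hC hCk.symm
  have := Helper75.fc_coprime hC
  rwa [← hcard, card_subgroupOf_of_le H K hle, card_complement_K hC hCk] at this

theorem coprime_c_f (hle : H ≤ K) (hF : IsFrobeniusComplement F)
    (hFk : frobeniusKernel F = (K.map (QuotientGroup.mk' H) : Set (G ⧸ H))) :
    Nat.Coprime (Nat.card (↥K ⧸ H.subgroupOf K)) (Nat.card (G ⧸ K)) := by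
  obtain ⟨-, -, -, hcard, -, -⟩ := frob_facts hF hFk.symm
  have := Helper75.fc_coprime hF
  rw [← hcard, card_map_mk H K hle, card_complement_G hle hF hFk] at this
  exact this.symm

/-- Every element of `K/H` is the image of an element of the complement `C`. -/
theorem exists_mem_complement (hC : IsFrobeniusComplement C)
    (hCk : frobeniusKernel C = (H.subgroupOf K : Set ↥K)) {y : G ⧸ H}
    (hy : y ∈ K.map (QuotientGroup.mk' H)) : ∃ t ∈ C, psiHom H K t = y := by
  obtain ⟨hNn, -, hsup, -, -, -⟩ := frob_facts hC hCk.symm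
  rw [← psiHom_range] at hy
  obtain ⟨a, rfl⟩ := hy
  have ha : a ∈ H.subgroupOf K ⊔ C := by rw [hsup]; exact Subgroup.mem_top a
  haveI := hNn
  have ha' : a ∈ ((H.subgroupOf K ⊔ C : Subgroup K) : Set K) := ha
  rw [Subgroup.normal_mul, Set.mem_mul] at ha'
  obtain ⟨n, hn, c, hc, rfl⟩ := ha'
  refine ⟨c, hc, ?_⟩
  rw [map_mul]
  have : psiHom H K n = 1 := by
    rw [← MonoidHom.mem_ker, psiHom_ker]; exact hn
  rw [this, one_mul]

/-- `psiHom` is injective on `C`. -/
theorem eq_one_of_psiHom_eq_one (hC : IsFrobeniusComplement C)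
    (hCk : frobeniusKernel C = (H.subgroupOf K : Set ↥K)) {t : K} (ht : t ∈ C)
    (h : psiHom H K t = 1) : t = 1 := by
  obtain ⟨-, hinf, -, -, -, -⟩ := frob_facts hC hCk.symm
  have h1 : t ∈ H.subgroupOf K := by rw [← psiHom_ker]; exact h
  have : t ∈ H.subgroupOf K ⊓ C := ⟨h1, ht⟩
  rw [hinf] at this
  exact Subgroup.mem_bot.mp this

/-- **`|K/H|` is odd.** -/
theorem odd_card_quotient (hle : H ≤ K) (hC : IsFrobeniusComplement C)
    (hCk : frobeniusKernel C = (H.subgroupOf K : Set ↥K)) (hF : IsFrobeniusComplement F)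
    (hFk : frobeniusKernel F = (K.map (QuotientGroup.mk' H) : Set (G ⧸ H))) :
    Odd (Nat.card (↥K ⧸ H.subgroupOf K)) := by
  rw [← Nat.not_even_iff_odd]
  intro heven
  rw [← card_map_mk H K hle] at heven
  obtain ⟨hKn, -, -, -, -, hfpf⟩ := frob_facts hF hFk.symm
  -- an involution in `K/H`
  haveI : Fact (Nat.Prime 2) := ⟨Nat.prime_two⟩
  obtain ⟨z, hz⟩ := exists_prime_orderOf_dvd_card' (G := K.map (QuotientGroup.mk' H)) 2
    heven.two_dvd
  have hz1 : (z : G ⧸ H) ≠ 1 := by
    intro h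
    have : z = 1 := Subtype.ext h
    rw [this, orderOf_one] at hz
    omega
  have hz2 : (z : G ⧸ H) * z = 1 := by
    have := pow_orderOf_eq_one z
    rw [hz, pow_two] at this
    exact congrArg Subtype.val this
  -- uniqueness
  have huniq : ∀ w : G ⧸ H, w ∈ K.map (QuotientGroup.mk' H) → w ≠ 1 → w * w = 1 → w = z := by
    intro w hw hw1 hw2
    obtain ⟨t, ht, rfl⟩ := exists_mem_complement hC hCk hw
    obtain ⟨t', ht', hzt⟩ := exists_mem_complement hC hCk z.2
    have e1 : t * t = 1 := eq_one_of_psiHom_eq_one hC hCk (C.mul_mem ht ht) (by rw [map_mul]; exact hw2)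
    have e2 : t' * t' = 1 :=
      eq_one_of_psiHom_eq_one hC hCk (C.mul_mem ht' ht') (by rw [map_mul, hzt]; exact hz2)
    have n1 : t ≠ 1 := fun h => hw1 (by rw [h, map_one])
    have n2 : t' ≠ 1 := fun h => hz1 (by rw [← hzt, h, map_one])
    rw [frob_invol_unique hC hCk.symm ht ht' n1 n2 e1 e2, hzt]
  -- `z` is central
  obtain ⟨f, hf, hf1⟩ : ∃ f ∈ F, f ≠ 1 := by
    obtain ⟨y, hy⟩ := (Subgroup.ne_bot_iff_exists_ne_one).mp hF.1
    exact ⟨(y : G ⧸ H), y.2, fun h => hy (Subtype.ext h)⟩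
  have hconj : f * z * f⁻¹ = z := by
    apply huniq
    · exact hKn.conj_mem _ z.2 f
    · intro h
      apply hz1
      have := congrArg (fun x => f⁻¹ * x * f) h
      simpa [mul_assoc] using this
    · have : f * ↑z * f⁻¹ * (f * ↑z * f⁻¹) = f * (↑z * ↑z) * f⁻¹ := by group
      rw [this, hz2]; group
  have hcomm : f * (z : G ⧸ H) = z * f := by
    have := congrArg (fun x => x * f) hconj
    simpa [mul_assoc] using this
  exact hz1 (hfpf f hf hf1 z z.2 hcomm)

end twofrob

end Cfsg.Agent.Helper66
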