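import Mathlib
import Cfsg.Agent.Helper66.TwoFrob2

/-!
# 2-Frobenius groups: `K/H` and `G/K` are cyclic, `G` is solvable
(assuming the Frobenius kernels are nilpotent: Thompson)
-/

set_option autoImplicit false
set_option linter.style.haveILetI false

namespace Cfsg.Agent.Helper66

open Cfsg
open scoped Pointwise

universe u

section twofrob
variable {G : Type u} [Group G] [Finite G] {H K : Subgroup G} [H.Normal] [K.Normal]
variable {C : Subgroup ↥K} {F : Subgroup (G ⧸ H)}

/-- The restriction of `K → G/H` to the complement `C`, onto `K/H`. -/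
noncomputable def psiC (H K : Subgroup G) [H.Normal] [K.Normal] (C : Subgroup ↥K) :
    C →* K.map (QuotientGroup.mk' H) :=
  ((psiHom H K).comp C.subtype).codRestrict _ (fun t => by
    rw [← psiHom_range]; exact ⟨_, rfl⟩)

theorem psiC_coe (t : C) : ((psiC H K C t : K.map (QuotientGroup.mk' H)) : G ⧸ H) =
    psiHom H K (t : K) := rfl

theorem psiC_injective (hC : IsFrobeniusComplement C)
    (hCk : frobeniusKernel C = (H.subgroupOf K : Set ↥K)) : Function.Injective (psiC H K C) := by
  rw [injective_iff_map_eq_one]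
  intro t ht
  have h1 : psiHom H K (t : K) = 1 := by
    have := congrArg Subtype.val ht
    rwa [psiC_coe] at this
  exact Subtype.ext (eq_one_of_psiHom_eq_one hC hCk t.2 h1)

theorem psiC_surjective (hC : IsFrobeniusComplement C)
    (hCk : frobeniusKernel C = (H.subgroupOf K : Set ↥K)) : Function.Surjective (psiC H K C) := by
  intro y
  obtain ⟨t, ht, hty⟩ := exists_mem_complement hC hCk y.2
  exact ⟨⟨t, ht⟩, Subtype.ext hty⟩

/-- `K/H` is cyclic. -/
theorem isCyclic_map_mk (hle : H ≤ K) (hC : IsFrobeniusComplement C)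
    (hCk : frobeniusKernel C = (H.subgroupOf K : Set ↥K)) (hF : IsFrobeniusComplement F)
    (hFk : frobeniusKernel F = (K.map (QuotientGroup.mk' H) : Set (G ⧸ H)))
    (hT2 : Group.IsNilpotent ↥(K.map (QuotientGroup.mk' H))) :
    IsCyclic ↥(K.map (QuotientGroup.mk' H)) := by
  have hodd : Odd (Nat.card C) := by
    rw [card_complement_K hC hCk]; exact odd_card_quotient hle hC hCk hF hFk
  haveI : IsZGroup C := ⟨fun p hp P => by
    haveI := Fact.mk hp
    exact Helper71.frob_sylow_cyclic_of_odd hC hodd P⟩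
  haveI : IsZGroup ↥(K.map (QuotientGroup.mk' H)) :=
    IsZGroup.of_surjective (psiC_surjective hC hCk)
  infer_instance

/-- The complement `C` of `H` in `K` is cyclic. -/
theorem isCyclic_complement_K (hle : H ≤ K) (hC : IsFrobeniusComplement C)
    (hCk : frobeniusKernel C = (H.subgroupOf K : Set ↥K)) (hF : IsFrobeniusComplement F)
    (hFk : frobeniusKernel F = (K.map (QuotientGroup.mk' H) : Set (G ⧸ H)))
    (hT2 : Group.IsNilpotent ↥(K.map (QuotientGroup.mk' H))) : IsCyclic C := by
  haveI := isCyclic_map_mk hle hC hCk hF hFk hT2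
  exact isCyclic_of_injective (psiC H K C) (psiC_injective hC hCk)

/-- The complement `F` of `K/H` in `G/H` is commutative. -/
theorem complement_G_comm (hle : H ≤ K) (hC : IsFrobeniusComplement C)
    (hCk : frobeniusKernel C = (H.subgroupOf K : Set ↥K)) (hF : IsFrobeniusComplement F)
    (hFk : frobeniusKernel F = (K.map (QuotientGroup.mk' H) : Set (G ⧸ H)))
    (hT2 : Group.IsNilpotent ↥(K.map (QuotientGroup.mk' H))) :
    ∀ a ∈ F, ∀ b ∈ F, a * b = b * a := by
  haveI := isCyclic_map_mk hle hC hCk hF hFk hT2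
  obtain ⟨hKn, -, -, -, -, hfpf⟩ := frob_facts hF hFk.symm
  obtain ⟨κ, hκ⟩ := IsCyclic.exists_generator (α := ↥(K.map (QuotientGroup.mk' H)))
  have hκ1 : (κ : G ⧸ H) ≠ 1 := by
    intro h
    have hκ' : κ = 1 := Subtype.ext h
    apply frob_kernel_ne_bot hF hFk.symm
    rw [Subgroup.eq_bot_iff_forall]
    intro x hx
    have := hκ ⟨x, hx⟩
    rw [hκ', Subgroup.zpowers_one_eq_bot, Subgroup.mem_bot] at this
    exact congrArg Subtype.val this
  -- conjugation acts on κ by powers
  have hpow : ∀ f : G ⧸ H, ∃ n : ℤ, f * κ * f⁻¹ = (κ : G ⧸ H) ^ n := by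
    intro f
    have hmem : f * κ * f⁻¹ ∈ K.map (QuotientGroup.mk' H) := hKn.conj_mem _ κ.2 f
    obtain ⟨n, hn⟩ := Subgroup.mem_zpowers_iff.mp (hκ ⟨_, hmem⟩)
    refine ⟨n, ?_⟩
    have := congrArg Subtype.val hn
    simpa using this.symm
  intro a ha b hb
  obtain ⟨m, hm⟩ := hpow a
  obtain ⟨n, hn⟩ := hpow b
  have hconj_pow : ∀ (f : G ⧸ H) (x : G ⧸ H) (k : ℤ), f * x ^ k * f⁻¹ = (f * x * f⁻¹) ^ k := by
    intro f x k
    exact (map_zpow (MulAut.conj f) x k)
  have e1 : (a * b) * κ * (a * b)⁻¹ = (κ : G ⧸ H) ^ (m * n) := by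
    have : (a * b) * κ * (a * b)⁻¹ = a * (b * κ * b⁻¹) * a⁻¹ := by group
    rw [this, hn, hconj_pow, hm, ← zpow_mul]
  have e2 : (b * a) * κ * (b * a)⁻¹ = (κ : G ⧸ H) ^ (m * n) := by
    have : (b * a) * κ * (b * a)⁻¹ = b * (a * κ * a⁻¹) * b⁻¹ := by group
    rw [this, hm, hconj_pow, hn, ← zpow_mul, mul_comm]
  -- w = (b a)⁻¹ (a b) commutes with κ
  set w := (b * a)⁻¹ * (a * b) with hw
  have hwF : w ∈ F := F.mul_mem (F.inv_mem (F.mul_mem hb ha)) (F.mul_mem ha hb)
  have hcomm : w * (κ : G ⧸ H) = κ * w := by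
    have h3 : (a * b) * κ * (a * b)⁻¹ = (b * a) * κ * (b * a)⁻¹ := by rw [e1, e2]
    have : w * (κ : G ⧸ H) * w⁻¹ = κ := by
      have : w * (κ : G ⧸ H) * w⁻¹ = (b * a)⁻¹ * ((a * b) * κ * (a * b)⁻¹) * (b * a) := by
        rw [hw]; group
      rw [this, h3]; group
    have h4 := congrArg (fun x => x * w) this
    simpa [mul_assoc] using h4
  by_contra hab
  have hw1 : w ≠ 1 := by
    intro h
    apply hab
    have : (b * a) * w = a * b := by rw [hw]; group
    rw [h, mul_one] at this
    exact this.symm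
  exact hκ1 (hfpf w hwF hw1 κ κ.2 hcomm)

/-- The complement `F` is cyclic. -/
theorem isCyclic_complement_G (hle : H ≤ K) (hC : IsFrobeniusComplement C)
    (hCk : frobeniusKernel C = (H.subgroupOf K : Set ↥K)) (hF : IsFrobeniusComplement F)
    (hFk : frobeniusKernel F = (K.map (QuotientGroup.mk' H) : Set (G ⧸ H)))
    (hT2 : Group.IsNilpotent ↥(K.map (QuotientGroup.mk' H))) : IsCyclic F := by
  have hcomm := complement_G_comm hle hC hCk hF hFk hT2
  have hcomm' : ∀ a b : F, a * b = b * a := fun a b => Subtype.ext (hcomm a a.2 b b.2)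
  letI : CommGroup F := { (inferInstance : Group F) with mul_comm := hcomm' }
  haveI : IsZGroup F := ⟨fun p hp P => by
    haveI := Fact.mk hp
    rcases Helper71.frob_sylow_cyclic_or_quat hF P with h | ⟨-, x, y, -, h3, -, h5⟩
    · exact h
    · exfalso
      apply h3
      have : y * x * y⁻¹ = x := by rw [mul_comm y x, mul_inv_cancel_right]
      rw [this] at h5
      calc x * x = x * x⁻¹ := by rw [← h5]
        _ = 1 := mul_inv_cancel x⟩
  haveI : Group.IsNilpotent F := CommGroup.isNilpotent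
  infer_instance

/-- `G/K` is cyclic. -/
theorem isCyclic_quotient_K (hle : H ≤ K) (hC : IsFrobeniusComplement C)
    (hCk : frobeniusKernel C = (H.subgroupOf K : Set ↥K)) (hF : IsFrobeniusComplement F)
    (hFk : frobeniusKernel F = (K.map (QuotientGroup.mk' H) : Set (G ⧸ H)))
    (hT2 : Group.IsNilpotent ↥(K.map (QuotientGroup.mk' H))) : IsCyclic (G ⧸ K) := by
  haveI := isCyclic_complement_G hle hC hCk hF hFk hT2
  obtain ⟨hKn, -, hsup, -, -, -⟩ := frob_facts hF hFk.symm
  haveI := hKn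
  apply isCyclic_of_surjective ((thetaHom H K hle).comp F.subtype)
  intro y
  obtain ⟨x, rfl⟩ := thetaHom_surjective H K hle y
  have hx : x ∈ ((K.map (QuotientGroup.mk' H) ⊔ F : Subgroup (G ⧸ H)) : Set (G ⧸ H)) := by
    rw [hsup]; exact Subgroup.mem_top x
  rw [Subgroup.normal_mul, Set.mem_mul] at hx
  obtain ⟨n, hn, f, hf, rfl⟩ := hx
  refine ⟨⟨f, hf⟩, ?_⟩
  have : thetaHom H K hle n = 1 := by
    rw [← MonoidHom.mem_ker, thetaHom_ker]; exact hn
  simp [this]

/-- `G` is solvable. -/
theorem isSolvable_of_two_frobenius (hle : H ≤ K) (hC : IsFrobeniusComplement C)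
    (hCk : frobeniusKernel C = (H.subgroupOf K : Set ↥K)) (hF : IsFrobeniusComplement F)
    (hFk : frobeniusKernel F = (K.map (QuotientGroup.mk' H) : Set (G ⧸ H)))
    (hT1 : Group.IsNilpotent ↥H)
    (hT2 : Group.IsNilpotent ↥(K.map (QuotientGroup.mk' H))) : Group.IsSolvable G := by
  haveI := isCyclic_quotient_K hle hC hCk hF hFk hT2
  haveI : Group.IsSolvable (G ⧸ K) := by
    letI : CommGroup (G ⧸ K) := IsCyclic.commGroup
    infer_instance
  haveI : Group.IsSolvable ↥(K.map (QuotientGroup.mk' H)) := inferInstance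
  haveI : Group.IsSolvable (G ⧸ H) :=
    Group.isSolvable_of_ker_le_range (K.map (QuotientGroup.mk' H)).subtype (thetaHom H K hle)
      (by rw [thetaHom_ker, Subgroup.range_subtype])
  haveI : Group.IsSolvable ↥H := inferInstance
  exact Group.isSolvable_of_ker_le_range H.subtype (QuotientGroup.mk' H)
    (by rw [QuotientGroup.ker_mk', Subgroup.range_subtype])

end twofrob

end Cfsg.Agent.Helper66
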