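import Mathlib
import Cfsg.Agent.Helper66.TwoFrob3
import Cfsg.Agent.S0666

/-!
# 2-Frobenius groups: the prime graph
-/

set_option autoImplicit false
set_option linter.style.haveILetI false

namespace Cfsg.Agent.Helper66

open Cfsg
open scoped Pointwise

universe u

section aux

/-- In a finite group, if `n ∣ orderOf g` then some power of `g` has order `n`. -/
theorem exists_pow_orderOf_eq {X : Type*} [Group X] [Finite X] (g : X) {n : ℕ}
    (hn : n ∣ orderOf g) : ∃ k : ℕ, orderOf (g ^ k) = n := by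
  have hpos : 0 < orderOf g := orderOf_pos g
  have hn0 : n ≠ 0 := fun h => by rw [h, zero_dvd_iff] at hn; omega
  refine ⟨orderOf g / n, ?_⟩
  have hd : orderOf g / n ∣ orderOf g := Nat.div_dvd_of_dvd hn
  have hne : orderOf g / n ≠ 0 := by
    have := Nat.div_pos (Nat.le_of_dvd hpos hn) (Nat.pos_of_ne_zero hn0)
    omega
  rw [orderOf_pow_of_dvd hne hd, Nat.div_div_self hn hpos.ne']

/-- A finite cyclic group has elements of every order dividing its order. -/
theorem exists_orderOf_eq_of_isCyclic {X : Type*} [Group X] [Finite X] [IsCyclic X] {n : ℕ}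
    (hn : n ∣ Nat.card X) : ∃ x : X, orderOf x = n := by
  obtain ⟨g, hg⟩ := IsCyclic.exists_ofOrder_eq_natCard (α := X)
  rw [← hg] at hn
  obtain ⟨k, hk⟩ := exists_pow_orderOf_eq g hn
  exact ⟨g ^ k, hk⟩

/-- A nontrivial normal subgroup of a nilpotent group meets the centre nontrivially. -/
theorem exists_mem_center_of_normal {X : Type*} [Group X] [hX : Group.IsNilpotent X]
    (N : Subgroup X) [hN : N.Normal] (hN1 : N ≠ ⊥) :
    ∃ z ∈ N, z ∈ Subgroup.center X ∧ z ≠ 1 := by
  classical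
  obtain ⟨n, hn⟩ := hX.nilpotent'
  have hex : ∃ i, ∃ z ∈ N, z ≠ 1 ∧ z ∈ Subgroup.upperCentralSeries X i := by
    obtain ⟨z, hz, hz1⟩ := (Subgroup.ne_bot_iff_exists_ne_one).mp hN1 |> fun ⟨y, hy⟩ =>
      (⟨(y : X), y.2, fun h => hy (Subtype.ext h)⟩ : ∃ z ∈ N, z ≠ 1)
    exact ⟨n, z, hz, hz1, by rw [hn]; exact Subgroup.mem_top z⟩
  obtain ⟨z, hzN, hz1, hzi⟩ := Nat.find_spec hex
  have hmin := fun j (hj : j < Nat.find hex) => Nat.find_min hex hj
  rcases hi : Nat.find hex with _ | j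
  · rw [hi, Subgroup.upperCentralSeries_zero, Subgroup.mem_bot] at hzi
    exact absurd hzi hz1
  · refine ⟨z, hzN, ?_, hz1⟩
    rw [Subgroup.mem_center_iff]
    intro y
    rw [hi, Subgroup.mem_upperCentralSeries_succ_iff] at hzi
    have h1 := hzi y
    have h2 : z * y * z⁻¹ * y⁻¹ ∈ N := by
      have : z * y * z⁻¹ * y⁻¹ = z * (y * z⁻¹ * y⁻¹) := by group
      rw [this]
      exact N.mul_mem hzN (hN.conj_mem _ (N.inv_mem hzN) y)
    have h3 : z * y * z⁻¹ * y⁻¹ = 1 := by
      by_contra hne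
      exact hmin j (by rw [hi]; exact Nat.lt_succ_self j) ⟨_, h2, hne, h1⟩
    have h4 : z * y = y * z := by
      have := congrArg (fun x => x * y * z) h3
      simpa [mul_assoc] using this
    exact h4.symm

/-- A finite nilpotent group whose order is divisible by the prime `p` has a central element of
order `p`. -/
theorem exists_center_orderOf_eq_prime {X : Type*} [Group X] [Finite X] [Group.IsNilpotent X]
    {p : ℕ} [hp : Fact p.Prime] (hpX : p ∣ Nat.card X) :
    ∃ z ∈ Subgroup.center X, orderOf z = p := by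
  obtain ⟨P⟩ : Nonempty (Sylow p X) := inferInstance
  have hP1 : (P : Subgroup X) ≠ ⊥ := P.ne_bot_of_dvd_card hpX
  obtain ⟨z, hzP, hzc, hz1⟩ := exists_mem_center_of_normal (P : Subgroup X) hP1
  obtain ⟨k, hk⟩ := (IsPGroup.iff_orderOf.mp P.isPGroup') ⟨z, hzP⟩
  rw [Subgroup.orderOf_mk] at hk
  have hk0 : k ≠ 0 := by
    rintro rfl
    rw [pow_zero, orderOf_eq_one_iff] at hk
    exact hz1 hk
  have hd : p ∣ orderOf z := by rw [hk]; exact dvd_pow_self p hk0
  obtain ⟨m, hm⟩ := exists_pow_orderOf_eq z hd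
  exact ⟨z ^ m, Subgroup.pow_mem _ hzc m, hm⟩

end aux

end Cfsg.Agent.Helper66

namespace Cfsg.Agent.Helper66

open Cfsg
open scoped Pointwise

universe u

section twofrob
variable {G : Type u} [Group G] [Finite G] {H K : Subgroup G} [H.Normal] [K.Normal]
variable {C : Subgroup ↥K} {F : Subgroup (G ⧸ H)}

/-- `mk g ∈ K/H` iff `g ∈ K`. -/
theorem mk_mem_map_iff (hle : H ≤ K) (g : G) :
    (g : G ⧸ H) ∈ K.map (QuotientGroup.mk' H) ↔ g ∈ K := by
  rw [← thetaHom_ker H K hle, MonoidHom.mem_ker, thetaHom_mk, QuotientGroup.eq_one_iff]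

/-- If `G` has an element of order `p * q` and `p ∣ |K/H|` then `q ∣ |K/H|`. -/
theorem dvd_card_quotient_of_orderOf (hle : H ≤ K) (hC : IsFrobeniusComplement C)
    (hCk : frobeniusKernel C = (H.subgroupOf K : Set ↥K)) (hF : IsFrobeniusComplement F)
    (hFk : frobeniusKernel F = (K.map (QuotientGroup.mk' H) : Set (G ⧸ H)))
    {p q : ℕ} (hp : p.Prime) (hq : q.Prime) {g : G} (hg : orderOf g = p * q)
    (hpc : p ∣ Nat.card (↥K ⧸ H.subgroupOf K)) : q ∣ Nat.card (↥K ⧸ H.subgroupOf K) := by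
  by_contra hqc
  have hch := coprime_c_h hle hC hCk
  have hcf := coprime_c_f hle hF hFk
  set u := g ^ q with hu
  set v := g ^ p with hv
  have hou : orderOf u = p := by
    rw [hu, orderOf_pow_of_dvd hq.ne_zero (by rw [hg]; exact dvd_mul_left q p), hg,
      Nat.mul_div_cancel _ hq.pos]
  have hov : orderOf v = q := by
    rw [hv, orderOf_pow_of_dvd hp.ne_zero (by rw [hg]; exact dvd_mul_right p q), hg,
      Nat.mul_div_cancel_left _ hp.pos]
  have huv : u * v = v * u := by rw [hu, hv, ← pow_add, ← pow_add, add_comm]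
  have hv1 : v ≠ 1 := by
    intro h
    rw [h, orderOf_one] at hov
    exact hq.one_lt.ne hov
  -- u ∈ K
  have huK : u ∈ K := by
    rw [← QuotientGroup.eq_one_iff, ← orderOf_eq_one_iff]
    have h1 : orderOf ((u : G ⧸ K)) ∣ p := by
      rw [← hou]; exact orderOf_map_dvd (QuotientGroup.mk' K) u
    have h2 : orderOf ((u : G ⧸ K)) ∣ Nat.card (G ⧸ K) := orderOf_dvd_natCard _
    have h3 : Nat.Coprime p (Nat.card (G ⧸ K)) := Nat.Coprime.coprime_dvd_left hpc hcf
    exact Nat.eq_one_of_dvd_coprimes h3 h1 h2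
  -- u ∉ H
  have huH : u ∉ H := by
    intro h
    have h1 : p ∣ Nat.card H := by
      rw [← hou, ← Subgroup.orderOf_mk u h]; exact orderOf_dvd_natCard _
    have := Nat.eq_one_of_dvd_coprimes hch hpc h1
    exact hp.one_lt.ne' this
  by_cases hvK : v ∈ K
  · -- v ∈ H
    have hvH : (⟨v, hvK⟩ : K) ∈ H.subgroupOf K := by
      obtain ⟨hNn, -, -, -, -, -⟩ := frob_facts hC hCk.symm
      haveI := hNn
      rw [← QuotientGroup.eq_one_iff, ← orderOf_eq_one_iff]
      have h1 : orderOf (((⟨v, hvK⟩ : K) : ↥K ⧸ H.subgroupOf K)) ∣ q := by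
        have := orderOf_map_dvd (QuotientGroup.mk' (H.subgroupOf K)) (⟨v, hvK⟩ : K)
        rwa [Subgroup.orderOf_mk, hov] at this
      have h2 := orderOf_dvd_natCard (((⟨v, hvK⟩ : K) : ↥K ⧸ H.subgroupOf K))
      have h3 : Nat.Coprime q (Nat.card (↥K ⧸ H.subgroupOf K)) :=
        (Nat.Prime.coprime_iff_not_dvd hq).mpr hqc
      exact Nat.eq_one_of_dvd_coprimes h3 h1 h2
    have huH' : (⟨u, huK⟩ : K) ∉ H.subgroupOf K := by
      rw [Subgroup.mem_subgroupOf]; exact huH
    have := frob_eq_one_of_commute hC hCk.symm huH' hvH (Subtype.ext huv)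
    exact hv1 (congrArg Subtype.val this)
  · have hvb : (v : G ⧸ H) ∉ K.map (QuotientGroup.mk' H) := by
      rw [mk_mem_map_iff hle]; exact hvK
    have hub : (u : G ⧸ H) ∈ K.map (QuotientGroup.mk' H) := by
      rw [mk_mem_map_iff hle]; exact huK
    have hcomm : (v : G ⧸ H) * (u : G ⧸ H) = (u : G ⧸ H) * (v : G ⧸ H) := by
      rw [← QuotientGroup.mk_mul, ← QuotientGroup.mk_mul, huv]
    have := frob_eq_one_of_commute hF hFk.symm hvb hub hcomm
    rw [QuotientGroup.eq_one_iff] at this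
    exact huH this

end twofrob

end Cfsg.Agent.Helper66
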