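import Mathlib
import Cfsg.Agent.Helper66.TwoFrob4

/-!
# 2-Frobenius groups: existence of elements of order `p q`, and the main theorem
-/

set_option autoImplicit false
set_option linter.style.haveILetI false

namespace Cfsg.Agent.Helper66

open Cfsg
open scoped Pointwise

universe u

section twofrob
variable {G : Type u} [Group G] [Finite G] {H K : Subgroup G} [H.Normal] [K.Normal]
variable {C : Subgroup ↥K} {F : Subgroup (G ⧸ H)}

/-- both primes divide `|K/H|` -/
theorem exists_orderOf_of_dvd_c (hle : H ≤ K) (hC : IsFrobeniusComplement C)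
    (hCk : frobeniusKernel C = (H.subgroupOf K : Set ↥K)) (hF : IsFrobeniusComplement F)
    (hFk : frobeniusKernel F = (K.map (QuotientGroup.mk' H) : Set (G ⧸ H)))
    (hT2 : Group.IsNilpotent ↥(K.map (QuotientGroup.mk' H)))
    {p q : ℕ} (hp : p.Prime) (hq : q.Prime) (hpq : p ≠ q)
    (hpc : p ∣ Nat.card (↥K ⧸ H.subgroupOf K)) (hqc : q ∣ Nat.card (↥K ⧸ H.subgroupOf K)) :
    ∃ g : G, orderOf g = p * q := by
  haveI := isCyclic_complement_K hle hC hCk hF hFk hT2
  have hdvd : p * q ∣ Nat.card C := by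
    rw [card_complement_K hC hCk]
    exact Nat.Coprime.mul_dvd_of_dvd_of_dvd ((Nat.coprime_primes hp hq).mpr hpq) hpc hqc
  obtain ⟨x, hx⟩ := exists_orderOf_eq_of_isCyclic (X := C) hdvd
  exact ⟨((x : K) : G), by rw [Subgroup.orderOf_coe, Subgroup.orderOf_coe, hx]⟩

/-- both primes divide `|H|` -/
theorem exists_orderOf_of_dvd_h (hT1 : Group.IsNilpotent ↥H)
    {p q : ℕ} (hp : p.Prime) (hq : q.Prime) (hpq : p ≠ q)
    (hph : p ∣ Nat.card H) (hqh : q ∣ Nat.card H) : ∃ g : G, orderOf g = p * q := by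
  haveI := Fact.mk hp
  haveI := Fact.mk hq
  obtain ⟨z, hzc, hz⟩ := exists_center_orderOf_eq_prime (X := ↥H) hph
  obtain ⟨y, hy⟩ := exists_prime_orderOf_dvd_card' (G := ↥H) q hqh
  have hcomm : Commute z y := by
    rw [Subgroup.mem_center_iff] at hzc
    exact (hzc y).symm
  refine ⟨((z * y : H) : G), ?_⟩
  rw [Subgroup.orderOf_coe, hcomm.orderOf_mul_eq_mul_orderOf_of_coprime
    (by rw [hz, hy]; exact (Nat.coprime_primes hp hq).mpr hpq), hz, hy]

/-- both primes divide `|G/K|` -/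
theorem exists_orderOf_of_dvd_f (hle : H ≤ K) (hC : IsFrobeniusComplement C)
    (hCk : frobeniusKernel C = (H.subgroupOf K : Set ↥K)) (hF : IsFrobeniusComplement F)
    (hFk : frobeniusKernel F = (K.map (QuotientGroup.mk' H) : Set (G ⧸ H)))
    (hT2 : Group.IsNilpotent ↥(K.map (QuotientGroup.mk' H)))
    {p q : ℕ} (hp : p.Prime) (hq : q.Prime) (hpq : p ≠ q)
    (hpf : p ∣ Nat.card (G ⧸ K)) (hqf : q ∣ Nat.card (G ⧸ K)) :
    ∃ g : G, orderOf g = p * q := by
  haveI := isCyclic_quotient_K hle hC hCk hF hFk hT2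
  obtain ⟨y, hy⟩ := IsCyclic.exists_ofOrder_eq_natCard (α := G ⧸ K)
  obtain ⟨g, rfl⟩ := QuotientGroup.mk_surjective y
  have h1 : p * q ∣ orderOf g := by
    have h2 : p * q ∣ Nat.card (G ⧸ K) :=
      Nat.Coprime.mul_dvd_of_dvd_of_dvd ((Nat.coprime_primes hp hq).mpr hpq) hpf hqf
    rw [← hy] at h2
    exact h2.trans (orderOf_map_dvd (QuotientGroup.mk' K) g)
  obtain ⟨k, hk⟩ := exists_pow_orderOf_eq g h1
  exact ⟨g ^ k, hk⟩

/-- The elementary abelian central `r`-subgroup of `H`, as a subgroup of `G`. -/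
def omegaCenter (H : Subgroup G) (r : ℕ) : Subgroup G where
  carrier := {z | z ∈ H ∧ (∀ x ∈ H, x * z = z * x) ∧ z ^ r = 1}
  one_mem' := ⟨H.one_mem, fun x _ => by simp, one_pow r⟩
  mul_mem' := by
    rintro a b ⟨haH, hac, har⟩ ⟨hbH, hbc, hbr⟩
    refine ⟨H.mul_mem haH hbH, fun x hx => ?_, ?_⟩
    · rw [← mul_assoc, hac x hx, mul_assoc, hbc x hx, ← mul_assoc]
    · have : Commute a b := (hac b hbH).symm
      rw [this.mul_pow, har, hbr, one_mul]
  inv_mem' := by
    rintro a ⟨haH, hac, har⟩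
    refine ⟨H.inv_mem haH, fun x hx => ?_, by rw [inv_pow, har, inv_one]⟩
    have h := hac x hx
    calc x * a⁻¹ = a⁻¹ * (a * x) * a⁻¹ := by group
      _ = a⁻¹ * (x * a) * a⁻¹ := by rw [h]
      _ = a⁻¹ * x := by group

theorem mem_omegaCenter {r : ℕ} {z : G} :
    z ∈ omegaCenter H r ↔ z ∈ H ∧ (∀ x ∈ H, x * z = z * x) ∧ z ^ r = 1 := Iff.rfl

instance omegaCenter_normal (r : ℕ) : (omegaCenter H r).Normal := by
  constructor
  rintro z ⟨hzH, hzc, hzr⟩ g
  refine ⟨‹H.Normal›.conj_mem z hzH g, fun x hx => ?_, ?_⟩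
  · have hx' : g⁻¹ * x * g ∈ H := by
      have := ‹H.Normal›.conj_mem x hx g⁻¹
      simpa using this
    have h := hzc _ hx'
    calc x * (g * z * g⁻¹) = g * ((g⁻¹ * x * g) * z) * g⁻¹ := by group
      _ = g * (z * (g⁻¹ * x * g)) * g⁻¹ := by rw [h]
      _ = g * z * g⁻¹ * x := by group
  · rw [conj_pow, hzr]; group

theorem omegaCenter_le (r : ℕ) : omegaCenter H r ≤ H := fun _ hz => hz.1

/-- one prime divides `|H|`, the other `|G/K|` -/
theorem exists_orderOf_of_dvd_h_f (hle : H ≤ K) (hC : IsFrobeniusComplement C)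
    (hCk : frobeniusKernel C = (H.subgroupOf K : Set ↥K)) (hF : IsFrobeniusComplement F)
    (hFk : frobeniusKernel F = (K.map (QuotientGroup.mk' H) : Set (G ⧸ H)))
    (hT1 : Group.IsNilpotent ↥H)
    (hT2 : Group.IsNilpotent ↥(K.map (QuotientGroup.mk' H)))
    {p q : ℕ} (hp : p.Prime) (hq : q.Prime) (hpq : p ≠ q)
    (hph : p ∣ Nat.card H) (hqf : q ∣ Nat.card (G ⧸ K)) :
    ∃ g : G, orderOf g = p * q := by
  classical
  haveI := Fact.mk hp
  haveI := Fact.mk hq
  obtain ⟨hKn, -, -, -, hcompl, -⟩ := frob_facts hF hFk.symm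
  obtain ⟨-, hinfC, -, -, -, -⟩ := frob_facts hC hCk.symm
  -- the module
  set V := omegaCenter H p with hV
  have hVcomm : ∀ a b : V, a * b = b * a := fun a b =>
    Subtype.ext ((a.2.2.1 b b.2.1).symm)
  letI : CommGroup V := { (inferInstance : Group V) with mul_comm := hVcomm }
  -- a nonidentity element of V
  obtain ⟨z, hzc, hz⟩ := exists_center_orderOf_eq_prime (X := ↥H) hph
  have hzV : (z : G) ∈ V := by
    refine ⟨z.2, fun x hx => ?_, ?_⟩
    · rw [Subgroup.mem_center_iff] at hzc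
      exact congrArg Subtype.val (hzc ⟨x, hx⟩)
    · have := pow_orderOf_eq_one z
      rw [hz] at this
      exact_mod_cast congrArg Subtype.val this
  have hz1 : (⟨(z : G), hzV⟩ : V) ≠ 1 := by
    intro h
    have h1 : (z : G) = 1 := congrArg Subtype.val h
    have h2 : z = 1 := Subtype.ext h1
    rw [h2, orderOf_one] at hz
    exact hp.one_lt.ne hz
  -- the action of G/H on V
  have hker : H ≤ (MulAut.conjNormal (H := V)).ker := by
    intro x hx
    rw [MonoidHom.mem_ker]
    ext v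
    rw [MulAut.conjNormal_apply, MulAut.one_apply, v.2.2.1 x hx, mul_inv_cancel_right]
  let φ : G ⧸ H →* MulAut V := QuotientGroup.lift H (MulAut.conjNormal (H := V)) hker
  have hφ : ∀ (g : G) (v : V), ((φ (g : G ⧸ H) v : V) : G) = g * v * g⁻¹ := by
    intro g v
    show ((QuotientGroup.lift H (MulAut.conjNormal (H := V)) hker (g : G ⧸ H) v : V) : G) = _
    rw [QuotientGroup.lift_mk, MulAut.conjNormal_apply]
  -- fixed points of K/H
  have hfixN : ∀ v : V, (∀ n ∈ K.map (QuotientGroup.mk' H), φ n v = v) → v = 1 := by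
    intro v hv
    obtain ⟨t, htC, ht1⟩ : ∃ t ∈ C, t ≠ 1 := by
      obtain ⟨y, hy⟩ := (Subgroup.ne_bot_iff_exists_ne_one).mp hC.1
      exact ⟨(y : K), y.2, fun h => hy (Subtype.ext h)⟩
    have hmem : ((t : G) : G ⧸ H) ∈ K.map (QuotientGroup.mk' H) := ⟨(t : G), t.2, rfl⟩
    have h1 := congrArg Subtype.val (hv _ hmem)
    rw [hφ] at h1
    have hcomm : (t : G) * (v : G) = (v : G) * (t : G) := by
      have := congrArg (fun x => x * (t : G)) h1
      simpa [mul_assoc] using this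
    have htH : t ∉ H.subgroupOf K := by
      intro h
      have : t ∈ H.subgroupOf K ⊓ C := ⟨h, htC⟩
      rw [hinfC] at this
      exact ht1 (Subgroup.mem_bot.mp this)
    have hvK : (v : G) ∈ K := hle v.2.1
    have hvH : (⟨(v : G), hvK⟩ : K) ∈ H.subgroupOf K := by
      rw [Subgroup.mem_subgroupOf]; exact v.2.1
    have := frob_eq_one_of_commute hC hCk.symm htH hvH (Subtype.ext hcomm)
    have h3 : (v : G) = 1 := congrArg Subtype.val this
    exact Subtype.ext h3
  have hcop : (Nat.card V).Coprime (Nat.card (K.map (QuotientGroup.mk' H))) := by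
    rw [card_map_mk H K hle]
    have h1 : Nat.card V ∣ Nat.card H := Subgroup.card_dvd_of_le (omegaCenter_le p)
    exact (Nat.Coprime.coprime_dvd_right h1 (coprime_c_h hle hC hCk)).symm
  -- hence a fixed point of F
  obtain ⟨v, hv1, hvF⟩ : ∃ v : V, v ≠ 1 ∧ ∀ f ∈ F, φ f v = v := by
    by_contra hcon
    push Not at hcon
    have hfixH : ∀ v : V, (∀ h ∈ F, φ h v = v) → v = 1 := by
      intro v hv
      by_contra hv1
      obtain ⟨f, hf, hfv⟩ := hcon v hv1
      exact hfv (hv f hf)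
    exact hz1 (S0666.abstract_main φ F (K.map (QuotientGroup.mk' H)) hF hFk.symm hKn hcompl hcop
      hfixN hfixH _)
  -- an element of order q in F
  haveI := isCyclic_complement_G hle hC hCk hF hFk hT2
  have hqF : q ∣ Nat.card F := by rw [card_complement_G hle hF hFk]; exact hqf
  obtain ⟨f0, hf0⟩ := exists_orderOf_eq_of_isCyclic (X := F) hqF
  obtain ⟨y, hy⟩ := QuotientGroup.mk_surjective (f0 : G ⧸ H)
  have hyv : y * (v : G) * y⁻¹ = v := by
    have := congrArg Subtype.val (hvF _ f0.2)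
    rwa [← hy, hφ] at this
  have hcomm : Commute y (v : G) := by
    show y * (v : G) = (v : G) * y
    have := congrArg (fun x => x * y) hyv
    simpa [mul_assoc] using this
  have hqy : q ∣ orderOf y := by
    have h1 := orderOf_map_dvd (QuotientGroup.mk' H) y
    have h2 : orderOf ((QuotientGroup.mk' H) y) = q := by
      show orderOf ((y : G ⧸ H)) = q
      rw [hy, Subgroup.orderOf_coe, hf0]
    rwa [h2] at h1
  obtain ⟨k, hk⟩ := exists_pow_orderOf_eq y hqy
  have hov : orderOf (v : G) = p := by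
    apply orderOf_eq_prime v.2.2.2
    intro h
    exact hv1 (Subtype.ext h)
  refine ⟨(v : G) * y ^ k, ?_⟩
  rw [(hcomm.pow_left k).symm.orderOf_mul_eq_mul_orderOf_of_coprime
    (by rw [hov, hk]; exact (Nat.coprime_primes hp hq).mpr hpq), hov, hk]

end twofrob

end Cfsg.Agent.Helper66
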