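import Mathlib
import Cfsg.Agent.Helper66.TwoFrob5

/-!
# 2-Frobenius groups: main theorem (modulo nilpotency of Frobenius kernels)
-/

set_option autoImplicit false
set_option linter.style.haveILetI false

namespace Cfsg.Agent.Helper66

open Cfsg
open scoped Pointwise

universe u

variable {G : Type u} [Group G] [Finite G] {H K : Subgroup G} [H.Normal] [K.Normal]
variable {C : Subgroup ↥K} {F : Subgroup (G ⧸ H)}

theorem two_frobenius_main (hle : H ≤ K) (hC : IsFrobeniusComplement C)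
    (hCk : frobeniusKernel C = (H.subgroupOf K : Set ↥K)) (hF : IsFrobeniusComplement F)
    (hFk : frobeniusKernel F = (K.map (QuotientGroup.mk' H) : Set (G ⧸ H)))
    (hT1 : Group.IsNilpotent ↥H)
    (hT2 : Group.IsNilpotent ↥(K.map (QuotientGroup.mk' H))) :
    Group.IsSolvable G ∧ Odd (Nat.card (↥K ⧸ H.subgroupOf K)) ∧
      Nat.Coprime (Nat.card (↥K ⧸ H.subgroupOf K)) (Nat.card ↥H * Nat.card (G ⧸ K)) ∧
      IsCyclic (G ⧸ K) ∧
      ∀ p q : ℕ, p.Prime → q.Prime → p ≠ q → p ∣ Nat.card G → q ∣ Nat.card G →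
        ((∃ g : G, orderOf g = p * q) ↔
          (p ∣ Nat.card (↥K ⧸ H.subgroupOf K) ↔ q ∣ Nat.card (↥K ⧸ H.subgroupOf K))) := by
  refine ⟨isSolvable_of_two_frobenius hle hC hCk hF hFk hT1 hT2,
    odd_card_quotient hle hC hCk hF hFk,
    Nat.Coprime.mul_right (coprime_c_h hle hC hCk) (coprime_c_f hle hF hFk),
    isCyclic_quotient_K hle hC hCk hF hFk hT2, ?_⟩
  intro p q hp hq hpq hpG hqG
  constructor
  · rintro ⟨g, hg⟩
    constructor
    · exact dvd_card_quotient_of_orderOf hle hC hCk hF hFk hp hq hg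
    · exact dvd_card_quotient_of_orderOf hle hC hCk hF hFk hq hp (by rw [hg, mul_comm])
  · intro hiff
    by_cases hpc : p ∣ Nat.card (↥K ⧸ H.subgroupOf K)
    · exact exists_orderOf_of_dvd_c hle hC hCk hF hFk hT2 hp hq hpq hpc (hiff.mp hpc)
    · have hqc : ¬ q ∣ Nat.card (↥K ⧸ H.subgroupOf K) := fun h => hpc (hiff.mpr h)
      have hcard := card_eq_mul H K hle
      have hp' : p ∣ Nat.card H ∨ p ∣ Nat.card (G ⧸ K) := by
        rw [hcard] at hpG
        rcases (Nat.Prime.dvd_mul hp).mp hpG with h | h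
        · rcases (Nat.Prime.dvd_mul hp).mp h with h | h
          · exact Or.inl h
          · exact absurd h hpc
        · exact Or.inr h
      have hq' : q ∣ Nat.card H ∨ q ∣ Nat.card (G ⧸ K) := by
        rw [hcard] at hqG
        rcases (Nat.Prime.dvd_mul hq).mp hqG with h | h
        · rcases (Nat.Prime.dvd_mul hq).mp h with h | h
          · exact Or.inl h
          · exact absurd h hqc
        · exact Or.inr h
      rcases hp' with hph | hpf <;> rcases hq' with hqh | hqf
      · exact exists_orderOf_of_dvd_h hT1 hp hq hpq hph hqh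
      · exact exists_orderOf_of_dvd_h_f hle hC hCk hF hFk hT1 hT2 hp hq hpq hph hqf
      · obtain ⟨g, hg⟩ := exists_orderOf_of_dvd_h_f hle hC hCk hF hFk hT1 hT2 hq hp hpq.symm hqh hpf
        exact ⟨g, by rw [hg, mul_comm]⟩
      · exact exists_orderOf_of_dvd_f hle hC hCk hF hFk hT2 hp hq hpq hpf hqf

/-- Transport of the Thompson hypotheses: it suffices that Frobenius kernels are nilpotent in the
form of `S0042`. -/
theorem two_frobenius_of_thompson
    (hTh : ∀ {X : Type u} [Group X] [Finite X] (D : Subgroup X), IsFrobeniusComplement D →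
      ∃ N : Subgroup X, (N : Set X) = frobeniusKernel D ∧ N.Normal ∧ Group.IsNilpotent N)
    (hlt : H < K)
    (hK : ∃ C : Subgroup ↥K, IsFrobeniusComplement C ∧
      frobeniusKernel C = (H.subgroupOf K : Set ↥K))
    (hGH : ∃ C : Subgroup (G ⧸ H), IsFrobeniusComplement C ∧
      frobeniusKernel C = (K.map (QuotientGroup.mk' H) : Set (G ⧸ H))) :
    Group.IsSolvable G ∧ Odd (Nat.card (↥K ⧸ H.subgroupOf K)) ∧
      Nat.Coprime (Nat.card (↥K ⧸ H.subgroupOf K)) (Nat.card ↥H * Nat.card (G ⧸ K)) ∧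
      IsCyclic (G ⧸ K) ∧
      ∀ p q : ℕ, p.Prime → q.Prime → p ≠ q → p ∣ Nat.card G → q ∣ Nat.card G →
        ((∃ g : G, orderOf g = p * q) ↔
          (p ∣ Nat.card (↥K ⧸ H.subgroupOf K) ↔ q ∣ Nat.card (↥K ⧸ H.subgroupOf K))) := by
  obtain ⟨C, hC, hCk⟩ := hK
  obtain ⟨F, hF, hFk⟩ := hGH
  have hle : H ≤ K := hlt.le
  have hT1 : Group.IsNilpotent ↥H := by
    obtain ⟨N, hN, -, hnil⟩ := hTh C hC
    have : N = H.subgroupOf K := SetLike.coe_injective (hN.trans hCk)
    subst this
    exact nilpotent_of_mulEquiv (Subgroup.subgroupOfEquivOfLe hle)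
  have hT2 : Group.IsNilpotent ↥(K.map (QuotientGroup.mk' H)) := by
    obtain ⟨N, hN, -, hnil⟩ := hTh F hF
    have : N = K.map (QuotientGroup.mk' H) := SetLike.coe_injective (hN.trans hFk)
    subst this
    exact hnil
  exact two_frobenius_main hle hC hCk hF hFk hT1 hT2

end Cfsg.Agent.Helper66
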